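import Mathlib
import Groth.Prelude.Def_SGA3x
import Groth.Agent.H37.ChowFormal
import Groth.Agent.H27.OverPullback

/-! Generic framework for "the locus where a homomorphism of groups of multiplicative type has
property `P` fibrewise is open and closed, and `P` holds over it" (SGA3 IX). Helper43. -/

set_option autoImplicit false
universe u
open CategoryTheory Limits AlgebraicGeometry MorphismProperty

namespace Groth.Agent.H43.MT

open Groth.Agent.H37.ChowFormal (JIso J_naturality)

/-- Two arrows of `Over X` are isomorphic as arrows. -/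
def Sim {X : Scheme.{u}} {A B A' B' : Over X} (a : A ⟶ B) (b : A' ⟶ B') : Prop :=
  ∃ (α : A ≅ A') (β : B ≅ B'), a ≫ β.hom = α.hom ≫ b

namespace Sim
variable {X : Scheme.{u}}

theorem refl {A B : Over X} (a : A ⟶ B) : Sim a a := ⟨Iso.refl _, Iso.refl _, by simp⟩

theorem symm {A B A' B' : Over X} {a : A ⟶ B} {b : A' ⟶ B'} (h : Sim a b) : Sim b a := by
  obtain ⟨α, β, w⟩ := h
  refine ⟨α.symm, β.symm, ?_⟩
  rw [Iso.symm_hom, Iso.symm_hom, Iso.comp_inv_eq, Category.assoc, w, Iso.inv_hom_id_assoc]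

theorem trans {A B A' B' A'' B'' : Over X} {a : A ⟶ B} {b : A' ⟶ B'} {c : A'' ⟶ B''}
    (h : Sim a b) (h' : Sim b c) : Sim a c := by
  obtain ⟨α, β, w⟩ := h
  obtain ⟨α', β', w'⟩ := h'
  refine ⟨α ≪≫ α', β ≪≫ β', ?_⟩
  rw [Iso.trans_hom, Iso.trans_hom, ← Category.assoc, w, Category.assoc, w', Category.assoc]

theorem map {Y : Scheme.{u}} (j : Y ⟶ X) {A B A' B' : Over X} {a : A ⟶ B} {b : A' ⟶ B'}
    (h : Sim a b) : Sim ((Over.pullback j).map a) ((Over.pullback j).map b) := by
  obtain ⟨α, β, w⟩ := h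
  refine ⟨(Over.pullback j).mapIso α, (Over.pullback j).mapIso β, ?_⟩
  rw [Functor.mapIso_hom, Functor.mapIso_hom, ← Functor.map_comp, ← Functor.map_comp, w]

theorem bc_comp {S S' S'' : Scheme.{u}} (f : S'' ⟶ S') (g : S' ⟶ S) (h : S'' ⟶ S)
    (hc : f ≫ g = h) {A B : Over S} (a : A ⟶ B) :
    Sim ((Over.pullback f).map ((Over.pullback g).map a)) ((Over.pullback h).map a) :=
  ⟨JIso f g h hc A, JIso f g h hc B, (J_naturality f g h hc a).symm⟩

theorem dsmap {Y : Scheme.{u}} (j : Y ⟶ X) {N M : Type} [AddCommGroup N] [AddCommGroup M]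
    (φ : N →+ M) : Sim ((Over.pullback j).map (Red.DSmap X φ)) (Red.DSmap Y φ) :=
  bc_comp j _ _ (specULiftZIsTerminal.hom_ext _ _) (Red.diagMap (ULift.{u} ℤ) φ)

theorem iff (P : MorphismProperty Scheme.{u}) [P.RespectsIso] {A B A' B' : Over X}
    {a : A ⟶ B} {b : A' ⟶ B'} (h : Sim a b) : P a.left ↔ P b.left := by
  obtain ⟨α, β, w⟩ := h
  have w' : a.left ≫ β.hom.left = α.hom.left ≫ b.left := by
    rw [← Over.comp_left, ← Over.comp_left, w]
  have : IsIso β.hom.left := (inferInstance : IsIso ((Over.forget X).map β.hom))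
  have : IsIso α.hom.left := (inferInstance : IsIso ((Over.forget X).map α.hom))
  rw [← P.cancel_right_of_respectsIso a.left β.hom.left, w', P.cancel_left_of_respectsIso]

end Sim

section Tools

variable (P : MorphismProperty Scheme.{u})

theorem stable_bc [P.IsStableUnderBaseChange] {Z Z' : Scheme.{u}} (q : Z' ⟶ Z) {A B : Over Z}
    (a : A ⟶ B) (h : P a.left) : P ((Over.pullback q).map a).left :=
  Groth.Agent.H27.pullback_map_left_of_stable P q a h

theorem desc_bc [P.DescendsAlong (@Surjective ⊓ @Flat ⊓ @QuasiCompact)] {Z Z' : Scheme.{u}}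
    (q : Z' ⟶ Z) [Flat q] [Surjective q] [QuasiCompact q] {A B : Over Z} (a : A ⟶ B)
    (h : P ((Over.pullback q).map a).left) : P a.left := by
  have hpb := Groth.Agent.H27.isPullback_pullback_map_left q a
  exact of_isPullback_of_descendsAlong (Q := @Surjective ⊓ @Flat ⊓ @QuasiCompact) hpb
    ⟨⟨inferInstance, inferInstance⟩, inferInstance⟩ h

theorem zariski_local [IsZariskiLocalAtTarget P] {Z : Scheme.{u}} {A B : Over Z} (a : A ⟶ B)
    (h : ∀ b : B.left, ∃ (Y : Scheme.{u}) (j : Y ⟶ Z), IsOpenImmersion j ∧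
      B.hom.base b ∈ Set.range j.base ∧ P ((Over.pullback j).map a).left) : P a.left := by
  apply IsZariskiLocalAtTarget.of_forall_exists_morphismRestrict
  intro b
  obtain ⟨Y, j, hj, hb, hP⟩ := h b
  have := hj
  refine ⟨(pullback.fst B.hom j).opensRange, ?_, ?_⟩
  · show b ∈ Set.range (pullback.fst B.hom j).base
    rw [Scheme.Pullback.range_fst]
    exact hb
  · have hpb := (Groth.Agent.H27.isPullback_pullback_map_left j a).flip
    rw [P.arrow_mk_iso_iff (morphismRestrictOpensRange a.left (pullback.fst B.hom j)),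
      ← P.cancel_left_of_respectsIso hpb.isoPullback.hom, hpb.isoPullback_hom_snd]
    exact hP

theorem ideal_eq_bot_of_isField {K : Type*} [CommRing K] (hK : IsField K) (I : Ideal K)
    (hI : I ≠ ⊤) : I = ⊥ := by
  rw [eq_bot_iff]
  intro a ha
  by_contra h0
  obtain ⟨b, hb⟩ := hK.mul_inv_cancel (show a ≠ 0 from h0)
  exact hI ((Ideal.eq_top_iff_one I).2 (hb ▸ I.mul_mem_right b ha))

theorem field_map_props {K L : CommRingCat.{u}} (hK : IsField K) (hL : IsField L) (f : K ⟶ L) :
    Flat (Spec.map f) ∧ Surjective (Spec.map f) ∧ QuasiCompact (Spec.map f) := by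
  refine ⟨?_, ?_, inferInstance⟩
  · rw [HasRingHomProperty.Spec_iff (P := @Flat)]
    exact RingHom.Flat.of_isField hK _
  · constructor
    intro y
    have hnt : Nontrivial L := hL.nontrivial
    obtain ⟨x⟩ : Nonempty (PrimeSpectrum L) := inferInstance
    refine ⟨x, ?_⟩
    apply PrimeSpectrum.ext
    rw [ideal_eq_bot_of_isField hK _ (PrimeSpectrum.isPrime ((Spec.map f).base x)).ne_top,
      ideal_eq_bot_of_isField hK _ (PrimeSpectrum.isPrime y).ne_top]

end Tools

end Groth.Agent.H43.MT
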