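import Mathlib
import Groth.Agent.S14637

/-! Units of group algebras of `ℤⁿ` over a domain, and the pushout square
`A ← ULift ℤ → ULift ℤ[M]`, `A[M]`. -/

set_option autoImplicit false
universe u
open CategoryTheory Limits AlgebraicGeometry

namespace Groth.Agent.H43.TorusUnits

/-- Units of `A[ℤⁿ]` over a domain are monomials. -/
theorem isUnit_pi {A : Type*} [CommRing A] [IsDomain A] :
    ∀ (n : ℕ) (w : AddMonoidAlgebra A (Fin n → ℤ)), IsUnit w →
      ∃ (a : A) (e : Fin n → ℤ), IsUnit a ∧ w = AddMonoidAlgebra.single e a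
  | 0, w, hw => by
      refine ⟨AddMonoidAlgebra.uniqueRingEquiv (Fin 0 → ℤ) w, 0, hw.map _, ?_⟩
      have h := (AddMonoidAlgebra.uniqueRingEquiv (R := A) (Fin 0 → ℤ)).symm_apply_apply w
      rw [AddMonoidAlgebra.uniqueRingEquiv_symm_apply] at h
      exact h.symm
  | n + 1, w, hw => by
      let eAdd : (Fin (n + 1) → ℤ) ≃+ ℤ × (Fin n → ℤ) :=
        { (Fin.consEquiv (fun _ : Fin (n + 1) => ℤ)).symm with map_add' := fun f g => rfl }
      let Θ₁ := AddMonoidAlgebra.domCongr A A eAdd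
      let Θ₂ : AddMonoidAlgebra A (ℤ × (Fin n → ℤ)) ≃ₐ[A]
          AddMonoidAlgebra (AddMonoidAlgebra A (Fin n → ℤ)) ℤ := AddMonoidAlgebra.curryAlgEquiv A
      have hu : IsUnit (Θ₂ (Θ₁ w)) := (hw.map Θ₁).map Θ₂
      obtain ⟨r, m, hr, hrm⟩ := Groth.Agent.S14637.isUnit_laurent
        (R := AddMonoidAlgebra A (Fin n → ℤ)) (Θ₂ (Θ₁ w)) hu
      obtain ⟨a, e', ha, hre⟩ := isUnit_pi n r hr
      refine ⟨a, eAdd.symm (m, e'), ha, ?_⟩
      have h1 : Θ₂ (Θ₁ w) = AddMonoidAlgebra.single m (AddMonoidAlgebra.single e' a) := by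
        rw [hrm, ← LaurentPolynomial.single_eq_C_mul_T, hre]
      have h2 : Θ₁ w = AddMonoidAlgebra.single (m, e') a := by
        rw [← Θ₂.symm_apply_apply (Θ₁ w), h1, AddMonoidAlgebra.curryAlgEquiv_symm_single]
      rw [← Θ₁.symm_apply_apply w, h2, AddMonoidAlgebra.domCongr_symm,
        AddMonoidAlgebra.domCongr_single]

theorem ringHom_ulift_int_ext {B : Type*} [Ring B] (φ ψ : ULift.{u} ℤ →+* B) : φ = ψ := by
  have h : φ.comp (ULift.ringEquiv.symm : ℤ ≃+* ULift.{u} ℤ).toRingHom =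
      ψ.comp (ULift.ringEquiv.symm : ℤ ≃+* ULift.{u} ℤ).toRingHom := RingHom.ext_int _ _
  ext r
  exact RingHom.congr_fun h r.down

section Pushout

variable (A : Type u) [CommRing A] (M : Type) [AddCommMonoid M]

/-- The canonical map `ULift ℤ[M] → A[M]`. -/
noncomputable def rho : ULift.{u} (AddMonoidAlgebra ℤ M) →+* AddMonoidAlgebra A M :=
  (AddMonoidAlgebra.mapRingHom M (Int.castRingHom A)).comp
    (ULift.ringEquiv : ULift.{u} (AddMonoidAlgebra ℤ M) ≃+* AddMonoidAlgebra ℤ M).toRingHom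

theorem rho_single (e : M) (z : ℤ) :
    rho A M (ULift.up (AddMonoidAlgebra.single e z)) = AddMonoidAlgebra.single e (z : A) := by
  show AddMonoidAlgebra.mapRingHom M (Int.castRingHom A) (AddMonoidAlgebra.single e z) = _
  simp

/-- Ring homs out of `ULift ℤ[M]` are determined by the monomials. -/
theorem ringHom_lam_ext {B : Type*} [CommRing B]
    (φ ψ : ULift.{u} (AddMonoidAlgebra ℤ M) →+* B)
    (h : ∀ e : M, φ (ULift.up (AddMonoidAlgebra.single e 1)) =
      ψ (ULift.up (AddMonoidAlgebra.single e 1))) : φ = ψ := by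
  have h' : φ.comp (ULift.ringEquiv.symm :
      AddMonoidAlgebra ℤ M ≃+* ULift.{u} (AddMonoidAlgebra ℤ M)).toRingHom =
      ψ.comp (ULift.ringEquiv.symm :
        AddMonoidAlgebra ℤ M ≃+* ULift.{u} (AddMonoidAlgebra ℤ M)).toRingHom := by
    apply AddMonoidAlgebra.ringHom_ext
    · intro r
      have e1 : (AddMonoidAlgebra.single (0 : M) r : AddMonoidAlgebra ℤ M) =
          ((r : ℤ) : AddMonoidAlgebra ℤ M) := by
        rw [AddMonoidAlgebra.intCast_def, Int.cast_id]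
      rw [e1, map_intCast, map_intCast]
    · intro e
      exact h e
  ext x
  exact RingHom.congr_fun h' x.down

/-- The pushout square of rings `A ← ULift ℤ → ULift ℤ[M]`, with pushout `A[M]`. -/
theorem isPushout_monoidAlgebra (f : CommRingCat.of (ULift.{u} ℤ) ⟶ CommRingCat.of A)
    (g : CommRingCat.of (ULift.{u} ℤ) ⟶ CommRingCat.of (ULift.{u} (AddMonoidAlgebra ℤ M))) :
    IsPushout f g
      (CommRingCat.ofHom (AddMonoidAlgebra.singleZeroRingHom : A →+* AddMonoidAlgebra A M))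
      (CommRingCat.ofHom (rho A M)) := by
  have hw : f ≫ CommRingCat.ofHom
      (AddMonoidAlgebra.singleZeroRingHom : A →+* AddMonoidAlgebra A M) =
      g ≫ CommRingCat.ofHom (rho A M) := CommRingCat.hom_ext (ringHom_ulift_int_ext _ _)
  refine ⟨⟨hw⟩, ⟨PushoutCocone.isColimitAux' _ fun s => ?_⟩⟩
  let a : A →+* s.pt := s.inl.hom
  let l : ULift.{u} (AddMonoidAlgebra ℤ M) →+* s.pt := s.inr.hom
  have hone : l (ULift.up (AddMonoidAlgebra.single (0 : M) 1)) = 1 := by
    have : (ULift.up (AddMonoidAlgebra.single (0 : M) (1 : ℤ)) :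
        ULift.{u} (AddMonoidAlgebra ℤ M)) = 1 := rfl
    rw [this, map_one]
  let χ : Multiplicative M →* s.pt :=
    { toFun := fun e => l (ULift.up (AddMonoidAlgebra.single e.toAdd 1))
      map_one' := hone
      map_mul' := by
        intro e₁ e₂
        show l (ULift.up (AddMonoidAlgebra.single (e₁.toAdd + e₂.toAdd) 1)) =
          l (ULift.up (AddMonoidAlgebra.single e₁.toAdd 1)) *
            l (ULift.up (AddMonoidAlgebra.single e₂.toAdd 1))
        rw [← map_mul]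
        congr 1
        show ULift.up _ = ULift.up (_ * _)
        rw [AddMonoidAlgebra.single_mul_single, one_mul] }
  let d : AddMonoidAlgebra A M →+* s.pt :=
    AddMonoidAlgebra.liftNCRingHom a χ (fun _ _ => Commute.all _ _)
  have hd : ∀ (e : M) (x : A), d (AddMonoidAlgebra.single e x) =
      a x * l (ULift.up (AddMonoidAlgebra.single e 1)) := fun e x =>
    AddMonoidAlgebra.liftNCRingHom_single a χ _ e x
  refine ⟨CommRingCat.ofHom d, ?_, ?_, ?_⟩
  · apply CommRingCat.hom_ext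
    ext x
    show d (AddMonoidAlgebra.single 0 x) = s.inl.hom x
    rw [hd, hone, mul_one]
  · apply CommRingCat.hom_ext
    apply ringHom_lam_ext
    intro e
    show d (rho A M (ULift.up (AddMonoidAlgebra.single e 1))) =
      l (ULift.up (AddMonoidAlgebra.single e 1))
    rw [rho_single, Int.cast_one, hd, map_one, one_mul]
  · intro m h1 h2
    apply CommRingCat.hom_ext
    apply AddMonoidAlgebra.ringHom_ext
    · intro x
      have := congrArg (fun φ => φ.hom x) h1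
      show m.hom (AddMonoidAlgebra.single 0 x) = d (AddMonoidAlgebra.single 0 x)
      rw [hd, hone, mul_one]
      exact this
    · intro e
      have := congrArg (fun φ => φ.hom (ULift.up (AddMonoidAlgebra.single e 1))) h2
      show m.hom (AddMonoidAlgebra.single e 1) = d (AddMonoidAlgebra.single e 1)
      rw [hd, map_one, one_mul, ← this]
      show m.hom (AddMonoidAlgebra.single e 1) =
        m.hom (rho A M (ULift.up (AddMonoidAlgebra.single e 1)))
      rw [rho_single, Int.cast_one]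

end Pushout

section Local

variable (M : Type) [AddCommMonoid M]

/-- Local structure of `X × Spec ℤ[M]` over an affine open `U ≅ Spec A` of `X`: the sections over
the preimage of `U` are `A[M]`. -/
theorem exists_local_iso {X P : Scheme.{u}} (pr₁ : P ⟶ X)
    (pr₂ : P ⟶ Spec (CommRingCat.of (ULift.{u} (AddMonoidAlgebra ℤ M))))
    (hP : IsPullback pr₁ pr₂ (specULiftZIsTerminal.from X) (specULiftZIsTerminal.from _))
    (U : X.Opens) (A : Type u) [CommRing A] (eU : (U : Scheme.{u}) ≅ Spec (CommRingCat.of A)) :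
    ∃ (ψc : CommRingCat.of (AddMonoidAlgebra A M) ⟶ Γ((pr₁ ⁻¹ᵁ U).toScheme, ⊤))
      (ψi : Γ((pr₁ ⁻¹ᵁ U).toScheme, ⊤) ⟶ CommRingCat.of (AddMonoidAlgebra A M)),
      ψi ≫ ψc = 𝟙 _ ∧ ψc ≫ ψi = 𝟙 _ ∧
      CommRingCat.ofHom (AddMonoidAlgebra.singleZeroRingHom : A →+* AddMonoidAlgebra A M) ≫ ψc =
        (Scheme.ΓSpecIso (CommRingCat.of A)).inv ≫ ((pr₁ ∣_ U) ≫ eU.hom).appTop ∧
      CommRingCat.ofHom (rho A M) ≫ ψc =
        (Scheme.ΓSpecIso (CommRingCat.of (ULift.{u} (AddMonoidAlgebra ℤ M)))).inv ≫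
          ((pr₁ ⁻¹ᵁ U).ι ≫ pr₂).appTop := by
  have sqU := isPullback_morphismRestrict pr₁ U
  have h3 : IsPullback ((pr₁ ⁻¹ᵁ U).ι ≫ pr₂) (pr₁ ∣_ U) (specULiftZIsTerminal.from _)
      (U.ι ≫ specULiftZIsTerminal.from X) := sqU.flip.paste_horiz hP.flip
  let f : CommRingCat.of (ULift.{u} ℤ) ⟶ CommRingCat.of A :=
    CommRingCat.ofHom ((Int.castRingHom A).comp (ULift.ringEquiv : ULift.{u} ℤ ≃+* ℤ).toRingHom)
  let g : CommRingCat.of (ULift.{u} ℤ) ⟶ CommRingCat.of (ULift.{u} (AddMonoidAlgebra ℤ M)) :=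
    CommRingCat.ofHom ((Int.castRingHom (ULift.{u} (AddMonoidAlgebra ℤ M))).comp
      (ULift.ringEquiv : ULift.{u} ℤ ≃+* ℤ).toRingHom)
  have h4 : IsPullback ((pr₁ ∣_ U) ≫ eU.hom) ((pr₁ ⁻¹ᵁ U).ι ≫ pr₂) (Spec.map f) (Spec.map g) := by
    refine IsPullback.of_iso h3.flip (Iso.refl _) eU (Iso.refl _) (Iso.refl _) ?_ ?_ ?_ ?_
    · simp
    · simp
    · exact specULiftZIsTerminal.hom_ext _ _
    · exact specULiftZIsTerminal.hom_ext _ _
  have h5 := isPullback_SpecMap_of_isPushout f g _ _ (isPushout_monoidAlgebra A M f g)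
  let Φ := h4.isoIsPullback _ _ h5
  have hΦ1 : Φ.hom ≫ Spec.map (CommRingCat.ofHom
      (AddMonoidAlgebra.singleZeroRingHom : A →+* AddMonoidAlgebra A M)) = (pr₁ ∣_ U) ≫ eU.hom :=
    h4.isoIsPullback_hom_fst _ _ h5
  have hΦ2 : Φ.hom ≫ Spec.map (CommRingCat.ofHom (rho A M)) = (pr₁ ⁻¹ᵁ U).ι ≫ pr₂ :=
    h4.isoIsPullback_hom_snd _ _ h5
  refine ⟨(Scheme.ΓSpecIso _).inv ≫ Φ.hom.appTop, Φ.inv.appTop ≫ (Scheme.ΓSpecIso _).hom,
    ?_, ?_, ?_, ?_⟩
  · rw [Category.assoc, Iso.hom_inv_id_assoc, ← Scheme.Hom.comp_appTop, Φ.hom_inv_id,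
      Scheme.Hom.id_appTop]
  · rw [Category.assoc, ← Category.assoc Φ.hom.appTop, ← Scheme.Hom.comp_appTop, Φ.inv_hom_id,
      Scheme.Hom.id_appTop, Category.id_comp, Iso.inv_hom_id]
  · rw [← Category.assoc, Scheme.ΓSpecIso_inv_naturality, Category.assoc,
      ← Scheme.Hom.comp_appTop, hΦ1]
  · rw [← Category.assoc, Scheme.ΓSpecIso_inv_naturality, Category.assoc,
      ← Scheme.Hom.comp_appTop, hΦ2]

end Local

end Groth.Agent.H43.TorusUnits
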