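import Mathlib
import Groth.Agent.H93.GaGmLaw

/-! Local structure of a pullback `X ×_{Spec ℤ} Spec Λ` over an affine open of `X`, for a general
ring `Λ` with a given model `B` of the pushout `A ← ULift ℤ → Λ`; the case `Λ = Sym`, `B = A[X]`
(the additive group). -/

set_option autoImplicit false
universe u
open CategoryTheory Limits AlgebraicGeometry

namespace Groth.Agent.H43.LocalIsoGen

open Groth.Agent.H93.GaGmLaw

/-- Local structure of `X ×_{Spec ℤ} Spec Λ` over an affine open `U ≅ Spec A` of `X`: the sections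
over the preimage of `U` are the pushout `B` of `A ← ℤ → Λ`. -/
theorem exists_local_iso_gen {X P : Scheme.{u}} (Λ : Type u) [CommRing Λ] (pr₁ : P ⟶ X)
    (pr₂ : P ⟶ Spec (CommRingCat.of Λ))
    (tX : X ⟶ Spec (CommRingCat.of (ULift.{u} ℤ)))
    (tΛ : Spec (CommRingCat.of Λ) ⟶ Spec (CommRingCat.of (ULift.{u} ℤ)))
    (hP : IsPullback pr₁ pr₂ tX tΛ)
    (U : X.Opens) (A : Type u) [CommRing A] (eU : (U : Scheme.{u}) ≅ Spec (CommRingCat.of A))
    (B : Type u) [CommRing B] (inl : A →+* B) (inr : Λ →+* B)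
    (hpo : ∀ (f : CommRingCat.of (ULift.{u} ℤ) ⟶ CommRingCat.of A)
      (g : CommRingCat.of (ULift.{u} ℤ) ⟶ CommRingCat.of Λ),
      IsPushout f g (CommRingCat.ofHom inl) (CommRingCat.ofHom inr)) :
    ∃ (ψc : CommRingCat.of B ⟶ Γ((pr₁ ⁻¹ᵁ U).toScheme, ⊤))
      (ψi : Γ((pr₁ ⁻¹ᵁ U).toScheme, ⊤) ⟶ CommRingCat.of B),
      ψi ≫ ψc = 𝟙 _ ∧ ψc ≫ ψi = 𝟙 _ ∧
      CommRingCat.ofHom inl ≫ ψc =
        (Scheme.ΓSpecIso (CommRingCat.of A)).inv ≫ ((pr₁ ∣_ U) ≫ eU.hom).appTop ∧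
      CommRingCat.ofHom inr ≫ ψc =
        (Scheme.ΓSpecIso (CommRingCat.of Λ)).inv ≫ ((pr₁ ⁻¹ᵁ U).ι ≫ pr₂).appTop := by
  have sqU := isPullback_morphismRestrict pr₁ U
  have h3 : IsPullback ((pr₁ ⁻¹ᵁ U).ι ≫ pr₂) (pr₁ ∣_ U) tΛ (U.ι ≫ tX) :=
    sqU.flip.paste_horiz hP.flip
  let f : CommRingCat.of (ULift.{u} ℤ) ⟶ CommRingCat.of A :=
    CommRingCat.ofHom ((Int.castRingHom A).comp (ULift.ringEquiv : ULift.{u} ℤ ≃+* ℤ).toRingHom)
  let g : CommRingCat.of (ULift.{u} ℤ) ⟶ CommRingCat.of Λ :=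
    CommRingCat.ofHom ((Int.castRingHom Λ).comp (ULift.ringEquiv : ULift.{u} ℤ ≃+* ℤ).toRingHom)
  have h4 : IsPullback ((pr₁ ∣_ U) ≫ eU.hom) ((pr₁ ⁻¹ᵁ U).ι ≫ pr₂) (Spec.map f) (Spec.map g) := by
    refine IsPullback.of_iso h3.flip (Iso.refl _) eU (Iso.refl _) (Iso.refl _) ?_ ?_ ?_ ?_
    · simp
    · simp
    · exact specULiftZIsTerminal.hom_ext _ _
    · exact specULiftZIsTerminal.hom_ext _ _
  have h5 := isPullback_SpecMap_of_isPushout f g _ _ (hpo f g)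
  let Φ := h4.isoIsPullback _ _ h5
  have hΦ1 : Φ.hom ≫ Spec.map (CommRingCat.ofHom inl) = (pr₁ ∣_ U) ≫ eU.hom :=
    h4.isoIsPullback_hom_fst _ _ h5
  have hΦ2 : Φ.hom ≫ Spec.map (CommRingCat.ofHom inr) = (pr₁ ⁻¹ᵁ U).ι ≫ pr₂ :=
    h4.isoIsPullback_hom_snd _ _ h5
  refine ⟨(Scheme.ΓSpecIso _).inv ≫ Φ.hom.appTop, Φ.inv.appTop ≫ (Scheme.ΓSpecIso _).hom,
    ?_, ?_, ?_, ?_⟩
  · rw [Category.assoc, Iso.hom_inv_id_assoc, ← Scheme.Hom.comp_appTop, Φ.hom_inv_id,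
      Scheme.Hom.id_appTop]
  · rw [Category.assoc, ← Category.assoc Φ.hom.appTop, ← Scheme.Hom.comp_appTop, Φ.inv_hom_id,
      Scheme.Hom.id_appTop, Category.id_comp, Iso.inv_hom_id]
  · rw [← Category.assoc, Scheme.ΓSpecIso_inv_naturality, Category.assoc,
      ← Scheme.Hom.comp_appTop, hΦ1]
  · rw [← Category.assoc, Scheme.ΓSpecIso_inv_naturality, Category.assoc,
      ← Scheme.Hom.comp_appTop, hΦ2]

/-- The pushout square of rings `A ← ULift ℤ → Sym`, with pushout `A[X]`. -/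
theorem isPushout_sym (A : Type u) [CommRing A]
    (f : CommRingCat.of (ULift.{u} ℤ) ⟶ CommRingCat.of A)
    (g : CommRingCat.of (ULift.{u} ℤ) ⟶ CommRingCat.of Sym.{u}) :
    IsPushout f g (CommRingCat.ofHom (Polynomial.C : A →+* Polynomial A))
      (CommRingCat.ofHom (gaHom.{u} (Polynomial.X : Polynomial A))) := by
  have hw : f ≫ CommRingCat.ofHom (Polynomial.C : A →+* Polynomial A) =
      g ≫ CommRingCat.ofHom (gaHom.{u} (Polynomial.X : Polynomial A)) :=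
    CommRingCat.hom_ext (ulift_hom_ext _ _)
  refine ⟨⟨hw⟩, ⟨PushoutCocone.isColimitAux' _ fun s => ?_⟩⟩
  let a : A →+* s.pt := s.inl.hom
  let l : Sym.{u} →+* s.pt := s.inr.hom
  let d : Polynomial A →+* s.pt := Polynomial.eval₂RingHom a (l tt)
  have hdC : ∀ x, d (Polynomial.C x) = a x := fun x => Polynomial.eval₂_C _ _
  have hdX : d Polynomial.X = l tt := Polynomial.eval₂_X _ _
  refine ⟨CommRingCat.ofHom d, ?_, ?_, ?_⟩
  · apply CommRingCat.hom_ext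
    ext x
    exact hdC x
  · apply CommRingCat.hom_ext
    apply sym_hom_ext
    show d (gaHom.{u} (Polynomial.X : Polynomial A) tt) = l tt
    rw [gaHom_tt, hdX]
  · intro m h1 h2
    apply CommRingCat.hom_ext
    apply Polynomial.ringHom_ext
    · intro x
      have := congrArg (fun φ => φ.hom x) h1
      show m.hom (Polynomial.C x) = d (Polynomial.C x)
      rw [hdC]
      exact this
    · have := congrArg (fun φ => φ.hom tt) h2
      show m.hom Polynomial.X = d Polynomial.X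
      rw [hdX, ← this]
      show m.hom Polynomial.X = m.hom (gaHom.{u} (Polynomial.X : Polynomial A) tt)
      rw [gaHom_tt]

end Groth.Agent.H43.LocalIsoGen
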