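import Mathlib
import Groth.Agent.S13371

/-! Points of base-changed affine group schemes `S ×_{Spec R} Spec A` (A a Hopf algebra) as ring
homomorphisms, compatibility with the group law (`pt_mul`), and the resulting API for the
coordinate functions `Red.gaFn`, `Red.gmFn` of points of `𝔾_a`, `𝔾_m` over any base. -/

set_option autoImplicit false
universe u
open CategoryTheory CategoryTheory.Limits AlgebraicGeometry MonObj CartesianMonoidalCategory
open scoped TensorProduct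

namespace Groth.Agent.H43.GaGmFn

open Groth.Agent.H93.GaGmLaw
open Groth.Agent.S13371 (gm_ext isUnit_gmFn gmFn_comp)

section General

variable {R A : Type u} [CommRing R] [CommRing A] [HopfAlgebra R A] {S : Scheme.{u}}
  (f : S ⟶ Spec (CommRingCat.of R))

/-- The affine group `Spec A` over `Spec R`. -/
noncomputable abbrev GR (R A : Type u) [CommRing R] [CommRing A] [HopfAlgebra R A] :
    Over (Spec (CommRingCat.of R)) :=
  (Spec (CommRingCat.of A)).asOver (Spec (CommRingCat.of R))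

/-- The ring homomorphism `A → Γ(X)` defined by an `X`-point of the base change of `Spec A`. -/
noncomputable def pt {X : Over S} (x : X ⟶ Red.bc f (GR R A)) : A →+* Γ(X.left, ⊤) :=
  ((Scheme.ΓSpecIso (CommRingCat.of A)).inv ≫ (x.left ≫ Limits.pullback.fst _ _).appTop).hom

theorem pt_comp {X Y : Over S} (a : X ⟶ Y) (x : Y ⟶ Red.bc f (GR R A)) (b : A) :
    pt f (a ≫ x) b = a.left.appTop.hom (pt f x b) := by
  unfold pt
  rw [Over.comp_left, Category.assoc, Scheme.Hom.comp_appTop]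
  rfl

/-- The group law on points in terms of the comultiplication. -/
theorem pt_mul {X : Over S} (x y : X ⟶ Red.bc f (GR R A)) :
    ∃ Q : A ⊗[R] A →+* Γ(X.left, ⊤), (∀ b, Q (b ⊗ₜ 1) = pt f x b) ∧ (∀ c, Q (1 ⊗ₜ c) = pt f y c) ∧
      ∀ a, pt f (x * y) a = Q (Coalgebra.comul a) := by
  obtain ⟨m1, hm1⟩ : ∃ m1 : (MonoidalCategoryStruct.tensorObj (Red.bc f (GR R A))
      (Red.bc f (GR R A))).left ⟶
      ((Over.pullback f).obj (MonoidalCategoryStruct.tensorObj (GR R A) (GR R A))).left,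
      m1 = (Functor.LaxMonoidal.μ (Over.pullback f) (GR R A) (GR R A)).left := ⟨_, rfl⟩
  obtain ⟨p1, hp1⟩ : ∃ p1 : ((Over.pullback f).obj
      (MonoidalCategoryStruct.tensorObj (GR R A) (GR R A))).left ⟶
      (MonoidalCategoryStruct.tensorObj (GR R A) (GR R A)).left,
      p1 = Limits.pullback.fst (MonoidalCategoryStruct.tensorObj (GR R A) (GR R A)).hom f :=
    ⟨_, rfl⟩
  obtain ⟨psi, hpsi⟩ : ∃ psi : (MonoidalCategoryStruct.tensorObj (GR R A) (GR R A)).left ⟶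
      Spec (CommRingCat.of (A ⊗[R] A)), psi = (pullbackSpecIso R A A).hom := ⟨_, rfl⟩
  obtain ⟨a1, ha1⟩ : ∃ a1 : (MonoidalCategoryStruct.tensorObj (GR R A) (GR R A)).left ⟶
      Spec (CommRingCat.of A), a1 = (fst (GR R A) (GR R A)).left := ⟨_, rfl⟩
  obtain ⟨a2, ha2⟩ : ∃ a2 : (MonoidalCategoryStruct.tensorObj (GR R A) (GR R A)).left ⟶
      Spec (CommRingCat.of A), a2 = (snd (GR R A) (GR R A)).left := ⟨_, rfl⟩
  obtain ⟨pG, hpG⟩ : ∃ pG : (Red.bc f (GR R A)).left ⟶ Spec (CommRingCat.of A),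
      pG = Limits.pullback.fst (GR R A).hom f := ⟨_, rfl⟩
  obtain ⟨b1, hb1⟩ : ∃ b1 : (MonoidalCategoryStruct.tensorObj (Red.bc f (GR R A))
      (Red.bc f (GR R A))).left ⟶ (Red.bc f (GR R A)).left,
      b1 = (fst (Red.bc f (GR R A)) (Red.bc f (GR R A))).left := ⟨_, rfl⟩
  obtain ⟨b2, hb2⟩ : ∃ b2 : (MonoidalCategoryStruct.tensorObj (Red.bc f (GR R A))
      (Red.bc f (GR R A))).left ⟶ (Red.bc f (GR R A)).left,
      b2 = (snd (Red.bc f (GR R A)) (Red.bc f (GR R A))).left := ⟨_, rfl⟩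
  obtain ⟨mG, hmG⟩ : ∃ mG : (MonoidalCategoryStruct.tensorObj (GR R A) (GR R A)).left ⟶
      Spec (CommRingCat.of A), mG = μ[GR R A].left := ⟨_, rfl⟩
  obtain ⟨FmG, hFmG⟩ : ∃ FmG : ((Over.pullback f).obj
      (MonoidalCategoryStruct.tensorObj (GR R A) (GR R A))).left ⟶ (Red.bc f (GR R A)).left,
      FmG = ((Over.pullback f).map μ[GR R A]).left := ⟨_, rfl⟩
  obtain ⟨l, hl⟩ : ∃ l : X.left ⟶ (MonoidalCategoryStruct.tensorObj (Red.bc f (GR R A))
      (Red.bc f (GR R A))).left, l = (lift x y).left := ⟨_, rfl⟩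
  have F1 : psi ≫ Spec.map (CommRingCat.ofHom Algebra.TensorProduct.includeLeftRingHom) = a1 := by
    rw [hpsi, ha1]; exact pullbackSpecIso_hom_fst R A A
  have F2 : psi ≫ Spec.map (CommRingCat.ofHom
      (RingHomClass.toRingHom (Algebra.TensorProduct.includeRight : A →ₐ[R] A ⊗[R] A))) = a2 := by
    rw [hpsi, ha2]; exact pullbackSpecIso_hom_snd R A A
  have F3 : m1 ≫ p1 ≫ a1 = b1 ≫ pG := by
    rw [hm1, hp1, ha1, hb1, hpG]; exact Over.μ_pullback_left_fst_fst (GR R A) (GR R A)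
  have F4 : m1 ≫ p1 ≫ a2 = b2 ≫ pG := by
    rw [hm1, hp1, ha2, hb2, hpG]; exact Over.μ_pullback_left_fst_snd (GR R A) (GR R A)
  have F5 : FmG ≫ pG = p1 ≫ mG := by
    rw [hFmG, hpG, hp1, hmG]; exact Limits.pullback.lift_fst _ _ _
  have F6 : mG = psi ≫ Spec.map (CommRingCat.ofHom (Bialgebra.comulAlgHom R A)) := by
    rw [hmG, hpsi]
    exact mul_spec_asOver_spec_left (R := CommRingCat.of R) (A := CommRingCat.of A)
  have F7 : (x * y).left = l ≫ m1 ≫ FmG := by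
    rw [hl, hm1, hFmG]
    have e1 : x * y = lift x y ≫ (Functor.LaxMonoidal.μ (Over.pullback f) (GR R A) (GR R A) ≫
      (Over.pullback f).map μ[GR R A]) := rfl
    exact congrArg (fun m => m.left) e1
  have F8 : l ≫ b1 = x.left := by
    rw [hl, hb1]; exact congrArg (fun m => m.left) (lift_fst x y)
  have F9 : l ≫ b2 = y.left := by
    rw [hl, hb2]; exact congrArg (fun m => m.left) (lift_snd x y)
  have hmul : (x * y).left ≫ pG = (l ≫ m1 ≫ p1 ≫ psi) ≫
      Spec.map (CommRingCat.ofHom (Bialgebra.comulAlgHom R A)) := by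
    rw [F7, Category.assoc, Category.assoc, F5, F6]
    simp only [Category.assoc]
  have hq1 : (l ≫ m1 ≫ p1 ≫ psi) ≫
      Spec.map (CommRingCat.ofHom Algebra.TensorProduct.includeLeftRingHom) = x.left ≫ pG := by
    simp only [Category.assoc]
    rw [F1, F3, ← Category.assoc, F8]
  have hq2 : (l ≫ m1 ≫ p1 ≫ psi) ≫ Spec.map (CommRingCat.ofHom
      (RingHomClass.toRingHom (Algebra.TensorProduct.includeRight : A →ₐ[R] A ⊗[R] A))) =
      y.left ≫ pG := by
    simp only [Category.assoc]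
    rw [F2, F4, ← Category.assoc, F9]
  have ptdef : ∀ w : X ⟶ Red.bc f (GR R A), pt f w =
      ((Scheme.ΓSpecIso (CommRingCat.of A)).inv ≫ (w.left ≫ pG).appTop).hom := by
    intro w; rw [hpG]; rfl
  refine ⟨((Scheme.ΓSpecIso (CommRingCat.of (A ⊗[R] A))).inv ≫ (l ≫ m1 ≫ p1 ≫ psi).appTop).hom,
    ?_, ?_, ?_⟩
  · intro b
    have h : CommRingCat.ofHom Algebra.TensorProduct.includeLeftRingHom ≫
        (Scheme.ΓSpecIso (CommRingCat.of (A ⊗[R] A))).inv ≫ (l ≫ m1 ≫ p1 ≫ psi).appTop =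
        (Scheme.ΓSpecIso (CommRingCat.of A)).inv ≫ (x.left ≫ pG).appTop := by
      rw [← Category.assoc, Scheme.ΓSpecIso_inv_naturality, Category.assoc,
        ← Scheme.Hom.comp_appTop, hq1]
    rw [ptdef]
    exact congrArg (fun φ => φ.hom b) h
  · intro c
    have h : CommRingCat.ofHom
        (RingHomClass.toRingHom (Algebra.TensorProduct.includeRight : A →ₐ[R] A ⊗[R] A)) ≫
        (Scheme.ΓSpecIso (CommRingCat.of (A ⊗[R] A))).inv ≫ (l ≫ m1 ≫ p1 ≫ psi).appTop =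
        (Scheme.ΓSpecIso (CommRingCat.of A)).inv ≫ (y.left ≫ pG).appTop := by
      rw [← Category.assoc, Scheme.ΓSpecIso_inv_naturality, Category.assoc,
        ← Scheme.Hom.comp_appTop, hq2]
    rw [ptdef]
    exact congrArg (fun φ => φ.hom c) h
  · intro a
    have h : (Scheme.ΓSpecIso (CommRingCat.of A)).inv ≫ ((x * y).left ≫ pG).appTop =
        CommRingCat.ofHom (Bialgebra.comulAlgHom R A) ≫
          (Scheme.ΓSpecIso (CommRingCat.of (A ⊗[R] A))).inv ≫ (l ≫ m1 ≫ p1 ≫ psi).appTop := by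
      rw [hmul, Scheme.Hom.comp_appTop, ← Category.assoc, ← Scheme.ΓSpecIso_inv_naturality,
        Category.assoc]
    rw [ptdef]
    exact congrArg (fun φ => φ.hom a) h

end General

section GaGm

variable {S : Scheme.{u}}

noncomputable abbrev tS (S : Scheme.{u}) : S ⟶ Spec (CommRingCat.of (ULift.{u} ℤ)) :=
  Limits.IsTerminal.from specULiftZIsTerminal S

theorem gaFn_eq_pt {X : Over S} (x : X ⟶ Red.Ga S) :
    Red.gaFn x = pt (R := ULift.{u} ℤ) (A := Sym.{u}) (tS S) x tt := rfl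

theorem gmFn_eq_pt {X : Over S} (z : X ⟶ Red.Gm S) :
    Red.gmFn z = pt (R := ULift.{u} ℤ) (A := Lau.{u}) (tS S) z
      (MonoidAlgebra.single (Multiplicative.ofAdd (1 : ℤ)) 1) := rfl

/-- A point of `𝔾_a` is determined by its coordinate function. -/
theorem ga_ext {X : Over S} (a b : X ⟶ Red.Ga S) (h : Red.gaFn a = Red.gaFn b) : a = b := by
  apply Over.OverMorphism.ext
  apply Limits.pullback.hom_ext
  · refine ext_to_Spec (R := Sym.{u}) ?_
    apply CommRingCat.hom_ext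
    apply sym_hom_ext
    exact h
  · exact (Over.w a).trans (Over.w b).symm

theorem gaFn_comp {X Y : Over S} (a : X ⟶ Y) (x : Y ⟶ Red.Ga S) :
    Red.gaFn (a ≫ x) = a.left.appTop.hom (Red.gaFn x) :=
  pt_comp (R := ULift.{u} ℤ) (A := Sym.{u}) (tS S) a x tt

theorem gaFn_mul {X : Over S} (x y : X ⟶ Red.Ga S) :
    Red.gaFn (x * y) = Red.gaFn x + Red.gaFn y := by
  obtain ⟨Q, hQ1, hQ2, hQ⟩ := pt_mul (R := ULift.{u} ℤ) (A := Sym.{u}) (tS S) x y
  have hc := SymmetricAlgebra.comul_ι (R := ULift.{u} ℤ) (M := ULift.{u} ℤ) (ULift.up 1)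
  exact (hQ tt).trans ((congrArg Q hc).trans ((map_add Q _ _).trans
    (congrArg₂ (· + ·) (hQ1 tt) (hQ2 tt))))

theorem gmFn_mul {X : Over S} (z w : X ⟶ Red.Gm S) :
    Red.gmFn (z * w) = Red.gmFn z * Red.gmFn w := by
  obtain ⟨Q, hQ1, hQ2, hQ⟩ := pt_mul (R := ULift.{u} ℤ) (A := Lau.{u}) (tS S) z w
  have hc := (MonoidAlgebra.isGroupLikeElem_single_one (R := ULift.{u} ℤ) (A := ULift.{u} ℤ)
      (Multiplicative.ofAdd (1 : ℤ))).comul_eq_tmul_self
  have h4 := Algebra.TensorProduct.tmul_mul_tmul (R := ULift.{u} ℤ)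
    (MonoidAlgebra.single (Multiplicative.ofAdd (1 : ℤ)) (1 : ULift.{u} ℤ) : Lau.{u}) (1 : Lau.{u})
    (1 : Lau.{u}) (MonoidAlgebra.single (Multiplicative.ofAdd (1 : ℤ)) (1 : ULift.{u} ℤ) : Lau.{u})
  rw [_root_.mul_one, _root_.one_mul] at h4
  exact (hQ _).trans ((congrArg Q (hc.trans h4.symm)).trans ((map_mul Q _ _).trans
    (congrArg₂ (· * ·) (hQ1 _) (hQ2 _))))

theorem gaFn_one {X : Over S} : Red.gaFn (1 : X ⟶ Red.Ga S) = 0 := by
  have h := gaFn_mul (1 : X ⟶ Red.Ga S) 1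
  have e : (1 : X ⟶ Red.Ga S) * 1 = 1 := _root_.mul_one (1 : X ⟶ Red.Ga S)
  rw [e] at h
  have h2 : Red.gaFn (1 : X ⟶ Red.Ga S) + 0 = Red.gaFn (1 : X ⟶ Red.Ga S) +
      Red.gaFn (1 : X ⟶ Red.Ga S) := by rw [add_zero]; exact h
  exact (add_left_cancel h2).symm

theorem gaFn_inv {X : Over S} (x : X ⟶ Red.Ga S) : Red.gaFn x⁻¹ = -Red.gaFn x := by
  have h := gaFn_mul x⁻¹ x
  rw [inv_mul_cancel, gaFn_one] at h
  exact eq_neg_of_add_eq_zero_left h.symm

theorem gmFn_one {X : Over S} : Red.gmFn (1 : X ⟶ Red.Gm S) = 1 := by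
  have h := gmFn_mul (1 : X ⟶ Red.Gm S) 1
  have e : (1 : X ⟶ Red.Gm S) * 1 = 1 := _root_.mul_one (1 : X ⟶ Red.Gm S)
  rw [e] at h
  have hu := isUnit_gmFn (1 : X ⟶ Red.Gm S)
  have h2 : Red.gmFn (1 : X ⟶ Red.Gm S) * 1 = Red.gmFn (1 : X ⟶ Red.Gm S) *
      Red.gmFn (1 : X ⟶ Red.Gm S) := by rw [_root_.mul_one]; exact h
  exact (hu.mul_right_injective h2).symm

theorem gmFn_inv_mul {X : Over S} (z : X ⟶ Red.Gm S) : Red.gmFn z⁻¹ * Red.gmFn z = 1 := by
  rw [← gmFn_mul, inv_mul_cancel, gmFn_one]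

end GaGm

end Groth.Agent.H43.GaGmFn
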