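import Mathlib
import Groth.Prelude.Def_Red2
import Groth.Prelude.Def_ActBC

/-! Definitions for gluing locally split tori (helper43, S16621). -/

set_option autoImplicit false
universe u
open CategoryTheory Limits MonoidalCategory CartesianMonoidalCategory MonObj GrpObj AlgebraicGeometry

namespace Groth.Agent.H43.LS

/-- Two local morphisms `f` (over `U`) and `f'` (over `U'`) between base changes of `X`, `Y : Over S`
agree on the overlap, in point form: whenever `a`, `b` are the same point of `X`, their images are the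
same point of `Y`. -/
def Compat {S : Scheme.{u}} {X Y : Over S} {U U' : S.Opens}
    (f : Red.bc U.ι X ⟶ Red.bc U.ι Y) (f' : Red.bc U'.ι X ⟶ Red.bc U'.ι Y) : Prop :=
  ∀ (Z : Scheme.{u}) (a : Z ⟶ (Red.bc U.ι X).left) (b : Z ⟶ (Red.bc U'.ι X).left),
    a ≫ pullback.fst X.hom U.ι = b ≫ pullback.fst X.hom U'.ι →
    a ≫ f.left ≫ pullback.fst Y.hom U.ι = b ≫ f'.left ≫ pullback.fst Y.hom U'.ι

end Groth.Agent.H43.LS
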