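import Mathlib

/-! (RP) for helper14's S7151 squad: representation of elements of `S[y]` by polynomials of degree `< p`. -/

set_option autoImplicit false
universe u

namespace Groth.Agent.H43.PI

/-- (RP) representation -/
theorem exists_repr {R : Type u} [CommRing R] (S : Subring R) (y : R) (p : ℕ) (a : Fin p → R)
    (ha : ∀ j, a j ∈ S) (hy : y ^ p = ∑ j, a j * y ^ (j : ℕ)) (w : R)
    (hw : w ∈ Subring.closure ((S : Set R) ∪ {y})) :
    ∃ c : Fin p → R, (∀ j, c j ∈ S) ∧ w = ∑ j, c j * y ^ (j : ℕ) := by
  rcases Nat.eq_zero_or_pos p with hp0 | hp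
  · subst hp0
    have h10 : (1 : R) = 0 := by simpa using hy
    refine ⟨fun j => Fin.elim0 j, fun j => Fin.elim0 j, ?_⟩
    rw [Finset.univ_eq_empty, Finset.sum_empty]
    calc w = w * 1 := (mul_one w).symm
      _ = 0 := by rw [h10, mul_zero]
  · let N : R → Prop := fun w => ∃ c : Fin p → R, (∀ j, c j ∈ S) ∧ w = ∑ j, c j * y ^ (j : ℕ)
    have hzero : N 0 := ⟨fun _ => 0, fun _ => S.zero_mem, by simp⟩
    have hadd : ∀ w w', N w → N w' → N (w + w') := by
      rintro w w' ⟨c, hc, rfl⟩ ⟨c', hc', rfl⟩
      refine ⟨fun j => c j + c' j, fun j => S.add_mem (hc j) (hc' j), ?_⟩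
      rw [← Finset.sum_add_distrib]
      refine Finset.sum_congr rfl (fun j _ => ?_)
      rw [add_mul]
    have hneg : ∀ w, N w → N (-w) := by
      rintro w ⟨c, hc, rfl⟩
      refine ⟨fun j => -c j, fun j => S.neg_mem (hc j), ?_⟩
      rw [← Finset.sum_neg_distrib]
      refine Finset.sum_congr rfl (fun j _ => ?_)
      rw [neg_mul]
    have hsmul : ∀ s ∈ S, ∀ w, N w → N (s * w) := by
      rintro s hs w ⟨c, hc, rfl⟩
      refine ⟨fun j => s * c j, fun j => S.mul_mem hs (hc j), ?_⟩
      rw [Finset.mul_sum]
      refine Finset.sum_congr rfl (fun j _ => ?_)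
      rw [mul_assoc]
    have hsum : ∀ (s : Finset (Fin p)) (f : Fin p → R), (∀ i ∈ s, N (f i)) →
        N (∑ i ∈ s, f i) := by
      intro s f
      induction s using Finset.induction_on with
      | empty =>
        intro _
        rw [Finset.sum_empty]
        exact hzero
      | insert i s hi ih =>
        intro h
        rw [Finset.sum_insert hi]
        exact hadd _ _ (h i (Finset.mem_insert_self i s))
          (ih (fun k hk => h k (Finset.mem_insert_of_mem hk)))
    have hpow : ∀ j : Fin p, N (y ^ (j : ℕ)) := by
      intro j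
      refine ⟨fun i => if i = j then 1 else 0, fun i => ?_, ?_⟩
      · show (if i = j then (1 : R) else 0) ∈ S
        split_ifs
        · exact S.one_mem
        · exact S.zero_mem
      · simp [ite_mul, Finset.sum_ite_eq']
    have hyp : N (y ^ p) := ⟨a, ha, hy⟩
    have hymul : ∀ w, N w → N (y * w) := by
      rintro w ⟨c, hc, rfl⟩
      rw [Finset.mul_sum]
      apply hsum
      intro j _
      have e : y * (c j * y ^ (j : ℕ)) = c j * y ^ ((j : ℕ) + 1) := by ring
      rw [e]
      apply hsmul _ (hc j)
      by_cases hj : (j : ℕ) + 1 < p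
      · exact hpow ⟨(j : ℕ) + 1, hj⟩
      · have hjp : (j : ℕ) + 1 = p := le_antisymm (Nat.succ_le_of_lt j.2) (not_lt.1 hj)
        rw [hjp]
        exact hyp
    have hpowmul : ∀ (k : ℕ) w, N w → N (y ^ k * w) := by
      intro k
      induction k with
      | zero =>
        intro w hw
        rw [pow_zero, one_mul]
        exact hw
      | succ k ih =>
        intro w hw
        rw [pow_succ', mul_assoc]
        exact hymul _ (ih w hw)
    have hone : N 1 := by
      have h0 := hpow ⟨0, hp⟩
      simpa using h0
    have hmul : ∀ w w', N w → N w' → N (w * w') := by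
      rintro w w' ⟨c, hc, rfl⟩ hw'
      rw [Finset.sum_mul]
      apply hsum
      intro j _
      rw [mul_assoc]
      exact hsmul _ (hc j) _ (hpowmul _ _ hw')
    have hS : ∀ s ∈ S, N s := by
      intro s hs
      have h1 := hsmul s hs 1 hone
      rwa [mul_one] at h1
    have hy1 : N y := by
      have h1 := hpowmul 1 1 hone
      rwa [pow_one, mul_one] at h1
    show N w
    induction hw using Subring.closure_induction with
    | mem x hx =>
      rcases hx with hx | hx
      · exact hS x hx
      · rw [Set.mem_singleton_iff] at hx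
        rw [hx]
        exact hy1
    | zero => exact hzero
    | one => exact hone
    | add x y' _ _ ihx ihy => exact hadd _ _ ihx ihy
    | neg x _ ih => exact hneg _ ih
    | mul x y' _ _ ihx ihy => exact hmul _ _ ihx ihy

end Groth.Agent.H43.PI
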