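import Mathlib

/-! (CL) for helper14's S7151 squad: closeness estimate. -/

set_option autoImplicit false
universe u

namespace Groth.Agent.H43.PI

theorem order_core {Γ : Type*} [LinearOrderedCommGroupWithZero Γ] (a d s e : Γ) (p t N : ℕ)
    (hN : p * t < N) (ha0 : a ≠ 0) (ha1 : a < 1) (hs : s ≠ 0) (F1 : a ^ t * d ≤ e * s)
    (F2 : e ^ p ≤ a ^ N) : d < s := by
  by_contra hcon
  replace hcon := not_lt.1 hcon
  have h1 : a ^ t * s ≤ e * s := le_trans (mul_le_mul' le_rfl hcon) F1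
  have h2 : a ^ t ≤ e := by
    by_contra h
    replace h := not_le.1 h
    have h' : e * s < a ^ t * s := mul_lt_mul_of_pos_right h (zero_lt_iff.2 hs)
    exact absurd h1 (not_le.2 h')
  have h3 : (a ^ t) ^ p ≤ a ^ N := le_trans (pow_le_pow_left₀ zero_le h2 p) F2
  rw [← pow_mul, mul_comm t p] at h3
  have h4 : a ^ N < a ^ (p * t) := pow_lt_pow_right_of_lt_one₀ (zero_lt_iff.2 ha0) ha1 hN
  exact absurd h3 (not_le.2 h4)

/-- (CL) closeness -/
theorem close_of_bound {Ω : Type u} [Field Ω] (p : ℕ) (hp : p.Prime) [CharP Ω p]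
    (W : ValuationSubring Ω) (x z ϖ : Ω) (N t : ℕ) (hN : p * t < N) (hϖ0 : ϖ ≠ 0)
    (hϖ : W.valuation ϖ < 1) (hx : x ∈ W) (hz : z ^ p = ϖ ^ N * z + x ^ p)
    (c : Fin p → Ω) (S : Ω) (hS : S = ∑ j, c j * x ^ (j : ℕ)) (hS0 : S ≠ 0)
    (hc : ∀ i, ∃ w ∈ W, ϖ ^ t * c i = w * S) :
    W.valuation (∑ j, c j * z ^ (j : ℕ) - S) < W.valuation S := by
  have : Fact p.Prime := ⟨hp⟩
  have hzx : (z - x) ^ p = ϖ ^ N * z := by
    rw [sub_pow_char z x, hz]
    ring
  have hxv : W.valuation x ≤ 1 := (ValuationSubring.valuation_le_one_iff _ _).2 hx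
  have hzW : z ∈ W := by
    rw [← ValuationSubring.valuation_le_one_iff]
    by_contra hcon
    replace hcon := not_le.1 hcon
    have h1 : W.valuation (z ^ p) = W.valuation z ^ p := map_pow _ _ _
    have h2 : W.valuation (ϖ ^ N * z + x ^ p) ≤ W.valuation z := by
      refine le_trans (Valuation.map_add _ _ _) (max_le ?_ ?_)
      · rw [map_mul, map_pow]
        calc W.valuation ϖ ^ N * W.valuation z ≤ 1 * W.valuation z :=
              mul_le_mul' (pow_le_one₀ zero_le hϖ.le) le_rfl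
          _ = W.valuation z := one_mul _
      · rw [map_pow]
        exact le_trans (pow_le_one₀ zero_le hxv) hcon.le
    have h3 : W.valuation z < W.valuation z ^ p := by
      calc W.valuation z = W.valuation z ^ 1 := (pow_one _).symm
        _ < W.valuation z ^ p := pow_lt_pow_right₀ hcon hp.one_lt
    rw [← hz, h1] at h2
    exact absurd h2 (not_le.2 h3)
  have hzv : W.valuation z ≤ 1 := (ValuationSubring.valuation_le_one_iff _ _).2 hzW
  have hq : ∀ j : ℕ, (∑ i ∈ Finset.range j, z ^ i * x ^ (j - 1 - i)) * (z - x) = z ^ j - x ^ j :=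
    fun j => geom_sum₂_mul z x j
  have hqW : ∀ j : ℕ, (∑ i ∈ Finset.range j, z ^ i * x ^ (j - 1 - i)) ∈ W := fun j =>
    sum_mem (fun i _ => W.mul_mem _ _ (pow_mem hzW _) (pow_mem hx _))
  choose w hwW hw using hc
  have e1 : ∑ j, c j * z ^ (j : ℕ) - S =
      ∑ j : Fin p, c j * ((∑ i ∈ Finset.range (j : ℕ), z ^ i * x ^ ((j : ℕ) - 1 - i)) * (z - x)) := by
    conv_lhs => rw [hS]
    rw [← Finset.sum_sub_distrib]
    refine Finset.sum_congr rfl (fun j _ => ?_)
    rw [hq, mul_sub]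
  have hdiff : ϖ ^ t * (∑ j, c j * z ^ (j : ℕ) - S) =
      (z - x) * S * ∑ j : Fin p, w j * (∑ i ∈ Finset.range (j : ℕ), z ^ i * x ^ ((j : ℕ) - 1 - i)) := by
    rw [e1, Finset.mul_sum, Finset.mul_sum]
    refine Finset.sum_congr rfl (fun j _ => ?_)
    calc ϖ ^ t * (c j * ((∑ i ∈ Finset.range (j : ℕ), z ^ i * x ^ ((j : ℕ) - 1 - i)) * (z - x)))
        = (ϖ ^ t * c j) * ((∑ i ∈ Finset.range (j : ℕ), z ^ i * x ^ ((j : ℕ) - 1 - i)) * (z - x)) := by
          ring
      _ = (w j * S) * ((∑ i ∈ Finset.range (j : ℕ), z ^ i * x ^ ((j : ℕ) - 1 - i)) * (z - x)) := by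
          rw [hw]
      _ = (z - x) * S * (w j * (∑ i ∈ Finset.range (j : ℕ), z ^ i * x ^ ((j : ℕ) - 1 - i))) := by
          ring
  have hu : (∑ j : Fin p, w j * (∑ i ∈ Finset.range (j : ℕ), z ^ i * x ^ ((j : ℕ) - 1 - i))) ∈ W :=
    sum_mem (fun j _ => W.mul_mem _ _ (hwW j) (hqW j))
  have F1 : W.valuation ϖ ^ t * W.valuation (∑ j, c j * z ^ (j : ℕ) - S) ≤
      W.valuation (z - x) * W.valuation S := by
    rw [← map_pow, ← map_mul, hdiff, map_mul, map_mul]
    calc W.valuation (z - x) * W.valuation S * W.valuation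
          (∑ j : Fin p, w j * (∑ i ∈ Finset.range (j : ℕ), z ^ i * x ^ ((j : ℕ) - 1 - i)))
        ≤ W.valuation (z - x) * W.valuation S * 1 :=
          mul_le_mul' le_rfl ((ValuationSubring.valuation_le_one_iff _ _).2 hu)
      _ = W.valuation (z - x) * W.valuation S := mul_one _
  have F2 : W.valuation (z - x) ^ p ≤ W.valuation ϖ ^ N := by
    rw [← map_pow, hzx, map_mul, map_pow]
    calc W.valuation ϖ ^ N * W.valuation z ≤ W.valuation ϖ ^ N * 1 := mul_le_mul' le_rfl hzv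
      _ = W.valuation ϖ ^ N := mul_one _
  exact order_core (W.valuation ϖ) _ (W.valuation S) (W.valuation (z - x)) p t N hN
    ((Valuation.ne_zero_iff _).2 hϖ0) hϖ ((Valuation.ne_zero_iff _).2 hS0) F1 F2

end Groth.Agent.H43.PI
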