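import Groth.Prelude.Def_ARSys
import Mathlib.CategoryTheory.Abelian.Refinements
import Mathlib.Algebra.Homology.ShortComplex.ShortExact
import Mathlib.CategoryTheory.Limits.FunctorCategory.EpiMono

/-!
# Image subobjects and refinements, for projective systems in an abelian category
-/

set_option autoImplicit false
universe v u

namespace Groth.Agent.H43

open CategoryTheory CategoryTheory.Limits Opposite ARSys

variable {C : Type u} [Category.{v} C] [Abelian C]

theorem imageSubobject_epi_comp {A' A B : C} (h : A' ⟶ A) [Epi h] (f : A ⟶ B) :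
    imageSubobject (h ≫ f) = imageSubobject f := by
  apply le_antisymm (imageSubobject_comp_le h f)
  have : IsIso (Subobject.ofLE _ _ (imageSubobject_comp_le h f)) := isIso_of_mono_of_epi _
  apply Subobject.le_of_comm (inv (Subobject.ofLE _ _ (imageSubobject_comp_le h f)))
  rw [IsIso.inv_comp_eq, Subobject.ofLE_arrow]

theorem image_le_of_refinement {A A' B W : C} (f : A ⟶ B) (f' : A' ⟶ B) (π : W ⟶ A) [Epi π]
    (k : W ⟶ A') (h : π ≫ f = k ≫ f') : imageSubobject f ≤ imageSubobject f' := by
  rw [← imageSubobject_epi_comp π f, h]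
  exact imageSubobject_comp_le k f'

theorem refinement_of_image_le {A A' B : C} (f : A ⟶ B) (f' : A' ⟶ B)
    (h : imageSubobject f ≤ imageSubobject f') {T : C} (a : T ⟶ A) :
    ∃ (W : C) (π : W ⟶ T) (_ : Epi π) (k : W ⟶ A'), π ≫ a ≫ f = k ≫ f' := by
  obtain ⟨W, π, hπ, k, fac⟩ := surjective_up_to_refinements_of_epi (factorThruImageSubobject f')
    (a ≫ factorThruImageSubobject f ≫ Subobject.ofLE _ _ h)
  refine ⟨W, π, hπ, k, ?_⟩
  have h1 : (a ≫ factorThruImageSubobject f ≫ Subobject.ofLE _ _ h) ≫ (imageSubobject f').arrow =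
      a ≫ f := by
    simp only [Category.assoc, Subobject.ofLE_arrow, imageSubobject_arrow_comp]
  calc π ≫ a ≫ f
      = π ≫ (a ≫ factorThruImageSubobject f ≫ Subobject.ofLE _ _ h) ≫
          (imageSubobject f').arrow := by rw [h1]
    _ = (π ≫ (a ≫ factorThruImageSubobject f ≫ Subobject.ofLE _ _ h)) ≫
          (imageSubobject f').arrow := by simp only [Category.assoc]
    _ = (k ≫ factorThruImageSubobject f') ≫ (imageSubobject f').arrow := by rw [fac]
    _ = k ≫ f' := by rw [Category.assoc, imageSubobject_arrow_comp]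

theorem image_comp_congr {A A' B D : C} {f : A ⟶ B} {f' : A' ⟶ B}
    (h : imageSubobject f = imageSubobject f') (g : B ⟶ D) :
    imageSubobject (f ≫ g) = imageSubobject (f' ≫ g) := by
  have key : ∀ {A₀ : C} (f₀ : A₀ ⟶ B),
      imageSubobject (f₀ ≫ g) = imageSubobject ((imageSubobject f₀).arrow ≫ g) := by
    intro A₀ f₀
    have e : f₀ ≫ g = factorThruImageSubobject f₀ ≫ ((imageSubobject f₀).arrow ≫ g) := by
      rw [← Category.assoc, imageSubobject_arrow_comp]
    rw [e]
    exact imageSubobject_epi_comp _ _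
  rw [key f, key f', h]

omit [Abelian C] in
theorem tr_comp (X : PS C) {n m p : ℕ} (h1 : n ≤ m) (h2 : m ≤ p) :
    tr X h2 ≫ tr X h1 = tr X (h1.trans h2) := by
  show X.map _ ≫ X.map _ = X.map _
  rw [← X.map_comp]
  congr 1

omit [Abelian C] in
theorem tr_naturality {X Y : PS C} (φ : X ⟶ Y) {n m : ℕ} (h : n ≤ m) :
    tr X h ≫ φ.app (op n) = φ.app (op m) ≫ tr Y h :=
  φ.naturality _

theorem mlar_flex {X : PS C} {r : ℕ}
    (hX : ∀ s : ℕ, r ≤ s → ∀ n : ℕ,
      imageSubobject (tr X (Nat.le_add_right n s)) = imageSubobject (tr X (Nat.le_add_right n r)))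
    (n m : ℕ) (h : n + r ≤ m) :
    imageSubobject (tr X (le_trans (Nat.le_add_right n r) h)) =
      imageSubobject (tr X (Nat.le_add_right n r)) := by
  obtain ⟨s, rfl⟩ : ∃ s, m = n + s := ⟨m - n, by omega⟩
  exact hX s (by omega) n

end Groth.Agent.H43
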