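import Groth.Agent.H43.LambdaAdams

/-!
# Logarithmic derivatives ("Adams coefficients") of power series with constant coefficient one

Series-level version of the Adams operations: for `F` with constant coefficient `1`,
`ld F = F' / F`, `psiS F k = (-1)^k * coeff k (ld F)` (the `(k+1)`-st Adams coefficient).
Truncation lemmas, behaviour under ring homomorphisms, products of `1 + w t`, and over `ℚ`-algebras
the operations on series corresponding to product (`wmul`), Adams twist (`frobS`) and exterior
powers (`lamS`) of elements of a λ-ring.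
-/

set_option autoImplicit false

namespace Groth.Agent.H43

open LambdaRing PowerSeries Finset

section LD

variable {R : Type*} [CommRing R]

/-- logarithmic derivative of a power series with constant coefficient one. -/
noncomputable def ld (F : PowerSeries R) : PowerSeries R :=
  derivative R F * F.invOfUnit 1

theorem logDerivSeries_eq_ld [LambdaOps R] (x : R) : logDerivSeries x = ld (lamSeries x) := rfl

theorem isUnit_of_constantCoeff {F : PowerSeries R} (hF : constantCoeff F = 1) : IsUnit F := by
  rw [PowerSeries.isUnit_iff_constantCoeff, hF]; exact isUnit_one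

theorem ld_mul_self {F : PowerSeries R} (hF : constantCoeff F = 1) :
    ld F * F = derivative R F := by
  unfold ld
  rw [mul_assoc, PowerSeries.invOfUnit_mul F 1 (by simpa using hF), mul_one]

theorem ld_unique {F H : PowerSeries R} (hF : constantCoeff F = 1)
    (h : H * F = derivative R F) : H = ld F := by
  apply (isUnit_of_constantCoeff hF).mul_left_injective
  simp only
  rw [h, ld_mul_self hF]

theorem constantCoeff_mul_eq_one {F G : PowerSeries R} (hF : constantCoeff F = 1)
    (hG : constantCoeff G = 1) : constantCoeff (F * G) = 1 := by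
  rw [map_mul, hF, hG, mul_one]

theorem ld_mul {F G : PowerSeries R} (hF : constantCoeff F = 1) (hG : constantCoeff G = 1) :
    ld (F * G) = ld F + ld G := by
  symm
  apply ld_unique (constantCoeff_mul_eq_one hF hG)
  rw [Derivation.leibniz, smul_eq_mul, smul_eq_mul, ← ld_mul_self hF, ← ld_mul_self hG]
  ring

theorem ld_one : ld (1 : PowerSeries R) = 0 := by
  symm
  apply ld_unique (by simp)
  simp

theorem constantCoeff_prod_eq_one {ι : Type*} (s : Finset ι) (F : ι → PowerSeries R)
    (hF : ∀ i ∈ s, constantCoeff (F i) = 1) : constantCoeff (∏ i ∈ s, F i) = 1 := by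
  rw [map_prod]
  exact Finset.prod_eq_one hF

theorem ld_prod {ι : Type*} (s : Finset ι) (F : ι → PowerSeries R)
    (hF : ∀ i ∈ s, constantCoeff (F i) = 1) :
    ld (∏ i ∈ s, F i) = ∑ i ∈ s, ld (F i) := by
  classical
  induction s using Finset.induction_on with
  | empty => simp [ld_one]
  | insert a s ha ih =>
    have hs : ∀ i ∈ s, constantCoeff (F i) = 1 := fun i hi => hF i (Finset.mem_insert_of_mem hi)
    rw [Finset.prod_insert ha, Finset.sum_insert ha,
      ld_mul (hF a (Finset.mem_insert_self a s)) (constantCoeff_prod_eq_one s F hs), ih hs]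

theorem constantCoeff_line (w : R) : constantCoeff (1 + C w * X : PowerSeries R) = 1 := by
  simp

theorem ld_line (w : R) :
    ld (1 + C w * X : PowerSeries R) = PowerSeries.mk fun k => (-1) ^ k * w ^ (k + 1) := by
  symm
  apply ld_unique (constantCoeff_line w)
  have hd : derivative R (1 + C w * X : PowerSeries R) = C w := by
    rw [map_add, Derivation.leibniz]
    simp
  rw [hd]
  ext k
  rw [mul_add, mul_one, map_add]
  cases k with
  | zero => simp
  | succ k =>
    rw [← mul_assoc, coeff_succ_mul_X, coeff_mk, mul_comm _ (C w), coeff_C_mul, coeff_mk, coeff_C,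
      if_neg (Nat.succ_ne_zero k)]
    ring

/-- the product `∏ (1 + w_i t)`. -/
noncomputable def lineProd {ι : Type*} (s : Finset ι) (w : ι → R) : PowerSeries R :=
  ∏ i ∈ s, (1 + C (w i) * X : PowerSeries R)

theorem constantCoeff_lineProd {ι : Type*} (s : Finset ι) (w : ι → R) :
    constantCoeff (lineProd s w) = 1 :=
  constantCoeff_prod_eq_one s _ (fun i _ => constantCoeff_line (w i))

theorem ld_lineProd {ι : Type*} (s : Finset ι) (w : ι → R) :
    ld (lineProd s w) = PowerSeries.mk fun k => (-1) ^ k * ∑ i ∈ s, w i ^ (k + 1) := by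
  unfold lineProd
  rw [ld_prod s _ (fun i _ => constantCoeff_line (w i))]
  ext k
  rw [map_sum, coeff_mk, Finset.mul_sum]
  apply Finset.sum_congr rfl
  intro i _
  rw [ld_line, coeff_mk]

theorem coeff_lineProd {ι : Type*} [DecidableEq ι] (s : Finset ι) (w : ι → R) (k : ℕ) :
    coeff k (lineProd s w) = ∑ t ∈ s.powersetCard k, ∏ i ∈ t, w i := by
  unfold lineProd
  simp_rw [add_comm (1 : PowerSeries R)]
  rw [Finset.prod_add, map_sum]
  simp only [Finset.prod_const_one, mul_one, Finset.prod_mul_distrib, Finset.prod_const]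
  rw [Finset.powersetCard_eq_filter, Finset.sum_filter]
  apply Finset.sum_congr rfl
  intro t _
  rw [← map_prod, PowerSeries.coeff_C_mul, PowerSeries.coeff_X_pow]
  split_ifs with h1 h2 h2
  · simp
  · exact absurd h1.symm h2
  · exact absurd h2.symm h1
  · simp

theorem map_derivative'' {R' : Type*} [CommRing R'] (φ : R →+* R') (S : PowerSeries R) :
    PowerSeries.map φ (derivative R S) = derivative R' (PowerSeries.map φ S) := by
  ext n
  simp [coeff_derivative]

theorem constantCoeff_map_eq_one {R' : Type*} [CommRing R'] (φ : R →+* R') {F : PowerSeries R}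
    (hF : constantCoeff F = 1) : constantCoeff (PowerSeries.map φ F) = 1 := by
  rw [← coeff_zero_eq_constantCoeff_apply, coeff_map, coeff_zero_eq_constantCoeff_apply, hF,
    map_one]

theorem map_ld {R' : Type*} [CommRing R'] (φ : R →+* R') {F : PowerSeries R}
    (hF : constantCoeff F = 1) : PowerSeries.map φ (ld F) = ld (PowerSeries.map φ F) := by
  apply ld_unique (constantCoeff_map_eq_one φ hF)
  rw [← map_mul, ld_mul_self hF, map_derivative'']

theorem map_lineProd {R' : Type*} [CommRing R'] (φ : R →+* R') {ι : Type*} (s : Finset ι)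
    (w : ι → R) : PowerSeries.map φ (lineProd s w) = lineProd s (fun i => φ (w i)) := by
  unfold lineProd
  rw [map_prod]
  apply Finset.prod_congr rfl
  intro i _
  rw [map_add, map_mul, map_one, PowerSeries.map_C, PowerSeries.map_X]

/-- The coefficients of `ld F` below degree `n` only depend on the coefficients of `F` up to
degree `n`. -/
theorem coeff_ld_congr {F G : PowerSeries R} (hF : constantCoeff F = 1)
    (hG : constantCoeff G = 1) (n : ℕ) (h : ∀ i ≤ n, coeff i F = coeff i G) :
    ∀ i < n, coeff i (ld F) = coeff i (ld G) := by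
  intro i
  induction i using Nat.strong_induction_on with
  | _ i ih =>
    intro hi
    have e1 := congrArg (coeff i) (ld_mul_self hF)
    have e2 := congrArg (coeff i) (ld_mul_self hG)
    rw [coeff_derivative, coeff_mul, Finset.Nat.sum_antidiagonal_eq_sum_range_succ_mk,
      Finset.sum_range_succ, Nat.sub_self, coeff_zero_eq_constantCoeff_apply] at e1 e2
    rw [hF, mul_one] at e1
    rw [hG, mul_one] at e2
    have hs : ∑ j ∈ range i, coeff j (ld F) * coeff (i - j) F =
        ∑ j ∈ range i, coeff j (ld G) * coeff (i - j) G := by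
      apply Finset.sum_congr rfl
      intro j hj
      have hj' := Finset.mem_range.mp hj
      rw [ih j hj' (by omega), h (i - j) (by omega)]
    rw [hs, h (i + 1) (by omega)] at e1
    rw [← e2] at e1
    exact add_left_cancel e1

/-- Over a ring in which positive integers are cancellable, the coefficients of `F` up to degree `n`
are determined by those of `ld F` below degree `n`. -/
theorem coeff_congr_of_ld (hR : ∀ (m : ℕ) (a b : R), a * ((m : R) + 1) = b * ((m : R) + 1) → a = b)
    {F G : PowerSeries R} (hF : constantCoeff F = 1)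
    (hG : constantCoeff G = 1) (n : ℕ) (h : ∀ i < n, coeff i (ld F) = coeff i (ld G)) :
    ∀ i ≤ n, coeff i F = coeff i G := by
  intro i
  induction i using Nat.strong_induction_on with
  | _ i ih =>
    intro hi
    cases i with
    | zero => rw [coeff_zero_eq_constantCoeff_apply, hF, coeff_zero_eq_constantCoeff_apply, hG]
    | succ i =>
      have e1 := congrArg (coeff i) (ld_mul_self hF)
      have e2 := congrArg (coeff i) (ld_mul_self hG)
      rw [coeff_derivative, coeff_mul, Finset.Nat.sum_antidiagonal_eq_sum_range_succ_mk] at e1 e2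
      have hs : ∑ j ∈ range (i + 1), coeff j (ld F) * coeff (i - j) F =
          ∑ j ∈ range (i + 1), coeff j (ld G) * coeff (i - j) G := by
        apply Finset.sum_congr rfl
        intro j hj
        have hj' := Finset.mem_range.mp hj
        rw [h j (by omega), ih (i - j) (by omega) (by omega)]
      rw [hs, e2] at e1
      exact (hR i _ _ e1).symm

theorem eq_of_ld_eq (hR : ∀ (m : ℕ) (a b : R), a * ((m : R) + 1) = b * ((m : R) + 1) → a = b)
    {F G : PowerSeries R} (hF : constantCoeff F = 1)
    (hG : constantCoeff G = 1) (h : ld F = ld G) : F = G := by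
  ext n
  exact coeff_congr_of_ld hR hF hG n (fun i _ => by rw [h]) n le_rfl

/-- `(k+1)`-st Adams coefficient of a series. -/
noncomputable def psiS (F : PowerSeries R) (k : ℕ) : R := (-1) ^ k * coeff k (ld F)

theorem neg_one_pow_mul_self (k : ℕ) : ((-1 : R) ^ k) * ((-1 : R) ^ k) = 1 := by
  rw [← mul_pow]; simp

theorem coeff_ld (F : PowerSeries R) (k : ℕ) : coeff k (ld F) = (-1) ^ k * psiS F k := by
  unfold psiS
  rw [← mul_assoc, neg_one_pow_mul_self, one_mul]

theorem psiS_of_ld {F : PowerSeries R} {g : ℕ → R} (h : ld F = PowerSeries.mk fun k => (-1) ^ k * g k)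
    (k : ℕ) : psiS F k = g k := by
  unfold psiS
  rw [h, coeff_mk, ← mul_assoc, neg_one_pow_mul_self, one_mul]

theorem adamsOp_succ_eq_psiS [LambdaOps R] (k : ℕ) (x : R) :
    adamsOp (k + 1) x = psiS (lamSeries x) k := rfl

theorem psiS_lineProd {ι : Type*} (s : Finset ι) (w : ι → R) (k : ℕ) :
    psiS (lineProd s w) k = ∑ i ∈ s, w i ^ (k + 1) :=
  psiS_of_ld (ld_lineProd s w) k

theorem psiS_map {R' : Type*} [CommRing R'] (φ : R →+* R') {F : PowerSeries R}
    (hF : constantCoeff F = 1) (k : ℕ) : psiS (PowerSeries.map φ F) k = φ (psiS F k) := by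
  unfold psiS
  rw [← map_ld φ hF, coeff_map, map_mul, map_pow, map_neg, map_one]

theorem psiS_congr {F G : PowerSeries R} (hF : constantCoeff F = 1)
    (hG : constantCoeff G = 1) (n : ℕ) (h : ∀ i ≤ n, coeff i F = coeff i G) (k : ℕ) (hk : k < n) :
    psiS F k = psiS G k := by
  unfold psiS
  rw [coeff_ld_congr hF hG n h k hk]

theorem psiS_mul {F G : PowerSeries R} (hF : constantCoeff F = 1) (hG : constantCoeff G = 1)
    (k : ℕ) : psiS (F * G) k = psiS F k + psiS G k := by
  unfold psiS
  rw [ld_mul hF hG, map_add, mul_add]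

theorem adamsOp_add [LambdaOps R] (k : ℕ) (x y : R) :
    adamsOp k (x + y) = adamsOp k x + adamsOp k y := by
  cases k with
  | zero => simp [adamsOp]
  | succ k =>
    rw [adamsOp_succ_eq_psiS, adamsOp_succ_eq_psiS, adamsOp_succ_eq_psiS, lamSeries_add,
      psiS_mul (constantCoeff_lamSeries x) (constantCoeff_lamSeries y)]

end LD

section RatAlg

variable {R : Type*} [CommRing R] [Algebra ℚ R]

theorem cancel_of_ratAlgebra (m : ℕ) (a b : R) (h : a * ((m : R) + 1) = b * ((m : R) + 1)) :
    a = b :=
  (isUnit_natCast_add_one m).mul_left_injective h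

theorem constantCoeff_odeSol (g : ℕ → R) : constantCoeff (odeSol g) = 1 := by
  rw [← coeff_zero_eq_constantCoeff_apply, odeSol, coeff_mk, odeCoeff_zero]

theorem ld_odeSol (g : ℕ → R) : ld (odeSol g) = PowerSeries.mk g :=
  (ld_unique (constantCoeff_odeSol g) (derivative_odeSol g).symm).symm

theorem psiS_odeSol (g : ℕ → R) (k : ℕ) : psiS (odeSol fun k => (-1) ^ k * g k) k = g k :=
  psiS_of_ld (ld_odeSol _) k

theorem eq_odeSol {F : PowerSeries R} (hF : constantCoeff F = 1) :
    F = odeSol fun k => (-1) ^ k * psiS F k := by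
  apply eq_of_ld_eq cancel_of_ratAlgebra hF (constantCoeff_odeSol _)
  rw [ld_odeSol]
  ext k
  rw [coeff_mk, coeff_ld]

theorem odeSol_congr (g g' : ℕ → R) (n : ℕ) (h : ∀ i < n, g i = g' i) :
    ∀ i ≤ n, coeff i (odeSol g) = coeff i (odeSol g') := by
  apply coeff_congr_of_ld cancel_of_ratAlgebra (constantCoeff_odeSol g) (constantCoeff_odeSol g')
  intro i hi
  rw [ld_odeSol, ld_odeSol, coeff_mk, coeff_mk, h i hi]

theorem map_odeSol {R' : Type*} [CommRing R'] [Algebra ℚ R'] (φ : R →+* R') (g : ℕ → R) :
    PowerSeries.map φ (odeSol g) = odeSol fun k => φ (g k) := by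
  apply eq_of_ld_eq cancel_of_ratAlgebra
    (constantCoeff_map_eq_one φ (constantCoeff_odeSol g)) (constantCoeff_odeSol _)
  rw [← map_ld φ (constantCoeff_odeSol g), ld_odeSol, ld_odeSol]
  ext k
  rw [coeff_map, coeff_mk, coeff_mk]

/-- the series whose Adams coefficients are the products of those of `F` and `G`. -/
noncomputable def wmul (F G : PowerSeries R) : PowerSeries R :=
  odeSol fun k => (-1) ^ k * (psiS F k * psiS G k)

theorem constantCoeff_wmul (F G : PowerSeries R) : constantCoeff (wmul F G) = 1 :=
  constantCoeff_odeSol _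

theorem psiS_wmul (F G : PowerSeries R) (k : ℕ) : psiS (wmul F G) k = psiS F k * psiS G k :=
  psiS_odeSol (fun k => psiS F k * psiS G k) k

theorem eq_wmul {H F G : PowerSeries R} (hH : constantCoeff H = 1)
    (h : ∀ k, psiS H k = psiS F k * psiS G k) : H = wmul F G := by
  rw [eq_odeSol hH]
  unfold wmul
  congr 1
  funext k
  rw [h k]

theorem wmul_congr {F G F' G' : PowerSeries R} (hF : constantCoeff F = 1)
    (hF' : constantCoeff F' = 1) (hG : constantCoeff G = 1) (hG' : constantCoeff G' = 1) (n : ℕ)
    (h1 : ∀ i ≤ n, coeff i F = coeff i F') (h2 : ∀ i ≤ n, coeff i G = coeff i G') :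
    ∀ i ≤ n, coeff i (wmul F G) = coeff i (wmul F' G') := by
  apply odeSol_congr
  intro i hi
  rw [psiS_congr hF hF' n h1 i hi, psiS_congr hG hG' n h2 i hi]

theorem map_wmul {R' : Type*} [CommRing R'] [Algebra ℚ R'] (φ : R →+* R') {F G : PowerSeries R}
    (hF : constantCoeff F = 1) (hG : constantCoeff G = 1) :
    PowerSeries.map φ (wmul F G) = wmul (PowerSeries.map φ F) (PowerSeries.map φ G) := by
  unfold wmul
  rw [map_odeSol]
  congr 1
  funext k
  rw [map_mul, map_mul, map_pow, map_neg, map_one, psiS_map φ hF, psiS_map φ hG]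

/-- the series whose `m`-th Adams coefficient is the `m(k+1)`-st of `F` (Adams twist `ψ^{k+1}`). -/
noncomputable def frobS (k : ℕ) (F : PowerSeries R) : PowerSeries R :=
  odeSol fun m => (-1) ^ m * psiS F (m * k + m + k)

theorem constantCoeff_frobS (k : ℕ) (F : PowerSeries R) : constantCoeff (frobS k F) = 1 :=
  constantCoeff_odeSol _

theorem psiS_frobS (k : ℕ) (F : PowerSeries R) (m : ℕ) :
    psiS (frobS k F) m = psiS F (m * k + m + k) :=
  psiS_odeSol (fun m => psiS F (m * k + m + k)) m

theorem eq_frobS {H F : PowerSeries R} (k : ℕ) (hH : constantCoeff H = 1)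
    (h : ∀ m, psiS H m = psiS F (m * k + m + k)) : H = frobS k F := by
  rw [eq_odeSol hH]
  unfold frobS
  congr 1
  funext m
  rw [h m]

theorem map_frobS {R' : Type*} [CommRing R'] [Algebra ℚ R'] (φ : R →+* R') (k : ℕ)
    {F : PowerSeries R} (hF : constantCoeff F = 1) :
    PowerSeries.map φ (frobS k F) = frobS k (PowerSeries.map φ F) := by
  unfold frobS
  rw [map_odeSol]
  congr 1
  funext m
  rw [map_mul, map_pow, map_neg, map_one, psiS_map φ hF]

/-- if `F` and `F'` agree up to degree `(i+1)(k+1) - 1`, their `ψ^{k+1}`-twists agree up to degree `i`;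
stated with a bound `n` with `i * (k+1) ≤ n`. -/
theorem frobS_congr {F F' : PowerSeries R} (hF : constantCoeff F = 1)
    (hF' : constantCoeff F' = 1) (k n i : ℕ) (hin : i * (k + 1) ≤ n)
    (h : ∀ l ≤ n, coeff l F = coeff l F') :
    ∀ l ≤ i, coeff l (frobS k F) = coeff l (frobS k F') := by
  apply odeSol_congr
  intro m hm
  rw [psiS_congr hF hF' n h (m * k + m + k)]
  have : (m + 1) * (k + 1) ≤ i * (k + 1) := Nat.mul_le_mul_right _ hm
  nlinarith

/-- the series corresponding to `λ^i` of an element with series `F`. -/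
noncomputable def lamS (i : ℕ) (F : PowerSeries R) : PowerSeries R :=
  odeSol fun k => (-1) ^ k * coeff i (frobS k F)

theorem constantCoeff_lamS (i : ℕ) (F : PowerSeries R) : constantCoeff (lamS i F) = 1 :=
  constantCoeff_odeSol _

theorem psiS_lamS (i : ℕ) (F : PowerSeries R) (k : ℕ) :
    psiS (lamS i F) k = coeff i (frobS k F) :=
  psiS_odeSol (fun k => coeff i (frobS k F)) k

theorem eq_lamS {H F : PowerSeries R} (i : ℕ) (hH : constantCoeff H = 1)
    (h : ∀ k, psiS H k = coeff i (frobS k F)) : H = lamS i F := by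
  rw [eq_odeSol hH]
  unfold lamS
  congr 1
  funext k
  rw [h k]

theorem map_lamS {R' : Type*} [CommRing R'] [Algebra ℚ R'] (φ : R →+* R') (i : ℕ)
    {F : PowerSeries R} (hF : constantCoeff F = 1) :
    PowerSeries.map φ (lamS i F) = lamS i (PowerSeries.map φ F) := by
  unfold lamS
  rw [map_odeSol]
  congr 1
  funext k
  rw [map_mul, map_pow, map_neg, map_one, ← map_frobS φ k hF, coeff_map]

theorem lamS_congr {F F' : PowerSeries R} (hF : constantCoeff F = 1)
    (hF' : constantCoeff F' = 1) (i j : ℕ)
    (h : ∀ l ≤ i * j, coeff l F = coeff l F') :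
    ∀ l ≤ j, coeff l (lamS i F) = coeff l (lamS i F') := by
  apply odeSol_congr
  intro k hk
  rw [frobS_congr hF hF' k (i * j) i (Nat.mul_le_mul_left i hk) h i le_rfl]

/-! ### the operations on products of `1 + w t` -/

theorem wmul_lineProd {ι κ : Type*} (s : Finset ι) (s' : Finset κ) (w : ι → R) (w' : κ → R) :
    wmul (lineProd s w) (lineProd s' w') =
      lineProd (s ×ˢ s') (fun p => w p.1 * w' p.2) := by
  symm
  apply eq_wmul (constantCoeff_lineProd _ _)
  intro k
  rw [psiS_lineProd, psiS_lineProd, psiS_lineProd, Finset.sum_product, Finset.sum_mul_sum]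
  apply Finset.sum_congr rfl
  intro a _
  apply Finset.sum_congr rfl
  intro b _
  rw [mul_pow]

theorem frobS_lineProd {ι : Type*} (k : ℕ) (s : Finset ι) (w : ι → R) :
    frobS k (lineProd s w) = lineProd s (fun a => w a ^ (k + 1)) := by
  symm
  apply eq_frobS k (constantCoeff_lineProd _ _)
  intro m
  rw [psiS_lineProd, psiS_lineProd]
  apply Finset.sum_congr rfl
  intro a _
  rw [← pow_mul]
  congr 1
  ring

theorem lamS_lineProd {ι : Type*} [DecidableEq ι] (i : ℕ) (s : Finset ι) (w : ι → R) :
    lamS i (lineProd s w) = lineProd (s.powersetCard i) (fun t => ∏ a ∈ t, w a) := by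
  symm
  apply eq_lamS i (constantCoeff_lineProd _ _)
  intro k
  rw [psiS_lineProd, frobS_lineProd, coeff_lineProd]
  apply Finset.sum_congr rfl
  intro t _
  rw [Finset.prod_pow]

end RatAlg

end Groth.Agent.H43
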