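import Groth.Agent.H43.UnivPoly

/-!
# Existence of the universal polynomials

Weighted homogeneity under substitution, partial symmetric functions (one family of variables
symmetric, a second family passive), and the homogeneity/symmetry of `mulGenR`, `compGenR`.
-/

set_option autoImplicit false

namespace Groth.Agent.H43

open LambdaRing Finset MvPolynomial

section WH

variable {σ τ M R : Type*} [CommRing R] [AddCommMonoid M]

theorem isWH_aeval (w : σ → M) (w' : τ → M) (g : σ → MvPolynomial τ R)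
    (hg : ∀ s, IsWeightedHomogeneous w' (g s) (w s)) {p : MvPolynomial σ R} {d : M}
    (hp : IsWeightedHomogeneous w p d) : IsWeightedHomogeneous w' (aeval g p) d := by
  have hsum := p.as_sum
  rw [hsum, map_sum]
  apply IsWeightedHomogeneous.sum
  intro v hv
  have hv' : Finsupp.weight w v = d := hp (mem_support_iff.mp hv)
  rw [aeval_monomial, algebraMap_eq]
  apply IsWeightedHomogeneous.C_mul
  rw [← hv', Finsupp.weight_apply]
  exact IsWeightedHomogeneous.prod v.support (fun i => g i ^ v i) (fun i => v i • w i)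
    (fun i _ => (hg i).pow (v i))

theorem whComponent_aeval (w : σ → M) (w' : τ → M) (g : σ → MvPolynomial τ R)
    (hg : ∀ s, IsWeightedHomogeneous w' (g s) (w s)) (d : M) (p : MvPolynomial σ R) :
    weightedHomogeneousComponent w' d (aeval g p) =
      aeval g (weightedHomogeneousComponent w d p) := by
  induction p using MvPolynomial.induction_on' with
  | monomial v a =>
    have h1 : IsWeightedHomogeneous w (monomial v a) (Finsupp.weight w v) :=
      isWeightedHomogeneous_monomial w v a rfl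
    have h2 := isWH_aeval w w' g hg h1
    by_cases h : Finsupp.weight w v = d
    · subst h
      rw [h1.weightedHomogeneousComponent_same, h2.weightedHomogeneousComponent_same]
    · rw [h1.weightedHomogeneousComponent_ne d (Ne.symm h),
        h2.weightedHomogeneousComponent_ne d (Ne.symm h), map_zero]
  | add p q hp hq => rw [map_add, map_add, hp, hq, map_add, map_add]

theorem sum_prod_isWH [Fintype σ] (f : σ → τ) (w' : τ → M) (c : M) (h : ∀ a, w' (f a) = c)
    (m : ℕ) :
    IsWeightedHomogeneous w'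
      (∑ t ∈ powersetCard m (univ : Finset σ), ∏ a ∈ t, (X (f a) : MvPolynomial τ R)) (m • c) := by
  apply IsWeightedHomogeneous.sum
  intro t ht
  have htc : t.card = m := (mem_powersetCard.mp ht).2
  have h1 := IsWeightedHomogeneous.prod t (fun a => (X (f a) : MvPolynomial τ R))
    (fun a => w' (f a)) (fun a _ => isWeightedHomogeneous_X R w' (f a))
  rw [Finset.sum_congr rfl (fun a _ => h a), Finset.sum_const, htc] at h1
  exact h1

theorem rename_esymm_isWH [Fintype σ] (f : σ → τ) (w' : τ → M) (c : M)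
    (h : ∀ a, w' (f a) = c) (m : ℕ) :
    IsWeightedHomogeneous w' (rename f (esymm σ R m)) (m • c) := by
  rw [rename_esymm_eq_sum]
  exact sum_prod_isWH f w' c h m

theorem esymm_isWH [Fintype σ] (w' : σ → M) (c : M) (h : ∀ a, w' a = c) (m : ℕ) :
    IsWeightedHomogeneous w' (esymm σ R m) (m • c) :=
  sum_prod_isWH (R := R) (fun a : σ => a) w' c h m

end WH

section Gen

theorem compGenR_isWH (R : Type*) [CommRing R] (N i j : ℕ) :
    IsWeightedHomogeneous (fun _ : Fin N => (1 : ℕ)) (compGenR R N i j) (i * j) := by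
  unfold compGenR
  apply IsWeightedHomogeneous.sum
  intro u hu
  obtain ⟨hu1, hu2⟩ := mem_powersetCard.mp hu
  have h1 : ∀ t ∈ u, IsWeightedHomogeneous (fun _ : Fin N => (1 : ℕ))
      (∏ a ∈ t, (X a : MvPolynomial (Fin N) R)) i := by
    intro t ht
    have htc : t.card = i := (mem_powersetCard.mp (hu1 ht)).2
    have h2 := IsWeightedHomogeneous.prod t (fun a => (X a : MvPolynomial (Fin N) R))
      (fun _ => (1 : ℕ)) (fun a _ => isWeightedHomogeneous_X R (fun _ : Fin N => (1 : ℕ)) a)
    rw [Finset.sum_const, htc, smul_eq_mul, mul_one] at h2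
    exact h2
  have h3 := IsWeightedHomogeneous.prod u
    (fun t => ∏ a ∈ t, (X a : MvPolynomial (Fin N) R)) (fun _ => i) h1
  rw [Finset.sum_const, hu2, smul_eq_mul, mul_comm] at h3
  exact h3

theorem mulGenR_isWH (R : Type*) [CommRing R] (N m : ℕ) :
    IsWeightedHomogeneous
      (Sum.elim (fun _ : Fin N => ((1, 0) : ℕ × ℕ)) (fun _ : Fin N => ((0, 1) : ℕ × ℕ)))
      (mulGenR R N m) ((m, m) : ℕ × ℕ) := by
  unfold mulGenR
  apply IsWeightedHomogeneous.sum
  intro t ht
  have htc : t.card = m := (mem_powersetCard.mp ht).2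
  have h2 := IsWeightedHomogeneous.prod t
    (fun p : Fin N × Fin N =>
      (X (Sum.inl p.1) * X (Sum.inr p.2) : MvPolynomial (Fin N ⊕ Fin N) R))
    (fun _ => ((1, 1) : ℕ × ℕ))
    (fun p _ => by
      have h1 := isWeightedHomogeneous_X R
        (Sum.elim (fun _ : Fin N => ((1, 0) : ℕ × ℕ)) (fun _ : Fin N => ((0, 1) : ℕ × ℕ)))
        (Sum.inl p.1)
      have h2 := isWeightedHomogeneous_X R
        (Sum.elim (fun _ : Fin N => ((1, 0) : ℕ × ℕ)) (fun _ : Fin N => ((0, 1) : ℕ × ℕ)))
        (Sum.inr p.2)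
      have h3 := h1.mul h2
      simpa using h3)
  rw [Finset.sum_const, htc] at h2
  simpa using h2

theorem compGenR_symm (N i j : ℕ) : (compGenR ℤ N i j).IsSymmetric := by
  intro e
  apply MvPolynomial.map_injective (Int.castRingHom ℚ) Int.cast_injective
  rw [MvPolynomial.map_rename, map_compGenR, ← iota1_univB i j N]
  unfold iota1
  rw [comp_aeval_apply]
  congr 2
  funext k
  exact rename_esymm (Fin N) ℚ _ e

theorem mulGenR_symm (N m : ℕ) (e e' : Equiv.Perm (Fin N)) :
    rename (Sum.map e e') (mulGenR ℤ N m) = mulGenR ℤ N m := by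
  apply MvPolynomial.map_injective (Int.castRingHom ℚ) Int.cast_injective
  rw [MvPolynomial.map_rename, map_mulGenR, ← iota2_univA m N]
  unfold iota2
  rw [comp_aeval_apply]
  congr 2
  funext s
  cases s with
  | inl k =>
    simp only [Sum.elim_inl]
    rw [rename_rename]
    have h : (Sum.map e e' ∘ (Sum.inl : Fin N → Fin N ⊕ Fin N)) = Sum.inl ∘ e := by
      funext a; rfl
    rw [h, ← rename_rename, rename_esymm]
  | inr k =>
    simp only [Sum.elim_inr]
    rw [rename_rename]
    have h : (Sum.map e e' ∘ (Sum.inr : Fin N → Fin N ⊕ Fin N)) = Sum.inr ∘ e' := by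
      funext a; rfl
    rw [h, ← rename_rename, rename_esymm]

end Gen

section PartialSymm

theorem int_hom_eq {σ B : Type*} [CommRing B] (f g : MvPolynomial σ ℤ →+* B)
    (hX : ∀ i, f (X i) = g (X i)) (p : MvPolynomial σ ℤ) : f p = g p :=
  MvPolynomial.hom_eq_hom f g (Subsingleton.elim _ _) hX p

/-- substitution of the elementary symmetric functions in a first family of `N` variables, a
second family of variables being kept. -/
noncomputable def iotaL (N : ℕ) (κ : Type*) :
    MvPolynomial (Fin N ⊕ κ) ℤ →ₐ[ℤ] MvPolynomial (Fin N ⊕ κ) ℤ :=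
  aeval (Sum.elim
    (fun k : Fin N => rename (Sum.inl : Fin N → Fin N ⊕ κ) (esymm (Fin N) ℤ ((k : ℕ) + 1)))
    (fun b : κ => X (Sum.inr b)))

theorem sumAlgEquiv_iotaL (N : ℕ) (κ : Type*) (p : MvPolynomial (Fin N ⊕ κ) ℤ) :
    sumAlgEquiv ℤ (Fin N) κ (iotaL N κ p) =
      aeval (R := MvPolynomial κ ℤ)
        (fun k : Fin N => esymm (Fin N) (MvPolynomial κ ℤ) ((k : ℕ) + 1))
        (sumAlgEquiv ℤ (Fin N) κ p) := by
  refine int_hom_eq
    ((RingHomClass.toRingHom (sumAlgEquiv ℤ (Fin N) κ)).comp (RingHomClass.toRingHom (iotaL N κ)))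
    ((RingHomClass.toRingHom (aeval (R := MvPolynomial κ ℤ)
        (fun k : Fin N => esymm (Fin N) (MvPolynomial κ ℤ) ((k : ℕ) + 1)))).comp
      (RingHomClass.toRingHom (sumAlgEquiv ℤ (Fin N) κ))) ?_ p
  intro s
  cases s with
  | inl k => simp [iotaL, rename_esymm_eq_sum, esymm_eq_sum, map_sum, map_prod]
  | inr b => simp [iotaL]

theorem sumAlgEquiv_rename (N : ℕ) (κ : Type*) (e : Equiv.Perm (Fin N))
    (p : MvPolynomial (Fin N ⊕ κ) ℤ) :
    sumAlgEquiv ℤ (Fin N) κ (rename (Sum.map e id) p) =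
      rename e (sumAlgEquiv ℤ (Fin N) κ p) := by
  refine int_hom_eq
    ((RingHomClass.toRingHom (sumAlgEquiv ℤ (Fin N) κ)).comp
      (RingHomClass.toRingHom (rename (R := ℤ) (Sum.map e (id : κ → κ)))))
    ((RingHomClass.toRingHom (rename (R := MvPolynomial κ ℤ) e)).comp
      (RingHomClass.toRingHom (sumAlgEquiv ℤ (Fin N) κ))) ?_ p
  intro s
  cases s with
  | inl k => simp
  | inr b => simp

theorem iotaL_injective (N : ℕ) (κ : Type*) : Function.Injective (iotaL N κ) := by
  intro p q h
  have h2 := congrArg (sumAlgEquiv ℤ (Fin N) κ) h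
  rw [sumAlgEquiv_iotaL, sumAlgEquiv_iotaL] at h2
  exact (sumAlgEquiv ℤ (Fin N) κ).injective
    (iota1_injective N N le_rfl (MvPolynomial κ ℤ) h2)

theorem iotaL_surj (N : ℕ) (κ : Type*) (G : MvPolynomial (Fin N ⊕ κ) ℤ)
    (hG : ∀ e : Equiv.Perm (Fin N), rename (Sum.map e id) G = G) :
    ∃ P, iotaL N κ P = G := by
  have hsymm : (sumAlgEquiv ℤ (Fin N) κ G).IsSymmetric := by
    intro e
    rw [← sumAlgEquiv_rename, hG e]
  obtain ⟨P', hP'⟩ := esymmAlgHom_surjective (σ := Fin N) (MvPolynomial κ ℤ) (n := N) (by simp)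
    ⟨sumAlgEquiv ℤ (Fin N) κ G, hsymm⟩
  have hP'' : aeval (R := MvPolynomial κ ℤ)
      (fun k : Fin N => esymm (Fin N) (MvPolynomial κ ℤ) ((k : ℕ) + 1)) P' =
      sumAlgEquiv ℤ (Fin N) κ G := by
    rw [← esymmAlgHom_apply, hP']
  refine ⟨(sumAlgEquiv ℤ (Fin N) κ).symm P', ?_⟩
  apply (sumAlgEquiv ℤ (Fin N) κ).injective
  rw [sumAlgEquiv_iotaL, AlgEquiv.apply_symm_apply, hP'']

theorem iotaL_rename (N : ℕ) (κ : Type*) (e : κ → κ) (p : MvPolynomial (Fin N ⊕ κ) ℤ) :
    iotaL N κ (rename (Sum.map id e) p) = rename (Sum.map id e) (iotaL N κ p) := by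
  refine int_hom_eq
    ((RingHomClass.toRingHom (iotaL N κ)).comp
      (RingHomClass.toRingHom (rename (R := ℤ) (Sum.map (id : Fin N → Fin N) e))))
    ((RingHomClass.toRingHom (rename (R := ℤ) (Sum.map (id : Fin N → Fin N) e))).comp
      (RingHomClass.toRingHom (iotaL N κ))) ?_ p
  intro s
  cases s with
  | inl k => simp [iotaL, rename_esymm_eq_sum, map_sum, map_prod]
  | inr b => simp [iotaL]

theorem iota2_swap (N : ℕ) (p : MvPolynomial (Fin N ⊕ Fin N) ℤ) :
    iota2 ℤ N N (rename Sum.swap p) =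
      iotaL N (Fin N) (rename Sum.swap (iotaL N (Fin N) p)) := by
  refine int_hom_eq
    ((RingHomClass.toRingHom (iota2 ℤ N N)).comp
      (RingHomClass.toRingHom (rename (R := ℤ) (Sum.swap : Fin N ⊕ Fin N → Fin N ⊕ Fin N))))
    ((RingHomClass.toRingHom (iotaL N (Fin N))).comp
      ((RingHomClass.toRingHom (rename (R := ℤ) (Sum.swap : Fin N ⊕ Fin N → Fin N ⊕ Fin N))).comp
        (RingHomClass.toRingHom (iotaL N (Fin N))))) ?_ p
  intro s
  cases s with
  | inl k => simp [iota2, iotaL, rename_esymm_eq_sum, map_sum, map_prod]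
  | inr k => simp [iota2, iotaL, rename_esymm_eq_sum, map_sum, map_prod]

/-- every polynomial symmetric in each of two families of `N` variables is a polynomial in the
elementary symmetric functions of the two families. -/
theorem iota2_surj (N : ℕ) (G : MvPolynomial (Fin N ⊕ Fin N) ℤ)
    (hG : ∀ e e' : Equiv.Perm (Fin N), rename (Sum.map e e') G = G) :
    ∃ P, iota2 ℤ N N P = G := by
  obtain ⟨P1, hP1⟩ := iotaL_surj N (Fin N) G (fun e => by
    have := hG e (Equiv.refl _)
    simpa using this)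
  have hP1s : ∀ e : Equiv.Perm (Fin N), rename (Sum.map id e) P1 = P1 := by
    intro e
    apply iotaL_injective
    rw [iotaL_rename, hP1]
    have := hG (Equiv.refl _) e
    simpa using this
  have hswap : ∀ e : Equiv.Perm (Fin N),
      rename (Sum.map e id) (rename Sum.swap P1) = rename Sum.swap P1 := by
    intro e
    rw [rename_rename]
    have h : (Sum.map (e : Fin N → Fin N) (id : Fin N → Fin N)) ∘ Sum.swap =
        Sum.swap ∘ Sum.map (id : Fin N → Fin N) (e : Fin N → Fin N) := by
      funext s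
      cases s <;> rfl
    rw [h, ← rename_rename, hP1s e]
  obtain ⟨P2, hP2⟩ := iotaL_surj N (Fin N) (rename Sum.swap P1) hswap
  refine ⟨rename Sum.swap P2, ?_⟩
  rw [iota2_swap, hP2, rename_rename]
  have h : (Sum.swap : Fin N ⊕ Fin N → Fin N ⊕ Fin N) ∘ Sum.swap = id := by
    funext s
    cases s <;> rfl
  rw [h, rename_id_apply, hP1]

end PartialSymm

end Groth.Agent.H43
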