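import Groth.Prelude.Def_LambdaRing
import Mathlib.Tactic.Ring
import Mathlib.Tactic.Linarith

set_option autoImplicit false
universe u

namespace Groth.Agent.H43

open LambdaRing Finset PowerSeries

variable {K : Type u} [CommRing K] [LambdaOps K]

theorem lamSeries_add (x y : K) : lamSeries (x + y) = lamSeries x * lamSeries y := by
  ext k
  simp only [lamSeries, coeff_mk, coeff_mul, LambdaOps.lam_add]
  rw [Finset.Nat.sum_antidiagonal_eq_sum_range_succ_mk]

theorem coeff_lamSeries (k : ℕ) (x : K) : coeff k (lamSeries x) = LambdaOps.lam k x := by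
  simp [lamSeries]

theorem constantCoeff_lamSeries (x : K) : constantCoeff (lamSeries x) = 1 := by
  rw [← coeff_zero_eq_constantCoeff_apply, coeff_lamSeries, LambdaOps.lam_zero]

theorem isUnit_lamSeries (x : K) : IsUnit (lamSeries x) := by
  rw [PowerSeries.isUnit_iff_constantCoeff, constantCoeff_lamSeries]; exact isUnit_one

theorem lamSeries_zero : lamSeries (0 : K) = 1 := by
  have h : lamSeries (0 : K) * lamSeries (0 : K) = lamSeries (0 : K) * 1 := by
    rw [← lamSeries_add, add_zero, mul_one]
  exact (isUnit_lamSeries (0 : K)).mul_left_cancel h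

theorem lamSeries_mul_neg (x : K) : lamSeries x * lamSeries (-x) = 1 := by
  rw [← lamSeries_add, add_neg_cancel, lamSeries_zero]

theorem lam_zero_arg (k : ℕ) : LambdaOps.lam k (0 : K) = if k = 0 then 1 else 0 := by
  have := congrArg (coeff k) (lamSeries_zero (K := K))
  rw [coeff_lamSeries, coeff_one] at this
  exact this

theorem lam_add_one (h1 : ∀ k : ℕ, 2 ≤ k → LambdaOps.lam k (1 : K) = 0) (k : ℕ) (z : K) :
    LambdaOps.lam (k + 1) (z + 1) = LambdaOps.lam (k + 1) z + LambdaOps.lam k z := by
  rw [LambdaOps.lam_add, Finset.sum_range_succ, Finset.sum_range_succ]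
  have h0 : ∑ i ∈ range k, LambdaOps.lam i z * LambdaOps.lam (k + 1 - i) (1 : K) = 0 := by
    apply Finset.sum_eq_zero
    intro i hi
    have := Finset.mem_range.mp hi
    rw [h1 _ (by omega), mul_zero]
  rw [h0, zero_add, Nat.sub_self, LambdaOps.lam_zero, show k + 1 - k = 1 by omega, LambdaOps.lam_one]
  ring

theorem lam_natCast (h1 : ∀ k : ℕ, 2 ≤ k → LambdaOps.lam k (1 : K) = 0) (m k : ℕ) :
    LambdaOps.lam k (m : K) = (Nat.choose m k : K) := by
  induction m generalizing k with
  | zero =>
    rw [Nat.cast_zero, lam_zero_arg]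
    cases k <;> simp
  | succ m ih =>
    cases k with
    | zero => simp [LambdaOps.lam_zero]
    | succ k =>
      rw [Nat.cast_succ, lam_add_one h1, ih, ih, Nat.choose_succ_succ]
      push_cast; ring

theorem lam_add_natCast (h1 : ∀ k : ℕ, 2 ≤ k → LambdaOps.lam k (1 : K) = 0) (k m : ℕ) (x : K) :
    LambdaOps.lam k (x + (m : K)) =
      ∑ i ∈ range (k + 1), LambdaOps.lam i x * (Nat.choose m (k - i) : K) := by
  rw [LambdaOps.lam_add]
  simp_rw [lam_natCast h1]

theorem lamSeries_one (h1 : ∀ k : ℕ, 2 ≤ k → LambdaOps.lam k (1 : K) = 0) :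
    lamSeries (1 : K) = 1 + X := by
  ext k
  rw [coeff_lamSeries, map_add, coeff_one, coeff_X]
  rcases k with _ | _ | k
  · simp [LambdaOps.lam_zero]
  · simp [LambdaOps.lam_one]
  · rw [h1 _ (by omega)]; simp

omit [LambdaOps K] in
/-- coefficients of the inverse of `1 + X`. -/
theorem coeff_invOfUnit_one_add_X (k : ℕ) :
    coeff k ((1 + X : PowerSeries K).invOfUnit 1) = (-1 : K) ^ k := by
  set g := (1 + X : PowerSeries K).invOfUnit 1 with hg
  have hmul : (1 + X : PowerSeries K) * g = 1 :=
    PowerSeries.mul_invOfUnit _ 1 (by simp)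
  induction k with
  | zero =>
    have := congrArg (coeff 0) hmul
    rw [add_mul, one_mul, map_add, coeff_zero_X_mul, add_zero, coeff_one] at this
    simpa using this
  | succ k ih =>
    have := congrArg (coeff (k + 1)) hmul
    rw [add_mul, one_mul, map_add, coeff_succ_X_mul, coeff_one, if_neg (Nat.succ_ne_zero k), ih] at this
    rw [pow_succ]
    linear_combination this

end Groth.Agent.H43
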