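import Groth.Agent.H43.MTFrame
import Groth.Agent.H91.MultGa
import Groth.Agent.H1.HomDiag.ClassifyLocal

/-! Local splitting of a homomorphism of groups of multiplicative type on the double cover. -/

set_option autoImplicit false
universe u
open CategoryTheory Limits AlgebraicGeometry MorphismProperty MonObj

namespace Groth.Agent.H43.MT

open Groth.Agent.H37.ChowFormal (JIso J_isMonHom)
open Groth.Agent.H91.MultGa (isoOfGrpIso)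

/-- transport of a splitting along a further base change -/
theorem split_bc {S : Scheme.{u}} (G : Over S) [GrpObj G] {O Y : Scheme.{u}} (gO : O ⟶ S)
    (M : Type) [AddCommGroup M] (e : Grp.mk (Red.bc gO G) ≅ Grp.mk (Red.DS O M)) (k : Y ⟶ O)
    (gY : Y ⟶ S) (hk : k ≫ gO = gY) :
    ∃ α : Red.bc gY G ≅ Red.DS Y M, IsMonHom α.hom ∧ IsMonHom α.inv := by
  let e₀ := isoOfGrpIso e
  let ε₁ := JIso k gO gY hk G
  let ε₂ := (Over.pullback k).mapIso e₀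
  let ε₃ := JIso k (Limits.IsTerminal.from specULiftZIsTerminal O)
    (Limits.IsTerminal.from specULiftZIsTerminal Y) (specULiftZIsTerminal.hom_ext _ _)
    (Red.diag (ULift.{u} ℤ) M)
  have hε₁ : IsMonHom ε₁.hom := J_isMonHom k gO gY hk G
  have hε₂ : IsMonHom ε₂.hom := by
    dsimp only [ε₂, Functor.mapIso_hom]
    infer_instance
  have hε₃ : IsMonHom ε₃.hom :=
    J_isMonHom k _ _ (specULiftZIsTerminal.hom_ext _ _) (Red.diag (ULift.{u} ℤ) M)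
  have hε₁' : IsMonHom ε₁.inv := inferInstance
  have hε₂' : IsMonHom ε₂.inv := inferInstance
  have hε₃' : IsMonHom ε₃.inv := inferInstance
  refine ⟨ε₁.symm ≪≫ ε₂ ≪≫ ε₃, ?_, ?_⟩
  · show IsMonHom (ε₁.inv ≫ ε₂.hom ≫ ε₃.hom)
    infer_instance
  · show IsMonHom ((ε₃.inv ≫ ε₂.inv) ≫ ε₁.hom)
    infer_instance

theorem locSplit {S : Scheme.{u}} (G H : Over S) [GrpObj G] [GrpObj H] (u : G ⟶ H) [IsMonHom u]
    {S₁ S₂ : Scheme.{u}} (f₁ : S₁ ⟶ S) (f₂ : S₂ ⟶ S)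
    (hG : ∀ s' : S₁, ∃ U : S₁.Opens, s' ∈ U ∧ ∃ (M : Type) (_ : AddCommGroup M), AddGroup.FG M ∧
      Nonempty (Grp.mk (Red.bc (U.ι ≫ f₁) G) ≅ Grp.mk (Red.DS (U : Scheme.{u}) M)))
    (hH : ∀ s' : S₂, ∃ U : S₂.Opens, s' ∈ U ∧ ∃ (M : Type) (_ : AddCommGroup M), AddGroup.FG M ∧
      Nonempty (Grp.mk (Red.bc (U.ι ≫ f₂) H) ≅ Grp.mk (Red.DS (U : Scheme.{u}) M)))
    (w : ↥(Limits.pullback f₁ f₂)) :
    ∃ (X : Scheme.{u}) (j : X ⟶ Limits.pullback f₁ f₂), IsOpenImmersion j ∧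
      w ∈ Set.range j.base ∧
      ∃ (N M : Type) (_ : AddCommGroup N) (_ : AddCommGroup M) (φ : N →+ M),
        Sim ((Over.pullback (j ≫ Limits.pullback.fst f₁ f₂ ≫ f₁)).map u) (Red.DSmap X φ) := by
  obtain ⟨O₁, hw₁, M, iM, -, ⟨e₁⟩⟩ := hG ((pullback.fst f₁ f₂).base w)
  obtain ⟨O₂, hw₂, N, iN, hNfg, ⟨e₂⟩⟩ := hH ((pullback.snd f₁ f₂).base w)
  obtain ⟨Yo, hYo⟩ : ∃ Yo : (pullback f₁ f₂).Opens,
      Yo = (pullback.fst f₁ f₂) ⁻¹ᵁ O₁ ⊓ (pullback.snd f₁ f₂) ⁻¹ᵁ O₂ := ⟨_, rfl⟩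
  have hwY : w ∈ Yo := by rw [hYo]; exact ⟨hw₁, hw₂⟩
  have hsub : ∀ z : ↥(pullback f₁ f₂), z ∈ Yo →
      ((pullback.fst f₁ f₂).base z ∈ O₁ ∧ (pullback.snd f₁ f₂).base z ∈ O₂) := by
    intro z hz
    rw [hYo] at hz
    exact hz
  have hr₁ : Set.range (Yo.ι ≫ pullback.fst f₁ f₂).base ⊆ Set.range O₁.ι.base := by
    rintro _ ⟨y, rfl⟩
    rw [Scheme.Opens.range_ι]
    exact (hsub y.1 y.2).1
  have hr₂ : Set.range (Yo.ι ≫ pullback.snd f₁ f₂).base ⊆ Set.range O₂.ι.base := by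
    rintro _ ⟨y, rfl⟩
    rw [Scheme.Opens.range_ι]
    exact (hsub y.1 y.2).2
  obtain ⟨k₁, hk₁⟩ : ∃ k₁ : (Yo : Scheme.{u}) ⟶ (O₁ : Scheme.{u}),
      k₁ ≫ O₁.ι = Yo.ι ≫ pullback.fst f₁ f₂ :=
    ⟨IsOpenImmersion.lift O₁.ι (Yo.ι ≫ pullback.fst f₁ f₂) hr₁, IsOpenImmersion.lift_fac _ _ _⟩
  obtain ⟨k₂, hk₂⟩ : ∃ k₂ : (Yo : Scheme.{u}) ⟶ (O₂ : Scheme.{u}),
      k₂ ≫ O₂.ι = Yo.ι ≫ pullback.snd f₁ f₂ :=
    ⟨IsOpenImmersion.lift O₂.ι (Yo.ι ≫ pullback.snd f₁ f₂) hr₂, IsOpenImmersion.lift_fac _ _ _⟩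
  obtain ⟨gY, hgY⟩ : ∃ gY : (Yo : Scheme.{u}) ⟶ S, gY = Yo.ι ≫ pullback.fst f₁ f₂ ≫ f₁ := ⟨_, rfl⟩
  have hg₁ : k₁ ≫ (O₁.ι ≫ f₁) = gY := by
    rw [hgY, ← Category.assoc, hk₁, Category.assoc]
  have hg₂ : k₂ ≫ (O₂.ι ≫ f₂) = gY := by
    rw [hgY, ← Category.assoc, hk₂, Category.assoc, ← pullback.condition]
  obtain ⟨α, hα, hα'⟩ := split_bc G (O₁.ι ≫ f₁) M e₁ k₁ gY hg₁
  obtain ⟨β, hβ, hβ'⟩ := split_bc H (O₂.ι ≫ f₂) N e₂ k₂ gY hg₂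
  have hu' : IsMonHom ((Over.pullback gY).map u) := inferInstance
  obtain ⟨v, hv⟩ : ∃ v : Red.DS (Yo : Scheme.{u}) M ⟶ Red.DS (Yo : Scheme.{u}) N,
      v = α.inv ≫ (Over.pullback gY).map u ≫ β.hom := ⟨_, rfl⟩
  have hvm : IsMonHom v := by rw [hv]; infer_instance
  obtain ⟨X, j', hj', hwj, φ, hs⟩ := Groth.Agent.H1.HomDiag.classify_local hNfg v ⟨w, hwY⟩
  have := hj'
  refine ⟨X, j' ≫ Yo.ι, inferInstance, ?_, N, M, iN, iM, φ, ?_⟩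
  · obtain ⟨x, hx⟩ := hwj
    refine ⟨x, ?_⟩
    show Yo.ι.base (j'.base x) = w
    rw [hx]
    rfl
  · have hsv : Sim ((Over.pullback gY).map u) v := by
      refine ⟨α, β, ?_⟩
      rw [hv, Iso.hom_inv_id_assoc]
    have t1 := Sim.bc_comp j' gY ((j' ≫ Yo.ι) ≫ pullback.fst f₁ f₂ ≫ f₁)
      (by rw [hgY, Category.assoc]) u
    exact (t1.symm.trans (Sim.map j' hsv)).trans hs

end Groth.Agent.H43.MT
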