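import Groth.Agent.H43.TQKerRing
import Groth.Agent.H91.KummerKer

/-! `D` turns a right exact sequence `N → A → M → 0` into a kernel (helper43, S16615, TQ-K2). -/

set_option autoImplicit false
universe u
open CategoryTheory Limits MonoidalCategory CartesianMonoidalCategory MonObj GrpObj AlgebraicGeometry

namespace Groth.Agent.H43.TQ

theorem isKernel_diag (k : Type u) [CommRing k] {N A M : Type} [AddCommGroup N] [AddCommGroup A]
    [AddCommGroup M] (incl : N →+ A) (φ : A →+ M) (hφ : Function.Surjective φ)
    (hex : ∀ a, φ a = 0 ↔ a ∈ incl.range) :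
    AlgGrp.IsKernel (Red.diagMap k φ) (Red.diagMap k incl) := by
  have hφ' : Function.Surjective (AddMonoidHom.toMultiplicative φ) := hφ
  have hex' : ∀ a : Multiplicative A, AddMonoidHom.toMultiplicative φ a = 1 ↔
      a ∈ (AddMonoidHom.toMultiplicative incl).range := by
    intro a
    have h := hex (Multiplicative.toAdd a)
    constructor
    · intro h1
      obtain ⟨n, hn⟩ := h.1 (by simpa using congrArg Multiplicative.toAdd h1)
      exact ⟨Multiplicative.ofAdd n, by simpa using congrArg Multiplicative.ofAdd hn⟩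
    · rintro ⟨n, hn⟩
      have h2 : Multiplicative.toAdd a ∈ incl.range :=
        ⟨Multiplicative.toAdd n, by simpa using congrArg Multiplicative.toAdd hn⟩
      simpa using congrArg Multiplicative.ofAdd (h.2 h2)
  have H := isPullback_SpecMap_of_isPushout _ _ _ _
    (KerRing.isPushout k (AddMonoidHom.toMultiplicative incl) (AddMonoidHom.toMultiplicative φ)
      hφ' hex')
  have e : Red.diagMap k φ ≫ Red.diagMap k incl = toUnit _ ≫ η[Red.diag k N] := by
    apply Over.OverMorphism.ext
    exact H.w
  exact IsPullback.of_map (Over.forget _) e H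

/-- (TQ-K2) -/
theorem isKernel_DSmap (X : Scheme.{u}) {N A M : Type} [AddCommGroup N] [AddCommGroup A]
    [AddCommGroup M] (incl : N →+ A) (φ : A →+ M) (hφ : Function.Surjective φ)
    (hex : ∀ a, φ a = 0 ↔ a ∈ incl.range) :
    AlgGrp.IsKernel (Red.DSmap X φ) (Red.DSmap X incl) :=
  Groth.Agent.H91.KerTorsor.isKernel_bc _ _ _ (isKernel_diag (ULift.{u} ℤ) incl φ hφ hex)

end Groth.Agent.H43.TQ
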