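import Mathlib

/-!
# An Adams–Riemann–Roch identity for monogenic algebras (helper library, seat helper43)

Pure commutative algebra.  `A` is a commutative ring, `p ∈ A[X]` monic of degree `r + 1`,
`B = AdjoinRoot p` with root `ℓ`, and `τ : B → A` the "top coefficient" functional
(`τ(ℓ^n) = δ_{n,r}` for `n ≤ r`).  Given ring endomorphisms `ψA` of `A` and `ψB` of `B`,
compatible, with `ψB ℓ = ℓ^j`, `j` invertible in `A` and `ℓ - 1` nilpotent, and `G` with
`(ψA p)(X^j) = p · G`, one has `ψA (τ z) = τ (ρ · ψB z)` for every `ρ` with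
`ρ · G(ℓ) = j ℓ^(j-1)` (`ART`).

The proof: Tate's dual basis lemma (`Theta_C_mul_Dp`), the identity
`E · (ψB D)(X^j) = D · G` for `D = p/(X - ℓ)` (`key_identity`), invertibility of
`E = Σ X^c ℓ^(j-1-c)` modulo `p` (`exists_inverse_mod`), and linear independence of the
`ℓ^(ij)`, `i ≤ r` (`pow_indep`).
-/

set_option autoImplicit false

namespace Groth.Agent.H43.ARR

open Polynomial

section Unip

variable {A B : Type*} [CommRing A] [CommRing B] [Algebra A B]

/-- `g(ℓ) = (ℓ - 1) g₁(ℓ) + g(1)`. -/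
theorem aeval_decomp (ℓ : B) (g : A[X]) :
    ∃ g₁ : A[X], aeval ℓ g = (ℓ - 1) * aeval ℓ g₁ + algebraMap A B (g.eval 1) := by
  refine ⟨(g - C (g.eval 1)) /ₘ (X - C 1), ?_⟩
  have hroot : IsRoot (g - C (g.eval 1)) 1 := by
    rw [IsRoot.def, eval_sub, eval_C, sub_self]
  have h := mul_divByMonic_eq_iff_isRoot.2 hroot
  have h2 := congrArg (aeval ℓ) h
  rw [map_mul, map_sub, map_sub, aeval_X, aeval_C, aeval_C, map_one] at h2
  rw [h2]; ring

/-- if `j` is invertible, `ℓ - 1` is nilpotent and a subalgebra contains `ℓ^j`, it contains `ℓ`. -/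
theorem mem_of_pow_mem (j : ℕ) (hj : IsUnit (j : A)) (ℓ : B) (hnil : IsNilpotent (ℓ - 1))
    (S : Subalgebra A B) (hS : ℓ ^ j ∈ S) : ℓ ∈ S := by
  obtain ⟨N, hN⟩ := hnil
  have key : ∀ d k : ℕ, k + d = N → ∀ g : A[X], (ℓ - 1) ^ k * aeval ℓ g ∈ S := by
    intro d
    induction d with
    | zero =>
      intro k hk g
      have hkN : k = N := by omega
      rw [hkN, hN, zero_mul]; exact S.zero_mem
    | succ d ih =>
      intro k hk g
      have ih' := ih (k + 1) (by omega)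
      have hpow : (ℓ - 1) ^ k ∈ S := by
        obtain ⟨g₁, hg₁⟩ :=
          aeval_decomp (A := A) ℓ ((∑ c ∈ Finset.range j, (X : A[X]) ^ c) ^ k)
        have hv : aeval ℓ (∑ c ∈ Finset.range j, (X : A[X]) ^ c) * (ℓ - 1) = ℓ ^ j - 1 := by
          rw [map_sum]
          simp only [map_pow, aeval_X]
          exact geom_sum_mul ℓ j
        have hev : ((∑ c ∈ Finset.range j, (X : A[X]) ^ c) ^ k).eval 1 = (j : A) ^ k := by
          simp [eval_pow, eval_finsetSum]
        rw [map_pow, hev] at hg₁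
        have h1 : (ℓ ^ j - 1) ^ k = (ℓ - 1) ^ (k + 1) * aeval ℓ g₁ +
            algebraMap A B ((j : A) ^ k) * (ℓ - 1) ^ k := by
          rw [← hv, mul_pow, hg₁]; ring
        have h2 : algebraMap A B ((j : A) ^ k) * (ℓ - 1) ^ k ∈ S := by
          have h3 : algebraMap A B ((j : A) ^ k) * (ℓ - 1) ^ k =
              (ℓ ^ j - 1) ^ k - (ℓ - 1) ^ (k + 1) * aeval ℓ g₁ := by
            rw [h1]; ring
          rw [h3]
          exact S.sub_mem (S.pow_mem (S.sub_mem hS S.one_mem) k) (ih' g₁)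
        obtain ⟨u, hu⟩ := hj.pow k
        have h4 : (ℓ - 1) ^ k =
            algebraMap A B (↑u⁻¹) * (algebraMap A B ((j : A) ^ k) * (ℓ - 1) ^ k) := by
          rw [← mul_assoc, ← map_mul, ← hu, Units.inv_mul, map_one, one_mul]
        rw [h4]
        exact S.mul_mem (S.algebraMap_mem _) h2
      obtain ⟨g₁, hg₁⟩ := aeval_decomp (A := A) ℓ g
      have e : (ℓ - 1) ^ k * aeval ℓ g = (ℓ - 1) ^ (k + 1) * aeval ℓ g₁ +
          algebraMap A B (g.eval 1) * (ℓ - 1) ^ k := by
        rw [hg₁]; ring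
      rw [e]
      exact S.add_mem (ih' g₁) (S.mul_mem (S.algebraMap_mem _) hpow)
  have h := key N 0 (by omega) X
  rwa [pow_zero, one_mul, aeval_X] at h

end Unip

section ART

variable {A : Type*} [CommRing A] {p : A[X]}

local notation "ℓ" => AdjoinRoot.root p
local notation "ι" => AdjoinRoot.of p

/-- induction along the power basis. -/
theorem pow_induction (hp : p.Monic) {M : AdjoinRoot p → Prop}
    (hpow : ∀ n : ℕ, n < p.natDegree → M (ℓ ^ n)) (hzero : M 0)
    (hadd : ∀ x y, M x → M y → M (x + y))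
    (hsmul : ∀ (a : A) x, M x → M (a • x)) (x : AdjoinRoot p) : M x := by
  have hx := (AdjoinRoot.powerBasis' hp).basis.mem_span x
  induction hx using Submodule.span_induction with
  | mem y hy =>
    obtain ⟨i, rfl⟩ := hy
    rw [PowerBasis.basis_eq_pow, AdjoinRoot.powerBasis'_gen]
    exact hpow i (lt_of_lt_of_eq i.2 (AdjoinRoot.powerBasis'_dim hp))
  | zero => exact hzero
  | add x y _ _ hx hy => exact hadd x y hx hy
  | smul a x _ hx => exact hsmul a x hx

theorem adjoinRoot_hom_ext {T : Type*} [Semiring T] (f₁ f₂ : AdjoinRoot p →+* T)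
    (h1 : ∀ a, f₁ (ι a) = f₂ (ι a)) (h2 : f₁ ℓ = f₂ ℓ) : f₁ = f₂ := by
  have h : f₁.comp (AdjoinRoot.mk p) = f₂.comp (AdjoinRoot.mk p) :=
    Polynomial.ringHom_ext (fun a => by simpa using h1 a) (by simpa using h2)
  refine RingHom.ext fun x => ?_
  obtain ⟨g, rfl⟩ := AdjoinRoot.mk_surjective x
  exact RingHom.congr_fun h g

/-- `Θ(Σ cᵢ Xⁱ) = Σ τ(cᵢ) • ℓⁱ`. -/
noncomputable def Theta (p : A[X]) (τ : AdjoinRoot p →ₗ[A] A) :
    (AdjoinRoot p)[X] →ₗ[A] AdjoinRoot p :=
  Polynomial.lsum fun n =>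
    (LinearMap.toSpanSingleton A (AdjoinRoot p) (AdjoinRoot.root p ^ n)).comp τ

theorem Theta_monomial (τ : AdjoinRoot p →ₗ[A] A) (n : ℕ) (c : AdjoinRoot p) :
    Theta p τ (monomial n c) = τ c • ℓ ^ n := by
  unfold Theta
  rw [Polynomial.lsum_apply, Polynomial.sum_monomial_index]
  · rfl
  · exact map_zero _

theorem Theta_X_mul (τ : AdjoinRoot p →ₗ[A] A) (g : (AdjoinRoot p)[X]) :
    Theta p τ (X * g) = ℓ * Theta p τ g := by
  induction g using Polynomial.induction_on' with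
  | add f g hf hg => rw [mul_add, map_add, map_add, hf, hg, mul_add]
  | monomial n c =>
    rw [X_mul_monomial, Theta_monomial, Theta_monomial, pow_succ', mul_smul_comm]

theorem Theta_X_pow_mul (τ : AdjoinRoot p →ₗ[A] A) (n : ℕ) (g : (AdjoinRoot p)[X]) :
    Theta p τ (X ^ n * g) = ℓ ^ n * Theta p τ g := by
  induction n with
  | zero => rw [pow_zero, one_mul, pow_zero, one_mul]
  | succ n ih => rw [pow_succ', mul_assoc, Theta_X_mul, ih, pow_succ', mul_assoc]

theorem Theta_C_of_mul (τ : AdjoinRoot p →ₗ[A] A) (a : A) (g : (AdjoinRoot p)[X]) :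
    Theta p τ (C (ι a) * g) = a • Theta p τ g := by
  induction g using Polynomial.induction_on' with
  | add f g hf hg => rw [mul_add, map_add, map_add, hf, hg, smul_add]
  | monomial n c =>
    have e : ι a * c = a • c := by rw [Algebra.smul_def, AdjoinRoot.algebraMap_eq]
    rw [C_mul_monomial, Theta_monomial, Theta_monomial, e, map_smul, smul_eq_mul, mul_smul]

theorem Theta_map_mul (τ : AdjoinRoot p →ₗ[A] A) (P : A[X]) (g : (AdjoinRoot p)[X]) :
    Theta p τ (P.map ι * g) = aeval ℓ P * Theta p τ g := by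
  induction P using Polynomial.induction_on' with
  | add f h hf hh => rw [Polynomial.map_add, add_mul, map_add, hf, hh, map_add, add_mul]
  | monomial n a =>
    have e1 : (monomial n a : A[X]).map ι = C (ι a) * X ^ n := by
      rw [Polynomial.map_monomial, C_mul_X_pow_eq_monomial]
    rw [e1, mul_assoc, Theta_C_of_mul, Theta_X_pow_mul, aeval_monomial, Algebra.smul_def,
      mul_assoc]

theorem Theta_p_mul (τ : AdjoinRoot p →ₗ[A] A) (g : (AdjoinRoot p)[X]) :
    Theta p τ (p.map ι * g) = 0 := by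
  rw [Theta_map_mul, AdjoinRoot.aeval_eq, AdjoinRoot.mk_self, zero_mul]

/-- `D = p / (X - ℓ)`. -/
noncomputable def Dp (p : A[X]) : (AdjoinRoot p)[X] :=
  p.map (AdjoinRoot.of p) /ₘ (X - C (AdjoinRoot.root p))

theorem Dp_spec (p : A[X]) : (X - C (AdjoinRoot.root p)) * Dp p = p.map (AdjoinRoot.of p) :=
  mul_divByMonic_eq_iff_isRoot.2 (AdjoinRoot.isRoot_root p)

theorem Cl_mul_Dp (p : A[X]) :
    C (AdjoinRoot.root p) * Dp p = X * Dp p - p.map (AdjoinRoot.of p) := by
  rw [← Dp_spec p]; ring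

/-- `p` is monic of degree `r + 1` and `τ` is the top-coefficient functional. -/
structure TopData (p : A[X]) (r : ℕ) (τ : AdjoinRoot p →ₗ[A] A) : Prop where
  monic : p.Monic
  deg : p.natDegree = r + 1
  top : ∀ n, n ≤ r → τ (AdjoinRoot.root p ^ n) = if n = r then 1 else 0

section Tate

variable [Nontrivial A] {r : ℕ} {τ : AdjoinRoot p →ₗ[A] A}

theorem nontrivial_of_tau (H : TopData p r τ) : Nontrivial (AdjoinRoot p) := by
  refine ⟨⟨ℓ ^ r, 0, fun h => ?_⟩⟩
  have h1 := H.top r le_rfl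
  rw [h, map_zero, if_pos rfl] at h1
  exact zero_ne_one h1

theorem natDegree_map_of (H : TopData p r τ) : (p.map ι).natDegree = r + 1 := by
  haveI := nontrivial_of_tau H
  rw [H.monic.natDegree_map, H.deg]

theorem natDegree_Dp (H : TopData p r τ) : (Dp p).natDegree = r := by
  haveI := nontrivial_of_tau H
  unfold Dp
  rw [natDegree_divByMonic _ (monic_X_sub_C _), natDegree_map_of H, natDegree_X_sub_C]
  rfl

theorem monic_Dp (H : TopData p r τ) : (Dp p).Monic := by
  have h : ((X - C ℓ) * Dp p).Monic := by rw [Dp_spec]; exact H.monic.map _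
  exact (monic_X_sub_C ℓ).of_mul_monic_left h

theorem tau_coeff_Dp (H : TopData p r τ) (i : ℕ) :
    τ ((Dp p).coeff i) = if i = 0 then 1 else 0 := by
  unfold Dp
  rw [coeff_divByMonic_X_sub_C, natDegree_map_of H, map_sum]
  have hterm : ∀ k ∈ Finset.Icc (i + 1) (r + 1),
      τ (ℓ ^ (k - (i + 1)) * (p.map ι).coeff k) = if k = r + 1 ∧ i = 0 then 1 else 0 := by
    intro k hk
    obtain ⟨hk1, hk2⟩ := Finset.mem_Icc.1 hk
    have e1 : ℓ ^ (k - (i + 1)) * (p.map ι).coeff k = p.coeff k • ℓ ^ (k - (i + 1)) := by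
      rw [coeff_map, Algebra.smul_def, AdjoinRoot.algebraMap_eq, mul_comm]
    rw [e1, map_smul, H.top _ (by omega), smul_eq_mul]
    by_cases h : k = r + 1 ∧ i = 0
    · obtain ⟨hk3, hi3⟩ := h
      subst hk3 hi3
      rw [if_pos (by omega), if_pos ⟨rfl, rfl⟩, mul_one, ← H.deg, H.monic.coeff_natDegree]
    · rw [if_neg h, if_neg (by omega), mul_zero]
  rw [Finset.sum_congr rfl hterm]
  by_cases hi : i = 0
  · subst hi
    rw [if_pos rfl, Finset.sum_eq_single_of_mem (r + 1) (Finset.mem_Icc.2 ⟨by omega, le_rfl⟩)]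
    · rw [if_pos ⟨rfl, rfl⟩]
    · intro k _ hk; rw [if_neg (fun h => hk h.1)]
  · rw [if_neg hi]
    apply Finset.sum_eq_zero
    intro k _; rw [if_neg (fun h => hi h.2)]

theorem Dp_eq_sum (H : TopData p r τ) :
    Dp p = ∑ i ∈ Finset.range (r + 1), monomial i ((Dp p).coeff i) :=
  (Dp p).as_sum_range' (r + 1) (by rw [natDegree_Dp H]; omega)

theorem Theta_Dp (H : TopData p r τ) : Theta p τ (Dp p) = 1 := by
  rw [Dp_eq_sum H, map_sum]
  simp only [Theta_monomial, tau_coeff_Dp H]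
  rw [Finset.sum_eq_single_of_mem 0 (Finset.mem_range.2 (by omega))]
  · rw [if_pos rfl, one_smul, pow_zero]
  · intro i _ hi; rw [if_neg hi, zero_smul]

theorem Theta_pow_mul_Dp (H : TopData p r τ) (n : ℕ) :
    Theta p τ (C (ℓ ^ n) * Dp p) = ℓ ^ n := by
  induction n with
  | zero => rw [pow_zero, C_1, one_mul, Theta_Dp H]
  | succ n ih =>
    have e : C (ℓ ^ (n + 1)) * Dp p = X * (C (ℓ ^ n) * Dp p) - p.map ι * C (ℓ ^ n) := by
      rw [pow_succ, C_mul, mul_assoc, Cl_mul_Dp]; ring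
    rw [e, map_sub, Theta_X_mul, ih, Theta_p_mul, sub_zero, pow_succ']

/-- Tate's dual basis lemma. -/
theorem Theta_C_mul_Dp (H : TopData p r τ) (x : AdjoinRoot p) :
    Theta p τ (C x * Dp p) = x := by
  refine pow_induction H.monic (M := fun x => Theta p τ (C x * Dp p) = x) ?_ ?_ ?_ ?_ x
  · intro n _; exact Theta_pow_mul_Dp H n
  · rw [C_0, zero_mul, map_zero]
  · intro x y hx hy; rw [C_add, add_mul, map_add, hx, hy]
  · intro a x hx
    have e : C (a • x) * Dp p = C (ι a) * (C x * Dp p) := by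
      rw [Algebra.smul_def, AdjoinRoot.algebraMap_eq, C_mul, mul_assoc]
    rw [e, Theta_C_of_mul, hx]

theorem Theta_Dp_mul (H : TopData p r τ) (y : AdjoinRoot p) (g : (AdjoinRoot p)[X]) :
    Theta p τ (C y * Dp p * g) = y * g.eval ℓ := by
  induction g using Polynomial.induction_on' with
  | add f h hf hh => rw [mul_add, map_add, hf, hh, eval_add, mul_add]
  | monomial n c =>
    have e : C y * Dp p * monomial n c = X ^ n * (C (y * c) * Dp p) := by
      rw [← C_mul_X_pow_eq_monomial, C_mul]; ring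
    rw [e, Theta_X_pow_mul, Theta_C_mul_Dp H, eval_monomial]; ring

end Tate

/-- `E = Σ_{c<j} X^c ℓ^(j-1-c)`, so that `E · (X - ℓ) = X^j - ℓ^j`. -/
noncomputable def Eg (p : A[X]) (j : ℕ) : (AdjoinRoot p)[X] :=
  ∑ c ∈ Finset.range j, X ^ c * (C (AdjoinRoot.root p)) ^ (j - 1 - c)

/-- `(ψB D)(X^j)`. -/
noncomputable def Xe (p : A[X]) (j : ℕ) (ψB : AdjoinRoot p →+* AdjoinRoot p) :
    (AdjoinRoot p)[X] :=
  expand (AdjoinRoot p) j ((Dp p).map ψB)

theorem eval_Eg (j : ℕ) : (Eg p j).eval ℓ = (j : AdjoinRoot p) * ℓ ^ (j - 1) := by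
  unfold Eg
  rw [eval_finsetSum]
  have h : ∀ c ∈ Finset.range j,
      (X ^ c * (C ℓ) ^ (j - 1 - c) : (AdjoinRoot p)[X]).eval ℓ = ℓ ^ (j - 1) := by
    intro c hc
    have := Finset.mem_range.1 hc
    rw [eval_mul, eval_pow, eval_pow, eval_X, eval_C, ← pow_add]
    congr 1; omega
  rw [Finset.sum_congr rfl h, Finset.sum_const, Finset.card_range, nsmul_eq_mul]

theorem key_identity (j : ℕ) (ψA : A →+* A) (ψB : AdjoinRoot p →+* AdjoinRoot p)
    (hψof : ∀ a, ψB (ι a) = ι (ψA a)) (hψℓ : ψB ℓ = ℓ ^ j)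
    (G : A[X]) (hG : expand A j (p.map ψA) = p * G) :
    Eg p j * Xe p j ψB = Dp p * G.map ι := by
  have hcomp : ψB.comp ι = (ι).comp ψA := RingHom.ext hψof
  have h1 : (X - C (ℓ ^ j)) * (Dp p).map ψB = (p.map ψA).map ι := by
    have h0 := congrArg (Polynomial.map ψB) (Dp_spec p)
    rw [Polynomial.map_mul, Polynomial.map_sub, Polynomial.map_X, Polynomial.map_C, hψℓ,
      Polynomial.map_map, hcomp, ← Polynomial.map_map] at h0
    exact h0
  have hR : expand (AdjoinRoot p) j ((p.map ψA).map ι) = p.map ι * G.map ι := by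
    rw [← Polynomial.map_expand, hG, Polynomial.map_mul]
  have h2 : (X ^ j - C (ℓ ^ j)) * Xe p j ψB = p.map ι * G.map ι := by
    have h0 := congrArg (expand (AdjoinRoot p) j) h1
    rw [map_mul, map_sub, expand_X, expand_C, hR] at h0
    exact h0
  have h3 : (X : (AdjoinRoot p)[X]) ^ j - C (ℓ ^ j) = Eg p j * (X - C ℓ) := by
    unfold Eg
    rw [C_pow, geom_sum₂_mul]
  have hreg := (monic_X_sub_C ℓ).isRegular.left
  apply hreg
  show (X - C ℓ) * (Eg p j * Xe p j ψB) = (X - C ℓ) * (Dp p * G.map ι)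
  rw [← mul_assoc (X - C ℓ) (Dp p), Dp_spec, ← h2, h3]; ring

theorem exists_inverse_mod (j : ℕ) (hj : IsUnit (j : A))
    (hnil : IsNilpotent (ℓ - 1)) :
    ∃ Es h : (AdjoinRoot p)[X], Eg p j * Es - 1 = p.map ι * h := by
  have ht : IsNilpotent (AdjoinRoot.root (p.map ι) - 1) := by
    obtain ⟨N, hN⟩ := hnil
    refine ⟨N, ?_⟩
    have h1 : ℓ - 1 = AdjoinRoot.mk p (X - 1) := by rw [map_sub, AdjoinRoot.mk_X, map_one]
    rw [h1, ← map_pow, AdjoinRoot.mk_eq_zero] at hN
    have h2 : p.map ι ∣ (X - 1) ^ N := by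
      have := Polynomial.map_dvd ι hN
      rwa [Polynomial.map_pow, Polynomial.map_sub, Polynomial.map_X, Polynomial.map_one] at this
    have h3 : AdjoinRoot.root (p.map ι) - 1 = AdjoinRoot.mk (p.map ι) (X - 1) := by
      rw [map_sub, AdjoinRoot.mk_X, map_one]
    rw [h3, ← map_pow, AdjoinRoot.mk_eq_zero]
    exact h2
  have hl : IsNilpotent (AdjoinRoot.of (p.map ι) ℓ - 1) := by
    have := hnil.map (AdjoinRoot.of (p.map ι))
    rwa [map_sub, map_one] at this
  have hπt : Ideal.Quotient.mk (nilradical (AdjoinRoot (p.map ι)))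
      (AdjoinRoot.root (p.map ι)) = 1 := by
    have h := Ideal.Quotient.eq_zero_iff_mem.2 (mem_nilradical.2 ht)
    rwa [map_sub, map_one, sub_eq_zero] at h
  have hπl : Ideal.Quotient.mk (nilradical (AdjoinRoot (p.map ι)))
      (AdjoinRoot.of (p.map ι) ℓ) = 1 := by
    have h := Ideal.Quotient.eq_zero_iff_mem.2 (mem_nilradical.2 hl)
    rwa [map_sub, map_one, sub_eq_zero] at h
  have hπE : Ideal.Quotient.mk (nilradical (AdjoinRoot (p.map ι)))
      (AdjoinRoot.mk (p.map ι) (Eg p j)) = (j : AdjoinRoot (p.map ι) ⧸ nilradical _) := by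
    unfold Eg
    rw [map_sum, map_sum]
    simp only [map_mul, map_pow, AdjoinRoot.mk_X, AdjoinRoot.mk_C, hπt, hπl, one_pow, mul_one]
    simp
  have hnilE : IsNilpotent (AdjoinRoot.mk (p.map ι) (Eg p j) - (j : AdjoinRoot (p.map ι))) := by
    rw [← mem_nilradical, ← Ideal.Quotient.eq_zero_iff_mem, map_sub, hπE, map_natCast, sub_self]
  have hjQ : IsUnit (j : AdjoinRoot (p.map ι)) := by
    have := (hj.map ι).map (AdjoinRoot.of (p.map ι))
    rwa [map_natCast, map_natCast] at this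
  have hE : IsUnit (AdjoinRoot.mk (p.map ι) (Eg p j)) := by
    have e : AdjoinRoot.mk (p.map ι) (Eg p j) = (j : AdjoinRoot (p.map ι)) +
        (AdjoinRoot.mk (p.map ι) (Eg p j) - (j : AdjoinRoot (p.map ι))) := by ring
    rw [e]
    exact hnilE.isUnit_add_left_of_commute hjQ (Commute.all _ _)
  obtain ⟨v, hv⟩ := hE.exists_right_inv
  obtain ⟨Es, rfl⟩ := AdjoinRoot.mk_surjective v
  have h0 : AdjoinRoot.mk (p.map ι) (Eg p j * Es - 1) = 0 := by
    rw [map_sub, map_mul, hv, map_one, sub_self]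
  rw [AdjoinRoot.mk_eq_zero] at h0
  obtain ⟨h, hh⟩ := h0
  exact ⟨Es, h, hh⟩

/-- linear independence of `ℓ^(ij)`, `i ≤ r`. -/
theorem pow_indep [Nontrivial A] (hp : p.Monic) (r : ℕ) (hdeg : p.natDegree = r + 1) (j : ℕ)
    (hj : IsUnit (j : A)) (hnil : IsNilpotent (ℓ - 1))
    (F : A[X]) (hFm : F.Monic) (hFd : F.natDegree = r + 1) (hFroot : aeval (ℓ ^ j) F = 0)
    (c : ℕ → A) (h : ∑ i ∈ Finset.range (r + 1), c i • ℓ ^ (i * j) = 0) :
    ∀ i, i ≤ r → c i = 0 := by
  classical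
  let Λ : degreeLT A (r + 1) →ₗ[A] AdjoinRoot p :=
    (aeval (R := A) (ℓ ^ j)).toLinearMap.domRestrict (degreeLT A (r + 1))
  let i₀ : degreeLT A (r + 1) →ₗ[A] AdjoinRoot p :=
    (aeval (R := A) ℓ).toLinearMap.domRestrict (degreeLT A (r + 1))
  have hi₀ : Function.Injective i₀ := by
    rw [injective_iff_map_eq_zero]
    rintro ⟨g, hg⟩ h0
    have h1 : AdjoinRoot.mk p g = 0 := by rw [← AdjoinRoot.aeval_eq]; exact h0
    rw [AdjoinRoot.mk_eq_zero] at h1
    have hg' : g.degree < ((r + 1 : ℕ) : WithBot ℕ) := mem_degreeLT.1 hg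
    by_contra hne
    have hg0 : g ≠ 0 := fun h => hne (Subtype.ext h)
    exact hp.not_dvd_of_degree_lt hg0
      (by rw [degree_eq_natDegree hp.ne_zero, hdeg]; exact hg') h1
  have hΛ : Function.Surjective Λ := by
    intro x
    have hS : (⊤ : Subalgebra A (AdjoinRoot p)) ≤ (aeval (R := A) (ℓ ^ j)).range := by
      rw [← AdjoinRoot.adjoinRoot_eq_top, Algebra.adjoin_le_iff]
      intro x hx
      rw [Set.mem_singleton_iff] at hx
      subst hx
      exact mem_of_pow_mem j hj ℓ hnil _ ⟨X, aeval_X _⟩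
    obtain ⟨g, rfl⟩ := hS (Algebra.mem_top : x ∈ ⊤)
    refine ⟨⟨g %ₘ F, mem_degreeLT.2 ?_⟩, ?_⟩
    · have := degree_modByMonic_lt g hFm
      rwa [degree_eq_natDegree hFm.ne_zero, hFd] at this
    · show aeval (ℓ ^ j) (g %ₘ F) = aeval (ℓ ^ j) g
      conv_rhs => rw [← modByMonic_add_div g F]
      rw [map_add, map_mul, hFroot, zero_mul, add_zero]
  have hfin : Module.Finite A (AdjoinRoot p) := hp.finite_adjoinRoot
  have hinj := OrzechProperty.injective_of_surjective_of_injective i₀ Λ hi₀ hΛ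
  have hg : (∑ i ∈ Finset.range (r + 1), C (c i) * X ^ i : A[X]) ∈ degreeLT A (r + 1) := by
    apply Submodule.sum_mem
    intro i hi
    rw [mem_degreeLT]
    exact (degree_C_mul_X_pow_le i (c i)).trans_lt
      (by exact_mod_cast Finset.mem_range.1 hi)
  have hΛg : Λ ⟨_, hg⟩ = 0 := by
    show aeval (ℓ ^ j) (∑ i ∈ Finset.range (r + 1), C (c i) * X ^ i : A[X]) = 0
    rw [map_sum, ← h]
    apply Finset.sum_congr rfl
    intro i _
    rw [map_mul, aeval_C, map_pow, aeval_X, ← pow_mul, Algebra.smul_def, mul_comm j i]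
  have h0 : (⟨_, hg⟩ : degreeLT A (r + 1)) = 0 := hinj (by rw [hΛg, map_zero])
  have hg0 : (∑ i ∈ Finset.range (r + 1), C (c i) * X ^ i : A[X]) = 0 :=
    congrArg Subtype.val h0
  intro i hi
  have h1 := congrArg (fun q => q.coeff i) hg0
  simp only [finsetSum_coeff, coeff_C_mul_X_pow, coeff_zero] at h1
  rw [Finset.sum_ite_eq, if_pos (Finset.mem_range.2 (by omega))] at h1
  exact h1

/-- the abstract Adams–Riemann–Roch identity for the top-coefficient functional. -/
theorem ART {r : ℕ} {τ : AdjoinRoot p →ₗ[A] A} (H : TopData p r τ) (j : ℕ)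
    (hj : IsUnit (j : A))
    (ψA : A →+* A) (ψB : AdjoinRoot p →+* AdjoinRoot p)
    (hψof : ∀ a, ψB (ι a) = ι (ψA a)) (hψℓ : ψB ℓ = ℓ ^ j)
    (G : A[X]) (hG : expand A j (p.map ψA) = p * G)
    (hnil : IsNilpotent (ℓ - 1))
    (ρ : AdjoinRoot p) (hρ : ρ * (G.map ι).eval ℓ = (j : AdjoinRoot p) * ℓ ^ (j - 1))
    (z : AdjoinRoot p) : ψA (τ z) = τ (ρ * ψB z) := by
  nontriviality A
  have hp := H.monic
  have hdeg := H.deg
  have hkey : Eg p j * Xe p j ψB = Dp p * G.map ι := key_identity j ψA ψB hψof hψℓ G hG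
  obtain ⟨Es, h, hEs⟩ := exists_inverse_mod (p := p) j hj hnil
  have hEl := eval_Eg (p := p) j
  have hEsl : (Eg p j).eval ℓ * Es.eval ℓ = 1 := by
    have h0 := congrArg (eval ℓ) hEs
    rw [eval_sub, eval_mul, eval_one, eval_mul, (AdjoinRoot.isRoot_root p).eq_zero, zero_mul,
      sub_eq_zero] at h0
    exact h0
  have h4 : ∀ y : AdjoinRoot p, Theta p τ (C (ρ * y) * Xe p j ψB) = y := by
    intro y
    have e0 : Xe p j ψB = Es * (Eg p j * Xe p j ψB) - (Eg p j * Es - 1) * Xe p j ψB := by ring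
    rw [hkey, hEs] at e0
    have e : C (ρ * y) * Xe p j ψB = C (ρ * y) * Dp p * (Es * G.map ι) -
        p.map ι * (C (ρ * y) * h * Xe p j ψB) := by
      calc C (ρ * y) * Xe p j ψB
          = C (ρ * y) * (Es * (Dp p * G.map ι) - p.map ι * h * Xe p j ψB) := by rw [← e0]
        _ = _ := by ring
    rw [e, map_sub, Theta_p_mul, sub_zero, Theta_Dp_mul H, eval_mul]
    have e2 : ρ * y * (Es.eval ℓ * (G.map ι).eval ℓ) =
        y * (Es.eval ℓ * (ρ * (G.map ι).eval ℓ)) := by ring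
    rw [e2, hρ, ← hEl, mul_comm (Es.eval ℓ), hEsl, mul_one]
  have hD := Dp_eq_sum H
  have hXe : Xe p j ψB =
      ∑ i ∈ Finset.range (r + 1), monomial (i * j) (ψB ((Dp p).coeff i)) := by
    unfold Xe
    conv_lhs => rw [hD]
    rw [Polynomial.map_sum, map_sum]
    apply Finset.sum_congr rfl
    intro i _
    rw [Polynomial.map_monomial, expand_monomial]
  have hz : z = ∑ i ∈ Finset.range (r + 1), τ (z * (Dp p).coeff i) • ℓ ^ i := by
    have h1 := Theta_C_mul_Dp H z
    refine h1.symm.trans ?_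
    conv_lhs => rw [hD, Finset.mul_sum, map_sum]
    apply Finset.sum_congr rfl
    intro i _
    rw [C_mul_monomial, Theta_monomial]
  have hA : ψB z =
      ∑ i ∈ Finset.range (r + 1), ψA (τ (z * (Dp p).coeff i)) • ℓ ^ (i * j) := by
    conv_lhs => rw [hz]
    rw [map_sum]
    apply Finset.sum_congr rfl
    intro i _
    rw [Algebra.smul_def, map_mul, AdjoinRoot.algebraMap_eq, hψof, map_pow, hψℓ, ← pow_mul,
      Algebra.smul_def, AdjoinRoot.algebraMap_eq, mul_comm j i]
  have hB : ψB z = ∑ i ∈ Finset.range (r + 1),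
      τ (ρ * ψB z * ψB ((Dp p).coeff i)) • ℓ ^ (i * j) := by
    refine (h4 (ψB z)).symm.trans ?_
    rw [hXe, Finset.mul_sum, map_sum]
    apply Finset.sum_congr rfl
    intro i _
    rw [C_mul_monomial, Theta_monomial]
  have hsum : ∑ i ∈ Finset.range (r + 1),
      (ψA (τ (z * (Dp p).coeff i)) - τ (ρ * ψB z * ψB ((Dp p).coeff i))) • ℓ ^ (i * j) = 0 := by
    simp only [sub_smul, Finset.sum_sub_distrib]
    rw [← hA, ← hB, sub_self]
  have hFroot : aeval (ℓ ^ j) (p.map ψA) = 0 := by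
    rw [← expand_aeval, hG, map_mul, AdjoinRoot.aeval_eq, AdjoinRoot.mk_self, zero_mul]
  have hc := pow_indep hp r hdeg j hj hnil (p.map ψA) (hp.map ψA)
    (by rw [hp.natDegree_map, hdeg]) hFroot _ hsum r le_rfl
  have hbr : (Dp p).coeff r = 1 := by
    have hm := monic_Dp H
    have hnd := natDegree_Dp H
    rw [← hnd]; exact hm.coeff_natDegree
  simp only [hbr, mul_one, map_one] at hc
  exact sub_eq_zero.1 hc

end ART

end Groth.Agent.H43.ARR
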