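import Groth.Agent.H43.ARRAlg

/-!
# Base change of the abstract Adams–Riemann–Roch identity to `ℤ[1/j] ⊗ K`
(helper library, seat helper43)

`K` a commutative ring, `p ∈ K[X]` monic of degree `r + 1`, `B = AdjoinRoot p`.  We transport
`ART` along `K → ℤ[1/j] ⊗ K`, `B → AdjoinRoot (p.map _)`, and express the result on
`ℤ[1/j] ⊗ B` (theorem `BC`).

Technical point: the type `TensorProduct ℤ (Localization.Away (j : ℤ)) M` elaborates with the
module structures `AddCommGroup.toIntModule`, and for `Localization.Away (j : ℤ)` this is *not*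
definitionally the module structure of the default algebra instance `OreLocalization.instAlgebra`;
so instance synthesis does not find a ring structure on it.  We use the algebra structure
`Ring.toIntAlgebra` on `ℤ[1/j]` instead (`locIntAlgebra`), and wrap the tensor product in a type
synonym `TR j M` carrying the resulting commutative ring structure.
-/

set_option autoImplicit false

namespace Groth.Agent.H43.ARR

open Polynomial TensorProduct

/-- a ring hom between `ℤ`-algebras (arbitrary instances) as a `ℤ`-algebra hom. -/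
def intAlgHom {R S : Type*} [Ring R] [Ring S] [Algebra ℤ R] [Algebra ℤ S] (f : R →+* S) :
    R →ₐ[ℤ] S :=
  { f with
    commutes' := fun n => by
      show f (algebraMap ℤ R n) = algebraMap ℤ S n
      rw [eq_intCast (algebraMap ℤ R) n, eq_intCast (algebraMap ℤ S) n, map_intCast] }

theorem intAlgHom_apply {R S : Type*} [Ring R] [Ring S] [Algebra ℤ R] [Algebra ℤ S]
    (f : R →+* S) (x : R) : intAlgHom f x = f x := rfl

theorem isUnit_natCast_loc (j : ℕ) : IsUnit ((j : ℕ) : Localization.Away (j : ℤ)) := by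
  have h1 : IsUnit (algebraMap ℤ (Localization.Away (j : ℤ)) (j : ℤ)) :=
    IsLocalization.Away.algebraMap_isUnit (j : ℤ)
  rwa [map_natCast] at h1

/-- the `ℤ`-algebra structure on `ℤ[1/j]` whose scalar action is `zsmul`; it is the one
definitionally compatible with `AddCommGroup.toIntModule`. -/
abbrev locIntAlgebra (j : ℕ) : Algebra ℤ (Localization.Away (j : ℤ)) := Ring.toIntAlgebra _

attribute [local instance 10000] locIntAlgebra

/-- `ℤ[1/j] ⊗ M` as a type synonym carrying its commutative ring structure. -/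
def TR (j : ℕ) (M : Type*) [CommRing M] : Type _ :=
  TensorProduct ℤ (Localization.Away (j : ℤ)) M

noncomputable instance TR.instCommRing (j : ℕ) (M : Type*) [CommRing M] : CommRing (TR j M) :=
  inferInstanceAs (CommRing (TensorProduct ℤ (Localization.Away (j : ℤ)) M))

noncomputable section

namespace TR

variable {j : ℕ} {M N : Type*} [CommRing M] [CommRing N]

/-- `s ⊗ a`. -/
def tmul (s : Localization.Away (j : ℤ)) (a : M) : TR j M := s ⊗ₜ[ℤ] a

theorem tmul_mul_tmul (s t : Localization.Away (j : ℤ)) (a b : M) :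
    (tmul s a : TR j M) * tmul t b = tmul (s * t) (a * b) :=
  Algebra.TensorProduct.tmul_mul_tmul _ _ _ _

theorem one_def : (1 : TR j M) = tmul 1 1 := rfl

theorem induction_on {motive : TR j M → Prop} (z : TR j M) (zero : motive 0)
    (tmul : ∀ s a, motive (tmul s a)) (add : ∀ x y, motive x → motive y → motive (x + y)) :
    motive z :=
  TensorProduct.induction_on z zero tmul add

/-- `1 ⊗ f` for an additive map `f`. -/
def map (f : M →+ N) : TR j M →+ TR j N :=
  (LinearMap.lTensor (Localization.Away (j : ℤ)) f.toIntLinearMap).toAddMonoidHom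

theorem map_tmul (f : M →+ N) (s : Localization.Away (j : ℤ)) (a : M) :
    map f (tmul s a : TR j M) = tmul s (f a) := rfl

/-- `a ↦ 1 ⊗ a`. -/
def incA (M : Type*) [CommRing M] (j : ℕ) : M →+* TR j M :=
  (Algebra.TensorProduct.includeRight :
    M →ₐ[ℤ] TensorProduct ℤ (Localization.Away (j : ℤ)) M).toRingHom

theorem incA_apply (a : M) : incA M j a = tmul 1 a := rfl

/-- `s ↦ s ⊗ 1`. -/
def incL (M : Type*) [CommRing M] (j : ℕ) : Localization.Away (j : ℤ) →+* TR j M :=
  (Algebra.TensorProduct.includeLeftRingHom :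
    Localization.Away (j : ℤ) →+* TensorProduct ℤ (Localization.Away (j : ℤ)) M)

theorem incL_apply (s : Localization.Away (j : ℤ)) : incL M j s = tmul s 1 := rfl

theorem isUnit_natCast (M : Type*) [CommRing M] (j : ℕ) : IsUnit ((j : ℕ) : TR j M) := by
  have h2 := (isUnit_natCast_loc j).map (incL M j)
  rwa [map_natCast] at h2

/-- `1 ⊗ φ` for a ring hom `φ`. -/
def mapRing (φ : M →+* N) : TR j M →+* TR j N :=
  (Algebra.TensorProduct.map (AlgHom.id ℤ (Localization.Away (j : ℤ)))
    (intAlgHom φ)).toRingHom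

theorem mapRing_tmul (φ : M →+* N) (s : Localization.Away (j : ℤ)) (a : M) :
    mapRing φ (tmul s a : TR j M) = tmul s (φ a) :=
  Algebra.TensorProduct.map_tmul _ _ _ _

/-- the ring hom out of `ℤ[1/j] ⊗ M` induced by a pair of ring homs. -/
def prodMap {S : Type*} [CommRing S] (f : Localization.Away (j : ℤ) →+* S) (g : M →+* S) :
    TR j M →+* S :=
  (Algebra.TensorProduct.productMap (intAlgHom f) (intAlgHom g)).toRingHom

theorem prodMap_tmul {S : Type*} [CommRing S] (f : Localization.Away (j : ℤ) →+* S)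
    (g : M →+* S) (s : Localization.Away (j : ℤ)) (a : M) :
    prodMap f g (tmul s a : TR j M) = f s * g a :=
  Algebra.TensorProduct.productMap_apply_tmul _ _ _ _

end TR

open TR

/-- `AdjoinRoot p → AdjoinRoot (p.map (1 ⊗ ·))`. -/
def gK {K : Type*} [CommRing K] (j : ℕ) (p : K[X]) :
    AdjoinRoot p →+* AdjoinRoot (p.map (incA K j)) :=
  AdjoinRoot.lift ((AdjoinRoot.of (p.map (incA K j))).comp (incA K j))
    (AdjoinRoot.root (p.map (incA K j)))
    (by rw [← Polynomial.eval₂_map]; exact AdjoinRoot.eval₂_root _)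

theorem gK_of {K : Type*} [CommRing K] (j : ℕ) (p : K[X]) (a : K) :
    gK j p (AdjoinRoot.of p a) = AdjoinRoot.of (p.map (incA K j)) (incA K j a) := by
  unfold gK
  rw [AdjoinRoot.lift_of]
  rfl

theorem gK_root {K : Type*} [CommRing K] (j : ℕ) (p : K[X]) :
    gK j p (AdjoinRoot.root p) = AdjoinRoot.root (p.map (incA K j)) := by
  unfold gK
  rw [AdjoinRoot.lift_root]

/-- `ℤ[1/j] ⊗ AdjoinRoot p → AdjoinRoot (p.map (1 ⊗ ·))`. -/
def Phi {K : Type*} [CommRing K] (j : ℕ) (p : K[X]) :
    TR j (AdjoinRoot p) →+* AdjoinRoot (p.map (incA K j)) :=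
  prodMap ((AdjoinRoot.of (p.map (incA K j))).comp (incL K j)) (gK j p)

theorem Phi_tmul {K : Type*} [CommRing K] (j : ℕ) (p : K[X])
    (s : Localization.Away (j : ℤ)) (x : AdjoinRoot p) :
    Phi j p (tmul s x) =
      AdjoinRoot.of (p.map (incA K j)) (incL K j s) * gK j p x :=
  prodMap_tmul _ _ _ _

/-- the top-coefficient functional of a monic polynomial. -/
def tauTop {A : Type*} [CommRing A] {q : A[X]} (hq : q.Monic) (r : ℕ) :
    AdjoinRoot q →ₗ[A] A :=
  (Polynomial.lcoeff A r).comp (AdjoinRoot.modByMonicHom hq)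

theorem tauTop_topData {A : Type*} [CommRing A] [Nontrivial A] {q : A[X]} (hq : q.Monic)
    (r : ℕ) (hdeg : q.natDegree = r + 1) : TopData q r (tauTop hq r) := by
  refine ⟨hq, hdeg, fun n hn => ?_⟩
  have h1 : AdjoinRoot.root q ^ n = AdjoinRoot.mk q (X ^ n) := by
    rw [map_pow, AdjoinRoot.mk_X]
  have h2 : (X ^ n : A[X]) %ₘ q = X ^ n := by
    rw [Polynomial.modByMonic_eq_self_iff hq, degree_X_pow, degree_eq_natDegree hq.ne_zero, hdeg]
    exact_mod_cast Nat.lt_succ_of_le hn
  show (Polynomial.lcoeff A r) (AdjoinRoot.modByMonicHom hq (AdjoinRoot.root q ^ n)) = _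
  rw [h1, AdjoinRoot.modByMonicHom_mk, h2, Polynomial.lcoeff_apply, coeff_X_pow]
  by_cases h : n = r
  · rw [if_pos h.symm, if_pos h]
  · rw [if_neg (fun h' => h h'.symm), if_neg h]

theorem tauTop_gK {K : Type*} [CommRing K] (j : ℕ) {p : K[X]} (hp : p.Monic) (r : ℕ)
    (hdeg : p.natDegree = r + 1) [Nontrivial (TR j K)]
    (τK : AdjoinRoot p →ₗ[K] K)
    (hτK : ∀ n, n ≤ r → τK (AdjoinRoot.root p ^ n) = if n = r then 1 else 0)
    (x : AdjoinRoot p) :
    tauTop (hp.map (incA K j)) r (gK j p x) = incA K j (τK x) := by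
  have hq := hp.map (incA K j)
  have hqdeg : (p.map (incA K j)).natDegree = r + 1 := by rw [hp.natDegree_map, hdeg]
  have H := tauTop_topData hq r hqdeg
  refine pow_induction hp
    (M := fun x => tauTop (hp.map (incA K j)) r (gK j p x) = incA K j (τK x)) ?_ ?_ ?_ ?_ x
  · intro n hn
    rw [map_pow, gK_root, H.top n (by omega), hτK n (by omega)]
    by_cases h : n = r
    · rw [if_pos h, if_pos h, map_one]
    · rw [if_neg h, if_neg h, map_zero]
  · rw [map_zero, map_zero, map_zero, map_zero]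
  · intro x y hx hy; rw [map_add, map_add, hx, hy, map_add, map_add]
  · intro a x hx
    have e : gK j p (a • x) = incA K j a • gK j p x := by
      rw [Algebra.smul_def, Algebra.smul_def, AdjoinRoot.algebraMap_eq, AdjoinRoot.algebraMap_eq,
        map_mul, gK_of]
    rw [e, map_smul, hx, map_smul, smul_eq_mul, smul_eq_mul, map_mul]

theorem tauTop_Phi {K : Type*} [CommRing K] (j : ℕ) {p : K[X]} (hp : p.Monic) (r : ℕ)
    (hdeg : p.natDegree = r + 1) [Nontrivial (TR j K)]
    (τK : AdjoinRoot p →ₗ[K] K)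
    (hτK : ∀ n, n ≤ r → τK (AdjoinRoot.root p ^ n) = if n = r then 1 else 0)
    (z : TR j (AdjoinRoot p)) :
    tauTop (hp.map (incA K j)) r (Phi j p z) = TR.map τK.toAddMonoidHom z := by
  induction z using TR.induction_on with
  | zero => rw [map_zero, map_zero, map_zero]
  | tmul s x =>
    rw [Phi_tmul, TR.map_tmul]
    have e : AdjoinRoot.of (p.map (incA K j)) (incL K j s) * gK j p x =
        incL K j s • gK j p x := by
      rw [Algebra.smul_def, AdjoinRoot.algebraMap_eq]
    rw [e, map_smul, tauTop_gK j hp r hdeg τK hτK x, smul_eq_mul, incL_apply, incA_apply,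
      TR.tmul_mul_tmul, mul_one, one_mul]
    rfl
  | add x y hx hy => rw [map_add, map_add, hx, hy, map_add]

theorem mapRing_comp_incA {K : Type*} [CommRing K] (j : ℕ) (ψA : K →+* K) :
    (mapRing (j := j) ψA).comp (incA K j) = (incA K j).comp ψA :=
  RingHom.ext fun a => by
    rw [RingHom.comp_apply, RingHom.comp_apply, incA_apply, mapRing_tmul, incA_apply]

theorem expand_map_mapRing {K : Type*} [CommRing K] (j : ℕ) {p : K[X]} (ψA : K →+* K)
    (G₀ : K[X]) (hG₀ : expand K j (p.map ψA) = p * G₀) :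
    expand (TR j K) j ((p.map (incA K j)).map (mapRing ψA)) =
      p.map (incA K j) * G₀.map (incA K j) := by
  rw [Polynomial.map_map, mapRing_comp_incA, ← Polynomial.map_map, ← Polynomial.map_expand, hG₀,
    Polynomial.map_mul]

/-- the lifted endomorphism of `AdjoinRoot (p.map (1 ⊗ ·))`. -/
def psiB'' {K : Type*} [CommRing K] (j : ℕ) {p : K[X]} (ψA : K →+* K)
    (G₀ : K[X]) (hG₀ : expand K j (p.map ψA) = p * G₀) :
    AdjoinRoot (p.map (incA K j)) →+* AdjoinRoot (p.map (incA K j)) :=
  AdjoinRoot.lift ((AdjoinRoot.of (p.map (incA K j))).comp (mapRing ψA))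
    (AdjoinRoot.root (p.map (incA K j)) ^ j)
    (by
      rw [← Polynomial.eval₂_map, ← Polynomial.eval_map, ← Polynomial.expand_eval,
        ← Polynomial.map_expand, expand_map_mapRing j ψA G₀ hG₀, Polynomial.map_mul,
        Polynomial.eval_mul, (AdjoinRoot.isRoot_root _).eq_zero, zero_mul])

theorem psiB''_of {K : Type*} [CommRing K] (j : ℕ) {p : K[X]} (ψA : K →+* K)
    (G₀ : K[X]) (hG₀ : expand K j (p.map ψA) = p * G₀) (a : TR j K) :
    psiB'' j ψA G₀ hG₀ (AdjoinRoot.of (p.map (incA K j)) a) =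
      AdjoinRoot.of (p.map (incA K j)) (mapRing ψA a) := by
  unfold psiB''
  rw [AdjoinRoot.lift_of]
  rfl

theorem psiB''_root {K : Type*} [CommRing K] (j : ℕ) {p : K[X]} (ψA : K →+* K)
    (G₀ : K[X]) (hG₀ : expand K j (p.map ψA) = p * G₀) :
    psiB'' j ψA G₀ hG₀ (AdjoinRoot.root (p.map (incA K j))) =
      AdjoinRoot.root (p.map (incA K j)) ^ j := by
  unfold psiB''
  rw [AdjoinRoot.lift_root]

theorem gK_psiB {K : Type*} [CommRing K] (j : ℕ) {p : K[X]} (ψA : K →+* K)
    (G₀ : K[X]) (hG₀ : expand K j (p.map ψA) = p * G₀)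
    (ψB : AdjoinRoot p →+* AdjoinRoot p)
    (hψof : ∀ a, ψB (AdjoinRoot.of p a) = AdjoinRoot.of p (ψA a))
    (hψℓ : ψB (AdjoinRoot.root p) = AdjoinRoot.root p ^ j) (x : AdjoinRoot p) :
    gK j p (ψB x) = psiB'' j ψA G₀ hG₀ (gK j p x) := by
  have h : (gK j p).comp ψB = (psiB'' j ψA G₀ hG₀).comp (gK j p) := by
    apply adjoinRoot_hom_ext
    · intro a
      rw [RingHom.comp_apply, RingHom.comp_apply, hψof, gK_of, gK_of, psiB''_of, incA_apply,
        incA_apply, mapRing_tmul]
    · rw [RingHom.comp_apply, RingHom.comp_apply, hψℓ, map_pow, gK_root, psiB''_root]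
  exact RingHom.congr_fun h x

/-- the Adams–Riemann–Roch identity after tensoring with `ℤ[1/j]`. -/
theorem BC {K : Type*} [CommRing K] (j : ℕ) {p : K[X]} (hp : p.Monic) (r : ℕ)
    (hdeg : p.natDegree = r + 1)
    (ψA : K →+* K) (ψB : AdjoinRoot p →+* AdjoinRoot p)
    (hψof : ∀ a, ψB (AdjoinRoot.of p a) = AdjoinRoot.of p (ψA a))
    (hψℓ : ψB (AdjoinRoot.root p) = AdjoinRoot.root p ^ j)
    (G₀ : K[X]) (hG₀ : expand K j (p.map ψA) = p * G₀)
    (τK : AdjoinRoot p →ₗ[K] K)
    (hτK : ∀ n, n ≤ r → τK (AdjoinRoot.root p ^ n) = if n = r then 1 else 0)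
    (hnil : IsNilpotent (AdjoinRoot.root p - 1))
    (ρR : TR j (AdjoinRoot p))
    (hρR : ρR * incA (AdjoinRoot p) j ((G₀.map (AdjoinRoot.of p)).eval (AdjoinRoot.root p)) =
      ((j : ℕ) : TR j (AdjoinRoot p)) * incA (AdjoinRoot p) j (AdjoinRoot.root p ^ (j - 1)))
    (x : AdjoinRoot p) :
    incA K j (ψA (τK x)) =
      TR.map τK.toAddMonoidHom (ρR * incA (AdjoinRoot p) j (ψB x)) := by
  rcases subsingleton_or_nontrivial (TR j K) with hs | hn
  · exact Subsingleton.elim _ _
  have hq := hp.map (incA K j)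
  have hqdeg : (p.map (incA K j)).natDegree = r + 1 := by rw [hp.natDegree_map, hdeg]
  have H := tauTop_topData hq r hqdeg
  have hPhi1 : ∀ y : AdjoinRoot p, Phi j p (incA (AdjoinRoot p) j y) = gK j p y := by
    intro y
    rw [incA_apply, Phi_tmul, map_one, map_one, one_mul]
  have hnil' : IsNilpotent (AdjoinRoot.root (p.map (incA K j)) - 1) := by
    have := hnil.map (gK j p)
    rwa [map_sub, gK_root, map_one] at this
  have hGeval : gK j p ((G₀.map (AdjoinRoot.of p)).eval (AdjoinRoot.root p)) =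
      ((G₀.map (incA K j)).map (AdjoinRoot.of (p.map (incA K j)))).eval
        (AdjoinRoot.root (p.map (incA K j))) := by
    rw [eval_map, eval_map, Polynomial.hom_eval₂, gK_root, Polynomial.eval₂_map]
    congr 1
    exact RingHom.ext fun a => gK_of j p a
  have hρ'' : Phi j p ρR * ((G₀.map (incA K j)).map (AdjoinRoot.of (p.map (incA K j)))).eval
        (AdjoinRoot.root (p.map (incA K j))) =
      ((j : ℕ) : AdjoinRoot (p.map (incA K j))) *
        AdjoinRoot.root (p.map (incA K j)) ^ (j - 1) := by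
    have h0 := congrArg (Phi j p) hρR
    rw [map_mul, map_mul, hPhi1, hPhi1, hGeval, map_natCast, map_pow, gK_root] at h0
    exact h0
  have hart := ART H j (TR.isUnit_natCast K j) (mapRing ψA) (psiB'' j ψA G₀ hG₀)
    (psiB''_of j ψA G₀ hG₀) (psiB''_root j ψA G₀ hG₀) (G₀.map (incA K j))
    (expand_map_mapRing j ψA G₀ hG₀) hnil' (Phi j p ρR) hρ'' (gK j p x)
  rw [tauTop_gK j hp r hdeg τK hτK x, incA_apply, mapRing_tmul, ← incA_apply,
    ← gK_psiB j ψA G₀ hG₀ ψB hψof hψℓ x, ← hPhi1 (ψB x), ← map_mul,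
    tauTop_Phi j hp r hdeg τK hτK] at hart
  exact hart

end

end Groth.Agent.H43.ARR
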