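import Groth.Agent.H43.ARRBC
import Groth.Agent.H19.Adams
import Groth.Agent.H19.AdamsGamma
import Groth.Agent.H19.ElemExt
import Groth.Agent.H43.LambdaBasic
import Groth.Agent.H41.Sigma
import Groth.Agent.S3792
import Groth.Agent.S3779
import Groth.Prelude.Def_KRR

/-!
# λ-ring input for the Adams–Riemann–Roch identity of an elementary projection
(helper library, seat helper43)
-/

set_option autoImplicit false
universe u

namespace Groth.Agent.H43.ARR

open LambdaRing Polynomial

section Lam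

variable {K : Type u} [CommRing K] [LambdaOps K]

theorem lam_line_mul_pos (P : PosStructure K) (hK : HasSplitting K P) {u : K} (hu : P.IsLine u)
    (a : K) (ha : a ∈ P.pos) (k : ℕ) :
    LambdaOps.lam k (u * a) = u ^ k * LambdaOps.lam k a := by
  classical
  obtain ⟨L, _, f, hf, n, y, hy, hysum⟩ := Groth.Agent.H19.Adams.exists_split P hK a ha
  apply hf.injective
  have hfu : L.posStr.IsLine (f u) := Groth.Agent.H19.Adams.isLine_map hf hu
  have h1 : f (u * a) = ∑ i, f u * y i := by rw [map_mul, ← hysum, Finset.mul_sum]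
  rw [hf.isLambdaHom, h1,
    Groth.Agent.H19.Adams.lam_sum_lines L.posStr (fun i => f u * y i)
      (fun i => Groth.Agent.H19.Adams.isLine_mul L.posStr hfu (hy i)),
    map_mul, map_pow, hf.isLambdaHom, ← hysum,
    Groth.Agent.H19.Adams.lam_sum_lines L.posStr y hy, Finset.mul_sum]
  refine Finset.sum_congr rfl fun t ht => ?_
  rw [Finset.prod_mul_distrib, Finset.prod_const, (Finset.mem_powersetCard.1 ht).2]

theorem lamSeries_line_mul (P : PosStructure K) (hK : HasSplitting K P) {u : K}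
    (hu : P.IsLine u) (x : K) :
    lamSeries (u * x) = PowerSeries.rescale u (lamSeries x) := by
  have hpos : ∀ a ∈ P.pos, lamSeries (u * a) = PowerSeries.rescale u (lamSeries a) := by
    intro a ha
    ext k
    rw [PowerSeries.coeff_rescale, Groth.Agent.H43.coeff_lamSeries,
      Groth.Agent.H43.coeff_lamSeries, lam_line_mul_pos P hK hu a ha k]
  obtain ⟨a, b, ha, hb, rfl⟩ := P.exists_sub x
  have h1 : lamSeries (u * (a - b)) * lamSeries (u * b) =
      PowerSeries.rescale u (lamSeries (a - b)) * lamSeries (u * b) := by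
    have e1 : u * (a - b) + u * b = u * a := by ring
    have e2 : a - b + b = a := by ring
    rw [← Groth.Agent.H43.lamSeries_add, e1, hpos b hb, ← map_mul,
      ← Groth.Agent.H43.lamSeries_add, e2, hpos a ha]
  exact (Groth.Agent.H43.isUnit_lamSeries (u * b)).mul_left_inj.1 h1

theorem lam_line_mul (P : PosStructure K) (hK : HasSplitting K P) {u : K} (hu : P.IsLine u)
    (x : K) (k : ℕ) : LambdaOps.lam k (u * x) = u ^ k * LambdaOps.lam k x := by
  rw [← Groth.Agent.H43.coeff_lamSeries, lamSeries_line_mul P hK hu x,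
    PowerSeries.coeff_rescale, Groth.Agent.H43.coeff_lamSeries]

theorem pow_mem_filtration (P : PosStructure K) {x : K} (hx : P.aug x = 0) (n : ℕ) :
    x ^ n ∈ gammaFiltration P n := by
  induction n with
  | zero =>
    rw [Groth.Agent.H19.AdamsGamma.filtration_zero]
    exact AddSubgroup.mem_top _
  | succ n ih =>
    rw [pow_succ]
    have h1 : x ∈ gammaFiltration P 1 := by
      have := Groth.Agent.H19.AdamsGamma.gamma_mem P hx (n := 1) (r := 1) le_rfl
      rwa [Groth.Agent.H19.AdamsGamma.gamma_one'] at this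
    exact Groth.Agent.H19.AdamsGamma.mul_mem P n 1 _ _ ih h1

theorem isNilpotent_of_aug_eq_zero (P : PosStructure K) (N : ℕ) (hN : gammaFiltration P N = ⊥)
    {x : K} (hx : P.aug x = 0) : IsNilpotent x := by
  refine ⟨N, ?_⟩
  have := pow_mem_filtration P hx N
  rw [hN] at this
  exact AddSubgroup.mem_bot.1 this

end Lam

section Alg

theorem sum_monic {K : Type*} [CommRing K] [Nontrivial K] (a : ℕ → K) (m : ℕ) (ha : a 0 = 1) :
    (∑ i ∈ Finset.range (m + 1), C (a i) * X ^ (m - i)).Monic ∧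
      (∑ i ∈ Finset.range (m + 1), C (a i) * X ^ (m - i)).natDegree = m := by
  have hlow : degree (∑ i ∈ Finset.range m, C (a (i + 1)) * X ^ (m - (i + 1))) <
      (m : WithBot ℕ) := by
    refine (degree_sum_le _ _).trans_lt ?_
    refine (Finset.sup_lt_iff (WithBot.bot_lt_coe m)).2 fun i hi => ?_
    refine (degree_C_mul_X_pow_le _ _).trans_lt ?_
    have := Finset.mem_range.1 hi
    have h3 : m - (i + 1) < m := by omega
    simp only [Nat.cast_withBot, WithBot.coe_lt_coe]
    exact h3
  have hp : (∑ i ∈ Finset.range (m + 1), C (a i) * X ^ (m - i) : K[X]) =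
      X ^ m + ∑ i ∈ Finset.range m, C (a (i + 1)) * X ^ (m - (i + 1)) := by
    rw [Finset.sum_range_succ', ha, map_one, one_mul, Nat.sub_zero, add_comm]
  rw [hp]
  refine ⟨monic_X_pow_add hlow, ?_⟩
  rw [natDegree_add_eq_left_of_degree_lt (by rw [degree_X_pow]; exact hlow), natDegree_X_pow]

theorem exists_G {K L : Type*} [CommRing K] [CommRing L] (φ : K →+* L)
    (hφ : Function.Injective φ) {p : K[X]} (hp : p.Monic) (ψA : K →+* K) (j : ℕ) {n : ℕ}
    (y : Fin n → L) (hpφ : p.map φ = ∏ q, (X - C (y q)))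
    (hψ : (p.map ψA).map φ = ∏ q, (X - C (y q ^ j))) :
    ∃ G₀ : K[X], expand K j (p.map ψA) = p * G₀ ∧
      G₀.map φ = ∏ q, ∑ c ∈ Finset.range j, X ^ c * (C (y q)) ^ (j - 1 - c) := by
  have hE : (expand K j (p.map ψA)).map φ =
      p.map φ * ∏ q, ∑ c ∈ Finset.range j, X ^ c * (C (y q)) ^ (j - 1 - c) := by
    rw [Polynomial.map_expand, hψ, map_prod, hpφ, ← Finset.prod_mul_distrib]
    refine Finset.prod_congr rfl fun q _ => ?_
    rw [map_sub, expand_X, expand_C, C_pow, ← geom_sum₂_mul]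
    exact mul_comm _ _
  have hpm : (p.map φ).Monic := hp.map φ
  refine ⟨expand K j (p.map ψA) /ₘ p, ?_, ?_⟩
  · have hmod : expand K j (p.map ψA) %ₘ p = 0 := by
      apply Polynomial.map_injective φ hφ
      rw [Polynomial.map_modByMonic φ hp, hE, Polynomial.map_zero]
      exact (modByMonic_eq_zero_iff_dvd hpm).2 (dvd_mul_right _ _)
    have h := modByMonic_add_div (expand K j (p.map ψA)) p
    rw [hmod, zero_add] at h
    exact h.symm
  · rw [Polynomial.map_divByMonic φ hp, hE, mul_divByMonic_cancel_left _ hpm]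

theorem prod_geom_eq {R : Type*} [CommRing R] {n : ℕ} (y : Fin n → R) (u v : R)
    (huv : v * u = 1) (j : ℕ) :
    ∏ q, ∑ c ∈ Finset.range j, u ^ c * (y q) ^ (j - 1 - c) =
      u ^ ((j - 1) * n) * ∏ q, ∑ l ∈ Finset.range j, (y q * v) ^ l := by
  have h : ∀ q, ∑ c ∈ Finset.range j, u ^ c * (y q) ^ (j - 1 - c) =
      u ^ (j - 1) * ∑ l ∈ Finset.range j, (y q * v) ^ l := by
    intro q
    have hrefl : ∑ l ∈ Finset.range j, (y q * v) ^ l =
        ∑ c ∈ Finset.range j, (y q * v) ^ (j - 1 - c) :=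
      (Finset.sum_range_reflect (fun l => (y q * v) ^ l) j).symm
    rw [hrefl, Finset.mul_sum]
    refine Finset.sum_congr rfl fun c hc => ?_
    have hc' := Finset.mem_range.1 hc
    have e : u ^ (j - 1) = u ^ c * u ^ (j - 1 - c) := by
      rw [← pow_add]; congr 1; omega
    have e2 : u ^ (j - 1 - c) * v ^ (j - 1 - c) = 1 := by
      rw [← mul_pow, mul_comm, huv, one_pow]
    rw [e, mul_pow]
    calc u ^ c * y q ^ (j - 1 - c)
        = u ^ c * y q ^ (j - 1 - c) * (u ^ (j - 1 - c) * v ^ (j - 1 - c)) := by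
          rw [e2, mul_one]
      _ = u ^ c * u ^ (j - 1 - c) * (y q ^ (j - 1 - c) * v ^ (j - 1 - c)) := by ring
  rw [Finset.prod_congr rfl (fun q _ => h q), Finset.prod_mul_distrib, Finset.prod_const,
    Finset.card_univ, Fintype.card_fin, ← pow_mul]

theorem exp_identity (j r : ℕ) (hj : 1 ≤ j) : j - 1 + j * r = r + (j - 1) * (r + 1) := by
  obtain ⟨j', rfl⟩ : ∃ j', j = j' + 1 := ⟨j - 1, by omega⟩
  rw [Nat.add_sub_cancel]; ring

end Alg

section Ext

theorem extPoly_monic_natDegree {K : Type u} [CommRing K] [LambdaOps K] (P : PosStructure K)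
    (e : K) (m : ℕ) (hm : (P.aug e).toNat = m) :
    (KRR.extPoly P e).Monic ∧ (KRR.extPoly P e).natDegree = m := by
  haveI : Nontrivial K := P.aug.domain_nontrivial
  unfold KRR.extPoly
  rw [hm]
  exact sum_monic (fun i => (-1 : K) ^ i * LambdaOps.lam i e) m
    (by simp [LambdaOps.lam_zero])

theorem extPoly_map {K L : Type u} [CommRing K] [LambdaOps K] [CommRing L] [LambdaOps L]
    (P : PosStructure K) (PL : PosStructure L) (φ : K →+* L) (hφ : IsExtension P PL φ)
    (e : K) {n : ℕ} (y : Fin n → L) (hy : ∀ q, PL.IsLine (y q)) (hsum : ∑ q, y q = φ e)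
    (hn : (P.aug e).toNat = n) :
    (KRR.extPoly P e).map φ = ∏ q, (X - C (y q)) := by
  classical
  unfold KRR.extPoly
  rw [hn, Polynomial.map_sum]
  have h1 : ∏ q, (X - C (y q)) = ∏ q, ((X : L[X]) + (- C (y q))) :=
    Finset.prod_congr rfl fun q _ => sub_eq_add_neg _ _
  rw [h1, Groth.Agent.H19.ElemExt.prod_add_eq]
  refine Finset.sum_congr rfl fun k _ => ?_
  rw [Polynomial.map_mul, Polynomial.map_pow, Polynomial.map_X, Polynomial.map_C, map_mul,
    map_pow, map_neg, map_one, hφ.isLambdaHom, ← hsum,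
    Groth.Agent.H19.Adams.lam_sum_lines PL y hy, mul_comm (C _) (X ^ _)]
  congr 1
  rw [map_mul, map_pow, map_neg, map_one, map_sum, Finset.mul_sum]
  refine Finset.sum_congr rfl fun t ht => ?_
  rw [Finset.prod_neg, (Finset.mem_powersetCard.1 ht).2, map_prod]

theorem map_bott_of_lam {A L : Type u} [CommRing A] [LambdaOps A] [CommRing L]
    (PA : PosStructure A) (g : A →+* L) (j : ℕ) (x : A) {n : ℕ}
    (hn : (PA.aug x).toNat = n) (y' : Fin n → L)
    (hlam : ∀ k, g (LambdaOps.lam k x) =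
      ∑ t ∈ (Finset.univ : Finset (Fin n)).powersetCard k, ∏ q ∈ t, y' q) :
    g (KRR.bott PA j x) = ∏ q, ∑ l ∈ Finset.range j, y' q ^ l := by
  rw [Groth.Agent.S3792.bott_eq PA j x n hn]
  have h4 : g ((MvPolynomial.aeval fun i : Fin n => LambdaOps.lam (i.1 + 1) x)
      (KRR.bottPoly j n)) =
      (MvPolynomial.aeval fun i : Fin n => g (LambdaOps.lam (i.1 + 1) x))
        (KRR.bottPoly j n) :=
    MvPolynomial.comp_aeval_apply _ g.toIntAlgHom _
  rw [h4]
  have h5 : (fun i : Fin n => g (LambdaOps.lam (i.1 + 1) x)) =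
      fun i : Fin n => MvPolynomial.aeval y' (MvPolynomial.esymm (Fin n) ℤ (i.1 + 1)) := by
    funext i
    rw [hlam]
    simp only [MvPolynomial.esymm, map_sum, map_prod, MvPolynomial.aeval_X]
  rw [h5, ← MvPolynomial.comp_aeval_apply, Groth.Agent.S3792.aeval_esymm_bottPoly]
  unfold KRR.bottSym
  simp only [map_prod, map_sum, map_pow, MvPolynomial.aeval_X]

end Ext

end Groth.Agent.H43.ARR
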