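import Groth.Agent.H43.ARRLam

/-!
# Adams–Riemann–Roch for the model elementary projection (helper library, seat helper43)
-/

set_option autoImplicit false
universe u

namespace Groth.Agent.H43.ARR

open LambdaRing Polynomial
open Groth.Agent.H19.Adams (adamsRingHom)

section Main

variable {K : Type u} [CommRing K] [LambdaOps K] (P : PosStructure K) (e : K)

local notation "Ke" => AdjoinRoot (KRR.extPoly P e)
local notation "ℓ" => AdjoinRoot.root (KRR.extPoly P e)
local notation "ι" => AdjoinRoot.of (KRR.extPoly P e)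

theorem main (hK : HasSplitting K P) (he : e ∈ P.pos) (r : ℕ) (hr : P.aug e = r + 1)
    [inst : LambdaOps Ke] (Pe : PosStructure Ke)
    (hext : IsExtension P Pe ι) (hline : Pe.IsLine ℓ)
    (hsplit : HasSplitting Ke Pe) (N : ℕ) (hN : gammaFiltration Pe N = ⊥)
    (f : Ke →ₗ[K] K) (hf : ∀ i : ℕ, i ≤ r → f (ℓ ^ i) = KRR.sigma i e)
    (linv : Ke) (hlinv : linv * ℓ = 1) (j : ℕ) (hj : 1 ≤ j) :
    (∃ w : TR j Ke, w * TR.incA Ke j (KRR.bott Pe j (ι e * linv)) = 1) ∧
    ∀ w : TR j Ke, w * TR.incA Ke j (KRR.bott Pe j (ι e * linv)) = 1 →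
      ∀ x : Ke, TR.incA K j (adams P j (f x)) =
        TR.map f.toAddMonoidHom (((j : ℕ) : TR j Ke) * w * TR.incA Ke j (adams Pe j x)) := by
  classical
  have hm : (P.aug e).toNat = r + 1 := by rw [hr]; omega
  obtain ⟨hmonic, hdeg⟩ := extPoly_monic_natDegree P e (r + 1) hm
  obtain ⟨L, hL, g, hg, n, y, hy, hysum⟩ :=
    Groth.Agent.H19.Adams.exists_split Pe hsplit (ι e) (hext.pos_subset e he)
  have hφext := Groth.Agent.H19.Adams.IsExtension.comp' hext hg
  have hn : n = r + 1 := by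
    have h1 := Groth.Agent.H19.Adams.aug_sum_lines L.posStr y hy
    rw [hysum, hg.aug_comp, hext.aug_comp, hr] at h1
    exact_mod_cast h1.symm
  subst hn
  have hψof : ∀ a, adamsRingHom Pe hsplit j (ι a) = ι (adamsRingHom P hK j a) :=
    fun a => (Groth.Agent.H19.Adams.adams_map P Pe _ hext j a).symm
  have hψℓ : adamsRingHom Pe hsplit j ℓ = ℓ ^ j :=
    Groth.Agent.H19.Adams.adams_line Pe hline j
  have hpφ : (KRR.extPoly P e).map (g.comp ι) = ∏ q, (X - C (y q)) :=
    extPoly_map P L.posStr _ hφext e y hy hysum hm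
  have hψ : ((KRR.extPoly P e).map (adamsRingHom P hK j)).map (g.comp ι) =
      ∏ q, (X - C (y q ^ j)) := by
    have hcomp : (g.comp ι).comp (adamsRingHom P hK j) =
        (adamsRingHom L.posStr hL j).comp (g.comp ι) :=
      RingHom.ext fun a => Groth.Agent.H19.Adams.adams_map P L.posStr _ hφext j a
    rw [Polynomial.map_map, hcomp, ← Polynomial.map_map, hpφ, Polynomial.map_prod]
    refine Finset.prod_congr rfl fun q _ => ?_
    rw [Polynomial.map_sub, Polynomial.map_X, Polynomial.map_C]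
    show X - C (adams L.posStr j (y q)) = _
    rw [Groth.Agent.H19.Adams.adams_line L.posStr (hy q)]
  obtain ⟨G₀, hG₀, hG₀φ⟩ := exists_G (g.comp ι) hφext.injective hmonic
    (adamsRingHom P hK j) j y hpφ hψ
  have haugl : Pe.aug linv = 1 := by
    have h := congrArg Pe.aug hlinv
    rw [map_mul, hline.2, mul_one, map_one] at h
    exact h
  have hgl : g linv * g ℓ = 1 := by rw [← map_mul, hlinv, map_one]
  have hpow_cancel : ∀ m : ℕ, linv ^ m * ℓ ^ m = 1 := fun m => by
    rw [← mul_pow, hlinv, one_pow]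
  have hℓe' : ℓ * (ι e * linv) = ι e := by
    calc ℓ * (ι e * linv) = ι e * (linv * ℓ) := by ring
      _ = ι e := by rw [hlinv, mul_one]
  have hlam' : ∀ k, LambdaOps.lam k (ι e * linv) = linv ^ k * LambdaOps.lam k (ι e) := by
    intro k
    have h := lam_line_mul Pe hsplit hline (ι e * linv) k
    rw [hℓe'] at h
    rw [h, ← mul_assoc, hpow_cancel, one_mul]
  have hglam : ∀ k, g (LambdaOps.lam k (ι e * linv)) =
      ∑ t ∈ (Finset.univ : Finset (Fin (r + 1))).powersetCard k, ∏ q ∈ t, (y q * g linv) := by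
    intro k
    rw [hlam', map_mul, map_pow, hg.isLambdaHom, ← hysum,
      Groth.Agent.H19.Adams.lam_sum_lines L.posStr y hy, Finset.mul_sum]
    refine Finset.sum_congr rfl fun t ht => ?_
    rw [Finset.prod_mul_distrib, Finset.prod_const, (Finset.mem_powersetCard.1 ht).2, mul_comm]
  have haug' : (Pe.aug (ι e * linv)).toNat = r + 1 := by
    rw [map_mul, hext.aug_comp, haugl, mul_one, hr]; omega
  have hgθ : g (KRR.bott Pe j (ι e * linv)) =
      ∏ q, ∑ l ∈ Finset.range j, (y q * g linv) ^ l :=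
    map_bott_of_lam Pe g j _ haug' (fun q => y q * g linv) hglam
  have hGℓ : (G₀.map ι).eval ℓ = ℓ ^ ((j - 1) * (r + 1)) * KRR.bott Pe j (ι e * linv) := by
    apply hg.injective
    have hLs : g ((G₀.map ι).eval ℓ) =
        ∏ q, ∑ c ∈ Finset.range j, g ℓ ^ c * y q ^ (j - 1 - c) := by
      rw [Polynomial.eval_map, Polynomial.hom_eval₂, ← Polynomial.eval_map, hG₀φ,
        Polynomial.eval_prod]
      refine Finset.prod_congr rfl fun q _ => ?_
      rw [Polynomial.eval_finsetSum]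
      refine Finset.sum_congr rfl fun c _ => ?_
      rw [eval_mul, eval_pow, eval_pow, eval_X, eval_C]
    rw [hLs, map_mul, map_pow, hgθ, prod_geom_eq y (g ℓ) (g linv) hgl j]
  have hnilℓ : IsNilpotent (ℓ - 1) :=
    isNilpotent_of_aug_eq_zero Pe N hN (by rw [map_sub, hline.2, map_one, sub_self])
  have haugθ : Pe.aug (KRR.bott Pe j (ι e * linv)) = (j : ℤ) ^ (r + 1) := by
    rw [← hg.aug_comp, hgθ, map_prod]
    have h2 : ∀ q, L.posStr.aug (∑ l ∈ Finset.range j, (y q * g linv) ^ l) = (j : ℤ) := by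
      intro q
      have h1 : L.posStr.aug (y q * g linv) = 1 := by
        rw [map_mul, (hy q).2, hg.aug_comp, haugl, mul_one]
      rw [map_sum]
      simp only [map_pow, h1, one_pow, Finset.sum_const, Finset.card_range, nsmul_eq_mul,
        mul_one]
    rw [Finset.prod_congr rfl (fun q _ => h2 q), Finset.prod_const, Finset.card_univ,
      Fintype.card_fin]
  have hnilθ : IsNilpotent (KRR.bott Pe j (ι e * linv) - ((j : ℕ) : Ke) ^ (r + 1)) :=
    isNilpotent_of_aug_eq_zero Pe N hN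
      (by rw [map_sub, haugθ, map_pow, map_natCast, sub_self])
  have hunit : IsUnit (TR.incA Ke j (KRR.bott Pe j (ι e * linv))) := by
    have h1 := hnilθ.map (TR.incA Ke j)
    rw [map_sub, map_pow, map_natCast] at h1
    have h2 : IsUnit (((j : ℕ) : TR j Ke) ^ (r + 1)) := (TR.isUnit_natCast Ke j).pow _
    have h3 := h1.isUnit_add_left_of_commute h2 (Commute.all _ _)
    rwa [add_sub_cancel] at h3
  refine ⟨?_, ?_⟩
  · obtain ⟨w, hw⟩ := hunit.exists_left_inv
    exact ⟨w, hw⟩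
  intro w hw x
  obtain ⟨_, hS2⟩ := Groth.Agent.S3779.result K P hK e he r hr f hf linv hlinv
  obtain ⟨τK, hτapp⟩ : ∃ τK : Ke →ₗ[K] K, ∀ z, τK z = f (linv ^ r * z) :=
    ⟨f.comp (LinearMap.mulLeft K (linv ^ r)), fun z => rfl⟩
  have hτK : ∀ n, n ≤ r → τK (ℓ ^ n) = if n = r then 1 else 0 := by
    intro n hn
    rw [hτapp]
    by_cases h : n = r
    · rw [if_pos h, h, hpow_cancel]
      have h0 := hf 0 (Nat.zero_le r)
      rw [pow_zero] at h0
      rw [h0, Groth.Agent.H41.sigma_zero]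
    · rw [if_neg h]
      have h2 : linv ^ r = linv ^ (r - n) * linv ^ n := by
        rw [← pow_add]; congr 1; omega
      rw [h2, mul_assoc, hpow_cancel, mul_one]
      exact hS2 (r - n) (by omega) (by omega)
  have hfx : ∀ z, f z = τK (ℓ ^ r * z) := by
    intro z; rw [hτapp, ← mul_assoc, hpow_cancel, one_mul]
  have hBC : TR.incA Ke j (linv ^ ((j - 1) * (r + 1))) * TR.incA Ke j (ℓ ^ ((j - 1) * (r + 1))) =
      1 := by
    rw [← map_mul, hpow_cancel, map_one]
  have key := BC j hmonic r hdeg (adamsRingHom P hK j) (adamsRingHom Pe hsplit j) hψof hψℓ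
    G₀ hG₀ τK hτK hnilℓ
    (((j : ℕ) : TR j Ke) * TR.incA Ke j (ℓ ^ (j - 1) * linv ^ ((j - 1) * (r + 1))) * w)
    (by
      rw [hGℓ]
      simp only [map_mul]
      linear_combination
        (((j : ℕ) : TR j Ke) * TR.incA Ke j (ℓ ^ (j - 1)) *
          TR.incA Ke j (linv ^ ((j - 1) * (r + 1))) *
            TR.incA Ke j (ℓ ^ ((j - 1) * (r + 1)))) * hw +
        (((j : ℕ) : TR j Ke) * TR.incA Ke j (ℓ ^ (j - 1))) * hBC)
    (ℓ ^ r * x)
  rw [← hfx x] at key
  have hmapf : ∀ z : TR j Ke, TR.map f.toAddMonoidHom z =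
      TR.map τK.toAddMonoidHom (TR.incA Ke j (ℓ ^ r) * z) := by
    intro z
    induction z using TR.induction_on with
    | zero => rw [mul_zero, map_zero, map_zero]
    | tmul s a =>
      rw [TR.incA_apply, TR.tmul_mul_tmul, TR.map_tmul, TR.map_tmul, one_mul]
      show TR.tmul s (f a) = TR.tmul s (τK (ℓ ^ r * a))
      rw [← hfx]
    | add a b ha hb => rw [mul_add, map_add, map_add, ha, hb]
  have hℓr : ℓ ^ (j - 1) * linv ^ ((j - 1) * (r + 1)) * (ℓ ^ j) ^ r = ℓ ^ r := by
    have hexp := exp_identity j r hj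
    calc ℓ ^ (j - 1) * linv ^ ((j - 1) * (r + 1)) * (ℓ ^ j) ^ r
        = linv ^ ((j - 1) * (r + 1)) * ℓ ^ (j - 1 + j * r) := by ring
      _ = linv ^ ((j - 1) * (r + 1)) * ℓ ^ ((j - 1) * (r + 1)) * ℓ ^ r := by
          rw [hexp, pow_add]; ring
      _ = ℓ ^ r := by rw [hpow_cancel, one_mul]
  have hfinal : ((j : ℕ) : TR j Ke) * TR.incA Ke j (ℓ ^ (j - 1) * linv ^ ((j - 1) * (r + 1))) * w *
      TR.incA Ke j (adamsRingHom Pe hsplit j (ℓ ^ r * x)) =
      TR.incA Ke j (ℓ ^ r) * (((j : ℕ) : TR j Ke) * w * TR.incA Ke j (adams Pe j x)) := by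
    have h1 : adamsRingHom Pe hsplit j (ℓ ^ r * x) = (ℓ ^ j) ^ r * adams Pe j x := by
      rw [map_mul, map_pow, hψℓ]; rfl
    rw [h1, ← hℓr]
    simp only [map_mul]
    ring
  rw [hmapf, ← hfinal]
  exact key

end Main

end Groth.Agent.H43.ARR
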