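import Groth.Agent.H43.RankOne
import Groth.Agent.S8488

/-! Braid relation `p₋(x')p₊(x)p₋(x') = p₊(x)p₋(x')p₊(x)` (for `x x' = -1`) in rank-one systems
(SGA3 XX), proved after the faithfully flat cover `ℤ[ω]` (`ω² - ω + 1 = 0`), over which `1` is a sum
of two units.  Also: the point `gaPt a` of `𝔾_a` with a given coordinate function. -/

set_option autoImplicit false
universe u
open CategoryTheory MonoidalCategory CartesianMonoidalCategory MonObj GrpObj AlgebraicGeometry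
  CategoryTheory.Limits

namespace Groth.Agent.H43.Braid

open Groth.Agent.H43.GaGmFn Groth.Agent.H43.RankOne Groth.Agent.H93.GaGmLaw
open Groth.Agent.S13371 (gm_ext isUnit_gmFn gmFn_comp)

section Pts

variable {S : Scheme.{u}}

theorem toSpecΓ_map_appTop {X : Scheme.{u}} {R : CommRingCat.{u}} (φ : R ⟶ Γ(X, ⊤)) :
    (Scheme.ΓSpecIso R).inv ≫ (X.toSpecΓ ≫ Spec.map φ).appTop = φ := by
  rw [Scheme.Hom.comp_appTop, ← Category.assoc, ← Scheme.ΓSpecIso_inv_naturality, Category.assoc,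
    Scheme.toSpecΓ_appTop, Iso.inv_hom_id, Category.comp_id]

/-- The point of `𝔾_a` with a given coordinate function. -/
noncomputable def gaPt {X : Over S} (a : Γ(X.left, ⊤)) : X ⟶ Red.Ga S :=
  Over.homMk (pullback.lift (X.left.toSpecΓ ≫ Spec.map (CommRingCat.ofHom (gaHom.{u} a))) X.hom
    (specULiftZIsTerminal.hom_ext _ _)) (pullback.lift_snd _ _ _)

theorem gaFn_gaPt {X : Over S} (a : Γ(X.left, ⊤)) : Red.gaFn (gaPt a) = a := by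
  have h := toSpecΓ_map_appTop (X := X.left) (CommRingCat.ofHom (gaHom.{u} a))
  have h2 : (gaPt a).left ≫ pullback.fst _ _ =
      X.left.toSpecΓ ≫ Spec.map (CommRingCat.ofHom (gaHom.{u} a)) := by
    unfold gaPt
    exact pullback.lift_fst _ _ _
  unfold Red.gaFn
  rw [h2]
  have h3 := congrArg (fun ψ => ψ.hom tt) h
  exact h3.trans (gaHom_tt a)

end Pts

section Cover

/-- `X² - X + 1` over `ℤ`. -/
noncomputable def EPoly : Polynomial (ULift.{u} ℤ) := Polynomial.X ^ 2 - Polynomial.X + 1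

theorem EPoly_monic : (EPoly.{u}).Monic := by
  unfold EPoly
  monicity!

/-- `ℤ[ω]`, `ω` a primitive sixth root of unity. -/
abbrev E := AdjoinRoot (EPoly.{u})

theorem rho_rel : (AdjoinRoot.root EPoly.{u}) * (1 - AdjoinRoot.root EPoly.{u}) = 1 := by
  have h : AdjoinRoot.mk EPoly.{u} (Polynomial.X ^ 2 - Polynomial.X + 1) = 0 := AdjoinRoot.mk_self
  have h2 : AdjoinRoot.mk EPoly.{u} (Polynomial.X ^ 2 - Polynomial.X + 1) =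
      (AdjoinRoot.root EPoly.{u}) ^ 2 - AdjoinRoot.root EPoly.{u} + 1 := by
    simp only [map_add, map_sub, map_pow, map_one, AdjoinRoot.mk_X]
  rw [h2] at h
  linear_combination -h

theorem E_nontrivial : Nontrivial E.{u} := by
  let j : ULift.{u} ℤ →+* ZMod 3 :=
    (Int.castRingHom (ZMod 3)).comp (ULift.ringEquiv : ULift.{u} ℤ ≃+* ℤ).toRingHom
  have hr : EPoly.{u}.eval₂ j 2 = 0 := by
    unfold EPoly
    rw [Polynomial.eval₂_add, Polynomial.eval₂_sub, Polynomial.eval₂_pow, Polynomial.eval₂_X,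
      Polynomial.eval₂_one]
    decide
  exact (AdjoinRoot.lift j 2 hr).domain_nontrivial

theorem E_ff : (algebraMap (ULift.{u} ℤ) E.{u}).FaithfullyFlat := by
  rw [RingHom.faithfullyFlat_algebraMap_iff]
  have h1 := EPoly_monic.{u}.free_adjoinRoot
  have h2 := E_nontrivial.{u}
  exact @Module.FaithfullyFlat.instOfNontrivialOfFree _ _ _ _ _ h2 h1

noncomputable def eMap : Spec (CommRingCat.of E.{u}) ⟶ Spec (CommRingCat.of (ULift.{u} ℤ)) :=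
  Spec.map (CommRingCat.ofHom (algebraMap (ULift.{u} ℤ) E.{u}))

theorem eMap_flat : Flat eMap.{u} := ((flat_and_surjective_SpecMap_iff _).mpr E_ff).1

theorem eMap_surj : Surjective eMap.{u} := ((flat_and_surjective_SpecMap_iff _).mpr E_ff).2

variable {S : Scheme.{u}}

/-- The cover `X ×_ℤ ℤ[ω]` of `X`. -/
noncomputable def cov (X : Over S) : Over S :=
  Over.mk (pullback.fst (tS X.left) eMap.{u} ≫ X.hom)

noncomputable def covπ (X : Over S) : cov X ⟶ X :=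
  Over.homMk (pullback.fst (tS X.left) eMap.{u}) rfl

theorem covπ_epi (X : Over S) : Epi (covπ X) := by
  have := eMap_flat.{u}
  have := eMap_surj.{u}
  have : Epi (covπ X).left := by
    show Epi (pullback.fst (tS X.left) eMap.{u})
    exact Flat.epi_of_flat_of_surjective _
  exact Over.epi_of_epi_left _

/-- The function `ω` on the cover. -/
noncomputable def covτ (X : Over S) : Γ((cov X).left, ⊤) :=
  ((Scheme.ΓSpecIso (CommRingCat.of E.{u})).inv ≫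
    (pullback.snd (tS X.left) eMap.{u}).appTop).hom (AdjoinRoot.root EPoly.{u})

theorem covτ_rel (X : Over S) : covτ X * (1 - covτ X) = 1 := by
  have h := congrArg (fun e => ((Scheme.ΓSpecIso (CommRingCat.of E.{u})).inv ≫
    (pullback.snd (tS X.left) eMap.{u}).appTop).hom e) rho_rel.{u}
  simp only [map_mul, map_sub, map_one] at h
  exact h

end Cover

section Main

variable {S : Scheme.{u}} {G T : Over S} [GrpObj G] [GrpObj T] (i : T ⟶ G) [IsMonHom i]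
  (α : T ⟶ Red.Gm S) [IsMonHom α] (pp pm : Red.Ga S ⟶ G) [IsMonHom pp] [IsMonHom pm]
  (av : Red.Gm S ⟶ T) [IsMonHom av]

theorem A_inv {X : Over S} (z : X ⟶ Red.Gm S) : z⁻¹ ≫ av ≫ i = (z ≫ av ≫ i)⁻¹ := by
  have e1 : z⁻¹ ≫ av = (z ≫ av)⁻¹ := GrpObj.inv_comp z av
  have e2 : (z ≫ av)⁻¹ ≫ i = ((z ≫ av) ≫ i)⁻¹ := GrpObj.inv_comp (z ≫ av) i
  rw [← Category.assoc, e1, e2, Category.assoc]

theorem grp_braid {M : Type*} [Group M] (Px Mx Pa1 Pa2 P1 P2 M1 M2 M3 A1 A2 : M)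
    (hP : Px = Pa1 * Pa2) (hop : Mx * Pa1 = P1 * A1⁻¹ * M1) (hpr : Pa2 * Mx = M2 * A2 * P2)
    (hM3 : M3 = A1⁻¹ * (M1 * M2) * A1⁻¹⁻¹)
    (hP4 : P1 = (A1⁻¹ * A2) * P2 * (A1⁻¹ * A2)⁻¹) :
    Mx * Px * Mx = (P1 * M3 * P1) * (A1⁻¹ * A2) := by
  have h1 : Mx * Px * Mx = (Mx * Pa1) * (Pa2 * Mx) := by rw [hP]; group
  rw [h1, hop, hpr, hM3, hP4]
  group

/-- The braid relation over a base on which `1 = τ + σ` with `τ`, `σ` units. -/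
theorem braid_of_tau
    (hpp : ∀ (X : Over S) (t : X ⟶ T) (x : X ⟶ Red.Ga S), ∃ x' : X ⟶ Red.Ga S,
      x' ≫ pp = (t ≫ i) * (x ≫ pp) * (t ≫ i)⁻¹ ∧ Red.gaFn x' = Red.gmFn (t ≫ α) * Red.gaFn x)
    (hpm : ∀ (X : Over S) (t : X ⟶ T) (y : X ⟶ Red.Ga S), ∃ y' : X ⟶ Red.Ga S,
      y' ≫ pm = (t ≫ i) * (y ≫ pm) * (t ≫ i)⁻¹ ∧ Red.gaFn y' * Red.gmFn (t ≫ α) = Red.gaFn y)
    (h2 : av ≫ α = (𝟙 (Red.Gm S)) ^ 2)
    (hF : ∀ (X : Over S) (x y : X ⟶ Red.Ga S), IsUnit (1 + Red.gaFn x * Red.gaFn y) →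
      ∃ (x' y' : X ⟶ Red.Ga S) (z : X ⟶ Red.Gm S), Red.gmFn z = 1 + Red.gaFn x * Red.gaFn y ∧
        Red.gaFn x' * Red.gmFn z = Red.gaFn x ∧ Red.gaFn y' * Red.gmFn z = Red.gaFn y ∧
        (x ≫ pp) * (y ≫ pm) = (y' ≫ pm) * (z ≫ av ≫ i) * (x' ≫ pp))
    (hFop : ∀ (X : Over S) (x y x' y' : X ⟶ Red.Ga S) (z : X ⟶ Red.Gm S),
      Red.gmFn z = 1 + Red.gaFn x * Red.gaFn y → Red.gaFn x' * Red.gmFn z = Red.gaFn x →
      Red.gaFn y' * Red.gmFn z = Red.gaFn y →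
      (y ≫ pm) * (x ≫ pp) = (x' ≫ pp) * (z ≫ av ≫ i)⁻¹ * (y' ≫ pm))
    (Y : Over S) (x x' : Y ⟶ Red.Ga S) (hx : Red.gaFn x' * Red.gaFn x = -1)
    (τ σ : Γ(Y.left, ⊤)) (hτσ : τ + σ = 1) (hτ : IsUnit τ) (hσ : IsUnit σ) :
    (x' ≫ pm) * (x ≫ pp) * (x' ≫ pm) = (x ≫ pp) * (x' ≫ pm) * (x ≫ pp) := by
  obtain ⟨a₁, ha₁⟩ : ∃ a : Y ⟶ Red.Ga S, Red.gaFn a = τ * Red.gaFn x := ⟨gaPt _, gaFn_gaPt _⟩
  obtain ⟨a₂, ha₂⟩ : ∃ a : Y ⟶ Red.Ga S, Red.gaFn a = σ * Red.gaFn x := ⟨gaPt _, gaFn_gaPt _⟩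
  have hsplit : x = a₁ * a₂ := ga_ext _ _ (by
    rw [gaFn_mul, ha₁, ha₂]; linear_combination (-(Red.gaFn x)) * hτσ)
  have hP : x ≫ pp = (a₁ ≫ pp) * (a₂ ≫ pp) := by
    have h := MonObj.mul_comp a₁ a₂ pp
    rw [← hsplit] at h
    exact h
  have e1 : 1 + Red.gaFn a₁ * Red.gaFn x' = σ := by
    rw [ha₁]; linear_combination τ * hx - hτσ
  have e2 : 1 + Red.gaFn a₂ * Red.gaFn x' = τ := by
    rw [ha₂]; linear_combination σ * hx - hτσ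
  obtain ⟨x₁, y₁, z₁, hz₁, hx₁, hy₁, -⟩ := hF Y a₁ x' (by rw [e1]; exact hσ)
  obtain ⟨x₂, y₂, z₂, hz₂, hx₂, hy₂, hpr⟩ := hF Y a₂ x' (by rw [e2]; exact hτ)
  have hop := hFop Y a₁ x' x₁ y₁ z₁ hz₁ hx₁ hy₁
  rw [e1] at hz₁
  rw [e2] at hz₂
  rw [hz₁, ha₁] at hx₁
  rw [hz₁] at hy₁
  rw [hz₂, ha₂] at hx₂
  rw [hz₂] at hy₂
  have hs := gmFn_inv_mul z₁
  rw [hz₁] at hs
  -- the point y₃ with `M(y₃) = A₁⁻¹ M(y₁ y₂) A₁`
  obtain ⟨y₃, hy₃, hy₃'⟩ := hpm Y (z₁⁻¹ ≫ av) (y₁ * y₂)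
  have hsq1 : Red.gmFn ((z₁⁻¹ ≫ av) ≫ α) = Red.gmFn z₁⁻¹ * Red.gmFn z₁⁻¹ := gmFn_sq α av h2 z₁⁻¹
  rw [hsq1, gaFn_mul] at hy₃'
  have hT₁ : (z₁⁻¹ ≫ av) ≫ i = (z₁ ≫ av ≫ i)⁻¹ := by
    rw [Category.assoc]; exact A_inv i av z₁
  have hM12 : (y₁ * y₂) ≫ pm = (y₁ ≫ pm) * (y₂ ≫ pm) := MonObj.mul_comp y₁ y₂ pm
  rw [hT₁, hM12] at hy₃
  -- the point x₄ with `P(x₄) = B P(x₂) B⁻¹`, `B = A₁⁻¹ A₂`
  obtain ⟨x₄, hx₄, hx₄'⟩ := hpp Y ((z₁⁻¹ * z₂) ≫ av) x₂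
  have hsq2 : Red.gmFn (((z₁⁻¹ * z₂) ≫ av) ≫ α) =
      Red.gmFn (z₁⁻¹ * z₂) * Red.gmFn (z₁⁻¹ * z₂) := gmFn_sq α av h2 _
  rw [hsq2, gmFn_mul, hz₂] at hx₄'
  have hT₂ : ((z₁⁻¹ * z₂) ≫ av) ≫ i = (z₁ ≫ av ≫ i)⁻¹ * (z₂ ≫ av ≫ i) := by
    rw [Category.assoc, A_mul i av z₁⁻¹ z₂, A_inv i av z₁]
  rw [hT₂] at hx₄
  have e41 : x₄ = x₁ := ga_ext _ _ (by
    rw [hx₄']
    linear_combination (Red.gmFn z₁⁻¹ ^ 2 * τ) * hx₂ + (Red.gmFn z₁⁻¹ * τ * Red.gaFn x) * hs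
      - Red.gmFn z₁⁻¹ * hx₁ + Red.gaFn x₁ * hs)
  rw [e41] at hx₄
  have hy3x1 : Red.gaFn y₃ * Red.gaFn x₁ = -1 := by
    linear_combination (-(Red.gaFn y₃ * Red.gaFn x₁ * (Red.gmFn z₁⁻¹ * σ + 1))) * hs
      + (σ ^ 2 * Red.gaFn x₁) * hy₃' + ((Red.gaFn y₁ + Red.gaFn y₂) * σ) * hx₁
      + (τ * Red.gaFn x) * hy₁ + (σ * Red.gaFn x) * hy₂ + (Red.gaFn x' * Red.gaFn x) * hτσ + hx
  have hq := gmFn_inv_mul (z₁⁻¹ * z₂)
  rw [gmFn_mul, hz₂] at hq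
  have hyz : Red.gaFn x = Red.gmFn (z₁⁻¹ * z₂)⁻¹ * Red.gaFn x₁ := by
    linear_combination (-(Red.gaFn x)) * hq + (Red.gmFn (z₁⁻¹ * z₂)⁻¹ * Red.gaFn x₁) * hs
      - (Red.gmFn (z₁⁻¹ * z₂)⁻¹ * Red.gmFn z₁⁻¹) * hx₁
  have hW := (lemmaW i α pp pm av hpp h2 hF hFop Y x₁ y₃ hy3x1 (z₁⁻¹ * z₂)⁻¹ x x' hyz hx).2
  have hC : ((z₁⁻¹ * z₂)⁻¹ ≫ av ≫ i)⁻¹ = (z₁ ≫ av ≫ i)⁻¹ * (z₂ ≫ av ≫ i) := by
    rw [A_inv i av (z₁⁻¹ * z₂), _root_.inv_inv, A_mul i av z₁⁻¹ z₂, A_inv i av z₁]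
  rw [hW, hC]
  exact grp_braid _ _ _ _ _ _ _ _ _ _ _ hP hop hpr hy₃ hx₄

/-- The braid relation `p₋(x')p₊(x)p₋(x') = p₊(x)p₋(x')p₊(x)` for `x x' = -1`. -/
theorem braid
    (hpp : ∀ (X : Over S) (t : X ⟶ T) (x : X ⟶ Red.Ga S), ∃ x' : X ⟶ Red.Ga S,
      x' ≫ pp = (t ≫ i) * (x ≫ pp) * (t ≫ i)⁻¹ ∧ Red.gaFn x' = Red.gmFn (t ≫ α) * Red.gaFn x)
    (hpm : ∀ (X : Over S) (t : X ⟶ T) (y : X ⟶ Red.Ga S), ∃ y' : X ⟶ Red.Ga S,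
      y' ≫ pm = (t ≫ i) * (y ≫ pm) * (t ≫ i)⁻¹ ∧ Red.gaFn y' * Red.gmFn (t ≫ α) = Red.gaFn y)
    (h2 : av ≫ α = (𝟙 (Red.Gm S)) ^ 2)
    (hF : ∀ (X : Over S) (x y : X ⟶ Red.Ga S), IsUnit (1 + Red.gaFn x * Red.gaFn y) →
      ∃ (x' y' : X ⟶ Red.Ga S) (z : X ⟶ Red.Gm S), Red.gmFn z = 1 + Red.gaFn x * Red.gaFn y ∧
        Red.gaFn x' * Red.gmFn z = Red.gaFn x ∧ Red.gaFn y' * Red.gmFn z = Red.gaFn y ∧
        (x ≫ pp) * (y ≫ pm) = (y' ≫ pm) * (z ≫ av ≫ i) * (x' ≫ pp))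
    (hFop : ∀ (X : Over S) (x y x' y' : X ⟶ Red.Ga S) (z : X ⟶ Red.Gm S),
      Red.gmFn z = 1 + Red.gaFn x * Red.gaFn y → Red.gaFn x' * Red.gmFn z = Red.gaFn x →
      Red.gaFn y' * Red.gmFn z = Red.gaFn y →
      (y ≫ pm) * (x ≫ pp) = (x' ≫ pp) * (z ≫ av ≫ i)⁻¹ * (y' ≫ pm))
    (X : Over S) (x x' : X ⟶ Red.Ga S) (hx : Red.gaFn x' * Red.gaFn x = -1) :
    (x' ≫ pm) * (x ≫ pp) * (x' ≫ pm) = (x ≫ pp) * (x' ≫ pm) * (x ≫ pp) := by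
  have := covπ_epi X
  rw [← cancel_epi (covπ X)]
  have hx2 : Red.gaFn (covπ X ≫ x') * Red.gaFn (covπ X ≫ x) = -1 := by
    rw [gaFn_comp, gaFn_comp, ← map_mul, hx, map_neg, map_one]
  have hrel := covτ_rel X
  have hτ : IsUnit (covτ X) :=
    ⟨⟨covτ X, 1 - covτ X, hrel, by rw [mul_comm]; exact hrel⟩, rfl⟩
  have hσ : IsUnit (1 - covτ X) :=
    ⟨⟨1 - covτ X, covτ X, by rw [mul_comm]; exact hrel, hrel⟩, rfl⟩
  have key := braid_of_tau i α pp pm av hpp hpm h2 hF hFop (cov X) (covπ X ≫ x) (covπ X ≫ x') hx2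
    (covτ X) (1 - covτ X) (by ring) hτ hσ
  rw [MonObj.comp_mul, MonObj.comp_mul, MonObj.comp_mul, MonObj.comp_mul]
  simpa only [Category.assoc] using key

end Main

end Groth.Agent.H43.Braid
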