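import Mathlib

set_option linter.unusedVariables false
set_option linter.unusedSectionVars false
set_option linter.style.longLine false
set_option linter.unusedSimpArgs false
set_option linter.style.haveILetI false

/-! Descent of local principal generators along a flat finitely presented ring map:
if `I·B = t·B` with `t` a nonzerodivisor, then near (the image of) any prime of `B` the ideal `I`
is generated by a nonzerodivisor. -/

universe u

namespace Groth.Agent.H43.CartierDescent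

section
variable {A B : Type u} [CommRing A] [CommRing B] [Algebra A B]

/-- flatness: the kernel of `x ↦ x·a mod a₀` commutes with base change -/
lemma mem_map_span_of_flat [Module.Flat A B] (a a₀ : A) (b1 b2 : B)
    (h : algebraMap A B a * b1 = algebraMap A B a₀ * b2) :
    b1 ∈ (Ideal.span {x : A | ∃ y, x * a = y * a₀}).map (algebraMap A B) := by
  obtain ⟨k, m, y, hx, hf⟩ := Module.Flat.isTrivialRelation_of_sum_smul_eq_zero (R := A) (M := B)
    (f := ![a, -a₀]) (x := ![b1, b2]) (by simp [Fin.sum_univ_two, Algebra.smul_def, h])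
  have h0 : b1 = ∑ j, m 0 j • y j := by simpa using hx 0
  rw [h0]
  refine Ideal.sum_mem _ fun j _ => ?_
  rw [Algebra.smul_def]
  refine Ideal.mul_mem_right _ _ (Ideal.mem_map_of_mem _ (Ideal.subset_span ⟨m 1 j, ?_⟩))
  have := hf j
  simp [Fin.sum_univ_two] at this
  linear_combination this

lemma exists_pow_mem_of_cover (s : A) (c : B)
    (hs : ∀ P : PrimeSpectrum A, s ∉ P.asIdeal → ∃ Q : PrimeSpectrum B, c ∉ Q.asIdeal ∧
      Q.asIdeal.comap (algebraMap A B) = P.asIdeal)
    (J : Ideal A) (m : ℕ) (h : c * algebraMap A B s ^ m ∈ J.map (algebraMap A B)) :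
    ∃ n, s ^ n ∈ J := by
  suffices hrad : s ∈ J.radical from hrad
  rw [Ideal.radical_eq_sInf, Ideal.mem_sInf]
  rintro P ⟨hJP, hP⟩
  by_contra hsP
  obtain ⟨Q, hcQ, hQP⟩ := hs ⟨P, hP⟩ hsP
  have hle : J.map (algebraMap A B) ≤ Q.asIdeal := by
    rw [Ideal.map_le_iff_le_comap, hQP]
    exact hJP
  have hmem := hle h
  rcases Q.isPrime.mem_or_mem hmem with h1 | h1
  · exact hcQ h1
  · have h2 := Q.isPrime.mem_of_pow_mem m h1
    have h3 : s ∈ Q.asIdeal.comap (algebraMap A B) := h2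
    rw [hQP] at h3
    exact hsP h3

lemma span_rel (a a₀ : A) : ∀ x ∈ Ideal.span {x : A | ∃ y, x * a = y * a₀}, ∃ y, x * a = y * a₀ := by
  intro x hx
  refine Submodule.span_induction (p := fun x _ => ∃ y, x * a = y * a₀) ?_ ?_ ?_ ?_ hx
  · rintro x ⟨y, hy⟩
    exact ⟨y, hy⟩
  · exact ⟨0, by rw [zero_mul, zero_mul]⟩
  · rintro x y _ _ ⟨y1, h1⟩ ⟨y2, h2⟩
    exact ⟨y1 + y2, by rw [add_mul, add_mul, h1, h2]⟩
  · rintro b x _ ⟨y1, h1⟩
    exact ⟨b * y1, by rw [smul_eq_mul, mul_assoc, h1, mul_assoc]⟩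

end

theorem exists_away_span_singleton_of_flat {A B : Type u} [CommRing A] [CommRing B] (φ : A →+* B)
    (hflat : φ.Flat) (hfp : φ.FinitePresentation) (I : Ideal A) (t : B)
    (ht : t ∈ nonZeroDivisors B) (hI : I.map φ = Ideal.span {t}) (q : Ideal B) [q.IsPrime] :
    ∃ s : A, φ s ∉ q ∧ ∀ (A' : Type u) [CommRing A'] [Algebra A A'] [IsLocalization.Away s A'],
      ∃ a : A', a ∈ nonZeroDivisors A' ∧ I.map (algebraMap A A') = Ideal.span {a} := by
  letI := φ.toAlgebra
  haveI : Module.Flat A B := hflat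
  haveI : Algebra.FinitePresentation A B := hfp
  have hφ : ∀ x, algebraMap A B x = φ x := fun _ => rfl
  -- step 1
  obtain ⟨a₀, ha₀, c, hc, hcq⟩ : ∃ a₀ ∈ I, ∃ c : B, φ a₀ = t * c ∧ c ∉ q := by
    by_contra hcon
    push Not at hcon
    have key : ∀ x ∈ I.map φ, ∃ c ∈ q, x = t * c := by
      intro x hx
      refine Submodule.span_induction (p := fun x _ => ∃ c ∈ q, x = t * c) ?_ ?_ ?_ ?_ hx
      · rintro _ ⟨a, ha, rfl⟩
        have hmem : φ a ∈ Ideal.span {t} := hI ▸ Ideal.mem_map_of_mem φ ha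
        obtain ⟨c, hc⟩ := Ideal.mem_span_singleton'.mp hmem
        exact ⟨c, hcon a ha c (by rw [← hc, mul_comm]), by rw [← hc, mul_comm]⟩
      · exact ⟨0, q.zero_mem, by rw [mul_zero]⟩
      · rintro x y _ _ ⟨c1, h1, rfl⟩ ⟨c2, h2, rfl⟩
        exact ⟨c1 + c2, q.add_mem h1 h2, by rw [mul_add]⟩
      · rintro b x _ ⟨c1, h1, rfl⟩
        exact ⟨b * c1, q.mul_mem_left b h1, by rw [smul_eq_mul]; ring⟩
    have htmem : t ∈ I.map φ := hI ▸ Ideal.mem_span_singleton_self t
    obtain ⟨c, hcq, hc⟩ := key t htmem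
    have h1 : c - 1 = 0 := by
      refine (mul_right_mem_nonZeroDivisors_eq_zero_iff ht).mp ?_
      rw [sub_mul, one_mul, mul_comm, ← hc, sub_self]
    have h2 : c = 1 := sub_eq_zero.mp h1
    rw [h2] at hcq
    exact (Ideal.IsPrime.ne_top ‹q.IsPrime›) ((Ideal.eq_top_iff_one q).mpr hcq)
  -- step 2
  have hopen := PrimeSpectrum.isOpenMap_comap_of_hasGoingDown_of_finitePresentation (R := A) (S := B)
  have hU : IsOpen (PrimeSpectrum.comap (algebraMap A B) '' (PrimeSpectrum.basicOpen c : Set (PrimeSpectrum B))) :=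
    hopen _ (PrimeSpectrum.basicOpen c).isOpen
  have hq : PrimeSpectrum.comap (algebraMap A B) ⟨q, ‹q.IsPrime›⟩ ∈
      PrimeSpectrum.comap (algebraMap A B) '' (PrimeSpectrum.basicOpen c : Set (PrimeSpectrum B)) :=
    ⟨⟨q, ‹q.IsPrime›⟩, hcq, rfl⟩
  obtain ⟨v, ⟨s, rfl⟩, hsv, hvU⟩ :=
    PrimeSpectrum.isTopologicalBasis_basic_opens.exists_subset_of_mem_open hq hU
  have hs : ∀ P : PrimeSpectrum A, s ∉ P.asIdeal → ∃ Q : PrimeSpectrum B, c ∉ Q.asIdeal ∧
      Q.asIdeal.comap (algebraMap A B) = P.asIdeal := by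
    intro P hP
    obtain ⟨Q, hQ, hQP⟩ := hvU (show P ∈ (PrimeSpectrum.basicOpen s : Set (PrimeSpectrum A)) from hP)
    exact ⟨Q, hQ, by rw [← hQP]; rfl⟩
  have hsq : φ s ∉ q := hsv
  refine ⟨s, hsq, ?_⟩
  intro A' _ _ _
  have hu : IsUnit (algebraMap A A' s) := IsLocalization.Away.algebraMap_isUnit s
  refine ⟨algebraMap A A' a₀, ?_, ?_⟩
  · -- nonzerodivisor
    rw [mem_nonZeroDivisors_iff_right]
    intro z hz
    obtain ⟨⟨x1, u'⟩, hx⟩ := IsLocalization.surj (Submonoid.powers s) z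
    have hu' : IsUnit (algebraMap A A' (u' : A)) := IsLocalization.map_units A' u'
    have h1 : algebraMap A A' (x1 * a₀) = 0 := by
      rw [map_mul, ← hx, mul_right_comm, hz, zero_mul]
    obtain ⟨v, hv⟩ := (IsLocalization.map_eq_zero_iff (Submonoid.powers s) A' _).mp h1
    -- x := v * x1 kills a₀
    have h2 : algebraMap A B ((v : A) * x1) * c = algebraMap A B 0 * 0 := by
      rw [map_zero, zero_mul]
      refine (mul_right_mem_nonZeroDivisors_eq_zero_iff ht).mp ?_
      have : algebraMap A B ((v : A) * x1) * c * t = φ ((v : A) * (x1 * a₀)) := by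
        rw [hφ, map_mul, map_mul, map_mul, hc]; ring
      rw [this, hv, map_zero]
    have h3 := mem_map_span_of_flat ((v : A) * x1) 0 c 0 h2
    have h3' : c * algebraMap A B s ^ 0 ∈
        (Ideal.span {x : A | ∃ y, x * ((v : A) * x1) = y * 0}).map (algebraMap A B) := by
      rw [pow_zero, mul_one]; exact h3
    obtain ⟨n, hn⟩ := exists_pow_mem_of_cover s c hs _ 0 h3'
    obtain ⟨y, hy⟩ := span_rel _ _ _ hn
    rw [mul_zero] at hy
    -- s^n * v * x1 = 0 so x1 ↦ 0
    have h4 : algebraMap A A' x1 = 0 := by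
      rw [IsLocalization.map_eq_zero_iff (Submonoid.powers s) A']
      refine ⟨⟨s ^ n, n, rfl⟩ * v, ?_⟩
      rw [Submonoid.coe_mul, mul_assoc]
      exact hy
    rw [h4] at hx
    exact (hu'.mul_left_eq_zero).mp hx
  · -- equality of ideals
    apply le_antisymm
    · rw [Ideal.map_le_iff_le_comap]
      intro a ha
      rw [Ideal.mem_comap]
      have hmem : φ a ∈ Ideal.span {t} := hI ▸ Ideal.mem_map_of_mem φ ha
      obtain ⟨ca, hca⟩ := Ideal.mem_span_singleton'.mp hmem
      have h2 : algebraMap A B a * c = algebraMap A B a₀ * ca := by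
        rw [hφ, hφ, hc, ← hca]; ring
      have h3 := mem_map_span_of_flat a a₀ c ca h2
      have h3' : c * algebraMap A B s ^ 0 ∈
          (Ideal.span {x : A | ∃ y, x * a = y * a₀}).map (algebraMap A B) := by
        rw [pow_zero, mul_one]; exact h3
      obtain ⟨n, hn⟩ := exists_pow_mem_of_cover s c hs _ 0 h3'
      obtain ⟨y, hy⟩ := span_rel _ _ _ hn
      have h4 : algebraMap A A' s ^ n * algebraMap A A' a ∈
          Ideal.span {algebraMap A A' a₀} := by
        rw [← map_pow, ← map_mul, hy, map_mul]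
        exact Ideal.mul_mem_left _ _ (Ideal.mem_span_singleton_self _)
      exact (Ideal.unit_mul_mem_iff_mem _ (hu.pow n)).mp h4
    · rw [Ideal.span_singleton_le_iff_mem]
      exact Ideal.mem_map_of_mem _ ha₀

end Groth.Agent.H43.CartierDescent
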