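import Mathlib.RingTheory.AdjoinRoot
import Mathlib.LinearAlgebra.Matrix.Charpoly.Minpoly
import Mathlib.LinearAlgebra.Matrix.Charpoly.Coeff
import Mathlib.Algebra.Polynomial.Splits
import Mathlib.LinearAlgebra.FreeModule.Basic

set_option autoImplicit false
universe u v w w'

namespace Groth.Agent.H43

open Polynomial

section
variable {R : Type u} {S : Type v} [CommRing R] [CommRing S]
variable {ι : Type w} [Fintype ι] [DecidableEq ι]

theorem mapMatrix_aeval (φ : R →+* S) (M : Matrix ι ι R) (P : R[X]) :
    φ.mapMatrix (aeval M P) = aeval (M.map φ) (P.map φ) := by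
  rw [aeval_def, aeval_def, Polynomial.hom_eval₂, Polynomial.eval₂_map]
  congr 1
  ext a i j
  simp [Matrix.algebraMap_matrix_apply]
  split_ifs <;> simp

theorem det_add_algebraMap (M : Matrix ι ι S) (a : S) :
    (M + algebraMap S (Matrix ι ι S) a).det =
      (-1) ^ (Fintype.card ι) * M.charpoly.eval (-a) := by
  rw [Matrix.eval_charpoly]
  have : Matrix.scalar ι (-a) - M = -(M + algebraMap S (Matrix ι ι S) a) := by
    rw [Matrix.algebraMap_eq_diagonal]
    ext i j
    simp only [Matrix.scalar_apply, Matrix.sub_apply, Matrix.diagonal_apply, Matrix.neg_apply,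
      Matrix.add_apply, Pi.algebraMap_apply, Algebra.algebraMap_self, RingHom.id_apply]
    split_ifs <;> ring
  rw [this, Matrix.det_neg, ← mul_assoc, ← mul_pow]
  simp

end

theorem det_aeval_eq_of_charpoly_eq {R : Type u} [CommRing R] {ι : Type w} {κ : Type w'}
    [Fintype ι] [DecidableEq ι] [Fintype κ] [DecidableEq κ]
    (C : Matrix ι ι R) (A : Matrix κ κ R) (h : C.charpoly = A.charpoly) (P : R[X]) :
    (aeval C P).det = (aeval A P).det := by
  cases subsingleton_or_nontrivial R
  · exact Subsingleton.elim _ _
  have hcard : Fintype.card ι = Fintype.card κ := by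
    rw [← Matrix.charpoly_natDegree_eq_dim C, ← Matrix.charpoly_natDegree_eq_dim A, h]
  set P' : R[X] := P + A.charpoly * X ^ (P.natDegree + 1) with hP'
  have hmon : (A.charpoly * X ^ (P.natDegree + 1)).Monic :=
    (Matrix.charpoly_monic A).mul (monic_X_pow _)
  have hP'monic : P'.Monic := by
    apply Monic.add_of_right hmon
    apply degree_lt_degree
    rw [Monic.natDegree_mul (Matrix.charpoly_monic A) (monic_X_pow _), natDegree_X_pow]
    omega
  have hC : aeval C P' = aeval C P := by
    rw [hP', map_add, map_mul, ← h, Matrix.aeval_self_charpoly, zero_mul, add_zero]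
  have hA : aeval A P' = aeval A P := by
    rw [hP', map_add, map_mul, Matrix.aeval_self_charpoly, zero_mul, add_zero]
  rw [← hC, ← hA]
  obtain ⟨S, _, _, _, _, _, hS⟩ := hP'monic.exists_splits_map
  have hφ : Function.Injective (algebraMap R S) := FaithfulSMul.algebraMap_injective R S
  apply hφ
  rw [RingHom.map_det, RingHom.map_det, mapMatrix_aeval, mapMatrix_aeval]
  have hch : (C.map (algebraMap R S)).charpoly = (A.map (algebraMap R S)).charpoly := by
    rw [Matrix.charpoly_map, Matrix.charpoly_map, h]
  generalize C.map (algebraMap R S) = C' at hch ⊢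
  generalize A.map (algebraMap R S) = A' at hch ⊢
  generalize P'.map (algebraMap R S) = Q at hS
  unfold Splits at hS
  induction hS using Submonoid.closure_induction with
  | mem x hx =>
    rcases hx with ⟨a, rfl⟩ | ⟨a, rfl⟩
    · simp [Algebra.algebraMap_eq_smul_one, hcard]
    · rw [map_add, aeval_X, aeval_C, map_add, aeval_X, aeval_C, det_add_algebraMap,
        det_add_algebraMap, hch, hcard]
  | one => simp
  | mul x y _ _ hx hy => rw [map_mul, map_mul, Matrix.det_mul, Matrix.det_mul, hx, hy]

theorem minpoly_root_of_monic {R : Type u} [CommRing R] {g : R[X]} (hg : g.Monic) :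
    minpoly R (AdjoinRoot.root g) = g := by
  symm
  refine minpoly.unique' R (AdjoinRoot.root g) hg ?_ ?_
  · rw [AdjoinRoot.aeval_eq, AdjoinRoot.mk_self]
  · intro q hq
    refine or_iff_not_imp_left.2 fun h0 => ?_
    rw [AdjoinRoot.aeval_eq]
    exact AdjoinRoot.mk_ne_zero_of_degree_lt hg h0 hq

end Groth.Agent.H43
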