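import Groth.Agent.H43.GammaRep
import Groth.Agent.S8649

/-!
# A divisibility principle for the universal polynomials of the λ- and γ-operations

If every monomial of `f` contains the variable `(l₀, d)` (standing for `γ^{d+1}(x_{l₀})`), then every
monomial of the universal polynomial computing `γ^n(f)` or `λ^n(f)` contains a variable `(l₀, k)`
with `k ≥ d`.  Consequently, when `γ^{k+1}(x_{l₀}) = 0` for `k > d`, the value is divisible by
`γ^{d+1}(x_{l₀})`, with a quotient in the expected step of the γ-filtration.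
-/

set_option autoImplicit false

universe u v w

namespace Groth.Agent.H43

open LambdaRing Finset TensorProduct

section SpanX

variable {R : Type*} [CommRing R] [Algebra ℚ R] {σ : Type*}

theorem psiT_mem_span_X (k : ℕ) (s₀ : σ) {w : MvPolynomial σ R}
    (hw : w ∈ Ideal.span {(MvPolynomial.X s₀ : MvPolynomial σ R)}) :
    psiT R σ k w ∈ Ideal.span {(MvPolynomial.X s₀ : MvPolynomial σ R)} := by
  obtain ⟨a, rfl⟩ := Ideal.mem_span_singleton'.mp hw
  have h : (1 + MvPolynomial.X s₀ : MvPolynomial σ R) ^ k - 1 =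
      (∑ i ∈ range k, (1 + MvPolynomial.X s₀ : MvPolynomial σ R) ^ i) * MvPolynomial.X s₀ := by
    have g := geom_sum_mul (1 + MvPolynomial.X s₀ : MvPolynomial σ R) k
    rw [← g]
    ring
  rw [map_mul, psiT_X, h, ← mul_assoc]
  exact Ideal.mul_mem_left _ _ (Ideal.subset_span (Set.mem_singleton _))

variable [LambdaOps (MvPolynomial σ R)]

theorem lam_mem_span_X (hT : IsTestLam R σ) (s₀ : σ) {w : MvPolynomial σ R}
    (hw : w ∈ Ideal.span {(MvPolynomial.X s₀ : MvPolynomial σ R)}) (n : ℕ) :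
    LambdaOps.lam (n + 1) w ∈ Ideal.span {(MvPolynomial.X s₀ : MvPolynomial σ R)} := by
  have hN := newton_lam w n
  obtain ⟨v, hv⟩ := (isUnit_natCast_add_one (K := MvPolynomial σ R) n).exists_right_inv
  have hlam : LambdaOps.lam (n + 1) w =
      (∑ i ∈ range (n + 1), (-1) ^ i * adamsOp (i + 1) w * LambdaOps.lam (n - i) w) * v := by
    rw [← hN, mul_assoc, hv, mul_one]
  rw [hlam]
  apply Ideal.mul_mem_right
  apply Ideal.sum_mem
  intro i _
  rw [hT]
  apply Ideal.mul_mem_right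
  apply Ideal.mul_mem_left
  exact psiT_mem_span_X (i + 1) s₀ hw

theorem gamma_mem_span_X (hT : IsTestLam R σ) (s₀ : σ) {w : MvPolynomial σ R}
    (hw : w ∈ Ideal.span {(MvPolynomial.X s₀ : MvPolynomial σ R)}) (n : ℕ) (hn : 1 ≤ n) :
    gamma n w ∈ Ideal.span {(MvPolynomial.X s₀ : MvPolynomial σ R)} := by
  obtain ⟨n, rfl⟩ : ∃ j, n = j + 1 := ⟨n - 1, by omega⟩
  rw [Groth.Agent.S8651.gamma_succ]
  apply Ideal.sum_mem
  intro j _
  exact Ideal.mul_mem_left _ _ (lam_mem_span_X hT s₀ hw j)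

end SpanX

section EsF

variable (R : Type*) [CommRing R] {κ : Type*} (ν : κ → ℕ)

theorem esF_eq_coeff (l : κ) (k : ℕ) :
    esF R ν l k = PowerSeries.coeff k (lineProd (range (ν l))
      (fun a : ℕ => (MvPolynomial.X (l, a) : MvPolynomial (κ × ℕ) R))) := by
  classical
  have h : lineProd (range (ν l))
      (fun a : ℕ => (MvPolynomial.X (l, a) : MvPolynomial (κ × ℕ) R)) =
      lineProd (univ : Finset (Fin (ν l)))
        (fun a => (MvPolynomial.X (embF ν l a) : MvPolynomial (κ × ℕ) R)) := by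
    unfold lineProd
    exact (Fin.prod_univ_eq_prod_range (fun a : ℕ =>
      (1 + PowerSeries.C (MvPolynomial.X (l, a) : MvPolynomial (κ × ℕ) R) * PowerSeries.X :
        PowerSeries (MvPolynomial (κ × ℕ) R))) (ν l)).symm
  rw [h, coeff_lineProd]
  unfold esF
  rw [rename_esymm_eq_sum]

theorem esF_eq_zero (l : κ) (k : ℕ) (hk : ν l < k) : esF R ν l k = 0 := by
  classical
  unfold esF
  rw [rename_esymm_eq_sum, Finset.powersetCard_eq_empty.mpr (by simpa using hk), Finset.sum_empty]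

theorem esF_top_mem (l : κ) (j k : ℕ) (hk : k = ν l) (hj : j < ν l) :
    esF R ν l k ∈ Ideal.span {(MvPolynomial.X (l, j) : MvPolynomial (κ × ℕ) R)} := by
  classical
  unfold esF
  rw [rename_esymm_eq_sum]
  apply Ideal.sum_mem
  intro t ht
  rw [Finset.mem_powersetCard] at ht
  have htu : t = Finset.univ := by
    apply Finset.eq_univ_of_card
    rw [ht.2, Fintype.card_fin, hk]
  rw [Ideal.mem_span_singleton]
  have hmem : (⟨j, hj⟩ : Fin (ν l)) ∈ t := by
    rw [htu]
    exact Finset.mem_univ _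
  have hd : (MvPolynomial.X (embF ν l ⟨j, hj⟩) : MvPolynomial (κ × ℕ) R) ∣
      ∏ a ∈ t, MvPolynomial.X (embF ν l a) :=
    Finset.dvd_prod_of_mem (fun a => (MvPolynomial.X (embF ν l a) : MvPolynomial (κ × ℕ) R)) hmem
  exact hd

open Classical in
/-- setting the variable `(l₀, d)` equal to zero. -/
noncomputable def rhoF (l₀ : κ) (d : ℕ) : MvPolynomial (κ × ℕ) R →ₐ[R] MvPolynomial (κ × ℕ) R :=
  MvPolynomial.aeval (fun s : κ × ℕ => if s = (l₀, d) then 0 else MvPolynomial.X s)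

theorem rhoF_X_self (l₀ : κ) (d : ℕ) : rhoF R l₀ d (MvPolynomial.X (l₀, d)) = 0 := by
  unfold rhoF
  rw [MvPolynomial.aeval_X, if_pos rfl]

theorem rhoF_X_of_ne (l₀ : κ) (d : ℕ) (s : κ × ℕ) (hs : s ≠ (l₀, d)) :
    rhoF R l₀ d (MvPolynomial.X s) = MvPolynomial.X s := by
  unfold rhoF
  rw [MvPolynomial.aeval_X, if_neg hs]

open Classical in
theorem rhoF_esF (l₀ : κ) (d : ℕ) (hν : ν l₀ = d + 1) (l : κ) (k : ℕ) :
    rhoF R l₀ d (esF R ν l k) = esF R (Function.update ν l₀ d) l k := by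
  set φ : MvPolynomial (κ × ℕ) R →+* MvPolynomial (κ × ℕ) R := (rhoF R l₀ d).toRingHom with hφdef
  have hφ : ∀ z, φ z = rhoF R l₀ d z := fun _ => rfl
  rw [esF_eq_coeff, esF_eq_coeff, ← hφ, ← PowerSeries.coeff_map, map_lineProd]
  refine congrArg (PowerSeries.coeff k) ?_
  by_cases hl : l = l₀
  · subst hl
    rw [Function.update_self, hν]
    unfold lineProd
    beta_reduce
    rw [Finset.prod_range_succ, hφ, rhoF_X_self, map_zero, zero_mul, add_zero, mul_one]
    apply Finset.prod_congr rfl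
    intro a ha
    have ha' := Finset.mem_range.mp ha
    rw [hφ, rhoF_X_of_ne]
    intro h
    have := congrArg Prod.snd h
    simp only at this
    omega
  · rw [Function.update_of_ne hl]
    unfold lineProd
    beta_reduce
    apply Finset.prod_congr rfl
    intro a _
    rw [hφ, rhoF_X_of_ne]
    intro h
    exact hl (congrArg Prod.fst h)

open Classical in
theorem rhoF_iotaF (l₀ : κ) (d : ℕ) (hν : ν l₀ = d + 1) (q : MvPolynomial (κ × ℕ) R) :
    rhoF R l₀ d (iotaF R ν q) = iotaF R (Function.update ν l₀ d) q := by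
  have h : (rhoF R l₀ d).comp (iotaF R ν) = iotaF R (Function.update ν l₀ d) := by
    apply MvPolynomial.algHom_ext
    intro p
    rw [AlgHom.comp_apply]
    unfold iotaF
    rw [MvPolynomial.aeval_X, MvPolynomial.aeval_X]
    exact rhoF_esF R ν l₀ d hν p.1 (p.2 + 1)
  exact AlgHom.congr_fun h q

end EsF

section Bad

variable {R : Type*} [CommRing R] {κ : Type*}

/-- the monomial `m` contains a variable `(l₀, k)` with `k ≥ d`. -/
def BadM (l₀ : κ) (d : ℕ) (m : (κ × ℕ) →₀ ℕ) : Prop := ∃ k, d ≤ k ∧ m (l₀, k) ≠ 0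

/-- every monomial of `q` contains a variable `(l₀, k)` with `k ≥ d`. -/
def BadP (l₀ : κ) (d : ℕ) (q : MvPolynomial (κ × ℕ) R) : Prop :=
  ∀ m ∈ q.support, BadM l₀ d m

theorem badP_sub {l₀ : κ} {d : ℕ} {p q : MvPolynomial (κ × ℕ) R} (hp : BadP l₀ d p)
    (hq : BadP l₀ d q) : BadP l₀ d (p - q) := by
  classical
  intro m hm
  rcases Finset.mem_union.mp (MvPolynomial.support_sub _ p q hm) with h | h
  · exact hp m h
  · exact hq m h

theorem badP_X_mul (l₀ : κ) (d : ℕ) (g : MvPolynomial (κ × ℕ) R) :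
    BadP l₀ d (MvPolynomial.X (l₀, d) * g) := by
  classical
  intro m hm
  rw [MvPolynomial.support_X_mul, Finset.mem_map] at hm
  obtain ⟨m0, _, rfl⟩ := hm
  refine ⟨d, le_rfl, ?_⟩
  simp only [addLeftEmbedding_apply, Finsupp.add_apply, Finsupp.single_eq_same]
  omega

variable (R)

/-- The key lemma: if the image of `q` under the substitution of the elementary symmetric functions,
with exactly `d + 1` variables in the family `l₀`, is divisible by the variable `(l₀, d)`, then all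
monomials of `q` contain a variable `(l₀, k)` with `k ≥ d`. -/
theorem bad_of_iotaF_mem (ν : κ → ℕ) (l₀ : κ) (d : ℕ) (hν : ν l₀ = d + 1)
    (q : MvPolynomial (κ × ℕ) R) (hq : ∀ p ∈ q.vars, p.1 ≠ l₀ → p.2 < ν p.1)
    (hmem : iotaF R ν q ∈ Ideal.span {(MvPolynomial.X (l₀, d) : MvPolynomial (κ × ℕ) R)}) :
    BadP l₀ d q := by
  classical
  have h0 : iotaF R (Function.update ν l₀ d) q = 0 := by
    rw [← rhoF_iotaF R ν l₀ d hν]
    obtain ⟨a, ha⟩ := Ideal.mem_span_singleton'.mp hmem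
    rw [← ha, map_mul, rhoF_X_self, mul_zero]
  have hν'0 : Function.update ν l₀ d l₀ = d := Function.update_self _ _ _
  have hν'1 : ∀ l, l ≠ l₀ → Function.update ν l₀ d l = ν l :=
    fun l hl => Function.update_of_ne hl _ _
  generalize Function.update ν l₀ d = ν' at h0 hν'0 hν'1
  set qg : MvPolynomial (κ × ℕ) R := ∑ m ∈ q.support.filter (fun m => ¬ BadM l₀ d m),
    MvPolynomial.monomial m (MvPolynomial.coeff m q) with hqg
  set qb : MvPolynomial (κ × ℕ) R := ∑ m ∈ q.support.filter (fun m => BadM l₀ d m),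
    MvPolynomial.monomial m (MvPolynomial.coeff m q) with hqb
  have hsplit : qb + qg = q := by
    rw [hqb, hqg, Finset.sum_filter_add_sum_filter_not]
    exact q.as_sum.symm
  have hb0 : iotaF R ν' qb = 0 := by
    rw [hqb, map_sum]
    apply Finset.sum_eq_zero
    intro m hm
    obtain ⟨k, hk, hmk⟩ := (Finset.mem_filter.mp hm).2
    unfold iotaF
    rw [MvPolynomial.aeval_monomial]
    apply mul_eq_zero_of_right
    rw [Finsupp.prod]
    apply Finset.prod_eq_zero (Finsupp.mem_support_iff.mpr hmk)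
    have hz : esF R ν' l₀ (k + 1) = 0 := esF_eq_zero R ν' l₀ (k + 1) (by rw [hν'0]; omega)
    show esF R ν' l₀ (k + 1) ^ m (l₀, k) = 0
    rw [hz]
    exact zero_pow hmk
  have hg0 : iotaF R ν' qg = 0 := by
    have h := h0
    rw [← hsplit, map_add, hb0, zero_add] at h
    exact h
  have hsupp : ∀ m ∈ qg.support, m ∈ q.support.filter (fun m => ¬ BadM l₀ d m) := by
    intro m hm
    by_contra hnot
    apply MvPolynomial.mem_support_iff.mp hm
    rw [hqg, MvPolynomial.coeff_sum]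
    apply Finset.sum_eq_zero
    intro b hb
    rw [MvPolynomial.coeff_monomial, if_neg]
    rintro rfl
    exact hnot hb
  have hgvars : ∀ p ∈ qg.vars, p.2 < ν' p.1 := by
    intro p hp
    rw [MvPolynomial.mem_vars_iff_mem_support] at hp
    obtain ⟨m, hm, hpm⟩ := hp
    obtain ⟨hm1, hm2⟩ := Finset.mem_filter.mp (hsupp m hm)
    have hpm' : m p ≠ 0 := Finsupp.mem_support_iff.mp hpm
    by_cases hl : p.1 = l₀
    · rw [hl, hν'0]
      by_contra hcon
      rw [not_lt] at hcon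
      apply hm2
      refine ⟨p.2, hcon, ?_⟩
      rw [← hl]
      exact hpm'
    · rw [hν'1 _ hl]
      apply hq p _ hl
      rw [MvPolynomial.mem_vars_iff_mem_support]
      exact ⟨m, hm1, hpm⟩
  have hg : qg = 0 := iotaF_eq_zero R ν' qg hgvars hg0
  intro m hm
  by_contra hbad
  have hmg : m ∈ q.support.filter (fun m => ¬ BadM l₀ d m) := Finset.mem_filter.mpr ⟨hm, hbad⟩
  have hc : MvPolynomial.coeff m qg = MvPolynomial.coeff m q := by
    rw [hqg, MvPolynomial.coeff_sum, Finset.sum_eq_single m]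
    · rw [MvPolynomial.coeff_monomial, if_pos rfl]
    · intro b _ hb
      rw [MvPolynomial.coeff_monomial, if_neg hb]
    · intro h
      exact absurd hmg h
  rw [hg, MvPolynomial.coeff_zero] at hc
  exact (MvPolynomial.mem_support_iff.mp hm) hc.symm

/-- the polynomial form of the divisibility principle. -/
theorem bad_of_test {K : Type*} [CommRing K] [Algebra K R]
    (hinj : Function.Injective (algebraMap K R)) (l₀ : κ) (d : ℕ) (f h : MvPolynomial (κ × ℕ) K)
    (hf : ∃ g, f = MvPolynomial.X (l₀, d) * g)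
    (htest : ∀ ν : κ → ℕ, ν l₀ = d + 1 →
      iotaF R ν (MvPolynomial.map (algebraMap K R) f) ∈
        Ideal.span {(MvPolynomial.X (l₀, d) : MvPolynomial (κ × ℕ) R)} →
      iotaF R ν (MvPolynomial.map (algebraMap K R) h) ∈
        Ideal.span {(MvPolynomial.X (l₀, d) : MvPolynomial (κ × ℕ) R)}) :
    BadP l₀ d h := by
  classical
  obtain ⟨g, rfl⟩ := hf
  obtain ⟨M, hM⟩ : ∃ M, M = h.vars.sup Prod.snd + 1 := ⟨_, rfl⟩
  obtain ⟨ν, hν, hν'⟩ : ∃ ν : κ → ℕ, ν l₀ = d + 1 ∧ ∀ l, l ≠ l₀ → ν l = M :=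
    ⟨fun l => if l = l₀ then d + 1 else M, if_pos rfl, fun l hl => if_neg hl⟩
  have h1 : iotaF R ν (MvPolynomial.map (algebraMap K R) (MvPolynomial.X (l₀, d) * g)) ∈
      Ideal.span {(MvPolynomial.X (l₀, d) : MvPolynomial (κ × ℕ) R)} := by
    rw [map_mul, MvPolynomial.map_X, map_mul]
    apply Ideal.mul_mem_right
    unfold iotaF
    rw [MvPolynomial.aeval_X]
    exact esF_top_mem R ν l₀ d (d + 1) hν.symm (by rw [hν]; omega)
  have h2 := htest ν hν h1
  have hvars : ∀ p ∈ (MvPolynomial.map (algebraMap K R) h).vars, p.1 ≠ l₀ → p.2 < ν p.1 := by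
    intro p hp hne
    rw [hν' _ hne, hM]
    exact Nat.lt_succ_of_le (Finset.le_sup (f := Prod.snd) (MvPolynomial.vars_map _ _ hp))
  have h3 := bad_of_iotaF_mem R ν l₀ d hν _ hvars h2
  intro m hm
  apply h3
  rw [MvPolynomial.support_map_of_injective h hinj]
  exact hm

end Bad

section RepLam

variable {K : Type u} [CommRing K] [LambdaOps K] {κ : Type}

/-- `h` computes `λ^n` of the value of `f` (in terms of the γ-variables), in all `K`-λ-algebras of
the universe `v`. -/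
def RepLam (K : Type u) [CommRing K] [LambdaOps K] (κ : Type) (f : MvPolynomial (κ × ℕ) K) (n : ℕ)
    (h : MvPolynomial (κ × ℕ) K) : Prop :=
  ∀ (A : Type v) [CommRing A] [LambdaOps A] [Algebra K A], IsSpecial A → IsLambdaAlg K A →
    ∀ x : κ → A, LambdaOps.lam n (evG K x f) = evG K x h

theorem exists_repLam (f : MvPolynomial (κ × ℕ) K) (n : ℕ) :
    ∃ h, RepLam.{u, v} K κ f n h ∧ RepLam.{u, w} K κ f n h := by
  obtain ⟨F, h1, h2⟩ := exists_repL.{u, v, w} (thetaLG K κ f)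
  refine ⟨thetaGL K κ (PowerSeries.coeff n F), ?_, ?_⟩
  · intro A _ _ _ hA hAlg x
    rw [evG_thetaGL, repL_coeff h1 hA hAlg x, evL_thetaLG]
  · intro A _ _ _ hA hAlg x
    rw [evG_thetaGL, repL_coeff h2 hA hAlg x, evL_thetaLG]

end RepLam

section BadRep

variable {K : Type u} [CommRing K] [LambdaOps K] [BinomialRing K] {κ : Type}

theorem bad_of_repG (hKb : IsBinomial K) (l₀ : κ) (d : ℕ) (f h : MvPolynomial (κ × ℕ) K)
    (hf : ∃ g, f = MvPolynomial.X (l₀, d) * g) (n : ℕ) (hn : 1 ≤ n)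
    (hrep : RepG.{u, u} K κ f n h) : BadP l₀ d h := by
  classical
  have : IsAddTorsionFree K := BinomialRing.toIsAddTorsionFree
  letI : Algebra K (ℚ ⊗[ℤ] K) := Algebra.TensorProduct.rightAlgebra
  have hinj : Function.Injective (algebraMap K (ℚ ⊗[ℤ] K)) :=
    Algebra.TensorProduct.includeRight_injective (R := ℤ) (A := ℚ) (B := K)
      (fun a b h => by simpa using h)
  apply bad_of_test (ℚ ⊗[ℤ] K) hinj l₀ d f h hf
  intro ν hν hmem
  obtain ⟨L, hT⟩ := exists_lam (ℚ ⊗[ℤ] K) (κ × ℕ)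
  letI := L
  have hsp := isSpecial_of_isTestLam (ℚ ⊗[ℤ] K) (κ × ℕ) hT
  have halg := isLambdaAlg_test (ℚ ⊗[ℤ] K) (κ × ℕ) K hKb hT
  have key := hrep (MvPolynomial (κ × ℕ) (ℚ ⊗[ℤ] K)) hsp halg (xF (ℚ ⊗[ℤ] K) ν)
  unfold evG at key
  rw [aeval_gamma_xF (ℚ ⊗[ℤ] K) ν hT K, aeval_gamma_xF (ℚ ⊗[ℤ] K) ν hT K] at key
  rw [← key]
  exact gamma_mem_span_X hT (l₀, d) hmem n hn

theorem bad_of_repLam (hKb : IsBinomial K) (l₀ : κ) (d : ℕ) (f h : MvPolynomial (κ × ℕ) K)
    (hf : ∃ g, f = MvPolynomial.X (l₀, d) * g) (n : ℕ) (hn : 1 ≤ n)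
    (hrep : RepLam.{u, u} K κ f n h) : BadP l₀ d h := by
  classical
  have : IsAddTorsionFree K := BinomialRing.toIsAddTorsionFree
  letI : Algebra K (ℚ ⊗[ℤ] K) := Algebra.TensorProduct.rightAlgebra
  have hinj : Function.Injective (algebraMap K (ℚ ⊗[ℤ] K)) :=
    Algebra.TensorProduct.includeRight_injective (R := ℤ) (A := ℚ) (B := K)
      (fun a b h => by simpa using h)
  apply bad_of_test (ℚ ⊗[ℤ] K) hinj l₀ d f h hf
  intro ν hν hmem
  obtain ⟨L, hT⟩ := exists_lam (ℚ ⊗[ℤ] K) (κ × ℕ)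
  letI := L
  have hsp := isSpecial_of_isTestLam (ℚ ⊗[ℤ] K) (κ × ℕ) hT
  have halg := isLambdaAlg_test (ℚ ⊗[ℤ] K) (κ × ℕ) K hKb hT
  have key := hrep (MvPolynomial (κ × ℕ) (ℚ ⊗[ℤ] K)) hsp halg (xF (ℚ ⊗[ℤ] K) ν)
  unfold evG at key
  rw [aeval_gamma_xF (ℚ ⊗[ℤ] K) ν hT K, aeval_gamma_xF (ℚ ⊗[ℤ] K) ν hT K] at key
  rw [← key]
  obtain ⟨n, rfl⟩ : ∃ j, n = j + 1 := ⟨n - 1, by omega⟩
  exact lam_mem_span_X hT (l₀, d) hmem n

/-- The universal theorem on the γ-operations, with the divisibility principle. -/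
theorem gamma_univ_bad (hKb : IsBinomial K) (l₀ : κ) (d : ℕ) (f : MvPolynomial (κ × ℕ) K)
    (hf : ∃ g, f = MvPolynomial.X (l₀, d) * g) (n s : ℕ) (hn : 1 ≤ n) (hs : 1 ≤ s)
    (hfw : WtGe s f) :
    ∃ h : MvPolynomial (κ × ℕ) K,
      (∀ (A : Type v) [CommRing A] [LambdaOps A] [Algebra K A], IsSpecial A → IsLambdaAlg K A →
        ∀ x : κ → A, gamma n (evG K x f) = evG K x h) ∧
      WtGe (max s n) h ∧
      (n = s → WtGe (s + 1)
        (h - MvPolynomial.C ((-1 : K) ^ (s - 1) * ((s - 1).factorial : K)) * f)) ∧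
      BadP l₀ d h := by
  obtain ⟨h, h1, h2⟩ := exists_repG.{u, v, u} f n
  obtain ⟨h3, h4⟩ := wt_of_repG hKb f h n s hn hs hfw h2
  exact ⟨h, h1, h3, h4, bad_of_repG hKb l₀ d f h hf n hn h2⟩

/-- The universal theorem on the λ-operations, with the divisibility principle. -/
theorem lam_univ_bad (hKb : IsBinomial K) (l₀ : κ) (d : ℕ) (f : MvPolynomial (κ × ℕ) K)
    (hf : ∃ g, f = MvPolynomial.X (l₀, d) * g) (n : ℕ) (hn : 1 ≤ n) :
    ∃ h : MvPolynomial (κ × ℕ) K,
      (∀ (A : Type v) [CommRing A] [LambdaOps A] [Algebra K A], IsSpecial A → IsLambdaAlg K A →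
        ∀ x : κ → A, LambdaOps.lam n (evG K x f) = evG K x h) ∧
      BadP l₀ d h := by
  obtain ⟨h, h1, h2⟩ := exists_repLam.{u, v, u} f n
  exact ⟨h, h1, bad_of_repLam hKb l₀ d f h hf n hn h2⟩

end BadRep

section Mon

variable {K : Type u} [CommRing K] {κ : Type} {A : Type v} [CommRing A] [LambdaOps A] [Algebra K A]

/-- evaluation of a polynomial all of whose monomials contain a variable `(l₀, k)`, `k ≥ d`, when
`γ^{k+1}(x_{l₀}) = 0` for `k > d`. -/
theorem evG_eq_mul_of_bad (F : ℕ → Ideal A) (h1 : (1 : A) ∈ F 0)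
    (hmul : ∀ i j a b, a ∈ F i → b ∈ F j → a * b ∈ F (i + j))
    (hanti : ∀ i j, i ≤ j → F j ≤ F i) (x : κ → A)
    (hx : ∀ p : κ × ℕ, gamma (p.2 + 1) (x p.1) ∈ F (p.2 + 1))
    (l₀ : κ) (d : ℕ) (hvan : ∀ k, d < k → gamma (k + 1) (x l₀) = 0)
    (q : MvPolynomial (κ × ℕ) K) (s : ℕ) (hq : WtGe s q) (hbad : BadP l₀ d q) :
    ∃ r ∈ F (s - (d + 1)), evG K x q = gamma (d + 1) (x l₀) * r := by
  classical
  have hmon : ∀ m ∈ q.support, ∃ r ∈ F (s - (d + 1)),
      evG K x (MvPolynomial.monomial m (MvPolynomial.coeff m q)) = gamma (d + 1) (x l₀) * r := by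
    intro m hm
    obtain ⟨k, hk, hmk⟩ := hbad m hm
    obtain ⟨m', hmm⟩ : ∃ m', m = m' + Finsupp.single (l₀, k) 1 :=
      ⟨_, (Finsupp.sub_add_single_one_cancel hmk).symm⟩
    have hw : Finsupp.weight (wtF (κ := κ)) m = Finsupp.weight (wtF (κ := κ)) m' + (k + 1) := by
      rw [hmm, map_add, Finsupp.weight_single]
      simp [wtF]
    have hev : ∀ c : K, evG K x (MvPolynomial.monomial m c) =
        evG K x (MvPolynomial.monomial m' c) * gamma (k + 1) (x l₀) := by
      intro c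
      rw [hmm, MvPolynomial.monomial_add_single, pow_one, map_mul, evG_X]
    rcases Nat.lt_or_eq_of_le hk with hlt | heq
    · refine ⟨0, Submodule.zero_mem _, ?_⟩
      rw [hev, hvan k hlt, mul_zero, mul_zero]
    · subst heq
      refine ⟨evG K x (MvPolynomial.monomial m' (MvPolynomial.coeff m q)), ?_, ?_⟩
      · have hwm : WtGe (Finsupp.weight (wtF (κ := κ)) m')
            (MvPolynomial.monomial m' (MvPolynomial.coeff m q)) := by
          intro m'' hm''
          have h := MvPolynomial.support_monomial_subset hm''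
          rw [Finset.mem_singleton] at h
          rw [h]
        have h2 := evG_mem_filt F h1 hmul hanti x hx _ _ hwm
        apply hanti _ _ _ h2
        have h3 := hq m hm
        omega
      · rw [hev, mul_comm]
  choose! r hr1 hr2 using hmon
  refine ⟨∑ m ∈ q.support, r m, Ideal.sum_mem _ (fun m hm => hr1 m hm), ?_⟩
  conv_lhs => rw [q.as_sum]
  rw [map_sum, Finset.mul_sum]
  exact Finset.sum_congr rfl (fun m hm => hr2 m hm)

end Mon

section Rank

variable {A : Type*} [CommRing A] [LambdaOps A]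

theorem lam_neg_one (h1 : ∀ k : ℕ, 2 ≤ k → LambdaOps.lam k (1 : A) = 0) (j : ℕ) :
    LambdaOps.lam j (-1 : A) = (-1) ^ j := by
  have h := lamSeries_mul_neg (1 : A)
  rw [lamSeries_one h1] at h
  have hmul : (1 + PowerSeries.X : PowerSeries A) *
      (1 + PowerSeries.X : PowerSeries A).invOfUnit 1 = 1 :=
    PowerSeries.mul_invOfUnit _ 1 (by simp)
  have h2 : lamSeries (-1 : A) = (1 + PowerSeries.X : PowerSeries A).invOfUnit 1 := by
    calc lamSeries (-1 : A)
        = lamSeries (-1 : A) * ((1 + PowerSeries.X) *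
            (1 + PowerSeries.X : PowerSeries A).invOfUnit 1) := by rw [hmul, mul_one]
      _ = ((1 + PowerSeries.X) * lamSeries (-1 : A)) *
            (1 + PowerSeries.X : PowerSeries A).invOfUnit 1 := by ring
      _ = _ := by rw [h, one_mul]
  rw [← coeff_lamSeries, h2, coeff_invOfUnit_one_add_X]

/-- an element `N` with `λ^k(N) = 0` for `k > d` has `γ^k(N - d) = 0` for `k > d`. -/
theorem gamma_rank_eq_zero (h1 : ∀ k : ℕ, 2 ≤ k → LambdaOps.lam k (1 : A) = 0) (d : ℕ) (N : A)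
    (hN : ∀ k : ℕ, d < k → LambdaOps.lam k N = 0) (k : ℕ) (hk : d < k) :
    gamma k (N - (d : A)) = 0 := by
  rw [Groth.Agent.S8649.result A h1 k (N - (d : A))]
  obtain ⟨e, rfl⟩ : ∃ e, k = d + 1 + e := ⟨k - d - 1, by omega⟩
  have he : N - (d : A) + ((d + 1 + e : ℕ) : A) - 1 = N + (e : A) := by
    push_cast
    ring
  rw [he, lam_add_natCast h1]
  apply Finset.sum_eq_zero
  intro i _
  by_cases hi : d < i
  · rw [hN i hi, zero_mul]
  · rw [Nat.choose_eq_zero_of_lt (by omega), Nat.cast_zero, mul_zero]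

/-- `γ^d(N - d) = (-1)^d λ_{-1}(N)`. -/
theorem gamma_rank_top (h1 : ∀ k : ℕ, 2 ≤ k → LambdaOps.lam k (1 : A) = 0) (d : ℕ) (N : A) :
    gamma d (N - (d : A)) =
      (-1) ^ d * ∑ j ∈ range (d + 1), (-1 : A) ^ j * LambdaOps.lam j N := by
  rw [Groth.Agent.S8649.result A h1 d (N - (d : A))]
  have he : N - (d : A) + (d : A) - 1 = N + (-1) := by ring
  rw [he, LambdaOps.lam_add, Finset.mul_sum]
  apply Finset.sum_congr rfl
  intro i hi
  have hi' : i ≤ d := Nat.lt_succ_iff.mp (Finset.mem_range.mp hi)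
  rw [lam_neg_one h1]
  have e1 : (-1 : A) ^ d = (-1) ^ (d - i) * (-1) ^ i := by
    rw [← pow_add, Nat.sub_add_cancel hi']
  have e2 : ((-1 : A) ^ i) * (-1) ^ i = 1 := by
    rw [← mul_pow]
    simp
  rw [e1]
  linear_combination (-(LambdaOps.lam i N * (-1) ^ (d - i))) * e2

theorem lamAlt_eq (h1 : ∀ k : ℕ, 2 ≤ k → LambdaOps.lam k (1 : A) = 0) (d : ℕ) (N : A) :
    ∑ j ∈ range (d + 1), (-1 : A) ^ j * LambdaOps.lam j N = (-1) ^ d * gamma d (N - (d : A)) := by
  rw [gamma_rank_top h1, ← mul_assoc, ← mul_pow]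
  simp

/-- a λ-ring in the strict sense is a λ-algebra over the integers with their binomial structure. -/
theorem isLambdaAlg_int (h1 : ∀ k : ℕ, 2 ≤ k → LambdaOps.lam k (1 : A) = 0) :
    @IsLambdaAlg ℤ A _ (binomialLambdaOps ℤ) _ _ _ := by
  letI : LambdaOps ℤ := binomialLambdaOps ℤ
  have h1Z : ∀ k : ℕ, 2 ≤ k → LambdaOps.lam k (1 : ℤ) = 0 := by
    intro k hk
    show Ring.choose (1 : ℤ) k = 0
    have h := Ring.choose_natCast (R := ℤ) 1 k
    rw [Nat.cast_one] at h
    rw [h, Nat.choose_eq_zero_of_lt (by omega), Nat.cast_zero]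
  have e3 : PowerSeries.map (Int.castRingHom A) (lamSeries (1 : ℤ)) = lamSeries (1 : A) := by
    rw [lamSeries_one h1, lamSeries_one h1Z]
    simp
  have key : ∀ c : ℤ, lamSeries ((c : ℤ) : A) =
      PowerSeries.map (Int.castRingHom A) (lamSeries c) := by
    intro c
    induction c using Int.induction_on with
    | zero => rw [Int.cast_zero, lamSeries_zero, lamSeries_zero, map_one]
    | succ i ih =>
      rw [Int.cast_add, Int.cast_one, lamSeries_add, lamSeries_add, map_mul, ← ih, e3]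
    | pred i ih =>
      have e1 : lamSeries (((-(i : ℤ) - 1 : ℤ)) : A) * lamSeries (1 : A) =
          lamSeries ((-(i : ℤ) : ℤ) : A) := by
        rw [← lamSeries_add]
        congr 1
        push_cast
        ring
      have e2 : lamSeries (-(i : ℤ) - 1) * lamSeries (1 : ℤ) = lamSeries (-(i : ℤ)) := by
        rw [← lamSeries_add]
        congr 1
        ring
      apply (isUnit_lamSeries (1 : A)).mul_right_cancel
      rw [e1, ih, ← e2, map_mul, e3]
  intro n c
  have h := congrArg (PowerSeries.coeff n) (key c)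
  rw [coeff_lamSeries, PowerSeries.coeff_map, coeff_lamSeries] at h
  rw [eq_intCast (algebraMap ℤ A), eq_intCast (algebraMap ℤ A), h, eq_intCast (Int.castRingHom A)]

end Rank

section Core

variable {K : Type u} [CommRing K] [LambdaOps K] [BinomialRing K]
  {A : Type v} [CommRing A] [LambdaOps A] [Algebra K A] {κ : Type}

/-- the γ-operations on a multiple of `γ^{d'+1}(y)`, where `γ^{k+1}(y) = 0` for `k > d'`. -/
theorem gamma_mul_core (hKb : IsBinomial K) (hA : IsSpecial A) (hAlg : IsLambdaAlg K A)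
    (ε : A →ₐ[K] K) (l₀ : κ) (yv : κ → A) (hyv : ∀ l, ε (yv l) = 0) (d' : ℕ)
    (hvan : ∀ k, d' < k → gamma (k + 1) (yv l₀) = 0)
    (g : MvPolynomial (κ × ℕ) K) (t : ℕ) (hg : WtGe t g) (n : ℕ) (hn : 1 ≤ n) :
    (∃ r ∈ gammaFil (ε : A →+* K) (max (d' + 1 + t) n - (d' + 1)),
      gamma n (gamma (d' + 1) (yv l₀) * evG K yv g) = gamma (d' + 1) (yv l₀) * r) ∧
    (n = d' + 1 + t → ∃ r ∈ gammaFil (ε : A →+* K) (t + 1),
      gamma n (gamma (d' + 1) (yv l₀) * evG K yv g) -
        algebraMap K A ((-1 : K) ^ (n - 1) * ((n - 1).factorial : K)) *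
          (gamma (d' + 1) (yv l₀) * evG K yv g) = gamma (d' + 1) (yv l₀) * r) := by
  have hfw : WtGe (d' + 1 + t) (MvPolynomial.X (l₀, d') * g) := wtGe_mul (wtGe_X (l₀, d')) hg
  obtain ⟨h, hrep, hw1, hw2, hbad⟩ := gamma_univ_bad.{u, v} hKb l₀ d' (MvPolynomial.X (l₀, d') * g)
    ⟨g, rfl⟩ n (d' + 1 + t) hn (by omega) hfw
  have hevf : evG K yv (MvPolynomial.X (l₀, d') * g) = gamma (d' + 1) (yv l₀) * evG K yv g := by
    rw [map_mul, evG_X]
  have key := hrep A hA hAlg yv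
  rw [hevf] at key
  have hx : ∀ p : κ × ℕ, gamma (p.2 + 1) (yv p.1) ∈ gammaFil (ε : A →+* K) (p.2 + 1) :=
    fun p => gamma_mem_gammaFil (ε : A →+* K) _ _ (hyv p.1)
  constructor
  · obtain ⟨r, hr, he⟩ := evG_eq_mul_of_bad (gammaFil (ε : A →+* K))
      (one_mem_gammaFil_zero _) (mul_mem_gammaFil _) (fun i j hij => gammaFil_anti _ hij) yv hx
      l₀ d' hvan h (max (d' + 1 + t) n) hw1 hbad
    exact ⟨r, hr, by rw [key, he]⟩
  · intro hns
    have hw3 := hw2 hns
    subst hns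
    have hbad' : BadP l₀ d' (h - MvPolynomial.C ((-1 : K) ^ (d' + 1 + t - 1) *
        ((d' + 1 + t - 1).factorial : K)) * (MvPolynomial.X (l₀, d') * g)) := by
      apply badP_sub hbad
      rw [mul_left_comm]
      exact badP_X_mul l₀ d' _
    obtain ⟨r, hr, he⟩ := evG_eq_mul_of_bad (gammaFil (ε : A →+* K))
      (one_mem_gammaFil_zero _) (mul_mem_gammaFil _) (fun i j hij => gammaFil_anti _ hij) yv hx
      l₀ d' hvan _ (d' + 1 + t + 1) hw3 hbad'
    have e : d' + 1 + t + 1 - (d' + 1) = t + 1 := by omega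
    rw [e] at hr
    refine ⟨r, hr, ?_⟩
    rw [← he, map_sub, ← key]
    congr 1
    rw [map_mul (evG K yv), evG_C, hevf]

/-- the λ-operations on a multiple of `γ^{d'+1}(y)`, where `γ^{k+1}(y) = 0` for `k > d'`. -/
theorem lam_mul_core (hKb : IsBinomial K) (hA : IsSpecial A) (hAlg : IsLambdaAlg K A)
    (l₀ : κ) (yv : κ → A) (d' : ℕ)
    (hvan : ∀ k, d' < k → gamma (k + 1) (yv l₀) = 0)
    (g : MvPolynomial (κ × ℕ) K) (n : ℕ) (hn : 1 ≤ n) :
    ∃ r, LambdaOps.lam n (gamma (d' + 1) (yv l₀) * evG K yv g) = gamma (d' + 1) (yv l₀) * r := by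
  obtain ⟨h, hrep, hbad⟩ := lam_univ_bad.{u, v} hKb l₀ d' (MvPolynomial.X (l₀, d') * g)
    ⟨g, rfl⟩ n hn
  have hevf : evG K yv (MvPolynomial.X (l₀, d') * g) = gamma (d' + 1) (yv l₀) * evG K yv g := by
    rw [map_mul, evG_X]
  have key := hrep A hA hAlg yv
  rw [hevf] at key
  obtain ⟨r, -, he⟩ := evG_eq_mul_of_bad (fun _ => (⊤ : Ideal A)) Submodule.mem_top
    (fun _ _ _ _ _ _ => Submodule.mem_top) (fun _ _ _ => le_refl _) yv
    (fun _ => Submodule.mem_top) l₀ d' hvan h 0 (wtGe_zero h) hbad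
  exact ⟨r, by rw [key, he]⟩

end Core

end Groth.Agent.H43
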