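import Groth.Agent.H43.ELPow
import Groth.Agent.H43.ARRLam
import Groth.Prelude.Def_KRR

/-!
# The λ-structure on the elementary extension `K[T]/(p_e)` (helper43)
-/

set_option autoImplicit false
universe u

namespace Groth.Agent.H43.EL

open LambdaRing Polynomial

section Def

variable {K : Type u} [CommRing K] [LambdaOps K] (p : K[X])

/-- `Λ_i(b) = λ_{ℓ^i t}(b)` -/
noncomputable def Lam (i : ℕ) (b : K) : PowerSeries (AdjoinRoot p) :=
  PowerSeries.rescale ((AdjoinRoot.root p) ^ i)
    (PowerSeries.map (AdjoinRoot.of p) (lamSeries b))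

theorem Lam_zero (i : ℕ) : Lam p i 0 = 1 := by
  unfold Lam
  rw [Groth.Agent.H43.lamSeries_zero, map_one, map_one]

theorem Lam_add (i : ℕ) (a b : K) : Lam p i (a + b) = Lam p i a * Lam p i b := by
  unfold Lam
  rw [Groth.Agent.H43.lamSeries_add, map_mul, map_mul]

theorem constantCoeff_Lam (i : ℕ) (b : K) : PowerSeries.constantCoeff (Lam p i b) = 1 := by
  unfold Lam
  rw [constantCoeff_rescale', ← PowerSeries.coeff_zero_eq_constantCoeff_apply,
    PowerSeries.coeff_map, Groth.Agent.H43.coeff_lamSeries, LambdaOps.lam_zero, map_one]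

theorem coeff_one_Lam (i : ℕ) (b : K) :
    PowerSeries.coeff 1 (Lam p i b) = AdjoinRoot.of p b * (AdjoinRoot.root p) ^ i := by
  unfold Lam
  rw [PowerSeries.coeff_rescale, PowerSeries.coeff_map, Groth.Agent.H43.coeff_lamSeries,
    LambdaOps.lam_one, pow_one, mul_comm]

theorem Lam_succ (i : ℕ) (b : K) :
    Lam p (i + 1) b = PowerSeries.rescale (AdjoinRoot.root p) (Lam p i b) := by
  unfold Lam
  rw [PowerSeries.rescale_rescale, pow_succ]

theorem Lam_idx_zero (b : K) :
    Lam p 0 b = PowerSeries.map (AdjoinRoot.of p) (lamSeries b) := by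
  unfold Lam
  rw [pow_zero, PowerSeries.rescale_one, RingHom.id_apply]

theorem Lam_line_mul {v : K}
    (hv : ∀ b, lamSeries (v * b) = PowerSeries.rescale v (lamSeries b)) (i : ℕ) (b : K) :
    Lam p i (v * b) = PowerSeries.rescale (AdjoinRoot.of p v) (Lam p i b) := by
  unfold Lam
  rw [hv, ← PowerSeries.rescale_map, PowerSeries.rescale_rescale, PowerSeries.rescale_rescale,
    mul_comm]

/-- truncated product -/
noncomputable def Lp (N : ℕ) (g : K[X]) : PowerSeries (AdjoinRoot p) :=
  ∏ i ∈ Finset.range N, Lam p i (g.coeff i)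

theorem Lp_add (N : ℕ) (g h : K[X]) : Lp p N (g + h) = Lp p N g * Lp p N h := by
  unfold Lp
  rw [← Finset.prod_mul_distrib]
  refine Finset.prod_congr rfl fun i _ => ?_
  rw [coeff_add, Lam_add]

theorem Lp_zero (N : ℕ) : Lp p N 0 = 1 := by
  unfold Lp
  refine Finset.prod_eq_one fun i _ => ?_
  rw [coeff_zero, Lam_zero]

theorem constantCoeff_Lp (N : ℕ) (g : K[X]) : PowerSeries.constantCoeff (Lp p N g) = 1 :=
  (coeff_one_prod _ _ fun i _ => constantCoeff_Lam p i _).1

theorem Lp_stable {N N' : ℕ} {g : K[X]} (hN : g.natDegree < N) (hNN' : N ≤ N') :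
    Lp p N' g = Lp p N g := by
  unfold Lp
  symm
  apply Finset.prod_subset (Finset.range_subset_range.2 hNN')
  intro i hi hi'
  rw [Finset.mem_range] at hi hi'
  rw [coeff_eq_zero_of_natDegree_lt (by omega), Lam_zero]

/-- the series attached to a polynomial representative -/
noncomputable def Lq (g : K[X]) : PowerSeries (AdjoinRoot p) := Lp p (g.natDegree + 1) g

theorem Lq_eq {N : ℕ} {g : K[X]} (hN : g.natDegree < N) : Lq p g = Lp p N g :=
  (Lp_stable p (Nat.lt_succ_self _) hN).symm

theorem constantCoeff_Lq (g : K[X]) : PowerSeries.constantCoeff (Lq p g) = 1 :=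
  constantCoeff_Lp p _ g

theorem Lq_add (g h : K[X]) : Lq p (g + h) = Lq p g * Lq p h := by
  set N := max (g + h).natDegree (max g.natDegree h.natDegree) + 1 with hN
  have h1 : (g + h).natDegree < N := Nat.lt_succ_of_le (le_max_left _ _)
  have h2 : g.natDegree < N :=
    Nat.lt_succ_of_le (le_trans (le_max_left _ _) (le_max_right _ _))
  have h3 : h.natDegree < N :=
    Nat.lt_succ_of_le (le_trans (le_max_right _ _) (le_max_right _ _))
  rw [Lq_eq p h1, Lq_eq p h2, Lq_eq p h3, Lp_add]

theorem Lq_zero : Lq p 0 = 1 := Lp_zero p _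

theorem Lq_X_mul (h : K[X]) :
    Lq p (X * h) = PowerSeries.rescale (AdjoinRoot.root p) (Lq p h) := by
  have hd : (X * h).natDegree < h.natDegree + 1 + 1 := by
    have h1 := natDegree_mul_le (p := (X : K[X])) (q := h)
    have hX : (X : K[X]).natDegree ≤ 1 := natDegree_X_le
    omega
  rw [Lq_eq p hd, Lq_eq p (Nat.lt_succ_self h.natDegree)]
  unfold Lp
  rw [Finset.prod_range_succ', map_prod, coeff_X_mul_zero, Lam_zero, mul_one]
  refine Finset.prod_congr rfl fun i _ => ?_
  rw [coeff_X_mul, Lam_succ]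

theorem Lq_C_mul {v : K} (hv : ∀ b, lamSeries (v * b) = PowerSeries.rescale v (lamSeries b))
    (h : K[X]) :
    Lq p (C v * h) = PowerSeries.rescale (AdjoinRoot.of p v) (Lq p h) := by
  have hd : (C v * h).natDegree < h.natDegree + 1 :=
    Nat.lt_succ_of_le (natDegree_C_mul_le v h)
  rw [Lq_eq p hd, Lq_eq p (Nat.lt_succ_self h.natDegree)]
  unfold Lp
  rw [map_prod]
  refine Finset.prod_congr rfl fun i _ => ?_
  rw [coeff_C_mul, Lam_line_mul p hv]

theorem Lq_C (b : K) : Lq p (C b) = PowerSeries.map (AdjoinRoot.of p) (lamSeries b) := by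
  have hd : (C b : K[X]).natDegree < 1 := by rw [natDegree_C]; exact Nat.one_pos
  rw [Lq_eq p hd]
  unfold Lp
  rw [Finset.prod_range_one, coeff_C_zero, Lam_idx_zero]

end Def

section Split

variable {K : Type u} [CommRing K] [LambdaOps K]

/-- if `p` is a product of `X - C (u i)` with the `u i` strong lines, then `Lq` kills the
multiples of `p` -/
theorem Lq_kill_of_split {ι : Type*} [Fintype ι] (p : K[X]) (u : ι → K)
    (hu : ∀ i b, lamSeries (u i * b) = PowerSeries.rescale (u i) (lamSeries b))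
    (hp : p = ∏ i, (X - C (u i))) (q : K[X]) : Lq p (p * q) = 1 := by
  classical
  have key : ∀ s : Finset ι, ∀ g : K[X], ∃ R : PowerSeries (AdjoinRoot p),
      Lq p ((∏ i ∈ s, (X - C (u i))) * g) =
        1 + PowerSeries.C (∏ i ∈ s, (AdjoinRoot.root p - AdjoinRoot.of p (u i))) * R := by
    intro s
    induction s using Finset.induction_on with
    | empty =>
      intro g
      refine ⟨Lq p g - 1, ?_⟩
      simp
    | insert a s ha ih =>
      intro g
      obtain ⟨R, hR⟩ := ih g
      set h := (∏ i ∈ s, (X - C (u i))) * g with hh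
      set F := Lq p h with hF
      have hadd : Lq p ((X - C (u a)) * h) * PowerSeries.rescale (AdjoinRoot.of p (u a)) F =
          PowerSeries.rescale (AdjoinRoot.root p) F := by
        rw [hF, ← Lq_C_mul p (hu a), ← Lq_X_mul, ← Lq_add]
        congr 1
        ring
      have hunit : IsUnit (PowerSeries.rescale (AdjoinRoot.of p (u a)) F) :=
        isUnit_of_constantCoeff_one (by rw [constantCoeff_rescale', hF, constantCoeff_Lq])
      obtain ⟨V, hV⟩ := hunit.exists_right_inv
      obtain ⟨R', hR'⟩ := psi_step (l := AdjoinRoot.root p) hR hV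
      refine ⟨R', ?_⟩
      rw [Finset.prod_insert ha, Finset.prod_insert ha, mul_assoc, ← hh]
      have e1 : Lq p ((X - C (u a)) * h) = PowerSeries.rescale (AdjoinRoot.root p) F * V := by
        calc Lq p ((X - C (u a)) * h)
            = Lq p ((X - C (u a)) * h) *
                (PowerSeries.rescale (AdjoinRoot.of p (u a)) F * V) := by rw [hV, mul_one]
          _ = PowerSeries.rescale (AdjoinRoot.root p) F * V := by rw [← mul_assoc, hadd]
      rw [e1, hR', mul_comm (AdjoinRoot.root p - AdjoinRoot.of p (u a))]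
  obtain ⟨R, hR⟩ := key Finset.univ q
  have h0 : ∏ i, (AdjoinRoot.root p - AdjoinRoot.of p (u i)) = 0 := by
    have h1 := AdjoinRoot.eval₂_root p
    have h2 : p.eval₂ (AdjoinRoot.of p) (AdjoinRoot.root p) =
        ∏ i, (AdjoinRoot.root p - AdjoinRoot.of p (u i)) := by
      have h3 : ∀ (φ : K →+* AdjoinRoot p) (a : AdjoinRoot p),
          p.eval₂ φ a = ∏ i, (a - φ (u i)) := by
        intro φ a
        have h4 : p.eval₂ φ a = (∏ i, (X - C (u i))).eval₂ φ a := by rw [← hp]
        rw [h4, eval₂_finset_prod]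
        refine Finset.prod_congr rfl fun i _ => ?_
        rw [eval₂_sub, eval₂_X, eval₂_C]
      exact h3 _ _
    rw [← h2, h1]
  rw [← hp] at hR
  rw [hR, h0, map_zero, zero_mul, add_zero]

end Split

section Mon

variable {K : Type u} [CommRing K] [LambdaOps K] {p : K[X]} (hp : p.Monic)

/-- the λ-series on `AdjoinRoot p` -/
noncomputable def LS (x : AdjoinRoot p) : PowerSeries (AdjoinRoot p) :=
  Lp p p.natDegree (AdjoinRoot.modByMonicHom hp x)

theorem LS_add (x y : AdjoinRoot p) : LS hp (x + y) = LS hp x * LS hp y := by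
  unfold LS
  rw [map_add, Lp_add]

theorem LS_zero : LS hp (0 : AdjoinRoot p) = 1 := by
  unfold LS
  rw [map_zero, Lp_zero]

theorem constantCoeff_LS (x : AdjoinRoot p) : PowerSeries.constantCoeff (LS hp x) = 1 :=
  constantCoeff_Lp p _ _

theorem isUnit_LS (x : AdjoinRoot p) : IsUnit (LS hp x) :=
  isUnit_of_constantCoeff_one (constantCoeff_LS hp x)

theorem LS_sum {ι : Type*} (s : Finset ι) (x : ι → AdjoinRoot p) :
    LS hp (∑ i ∈ s, x i) = ∏ i ∈ s, LS hp (x i) := by
  classical
  induction s using Finset.induction_on with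
  | empty => simp [LS_zero]
  | insert a s ha ih => rw [Finset.sum_insert ha, Finset.prod_insert ha, LS_add, ih]

theorem natDegree_rep_lt (hm : 1 ≤ p.natDegree) (x : AdjoinRoot p) :
    (AdjoinRoot.modByMonicHom hp x).natDegree < p.natDegree := by
  obtain ⟨g, rfl⟩ := AdjoinRoot.mk_surjective x
  rw [AdjoinRoot.modByMonicHom_mk]
  apply natDegree_modByMonic_lt g hp
  intro h1
  rw [h1, natDegree_one] at hm
  omega

theorem mk_rep (x : AdjoinRoot p) : AdjoinRoot.mk p (AdjoinRoot.modByMonicHom hp x) = x :=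
  AdjoinRoot.mk_leftInverse hp x

theorem LS_eq_Lq (hm : 1 ≤ p.natDegree) (x : AdjoinRoot p) :
    LS hp x = Lq p (AdjoinRoot.modByMonicHom hp x) :=
  (Lq_eq p (natDegree_rep_lt hp hm x)).symm

theorem coeff_one_LS (hm : 1 ≤ p.natDegree) (x : AdjoinRoot p) :
    PowerSeries.coeff 1 (LS hp x) = x := by
  unfold LS Lp
  rw [(coeff_one_prod _ _ fun i _ => constantCoeff_Lam p i _).2]
  conv_rhs => rw [← mk_rep hp x, as_sum_range' (AdjoinRoot.modByMonicHom hp x) p.natDegree
    (natDegree_rep_lt hp hm x)]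
  rw [map_sum]
  refine Finset.sum_congr rfl fun i _ => ?_
  rw [coeff_one_Lam, ← C_mul_X_pow_eq_monomial, map_mul, map_pow, AdjoinRoot.mk_C,
    AdjoinRoot.mk_X]

theorem LS_mk (hm : 1 ≤ p.natDegree) (hkill : ∀ q, Lq p (p * q) = 1) (g : K[X]) :
    LS hp (AdjoinRoot.mk p g) = Lq p g := by
  rw [LS_eq_Lq hp hm, AdjoinRoot.modByMonicHom_mk]
  have h1 := modByMonic_add_div g p
  calc Lq p (g %ₘ p) = Lq p (g %ₘ p) * Lq p (p * (g /ₘ p)) := by rw [hkill, mul_one]
    _ = Lq p g := by rw [← Lq_add, h1]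

/-- the λ-operations on `AdjoinRoot p` -/
noncomputable def lamOps (hm : 1 ≤ p.natDegree) : LambdaOps (AdjoinRoot p) where
  lam k x := PowerSeries.coeff k (LS hp x)
  lam_zero x := by
    rw [PowerSeries.coeff_zero_eq_constantCoeff_apply, constantCoeff_LS]
  lam_one x := coeff_one_LS hp hm x
  lam_add k x y := by
    rw [LS_add, PowerSeries.coeff_mul, Finset.Nat.sum_antidiagonal_eq_sum_range_succ_mk]

theorem lamSeries_lamOps (hm : 1 ≤ p.natDegree) (x : AdjoinRoot p) :
    @lamSeries _ _ (lamOps hp hm) x = LS hp x := by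
  ext k
  show PowerSeries.coeff k (PowerSeries.mk fun i => PowerSeries.coeff i (LS hp x)) = _
  rw [PowerSeries.coeff_mk]

section WithKill

variable (hm : 1 ≤ p.natDegree) (hkill : ∀ q, Lq p (p * q) = 1)

include hm hkill in
theorem LS_root_mul (y : AdjoinRoot p) :
    LS hp (AdjoinRoot.root p * y) = PowerSeries.rescale (AdjoinRoot.root p) (LS hp y) := by
  obtain ⟨g, rfl⟩ := AdjoinRoot.mk_surjective y
  have e : AdjoinRoot.root p * AdjoinRoot.mk p g = AdjoinRoot.mk p (X * g) := by
    rw [map_mul, AdjoinRoot.mk_X]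
  rw [e, LS_mk hp hm hkill, LS_mk hp hm hkill, Lq_X_mul]

include hm hkill in
theorem LS_of_mul {v : K} (hv : ∀ b, lamSeries (v * b) = PowerSeries.rescale v (lamSeries b))
    (y : AdjoinRoot p) :
    LS hp (AdjoinRoot.of p v * y) = PowerSeries.rescale (AdjoinRoot.of p v) (LS hp y) := by
  obtain ⟨g, rfl⟩ := AdjoinRoot.mk_surjective y
  have e : AdjoinRoot.of p v * AdjoinRoot.mk p g = AdjoinRoot.mk p (C v * g) := by
    rw [map_mul, AdjoinRoot.mk_C]
  rw [e, LS_mk hp hm hkill, LS_mk hp hm hkill, Lq_C_mul p hv]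

include hm hkill in
theorem LS_of (b : K) :
    LS hp (AdjoinRoot.of p b) = PowerSeries.map (AdjoinRoot.of p) (lamSeries b) := by
  rw [← AdjoinRoot.mk_C, LS_mk hp hm hkill, Lq_C]

include hm hkill in
theorem LS_one (h1 : lamSeries (1 : K) = 1 + PowerSeries.X) :
    LS hp (1 : AdjoinRoot p) = 1 + PowerSeries.X := by
  have h := LS_of hp hm hkill (1 : K)
  rw [map_one, h1, map_add, map_one, PowerSeries.map_X] at h
  exact h

include hm hkill in
theorem LS_root (h1 : lamSeries (1 : K) = 1 + PowerSeries.X) :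
    LS hp (AdjoinRoot.root p) =
      1 + PowerSeries.C (AdjoinRoot.root p) * PowerSeries.X := by
  have h := LS_root_mul hp hm hkill (1 : AdjoinRoot p)
  rw [mul_one] at h
  rw [h, LS_one hp hm hkill h1, map_add, map_one, PowerSeries.rescale_X]

end WithKill

end Mon

section Fun

set_option linter.unusedSectionVars false

variable {K K' : Type u} [CommRing K] [LambdaOps K] [CommRing K'] [LambdaOps K']
  (f : K →+* K') (hf : IsLambdaHom f) (p : K[X])

/-- the induced map on elementary extensions -/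
noncomputable def jA : AdjoinRoot p →+* AdjoinRoot (p.map f) :=
  AdjoinRoot.map f p (p.map f) dvd_rfl

theorem jA_of (b : K) : jA f p (AdjoinRoot.of p b) = AdjoinRoot.of (p.map f) (f b) :=
  AdjoinRoot.map_of f p _ _ b

theorem jA_root : jA f p (AdjoinRoot.root p) = AdjoinRoot.root (p.map f) :=
  AdjoinRoot.map_root f p _ _

theorem jA_mk (g : K[X]) :
    jA f p (AdjoinRoot.mk p g) = AdjoinRoot.mk (p.map f) (g.map f) := by
  have h : (jA f p).comp (AdjoinRoot.mk p) =
      (AdjoinRoot.mk (p.map f)).comp (mapRingHom f) := by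
    apply Polynomial.ringHom_ext
    · intro a
      simp only [RingHom.comp_apply, coe_mapRingHom, map_C, AdjoinRoot.mk_C]
      exact jA_of f p a
    · simp only [RingHom.comp_apply, coe_mapRingHom, map_X, AdjoinRoot.mk_X]
      exact jA_root f p
  exact RingHom.congr_fun h g

include hf in
theorem map_jA_Lam (i : ℕ) (b : K) :
    PowerSeries.map (jA f p) (Lam p i b) = Lam (p.map f) i (f b) := by
  ext n
  unfold Lam
  rw [PowerSeries.coeff_map, PowerSeries.coeff_rescale, PowerSeries.coeff_rescale,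
    PowerSeries.coeff_map, PowerSeries.coeff_map, Groth.Agent.H43.coeff_lamSeries,
    Groth.Agent.H43.coeff_lamSeries, map_mul, map_pow, map_pow, jA_root, jA_of, hf]

include hf in
theorem map_jA_Lp (N : ℕ) (g : K[X]) :
    PowerSeries.map (jA f p) (Lp p N g) = Lp (p.map f) N (g.map f) := by
  unfold Lp
  rw [map_prod]
  refine Finset.prod_congr rfl fun i _ => ?_
  rw [map_jA_Lam f hf, coeff_map]

include hf in
theorem map_jA_Lq (g : K[X]) :
    PowerSeries.map (jA f p) (Lq p g) = Lq (p.map f) (g.map f) := by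
  have hd : (g.map f).natDegree < g.natDegree + 1 := Nat.lt_succ_of_le natDegree_map_le
  rw [Lq_eq _ hd]
  exact map_jA_Lp f hf p _ g

theorem jA_injective [Nontrivial K'] (hinj : Function.Injective f) (hp : p.Monic) :
    Function.Injective (jA f p) := by
  haveI : Nontrivial K := f.domain_nontrivial
  rw [injective_iff_map_eq_zero]
  intro x hx
  obtain ⟨g₀, rfl⟩ := AdjoinRoot.mk_surjective x
  have e : AdjoinRoot.mk p (g₀ %ₘ p) = AdjoinRoot.mk p g₀ := by
    have h := mk_rep hp (AdjoinRoot.mk p g₀)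
    rwa [AdjoinRoot.modByMonicHom_mk] at h
  rw [← e] at hx ⊢
  rw [jA_mk, AdjoinRoot.mk_eq_zero] at hx
  have hdeg : ((g₀ %ₘ p).map f).degree < (p.map f).degree :=
    calc ((g₀ %ₘ p).map f).degree ≤ (g₀ %ₘ p).degree := degree_map_le
      _ < p.degree := degree_modByMonic_lt g₀ hp
      _ = (p.map f).degree := (hp.degree_map f).symm
  have h0 : (g₀ %ₘ p).map f = 0 := by
    by_contra h0
    exact (hp.map f).not_dvd_of_degree_lt h0 hdeg hx
  have h1 : g₀ %ₘ p = 0 := by
    apply Polynomial.map_injective f hinj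
    rw [h0, Polynomial.map_zero]
  rw [h1, map_zero]

theorem map_jA_injective [Nontrivial K'] (hinj : Function.Injective f) (hp : p.Monic)
    {F G : PowerSeries (AdjoinRoot p)}
    (h : PowerSeries.map (jA f p) F = PowerSeries.map (jA f p) G) : F = G := by
  ext k
  apply jA_injective f p hinj hp
  rw [← PowerSeries.coeff_map, h, PowerSeries.coeff_map]

include hf in
theorem map_jA_LS [Nontrivial K'] (hp : p.Monic) (hm : 1 ≤ p.natDegree)
    (hkill : ∀ q, Lq p (p * q) = 1)
    (hkill' : ∀ q, Lq (p.map f) (p.map f * q) = 1) (x : AdjoinRoot p) :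
    PowerSeries.map (jA f p) (LS hp x) = LS (hp.map f) (jA f p x) := by
  have hm' : 1 ≤ (p.map f).natDegree := by rw [hp.natDegree_map]; exact hm
  obtain ⟨g, rfl⟩ := AdjoinRoot.mk_surjective x
  rw [LS_mk hp hm hkill, jA_mk, LS_mk (hp.map f) hm' hkill', map_jA_Lq f hf]

end Fun

section Main

variable {K : Type u} [CommRing K] [LambdaOps K] (P : PosStructure K)

theorem extPoly_map_hom {K' : Type u} [CommRing K'] [LambdaOps K'] {P' : PosStructure K'}
    {f : K →+* K'} (hf : IsExtension P P' f) (e : K) :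
    (KRR.extPoly P e).map f = KRR.extPoly P' (f e) := by
  unfold KRR.extPoly
  rw [hf.aug_comp, Polynomial.map_sum]
  refine Finset.sum_congr rfl fun i _ => ?_
  rw [Polynomial.map_mul, Polynomial.map_pow, map_X, map_C, map_mul, map_pow, map_neg,
    map_one, hf.isLambdaHom]

theorem Lq_kill (hK : HasSplitting K P) (e : K) (he : e ∈ P.pos) (p : K[X])
    (hpe : p = KRR.extPoly P e) (q : K[X]) : Lq p (p * q) = 1 := by
  classical
  obtain ⟨L, hL, f, hf, n, y, hy, hysum⟩ := Groth.Agent.H19.Adams.exists_split P hK e he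
  haveI : Nontrivial L.carrier := L.posStr.aug.domain_nontrivial
  have hn : (P.aug e).toNat = n := by
    have h1 := Groth.Agent.H19.Adams.aug_sum_lines L.posStr y hy
    rw [hysum, hf.aug_comp] at h1
    rw [h1]; simp
  have hmap : p.map f = ∏ i, (X - C (y i)) := by
    rw [hpe]; exact ARR.extPoly_map P L.posStr f hf e y hy hysum hn
  have hmon : p.Monic := by rw [hpe]; exact (ARR.extPoly_monic_natDegree P e _ rfl).1
  have h1 : Lq (p.map f) (p.map f * q.map f) = 1 :=
    Lq_kill_of_split (p.map f) y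
      (fun i b => ARR.lamSeries_line_mul L.posStr hL (hy i) b) hmap (q.map f)
  have h2 := map_jA_Lq f hf.isLambdaHom p (p * q)
  rw [Polynomial.map_mul, h1] at h2
  apply map_jA_injective f p hf.injective hmon
  rw [h2, map_one]

end Main

end Groth.Agent.H43.EL
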