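import Groth.Agent.H43.ELDef
import Groth.Agent.H19.LambdaLine

/-!
# Positive structure on the elementary extension `K[T]/(p_e)` (helper43)
-/

set_option autoImplicit false
universe u

namespace Groth.Agent.H43.EL

open LambdaRing Polynomial

/-- polynomial of degree `≤ N` with invertible coefficient at `N` -/
def PP {B : Type u} [CommRing B] (F : PowerSeries B) (N : ℕ) : Prop :=
  PolLE F N ∧ IsUnit (PowerSeries.coeff N F)

theorem PP.mul {B : Type u} [CommRing B] {F G : PowerSeries B} {N M : ℕ} (hF : PP F N)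
    (hG : PP G M) : PP (F * G) (N + M) :=
  ⟨hF.1.mul hG.1, by rw [hF.1.coeff_top_mul hG.1]; exact hF.2.mul hG.2⟩

section Ctx

variable {K : Type u} [CommRing K] [LambdaOps K]

theorem prod_root_sub_eq_zero {ι : Type*} [Fintype ι] (p : K[X]) (u : ι → K)
    (hp : p = ∏ i, (X - C (u i))) :
    ∏ i, (AdjoinRoot.root p - AdjoinRoot.of p (u i)) = 0 := by
  have h1 := AdjoinRoot.eval₂_root p
  have h3 : ∀ (φ : K →+* AdjoinRoot p) (a : AdjoinRoot p),
      p.eval₂ φ a = ∏ i, (a - φ (u i)) := by
    intro φ a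
    have h4 : p.eval₂ φ a = (∏ i, (X - C (u i))).eval₂ φ a := by rw [← hp]
    rw [h4, eval₂_finset_prod]
    refine Finset.prod_congr rfl fun i _ => ?_
    rw [eval₂_sub, eval₂_X, eval₂_C]
  rw [← h3, h1]

/-- the standing hypotheses -/
structure Ctx (P : PosStructure K) (e : K) (p : K[X]) : Prop where
  hK : HasSplitting K P
  he : e ∈ P.pos
  hpe : p = KRR.extPoly P e

namespace Ctx

variable {P : PosStructure K} {e : K} {p : K[X]} (c : Ctx P e p)

include c

theorem natDegree_eq : p.natDegree = (P.aug e).toNat := by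
  rw [c.hpe]; exact (ARR.extPoly_monic_natDegree P e _ rfl).2

theorem monic : p.Monic := by
  rw [c.hpe]; exact (ARR.extPoly_monic_natDegree P e _ rfl).1

theorem aug_pos : 0 < P.aug e := P.aug_pos e c.he

theorem one_le : 1 ≤ p.natDegree := by
  rw [c.natDegree_eq]
  have := c.aug_pos
  omega

theorem kill (q : K[X]) : Lq p (p * q) = 1 := Lq_kill P c.hK e c.he p c.hpe q

theorem lamOne : lamSeries (1 : K) = 1 + PowerSeries.X :=
  Groth.Agent.H43.lamSeries_one (fun k hk => Groth.Agent.H19.lam_one_eq_zero P k hk)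

theorem line {v : K} (hv : P.IsLine v) (b : K) :
    lamSeries (v * b) = PowerSeries.rescale v (lamSeries b) :=
  ARR.lamSeries_line_mul P c.hK hv b

theorem map {K' : Type u} [CommRing K'] [LambdaOps K'] {P' : PosStructure K'} {f : K →+* K'}
    (hf : IsExtension P P' f) (hK' : HasSplitting K' P') : Ctx P' (f e) (p.map f) :=
  ⟨hK', hf.pos_subset e c.he, by rw [c.hpe, extPoly_map_hom P hf]⟩

theorem nontrivial : Nontrivial K := P.aug.domain_nontrivial

theorem of_injective : Function.Injective (AdjoinRoot.of p) := by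
  haveI := c.nontrivial
  rw [injective_iff_map_eq_zero]
  intro a ha
  rw [← AdjoinRoot.mk_C, AdjoinRoot.mk_eq_zero] at ha
  by_contra h0
  have h1 : (C a : K[X]) ≠ 0 := fun h => h0 (C_eq_zero.1 h)
  refine c.monic.not_dvd_of_natDegree_lt h1 ?_ ha
  rw [natDegree_C]
  exact c.one_le

theorem coeff_zero_eq :
    p.coeff 0 = (-1) ^ (P.aug e).toNat * LambdaOps.lam (P.aug e).toNat e := by
  rw [c.hpe]
  unfold KRR.extPoly
  rw [finset_sum_coeff, Finset.sum_eq_single (P.aug e).toNat]
  · rw [Nat.sub_self, pow_zero, mul_one, coeff_C_zero]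
  · intro i hi hne
    have := Finset.mem_range.1 hi
    rw [coeff_C_mul, coeff_X_pow, if_neg (by omega), mul_zero]
  · intro h
    exact absurd (Finset.mem_range.2 (Nat.lt_succ_self _)) h

theorem isUnit_root : IsUnit (AdjoinRoot.root p) := by
  have h1 := AdjoinRoot.eval₂_root p
  have h3 : ∀ (φ : K →+* AdjoinRoot p) (a : AdjoinRoot p),
      p.eval₂ φ a = a * (divX p).eval₂ φ a + φ (p.coeff 0) := by
    intro φ a
    have h4 : p.eval₂ φ a = (X * divX p + C (p.coeff 0)).eval₂ φ a := by
      rw [X_mul_divX_add]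
    rw [h4, eval₂_add, eval₂_mul, eval₂_X, eval₂_C]
  rw [h3] at h1
  have hu : IsUnit (AdjoinRoot.of p (p.coeff 0)) := by
    rw [c.coeff_zero_eq]
    exact (((isUnit_neg_one (α := K)).pow _).mul (P.isUnit_lam e c.he)).map _
  have h4 : AdjoinRoot.root p * (-(divX p).eval₂ (AdjoinRoot.of p) (AdjoinRoot.root p)) =
      AdjoinRoot.of p (p.coeff 0) := by
    linear_combination (-1 : AdjoinRoot p) * h1
  rw [← h4] at hu
  exact isUnit_of_mul_isUnit_left hu

theorem isUnit_line {v : K} (hv : P.IsLine v) : IsUnit v := by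
  have h := P.isUnit_lam v hv.1
  rw [hv.2] at h
  simpa [LambdaOps.lam_one] using h

theorem LS_line_mul {v : K} (hv : P.IsLine v) (y : AdjoinRoot p) :
    LS c.monic (AdjoinRoot.of p v * y) =
      PowerSeries.rescale (AdjoinRoot.of p v) (LS c.monic y) :=
  LS_of_mul c.monic c.one_le c.kill (c.line hv) y

theorem LS_pos_mul {a : K} (ha : a ∈ P.pos) (y : AdjoinRoot p) (N : ℕ)
    (hy : PolLE (LS c.monic y) N) :
    PolLE (LS c.monic (AdjoinRoot.of p a * y)) ((P.aug a).toNat * N) ∧
      PowerSeries.coeff ((P.aug a).toNat * N) (LS c.monic (AdjoinRoot.of p a * y)) =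
        AdjoinRoot.of p (LambdaOps.lam (P.aug a).toNat a) ^ N *
          PowerSeries.coeff N (LS c.monic y) ^ (P.aug a).toNat := by
  classical
  obtain ⟨L, hL, f, hf, n, v, hv, hvsum⟩ := Groth.Agent.H19.Adams.exists_split P c.hK a ha
  haveI : Nontrivial L.carrier := L.posStr.aug.domain_nontrivial
  have hn : (P.aug a).toNat = n := by
    have h1 := Groth.Agent.H19.Adams.aug_sum_lines L.posStr v hv
    rw [hvsum, hf.aug_comp] at h1
    rw [h1]; simp
  have c' := c.map hf hL
  have hinj := jA_injective f p hf.injective c.monic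
  have hfun : ∀ x, PowerSeries.map (jA f p) (LS c.monic x) = LS c'.monic (jA f p x) :=
    fun x => map_jA_LS f hf.isLambdaHom p c.monic c.one_le c.kill c'.kill x
  have h1 : jA f p (AdjoinRoot.of p a * y) =
      ∑ i, AdjoinRoot.of (p.map f) (v i) * jA f p y := by
    rw [map_mul, jA_of, ← hvsum, map_sum, Finset.sum_mul]
  have h2 : PowerSeries.map (jA f p) (LS c.monic (AdjoinRoot.of p a * y)) =
      ∏ i, PowerSeries.rescale (AdjoinRoot.of (p.map f) (v i))
        (PowerSeries.map (jA f p) (LS c.monic y)) := by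
    rw [hfun, h1, LS_sum]
    refine Finset.prod_congr rfl fun i _ => ?_
    rw [c'.LS_line_mul (hv i), ← hfun]
  have hyG : PolLE (PowerSeries.map (jA f p) (LS c.monic y)) N := hy.map _
  have h3 := PolLE.prod Finset.univ
    (fun i => PowerSeries.rescale (AdjoinRoot.of (p.map f) (v i))
      (PowerSeries.map (jA f p) (LS c.monic y))) N (fun i _ => hyG.rescale _)
  rw [Finset.card_univ, Fintype.card_fin, ← h2] at h3
  have hps : (Finset.univ : Finset (Fin n)).powersetCard n = {Finset.univ} := by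
    have h := Finset.powersetCard_self (Finset.univ : Finset (Fin n))
    rwa [Finset.card_univ, Fintype.card_fin] at h
  rw [hn]
  refine ⟨PolLE.of_map _ hinj h3.1, ?_⟩
  apply hinj
  rw [← PowerSeries.coeff_map, h3.2]
  simp only [PowerSeries.coeff_rescale]
  rw [Finset.prod_mul_distrib, Finset.prod_pow, Finset.prod_const, Finset.card_univ,
    Fintype.card_fin, map_mul, map_pow, map_pow, jA_of, hf.isLambdaHom, ← hvsum,
    Groth.Agent.H19.Adams.lam_sum_lines L.posStr v hv n, hps, Finset.sum_singleton, map_prod,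
    PowerSeries.coeff_map]

theorem LS_z_mul (y : AdjoinRoot p) (N : ℕ) (hy : PolLE (LS c.monic y) N) :
    PolLE (LS c.monic ((AdjoinRoot.of p e - AdjoinRoot.root p) * y))
      ((p.natDegree - 1) * N) := by
  classical
  obtain ⟨L, hL, f, hf, n, u, hu, husum⟩ := Groth.Agent.H19.Adams.exists_split P c.hK e c.he
  haveI : Nontrivial L.carrier := L.posStr.aug.domain_nontrivial
  have hn : (P.aug e).toNat = n := by
    have h1 := Groth.Agent.H19.Adams.aug_sum_lines L.posStr u hu
    rw [husum, hf.aug_comp] at h1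
    rw [h1]; simp
  have c' := c.map hf hL
  have hinj := jA_injective f p hf.injective c.monic
  have hfun : ∀ x, PowerSeries.map (jA f p) (LS c.monic x) = LS c'.monic (jA f p x) :=
    fun x => map_jA_LS f hf.isLambdaHom p c.monic c.one_le c.kill c'.kill x
  have hmap : p.map f = ∏ i, (X - C (u i)) := by
    rw [c.hpe]; exact ARR.extPoly_map P L.posStr f hf e u hu husum hn
  have h0 := prod_root_sub_eq_zero (p.map f) u hmap
  have hyG : PolLE (PowerSeries.map (jA f p) (LS c.monic y)) N := hy.map _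
  obtain ⟨G, hG, hprod⟩ := lemmaQ (fun i => AdjoinRoot.of (p.map f) (u i))
    (AdjoinRoot.root (p.map f)) _ N hyG Finset.univ h0
  rw [Finset.card_univ, Fintype.card_fin] at hG
  have hz : jA f p ((AdjoinRoot.of p e - AdjoinRoot.root p) * y) +
      AdjoinRoot.root (p.map f) * jA f p y =
      ∑ i, AdjoinRoot.of (p.map f) (u i) * jA f p y := by
    rw [map_mul, map_sub, jA_of, jA_root, ← husum, map_sum, ← Finset.sum_mul]
    ring
  have h3 : LS c'.monic (jA f p ((AdjoinRoot.of p e - AdjoinRoot.root p) * y)) *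
      PowerSeries.rescale (AdjoinRoot.root (p.map f))
        (PowerSeries.map (jA f p) (LS c.monic y)) =
      G * PowerSeries.rescale (AdjoinRoot.root (p.map f))
        (PowerSeries.map (jA f p) (LS c.monic y)) := by
    rw [mul_comm G, ← hprod, hfun y, ← LS_root_mul c'.monic c'.one_le c'.kill, ← LS_add, hz,
      LS_sum]
    refine Finset.prod_congr rfl fun i _ => ?_
    rw [c'.LS_line_mul (hu i)]
  have hunit : IsUnit (PowerSeries.rescale (AdjoinRoot.root (p.map f))
      (PowerSeries.map (jA f p) (LS c.monic y))) :=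
    isUnit_of_constantCoeff_one (by rw [constantCoeff_rescale', hfun, constantCoeff_LS])
  have h4 : PowerSeries.map (jA f p)
      (LS c.monic ((AdjoinRoot.of p e - AdjoinRoot.root p) * y)) = G := by
    rw [hfun]
    exact hunit.mul_right_cancel h3
  rw [c.natDegree_eq, hn]
  exact PolLE.of_map _ hinj (by rw [h4]; exact hG)

theorem PP_root_mul (y : AdjoinRoot p) (N : ℕ) (hy : PP (LS c.monic y) N) :
    PP (LS c.monic (AdjoinRoot.root p * y)) N := by
  rw [LS_root_mul c.monic c.one_le c.kill]
  refine ⟨hy.1.rescale _, ?_⟩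
  rw [PowerSeries.coeff_rescale]
  exact (c.isUnit_root.pow N).mul hy.2

theorem PP_pos_mul {a : K} (ha : a ∈ P.pos) (y : AdjoinRoot p) (N : ℕ)
    (hy : PP (LS c.monic y) N) :
    PP (LS c.monic (AdjoinRoot.of p a * y)) ((P.aug a).toNat * N) := by
  obtain ⟨h1, h2⟩ := c.LS_pos_mul ha y N hy.1
  refine ⟨h1, ?_⟩
  rw [h2]
  exact (((P.isUnit_lam a ha).map _).pow N).mul (hy.2.pow _)

theorem PP_z_mul (y : AdjoinRoot p) (N : ℕ) (hy : PP (LS c.monic y) N) :
    PP (LS c.monic ((AdjoinRoot.of p e - AdjoinRoot.root p) * y)) ((p.natDegree - 1) * N) := by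
  have h1 := c.LS_z_mul y N hy.1
  refine ⟨h1, ?_⟩
  have h2 := c.PP_root_mul y N hy
  have h3 := c.PP_pos_mul c.he y N hy
  have e1 : AdjoinRoot.of p e * y =
      (AdjoinRoot.of p e - AdjoinRoot.root p) * y + AdjoinRoot.root p * y := by ring
  rw [e1, LS_add] at h3
  have e2 : (P.aug e).toNat * N = (p.natDegree - 1) * N + N := by
    rw [← c.natDegree_eq]
    have := c.one_le
    obtain ⟨k, hk⟩ : ∃ k, p.natDegree = k + 1 := ⟨p.natDegree - 1, by omega⟩
    rw [hk, Nat.add_sub_cancel]; ring
  have h4 := h3.2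
  rw [e2, h1.coeff_top_mul h2.1] at h4
  exact isUnit_of_mul_isUnit_left h4

theorem PP_one : PP (LS c.monic (1 : AdjoinRoot p)) 1 := by
  rw [LS_one c.monic c.one_le c.kill c.lamOne]
  refine ⟨?_, ?_⟩
  · intro n hn
    rw [map_add, PowerSeries.coeff_one, PowerSeries.coeff_X, if_neg (by omega),
      if_neg (by omega), add_zero]
  · rw [map_add, PowerSeries.coeff_one, PowerSeries.coeff_X, if_neg (by omega), if_pos rfl,
      zero_add]
    exact isUnit_one

/-- the augmentation of the elementary extension -/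
noncomputable def augA : AdjoinRoot p →+* ℤ :=
  AdjoinRoot.lift P.aug 1 (by
    have hm := c.one_le
    rw [c.natDegree_eq] at hm
    rw [c.hpe]
    unfold KRR.extPoly
    rw [eval₂_finset_sum]
    have h1 : ∀ i ∈ Finset.range ((P.aug e).toNat + 1),
        eval₂ P.aug 1 (C ((-1 : K) ^ i * LambdaOps.lam i e) * X ^ ((P.aug e).toNat - i)) =
          (-1 : ℤ) ^ i * ((P.aug e).toNat.choose i : ℤ) := by
      intro i _
      rw [eval₂_mul, eval₂_C, eval₂_pow, eval₂_X, one_pow, mul_one, map_mul, map_pow, map_neg,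
        map_one, Groth.Agent.H41.aug_lam_eq_choose P c.hK e c.he]
    rw [Finset.sum_congr rfl h1]
    exact Int.alternating_sum_range_choose_of_ne (by omega))

theorem augA_of (a : K) : c.augA (AdjoinRoot.of p a) = P.aug a := AdjoinRoot.lift_of _

theorem augA_root : c.augA (AdjoinRoot.root p) = 1 := AdjoinRoot.lift_root _

end Ctx

/-- the generated set of positive elements -/
inductive Gen (P : PosStructure K) (e : K) (p : K[X]) : AdjoinRoot p → Prop
  | of (a : K) (ha : a ∈ P.pos) : Gen P e p (AdjoinRoot.of p a)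
  | root : Gen P e p (AdjoinRoot.root p)
  | z (h : 2 ≤ P.aug e) : Gen P e p (AdjoinRoot.of p e - AdjoinRoot.root p)
  | add {x y : AdjoinRoot p} : Gen P e p x → Gen P e p y → Gen P e p (x + y)
  | mul {x y : AdjoinRoot p} : Gen P e p x → Gen P e p y → Gen P e p (x * y)

namespace Ctx

variable {P : PosStructure K} {e : K} {p : K[X]} (c : Ctx P e p)

include c

theorem Gen_aug_pos {x : AdjoinRoot p} (hx : Gen P e p x) : 0 < c.augA x := by
  induction hx with
  | of a ha => rw [c.augA_of]; exact P.aug_pos a ha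
  | root => rw [c.augA_root]; exact Int.one_pos
  | z h => rw [map_sub, c.augA_of, c.augA_root]; omega
  | add _ _ ih1 ih2 => rw [map_add]; omega
  | mul _ _ ih1 ih2 => rw [map_mul]; exact mul_pos ih1 ih2

theorem Gen_PP {x : AdjoinRoot p} (hx : Gen P e p x) :
    ∀ (y : AdjoinRoot p) (N : ℕ), PP (LS c.monic y) N →
      PP (LS c.monic (x * y)) ((c.augA x).toNat * N) := by
  induction hx with
  | of a ha =>
    intro y N hy
    rw [c.augA_of]
    exact c.PP_pos_mul ha y N hy
  | root =>
    intro y N hy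
    rw [c.augA_root]
    simpa using c.PP_root_mul y N hy
  | z h =>
    intro y N hy
    have h1 := c.PP_z_mul y N hy
    have e1 : (c.augA (AdjoinRoot.of p e - AdjoinRoot.root p)).toNat = p.natDegree - 1 := by
      rw [map_sub, c.augA_of, c.augA_root, c.natDegree_eq]
      omega
    rw [e1]
    exact h1
  | @add x1 x2 h1 h2 ih1 ih2 =>
    intro y N hy
    have p1 := c.Gen_aug_pos h1
    have p2 := c.Gen_aug_pos h2
    have e1 : (c.augA (x1 + x2)).toNat * N =
        (c.augA x1).toNat * N + (c.augA x2).toNat * N := by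
      rw [map_add, Int.toNat_add p1.le p2.le]; ring
    rw [e1, add_mul, LS_add]
    exact (ih1 y N hy).mul (ih2 y N hy)
  | @mul x1 x2 h1 h2 ih1 ih2 =>
    intro y N hy
    have p1 := c.Gen_aug_pos h1
    have p2 := c.Gen_aug_pos h2
    have e1 : (c.augA (x1 * x2)).toNat * N =
        (c.augA x1).toNat * ((c.augA x2).toNat * N) := by
      rw [map_mul, Int.toNat_mul p1.le p2.le]; ring
    rw [e1, mul_assoc]
    exact ih1 _ _ (ih2 y N hy)

theorem Gen_PP_self {x : AdjoinRoot p} (hx : Gen P e p x) :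
    PP (LS c.monic x) (c.augA x).toNat := by
  have h := c.Gen_PP hx 1 1 c.PP_one
  rwa [mul_one, mul_one] at h

theorem Gen_mul_root_pow {x : AdjoinRoot p} (hx : Gen P e p x) (n : ℕ) :
    Gen P e p (x * AdjoinRoot.root p ^ n) := by
  induction n with
  | zero => rw [pow_zero, mul_one]; exact hx
  | succ n ih => rw [pow_succ, ← mul_assoc]; exact Gen.mul ih Gen.root

theorem Gen_exists_sub (x : AdjoinRoot p) :
    ∃ E F : AdjoinRoot p, Gen P e p E ∧ Gen P e p F ∧ x = E - F := by
  obtain ⟨g, rfl⟩ := AdjoinRoot.mk_surjective x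
  induction g using Polynomial.induction_on' with
  | add g h ihg ihh =>
    obtain ⟨E1, F1, hE1, hF1, h1⟩ := ihg
    obtain ⟨E2, F2, hE2, hF2, h2⟩ := ihh
    refine ⟨E1 + E2, F1 + F2, Gen.add hE1 hE2, Gen.add hF1 hF2, ?_⟩
    rw [map_add, h1, h2]; ring
  | monomial n a =>
    obtain ⟨a1, a2, ha1, ha2, rfl⟩ := P.exists_sub a
    refine ⟨AdjoinRoot.of p a1 * AdjoinRoot.root p ^ n, AdjoinRoot.of p a2 * AdjoinRoot.root p ^ n,
      c.Gen_mul_root_pow (Gen.of a1 ha1) n, c.Gen_mul_root_pow (Gen.of a2 ha2) n, ?_⟩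
    rw [← C_mul_X_pow_eq_monomial, map_mul, map_pow, AdjoinRoot.mk_C, AdjoinRoot.mk_X, map_sub]
    ring

/-- the positive structure on the elementary extension -/
noncomputable def posA : @PosStructure (AdjoinRoot p) _ (lamOps c.monic c.one_le) :=
  letI := lamOps c.monic c.one_le
  { aug := c.augA
    aug_surjective := fun n => by
      obtain ⟨x, hx⟩ := P.aug_surjective n
      exact ⟨AdjoinRoot.of p x, by rw [c.augA_of, hx]⟩
    pos := {x | Gen P e p x}
    add_mem := fun _ _ h1 h2 => Gen.add h1 h2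
    mul_mem := fun _ _ h1 h2 => Gen.mul h1 h2
    natCast_mem := fun n hn => by
      have h := Gen.of (e := e) (p := p) (n : K) (P.natCast_mem n hn)
      rwa [map_natCast] at h
    exists_sub := fun x => c.Gen_exists_sub x
    aug_pos := fun x hx => c.Gen_aug_pos hx
    lam_eq_zero := fun x hx i hi => by
      have h := (c.Gen_PP_self hx).1
      have hpos := c.Gen_aug_pos hx
      apply h
      omega
    isUnit_lam := fun x hx => (c.Gen_PP_self hx).2 }

end Ctx

end Ctx

end Groth.Agent.H43.EL
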