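import Mathlib.RingTheory.PowerSeries.Basic
import Mathlib.RingTheory.PowerSeries.Inverse

import Mathlib.Tactic

/-!
# Power series lemmas for the elementary extension of a λ-ring (helper43)

`PolLE F N`: the power series `F` is a polynomial of degree at most `N`.
-/

set_option autoImplicit false
universe u

namespace Groth.Agent.H43.EL

open PowerSeries Finset

variable {B : Type u} [CommRing B]

/-- the power series `F` is a polynomial of degree at most `N` -/
def PolLE (F : B⟦X⟧) (N : ℕ) : Prop := ∀ n, N < n → coeff n F = 0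

theorem PolLE.mono {F : B⟦X⟧} {N M : ℕ} (h : PolLE F N) (hNM : N ≤ M) : PolLE F M :=
  fun n hn => h n (lt_of_le_of_lt hNM hn)

theorem PolLE_zero (N : ℕ) : PolLE (0 : B⟦X⟧) N := fun n _ => by simp

theorem PolLE_one (N : ℕ) : PolLE (1 : B⟦X⟧) N := by
  intro n hn
  rw [coeff_one, if_neg (by omega)]

theorem PolLE_C (a : B) (N : ℕ) : PolLE (C a : B⟦X⟧) N := by
  intro n hn
  rw [coeff_C, if_neg (by omega)]

theorem PolLE.add {F G : B⟦X⟧} {N : ℕ} (hF : PolLE F N) (hG : PolLE G N) :
    PolLE (F + G) N := by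
  intro n hn
  rw [map_add, hF n hn, hG n hn, add_zero]

theorem PolLE.neg {F : B⟦X⟧} {N : ℕ} (hF : PolLE F N) : PolLE (-F) N := by
  intro n hn
  rw [map_neg, hF n hn, neg_zero]

theorem PolLE.mul {F G : B⟦X⟧} {N M : ℕ} (hF : PolLE F N) (hG : PolLE G M) :
    PolLE (F * G) (N + M) := by
  intro n hn
  rw [PowerSeries.coeff_mul]
  refine Finset.sum_eq_zero fun p hp => ?_
  have hp' := Finset.mem_antidiagonal.1 hp
  by_cases h1 : N < p.1
  · rw [hF _ h1, zero_mul]
  · have h2 : M < p.2 := by omega
    rw [hG _ h2, mul_zero]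

theorem PolLE.coeff_top_mul {F G : B⟦X⟧} {N M : ℕ} (hF : PolLE F N) (hG : PolLE G M) :
    coeff (N + M) (F * G) = coeff N F * coeff M G := by
  rw [PowerSeries.coeff_mul, Finset.sum_eq_single (N, M)]
  · intro p hp hne
    have hp' := Finset.mem_antidiagonal.1 hp
    by_cases h1 : N < p.1
    · rw [hF _ h1, zero_mul]
    · by_cases h2 : M < p.2
      · rw [hG _ h2, mul_zero]
      · exfalso
        apply hne
        have e1 : p.1 = N := by omega
        have e2 : p.2 = M := by omega
        exact Prod.ext e1 e2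
  · intro h
    exact absurd (Finset.mem_antidiagonal.2 (rfl : (N, M).1 + (N, M).2 = N + M)) h

theorem PolLE.rescale {F : B⟦X⟧} {N : ℕ} (hF : PolLE F N) (a : B) :
    PolLE (PowerSeries.rescale a F) N := by
  intro n hn
  rw [coeff_rescale, hF n hn, mul_zero]

theorem PolLE.map {B' : Type*} [CommRing B'] {F : B⟦X⟧} {N : ℕ} (hF : PolLE F N)
    (φ : B →+* B') : PolLE (PowerSeries.map φ F) N := by
  intro n hn
  rw [coeff_map, hF n hn, map_zero]

theorem PolLE.of_map {B' : Type*} [CommRing B'] {F : B⟦X⟧} {N : ℕ} (φ : B →+* B')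
    (hφ : Function.Injective φ) (hF : PolLE (PowerSeries.map φ F) N) : PolLE F N := by
  intro n hn
  apply hφ
  rw [map_zero, ← coeff_map, hF n hn]

theorem PolLE.prod {ι : Type*} (s : Finset ι) (F : ι → B⟦X⟧) (N : ℕ)
    (hF : ∀ i ∈ s, PolLE (F i) N) :
    PolLE (∏ i ∈ s, F i) (s.card * N) ∧
      coeff (s.card * N) (∏ i ∈ s, F i) = ∏ i ∈ s, coeff N (F i) := by
  classical
  induction s using Finset.induction_on with
  | empty =>
    simp only [Finset.prod_empty, Finset.card_empty, zero_mul]
    exact ⟨PolLE_one 0, by simp⟩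
  | insert a s ha ih =>
    have h1 := ih (fun i hi => hF i (Finset.mem_insert_of_mem hi))
    have h2 := hF a (Finset.mem_insert_self a s)
    rw [Finset.prod_insert ha, Finset.card_insert_of_notMem ha, Finset.prod_insert ha]
    have e : (s.card + 1) * N = N + s.card * N := by ring
    rw [e]
    exact ⟨h2.mul h1.1, by rw [h2.coeff_top_mul h1.1, h1.2]⟩

theorem rescale_C' (a r : B) : PowerSeries.rescale a (C r : B⟦X⟧) = C r := by
  ext n
  rw [coeff_rescale, coeff_C]
  split_ifs with h
  · subst h; simp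
  · simp

theorem constantCoeff_rescale' (a : B) (F : B⟦X⟧) :
    constantCoeff (PowerSeries.rescale a F) = constantCoeff F := by
  rw [← coeff_zero_eq_constantCoeff_apply, coeff_rescale, pow_zero, one_mul,
    coeff_zero_eq_constantCoeff_apply]

theorem isUnit_of_constantCoeff_one {F : B⟦X⟧} (h : constantCoeff F = 1) : IsUnit F := by
  rw [PowerSeries.isUnit_iff_constantCoeff, h]
  exact isUnit_one

/-- `F(at) - F(bt)` is divisible by `a - b`. -/
theorem rescale_sub_rescale (a b : B) (R : B⟦X⟧) :
    ∃ R' : B⟦X⟧, PowerSeries.rescale a R - PowerSeries.rescale b R = C (a - b) * R' ∧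
      ∀ N, PolLE R N → PolLE R' N := by
  refine ⟨PowerSeries.mk fun n =>
    (∑ i ∈ Finset.range n, a ^ i * b ^ (n - 1 - i)) * coeff n R, ?_, ?_⟩
  · ext n
    rw [map_sub, coeff_rescale, coeff_rescale, coeff_C_mul, coeff_mk, ← sub_mul,
      ← geom_sum₂_mul]
    ring
  · intro N hR n hn
    rw [coeff_mk, hR n hn, mul_zero]

/-- one step of the recursion `Ψ ↦ Ψ(lt) / Ψ(ut)` improves congruence to `1` -/
theorem psi_step {F V R : B⟦X⟧} {π l u : B} (hF : F = 1 + C π * R)
    (hV : PowerSeries.rescale u F * V = 1) :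
    ∃ R' : B⟦X⟧, PowerSeries.rescale l F * V = 1 + C (π * (l - u)) * R' := by
  obtain ⟨R', hR', -⟩ := rescale_sub_rescale l u R
  refine ⟨R' * V, ?_⟩
  have h1 : PowerSeries.rescale l F - PowerSeries.rescale u F =
      C π * (PowerSeries.rescale l R - PowerSeries.rescale u R) := by
    rw [hF]
    simp only [map_add, map_one, map_mul, rescale_C']
    ring
  calc PowerSeries.rescale l F * V
      = (PowerSeries.rescale l F - PowerSeries.rescale u F) * V
          + PowerSeries.rescale u F * V := by ring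
    _ = 1 + C (π * (l - u)) * (R' * V) := by
        rw [h1, hR', hV, map_mul]; ring

/-- Lemma Q: if `∏ (l - u i) = 0` then `∏ F(u_i t)` is divisible by `F(l t)` with a
polynomial quotient of the expected degree. -/
theorem lemmaQ_aux {ι : Type*} (u : ι → B) (l : B) (F : B⟦X⟧) (N : ℕ) (hF : PolLE F N)
    (s : Finset ι) :
    ∃ G E : B⟦X⟧, (s = ∅ → G = 0) ∧ PolLE G ((s.card - 1) * N) ∧ PolLE E (s.card * N) ∧
      ∏ i ∈ s, PowerSeries.rescale (u i) F =
        PowerSeries.rescale l F * G + C (∏ i ∈ s, (l - u i)) * E := by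
  classical
  induction s using Finset.induction_on with
  | empty =>
    refine ⟨0, 1, fun _ => rfl, PolLE_zero _, PolLE_one _, ?_⟩
    simp
  | insert a s ha ih =>
    obtain ⟨G, E, hG0, hG, hE, hprod⟩ := ih
    obtain ⟨H, hH, hHN⟩ := rescale_sub_rescale l (u a) F
    have hHN' := hHN N hF
    have hFa : PowerSeries.rescale (u a) F = PowerSeries.rescale l F - C (l - u a) * H := by
      rw [← hH]; ring
    refine ⟨G * PowerSeries.rescale (u a) F + C (∏ i ∈ s, (l - u i)) * E, -(E * H),
      fun h => absurd h (Finset.insert_ne_empty a s), ?_, ?_, ?_⟩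
    · rw [Finset.card_insert_of_notMem ha, Nat.add_sub_cancel]
      refine PolLE.add ?_ ?_
      · rcases Finset.eq_empty_or_nonempty s with hs | hs
        · rw [hG0 hs, zero_mul]; exact PolLE_zero _
        · obtain ⟨c, hc⟩ : ∃ c, s.card = c + 1 :=
            Nat.exists_eq_succ_of_ne_zero (Finset.card_ne_zero.2 hs)
          have h1 := hG.mul (hF.rescale (u a))
          rw [hc, Nat.add_sub_cancel] at h1
          rw [hc]
          have e : c * N + N = (c + 1) * N := by ring
          rw [← e]; exact h1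
      · have h1 := (PolLE_C (∏ i ∈ s, (l - u i)) 0).mul hE
        rw [zero_add] at h1
        exact h1
    · rw [Finset.card_insert_of_notMem ha]
      have h1 := (hE.mul hHN').neg
      have e : s.card * N + N = (s.card + 1) * N := by ring
      rw [← e]; exact h1
    · rw [Finset.prod_insert ha, Finset.prod_insert ha, hprod, map_mul]
      rw [hFa]
      ring

theorem lemmaQ {ι : Type*} (u : ι → B) (l : B) (F : B⟦X⟧) (N : ℕ) (hF : PolLE F N)
    (s : Finset ι) (hs : ∏ i ∈ s, (l - u i) = 0) :
    ∃ G : B⟦X⟧, PolLE G ((s.card - 1) * N) ∧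
      ∏ i ∈ s, PowerSeries.rescale (u i) F = PowerSeries.rescale l F * G := by
  obtain ⟨G, E, -, hG, -, hprod⟩ := lemmaQ_aux u l F N hF s
  refine ⟨G, hG, ?_⟩
  rw [hprod, hs, map_zero, zero_mul, add_zero]

/-- constant and linear coefficient of a product of series with constant coefficient one -/
theorem coeff_one_prod {ι : Type*} (s : Finset ι) (F : ι → B⟦X⟧)
    (hF : ∀ i ∈ s, constantCoeff (F i) = 1) :
    constantCoeff (∏ i ∈ s, F i) = 1 ∧ coeff 1 (∏ i ∈ s, F i) = ∑ i ∈ s, coeff 1 (F i) := by
  classical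
  induction s using Finset.induction_on with
  | empty => simp
  | insert a s ha ih =>
    have h1 := ih (fun i hi => hF i (Finset.mem_insert_of_mem hi))
    have h2 := hF a (Finset.mem_insert_self a s)
    rw [Finset.prod_insert ha, Finset.sum_insert ha]
    refine ⟨by rw [map_mul, h2, h1.1, mul_one], ?_⟩
    have hmul : ∀ f g : B⟦X⟧, coeff 1 (f * g) =
        coeff 1 f * constantCoeff g + constantCoeff f * coeff 1 g := by
      intro f g
      rw [PowerSeries.coeff_mul]
      simp [Finset.Nat.antidiagonal_succ]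
      ring
    rw [hmul, h2, h1.1, h1.2, mul_one, one_mul]

end Groth.Agent.H43.EL
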