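import Groth.Agent.S13634
import Mathlib.Algebra.Homology.ShortComplex.Ab
import Mathlib.Algebra.Homology.ShortComplex.Exact
import Mathlib.Algebra.Homology.ShortComplex.ExactFunctor

/-!
# fppf-local arguments for points of group schemes over `S` (helper43)

* `sheafExactLift`: in an exact sequence of abelian sheaves on the big fppf site, sections killed by
  `g` lift locally along `f`;
* `exactLift`: the same for points of commutative group schemes;
* `descend`: a morphism constant on the fibres of a morphism which is locally surjective on points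
  descends uniquely.
-/

set_option autoImplicit false
universe u
open CategoryTheory CategoryTheory.Limits MonoidalCategory CartesianMonoidalCategory MonObj AlgebraicGeometry
open Opposite

namespace Groth.Agent.H43.FppfDescent

variable {S : Scheme.{u}}

/-- sections killed by `g` lift locally along `f` in an exact sequence of abelian fppf sheaves -/
theorem sheafExactLift (Sc : ShortComplex (BigSite.Ab Scheme.fppfPrecoverage S)) (hS : Sc.Exact)
    {T : Over S} (y : Sc.X₂.obj.obj (op T)) (hy : Sc.g.hom.app (op T) y = 0) :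
    ∃ R : Sieve T, R ∈ (QuotSh.J Scheme.fppfPrecoverage S) T ∧ ∀ (T' : Over S) (t : T' ⟶ T), R t →
      ∃ a : Sc.X₁.obj.obj (op T'), Sc.f.hom.app (op T') a = Sc.X₂.obj.map t.op y := by
  have hepi : Epi (kernel.lift Sc.g Sc.f Sc.zero) := Sc.exact_iff_epi_kernel_lift.1 hS
  have hls : Sheaf.IsLocallySurjective (kernel.lift Sc.g Sc.f Sc.zero) :=
    (Sheaf.isLocallySurjective_iff_epi' _ _).2 hepi
  let F : BigSite.Ab Scheme.fppfPrecoverage S ⥤ AddCommGrpCat.{u + 1} :=
    sheafToPresheaf _ _ ⋙ (evaluation _ _).obj (op T)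
  have hF0 : F.PreservesZeroMorphisms := ⟨fun X Y => rfl⟩
  let SK : ShortComplex (BigSite.Ab Scheme.fppfPrecoverage S) :=
    ShortComplex.mk (kernel.ι Sc.g) Sc.g (kernel.condition _)
  have hSK : SK.Exact := SK.exact_of_f_is_kernel (kernelIsKernel Sc.g)
  have hmono : Mono SK.f := inferInstanceAs (Mono (kernel.ι Sc.g))
  have hpres : PreservesLimit (parallelPair SK.g 0) F := inferInstance
  have hF : (SK.map F).Exact := hSK.map_of_mono_of_preservesKernel F hmono hpres
  obtain ⟨z, hz⟩ := (ShortComplex.ab_exact_iff (SK.map F)).1 hF y hy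
  refine ⟨Presheaf.imageSieve (kernel.lift Sc.g Sc.f Sc.zero).hom z,
    Presheaf.imageSieve_mem _ _ _, ?_⟩
  rintro T' t ⟨a, ha⟩
  refine ⟨a, ?_⟩
  have h2 := congrArg (fun (q : Sc.X₁ ⟶ Sc.X₂) => q.hom.app (op T') a)
    (kernel.lift_ι Sc.g Sc.f Sc.zero)
  have h3 : (kernel.ι Sc.g).hom.app (op T')
      ((kernel.lift Sc.g Sc.f Sc.zero).hom.app (op T') a) = Sc.f.hom.app (op T') a := h2
  rw [← h3, ha]
  have h4 := NatTrans.naturality_apply (kernel.ι Sc.g).hom t.op z
  rw [h4]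
  exact congrArg (Sc.X₂.obj.map t.op) hz

/-- In an exact sequence `M₁ → M₂ → M₃` of fppf sheaves of points of commutative group schemes,
a point of `M₂` killed by `π` comes locally from `M₁`. -/
theorem exactLift {M₁ M₂ M₃ : Over S} [GrpObj M₁] [IsCommMonObj M₁] [GrpObj M₂] [IsCommMonObj M₂]
    [GrpObj M₃] [IsCommMonObj M₃] (j : M₁ ⟶ M₂) (π : M₂ ⟶ M₃) [IsMonHom j] [IsMonHom π]
    (w : j ≫ π = 1) (hex : (CGrpSh.seq Scheme.fppfPrecoverage j π w).Exact)
    {T : Over S} (k : T ⟶ M₂) (hk : k ≫ π = 1) :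
    ∃ R : Sieve T, R ∈ (QuotSh.J Scheme.fppfPrecoverage S) T ∧ ∀ (T' : Over S) (t : T' ⟶ T), R t →
      ∃ y : T' ⟶ M₁, y ≫ j = t ≫ k := by
  have hy : (CGrpSh.seq Scheme.fppfPrecoverage j π w).g.hom.app (op T)
      (ULift.up (Additive.ofMul k)) = 0 := by
    apply ULift.ext
    exact congrArg Additive.ofMul hk
  obtain ⟨R, hR, h⟩ := sheafExactLift _ hex (T := T) (ULift.up (Additive.ofMul k)) hy
  refine ⟨R, hR, fun T' t ht => ?_⟩
  obtain ⟨a, ha⟩ := h T' t ht
  exact ⟨a.down.toMul, congrArg (fun z => z.down.toMul) ha⟩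

/-- Descent along a morphism which is fppf-locally surjective on points: a morphism `ψ` which is
constant on the fibres of `f` factors uniquely through `f`. -/
theorem descend {X Y N : Over S} (f : X ⟶ Y) (ψ : X ⟶ N)
    (hloc : ∀ (T : Over S) (y : T ⟶ Y), ∃ R : Sieve T, R ∈ (QuotSh.J Scheme.fppfPrecoverage S) T ∧
      ∀ (T' : Over S) (t : T' ⟶ T), R t → ∃ x : T' ⟶ X, x ≫ f = t ≫ y)
    (hconst : ∀ (T : Over S) (x x' : T ⟶ X), x ≫ f = x' ≫ f → x ≫ ψ = x' ≫ ψ) :
    ∃ ψ' : Y ⟶ N, f ≫ ψ' = ψ ∧ ∀ ψ'' : Y ⟶ N, f ≫ ψ'' = ψ → ψ'' = ψ' := by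
  obtain ⟨R, hR, hRl⟩ := hloc Y (𝟙 Y)
  have hx : ∀ (T' : Over S) (t : T' ⟶ Y), R t → ∃ x : T' ⟶ X, x ≫ f = t := fun T' t ht => by
    obtain ⟨x, hx⟩ := hRl T' t ht
    exact ⟨x, by rw [hx, Category.comp_id]⟩
  choose xl hxl using hx
  have hs : Presieve.IsSheaf (QuotSh.J Scheme.fppfPrecoverage S) (yoneda.obj N) :=
    GrothendieckTopology.Subcanonical.isSheaf_of_isRepresentable _
  let fam : Presieve.FamilyOfElements (yoneda.obj N) R.arrows := fun T' t ht => xl T' t ht ≫ ψ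
  have hcomp : fam.Compatible := by
    intro Y₁ Y₂ Z g₁ g₂ t₁ t₂ h₁ h₂ hg
    show g₁ ≫ (xl _ t₁ h₁ ≫ ψ) = g₂ ≫ (xl _ t₂ h₂ ≫ ψ)
    rw [← Category.assoc, ← Category.assoc]
    apply hconst
    rw [Category.assoc, Category.assoc, hxl, hxl, hg]
  obtain ⟨ψ', hψ', -⟩ := (hs R hR) fam hcomp
  have hψt : ∀ (T' : Over S) (t : T' ⟶ Y) (ht : R t), t ≫ ψ' = xl T' t ht ≫ ψ :=
    fun T' t ht => hψ' t ht
  refine ⟨ψ', ?_, ?_⟩
  · apply S13634.sep (R.pullback f) ((QuotSh.J Scheme.fppfPrecoverage S).pullback_stable f hR)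
    intro T' t' ht'
    have ht'' : R (t' ≫ f) := ht'
    rw [← Category.assoc, hψt T' (t' ≫ f) ht'']
    apply hconst
    rw [hxl]
  · intro ψ'' hψ''
    apply S13634.sep R hR
    intro T' t ht
    have e : t ≫ ψ'' = xl T' t ht ≫ ψ := by
      rw [← hψ'', ← Category.assoc, hxl]
    rw [e, hψt T' t ht]

section gen

variable {C : Type*} [Category C] [CartesianMonoidalCategory C]

/-- points of a triple product -/
theorem pt3 {A B D T : C} (u : T ⟶ A ⊗ (B ⊗ D)) :
    u = lift (u ≫ fst _ _) (lift (u ≫ snd _ _ ≫ fst _ _) (u ≫ snd _ _ ≫ snd _ _)) := by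
  refine CartesianMonoidalCategory.hom_ext _ _ (by rw [lift_fst]) ?_
  rw [lift_snd]
  refine CartesianMonoidalCategory.hom_ext _ _ (by rw [lift_fst, Category.assoc])
    (by rw [lift_snd, Category.assoc])

theorem lift3_inj {A B D T : C} {p p' : T ⟶ A} {x x' : T ⟶ B} {q q' : T ⟶ D}
    (h : lift p (lift x q) = lift p' (lift x' q')) : p = p' ∧ x = x' ∧ q = q' := by
  have h1 := congrArg (fun z => z ≫ fst _ _) h
  have h2 := congrArg (fun z => z ≫ snd _ _) h
  simp only [lift_fst, lift_snd] at h1 h2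
  have h3 := congrArg (fun z => z ≫ fst _ _) h2
  have h4 := congrArg (fun z => z ≫ snd _ _) h2
  simp only [lift_fst, lift_snd] at h3 h4
  exact ⟨h1, h3, h4⟩

end gen

end Groth.Agent.H43.FppfDescent
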