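import Groth.Agent.H43.UnivThm

/-!
# The γ-filtration: elementary properties and evaluation of weighted polynomials
-/

set_option autoImplicit false

universe u v

namespace Groth.Agent.H43

open LambdaRing Finset

section Filt

variable {A : Type*} [CommRing A]

theorem prod_mem_filt (F : ℕ → Ideal A) (h1 : (1 : A) ∈ F 0)
    (hmul : ∀ i j a b, a ∈ F i → b ∈ F j → a * b ∈ F (i + j)) {ι : Type*} (s : Finset ι)
    (f : ι → A) (w : ι → ℕ) (h : ∀ i ∈ s, f i ∈ F (w i)) :
    ∏ i ∈ s, f i ∈ F (∑ i ∈ s, w i) := by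
  classical
  induction s using Finset.induction_on with
  | empty => simpa using h1
  | insert a s ha ih =>
    rw [Finset.prod_insert ha, Finset.sum_insert ha]
    exact hmul _ _ _ _ (h a (Finset.mem_insert_self a s))
      (ih fun i hi => h i (Finset.mem_insert_of_mem hi))

theorem pow_mem_filt (F : ℕ → Ideal A) (h1 : (1 : A) ∈ F 0)
    (hmul : ∀ i j a b, a ∈ F i → b ∈ F j → a * b ∈ F (i + j)) {i : ℕ} {a : A} (ha : a ∈ F i)
    (e : ℕ) : a ^ e ∈ F (i * e) := by
  induction e with
  | zero => simpa using h1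
  | succ e ih =>
    rw [pow_succ, Nat.mul_succ]
    exact hmul _ _ _ _ ih ha

end Filt

section Gamma

variable {A : Type*} [CommRing A] [LambdaOps A] {B : Type*} [CommRing B] [LambdaOps B]

theorem map_gamma (φ : A →+* B) (hφ : ∀ n a, φ (LambdaOps.lam n a) = LambdaOps.lam n (φ a))
    (n : ℕ) (a : A) : φ (gamma n a) = gamma n (φ a) := by
  cases n with
  | zero => rw [gamma_zero', gamma_zero', map_one]
  | succ n =>
    rw [Groth.Agent.S8651.gamma_succ, Groth.Agent.S8651.gamma_succ, map_sum]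
    apply Finset.sum_congr rfl
    intro j _
    rw [map_mul, map_natCast, hφ]

end Gamma

section GammaFil

variable {K : Type*} [CommRing K] {A : Type*} [CommRing A] [LambdaOps A]

theorem gammaFil_anti (ε : A →+* K) {m n : ℕ} (h : m ≤ n) : gammaFil ε n ≤ gammaFil ε m := by
  apply Ideal.span_mono
  rintro y ⟨l, h1, h2, h3⟩
  exact ⟨l, h1, le_trans h h2, h3⟩

theorem gamma_mem_gammaFil (ε : A →+* K) (i : ℕ) (y : A) (hy : ε y = 0) :
    gamma i y ∈ gammaFil ε i := by
  apply Ideal.subset_span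
  refine ⟨[(i, y)], ?_, ?_, ?_⟩
  · intro p hp
    rw [List.mem_singleton] at hp
    rw [hp]
    exact hy
  · simp
  · simp

theorem one_mem_gammaFil_zero (ε : A →+* K) : (1 : A) ∈ gammaFil ε 0 := by
  apply Ideal.subset_span
  exact ⟨[], by simp, by simp, by simp⟩

theorem mul_mem_gammaFil (ε : A →+* K) (i j : ℕ) (a b : A) (ha : a ∈ gammaFil ε i)
    (hb : b ∈ gammaFil ε j) : a * b ∈ gammaFil ε (i + j) := by
  have h : gammaFil ε i * gammaFil ε j ≤ gammaFil ε (i + j) := by
    unfold gammaFil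
    rw [Ideal.span_mul_span']
    apply Ideal.span_mono
    rintro z ⟨u, ⟨l, h1, h2, h3⟩, u', ⟨l', h1', h2', h3'⟩, rfl⟩
    refine ⟨l ++ l', ?_, ?_, ?_⟩
    · intro p hp
      rcases List.mem_append.mp hp with hp | hp
      · exact h1 p hp
      · exact h1' p hp
    · rw [List.map_append, List.sum_append]
      exact Nat.add_le_add h2 h2'
    · simp only [h3, h3', List.map_append, List.prod_append]
  exact h (Ideal.mul_mem_mul ha hb)

theorem list_prod_mem_filt (ε : A →+* K) (F : ℕ → Ideal A) (h1 : (1 : A) ∈ F 0)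
    (hmul : ∀ i j a b, a ∈ F i → b ∈ F j → a * b ∈ F (i + j))
    (hg : ∀ (i : ℕ) (z : A), ε z = 0 → gamma i z ∈ F i)
    (l : List (ℕ × A)) (hl : ∀ p ∈ l, ε p.2 = 0) :
    (l.map fun p => gamma p.1 p.2).prod ∈ F (l.map Prod.fst).sum := by
  induction l with
  | nil =>
    simp only [List.map_nil, List.prod_nil, List.sum_nil]
    exact h1
  | cons p l ih =>
    simp only [List.map_cons, List.prod_cons, List.sum_cons]
    apply hmul
    · exact hg p.1 p.2 (hl p List.mem_cons_self)
    · exact ih (fun q hq => hl q (List.mem_cons_of_mem _ hq))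

/-- a filtration by ideals which is multiplicative, decreasing, and contains `γ^i` of the
augmentation ideal in degree `i`, contains the γ-filtration. -/
theorem gammaFil_le_filt (ε : A →+* K) (F : ℕ → Ideal A) (h1 : (1 : A) ∈ F 0)
    (hmul : ∀ i j a b, a ∈ F i → b ∈ F j → a * b ∈ F (i + j))
    (hanti : ∀ i j, i ≤ j → F j ≤ F i)
    (hg : ∀ (i : ℕ) (z : A), ε z = 0 → gamma i z ∈ F i) (k : ℕ) : gammaFil ε k ≤ F k := by
  unfold gammaFil
  rw [Ideal.span_le]
  rintro y ⟨l, h2, h3, rfl⟩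
  exact hanti _ _ h3 (list_prod_mem_filt ε F h1 hmul hg l h2)

end GammaFil

section Wt

variable {K : Type u} [CommRing K] {κ : Type}

theorem wtGe_one_of_constantCoeff (p : MvPolynomial (κ × ℕ) K)
    (h : MvPolynomial.constantCoeff p = 0) : WtGe 1 p := by
  intro m hm
  have hm0 : m ≠ 0 := by
    rintro rfl
    rw [MvPolynomial.mem_support_iff, ← MvPolynomial.constantCoeff_eq] at hm
    exact hm h
  obtain ⟨a, ha⟩ : ∃ a, m a ≠ 0 := by
    by_contra hcon
    push Not at hcon
    exact hm0 (Finsupp.ext hcon)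
  have h1 := Finsupp.le_weight (wtF (κ := κ)) (s := a) (by unfold wtF; omega) m
  omega

variable {A : Type v} [CommRing A] [LambdaOps A] [Algebra K A]

/-- evaluation of a polynomial all of whose monomials have weight at least `d`. -/
theorem evG_mem_filt (F : ℕ → Ideal A) (h1 : (1 : A) ∈ F 0)
    (hmul : ∀ i j a b, a ∈ F i → b ∈ F j → a * b ∈ F (i + j))
    (hanti : ∀ i j, i ≤ j → F j ≤ F i) (x : κ → A)
    (hx : ∀ p : κ × ℕ, gamma (p.2 + 1) (x p.1) ∈ F (p.2 + 1))
    (q : MvPolynomial (κ × ℕ) K) (d : ℕ) (hq : WtGe d q) : evG K x q ∈ F d := by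
  rw [q.as_sum, map_sum]
  apply Ideal.sum_mem
  intro m hm
  unfold evG
  rw [MvPolynomial.aeval_monomial]
  apply Ideal.mul_mem_left
  rw [Finsupp.prod]
  have h2 := prod_mem_filt F h1 hmul m.support
    (fun p => gamma (p.2 + 1) (x p.1) ^ m p) (fun p => (p.2 + 1) * m p)
    (fun p _ => pow_mem_filt F h1 hmul (hx p) (m p))
  have h3 : ∑ p ∈ m.support, (p.2 + 1) * m p = Finsupp.weight (wtF (κ := κ)) m := by
    rw [Finsupp.weight_apply, Finsupp.sum]
    apply Finset.sum_congr rfl
    intro p _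
    rw [smul_eq_mul, mul_comm]
    rfl
  rw [h3] at h2
  exact hanti _ _ (hq m hm) h2

end Wt

end Groth.Agent.H43
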