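import Groth.Agent.H43.GammaFil

/-!
# Elements of the γ-filtration as values of weighted polynomials
-/

set_option autoImplicit false

universe u v

namespace Groth.Agent.H43

open LambdaRing Finset

section WtLemmas

variable {K : Type u} [CommRing K] {κ : Type}

theorem wtGe_zero (p : MvPolynomial (κ × ℕ) K) : WtGe 0 p := fun _ _ => Nat.zero_le _

theorem wtGe_mono {s t : ℕ} (h : s ≤ t) {p : MvPolynomial (κ × ℕ) K} (hp : WtGe t p) :
    WtGe s p := fun m hm => le_trans h (hp m hm)

theorem wtGe_add {s : ℕ} {p q : MvPolynomial (κ × ℕ) K} (hp : WtGe s p) (hq : WtGe s q) :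
    WtGe s (p + q) := by
  classical
  intro m hm
  rcases Finset.mem_union.mp (MvPolynomial.support_add hm) with h | h
  · exact hp m h
  · exact hq m h

theorem wtGe_mul {s t : ℕ} {p q : MvPolynomial (κ × ℕ) K} (hp : WtGe s p) (hq : WtGe t q) :
    WtGe (s + t) (p * q) := by
  classical
  intro m hm
  obtain ⟨m1, h1, m2, h2, rfl⟩ := Finset.mem_add.mp (MvPolynomial.support_mul p q hm)
  rw [map_add]
  exact Nat.add_le_add (hp m1 h1) (hq m2 h2)

theorem wtGe_X (a : κ × ℕ) : WtGe (a.2 + 1) (MvPolynomial.X a : MvPolynomial (κ × ℕ) K) := by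
  intro m hm
  have h := MvPolynomial.support_monomial_subset hm
  rw [Finset.mem_singleton] at h
  rw [h, Finsupp.weight_single]
  simp [wtF]

theorem wtGe_rename {κ' : Type} (f : κ → κ') (hf : Function.Injective f) {s : ℕ}
    {p : MvPolynomial (κ × ℕ) K} (hp : WtGe s p) :
    WtGe s (MvPolynomial.rename (Prod.map f id) p) := by
  classical
  intro m hm
  have hinj : Function.Injective (Prod.map f (id : ℕ → ℕ)) :=
    Function.Injective.prodMap hf Function.injective_id
  rw [MvPolynomial.support_rename_of_injective hinj, Finset.mem_image] at hm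
  obtain ⟨m0, hm0, rfl⟩ := hm
  have e : Finsupp.weight (wtF (κ := κ')) (Finsupp.mapDomain (Prod.map f id) m0) =
      Finsupp.weight (wtF (κ := κ)) m0 := by
    rw [Finsupp.weight_apply, Finsupp.weight_apply,
      Finsupp.sum_mapDomain_index (h := fun (i : κ' × ℕ) (c : ℕ) => c • wtF (κ := κ') i)
        (fun b => zero_smul _ _) (fun b m₁ m₂ => add_smul _ _ _)]
    rfl
  rw [e]
  exact hp m0 hm0

end WtLemmas

section Rep

variable {K : Type u} [CommRing K] {A : Type v} [CommRing A] [LambdaOps A] [Algebra K A]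

/-- `z` is the value of a polynomial of weight at least `s` in the `γ^i` of elements of augmentation
zero. -/
def Rp (ε : A →ₐ[K] K) (s : ℕ) (z : A) : Prop :=
  ∃ (κ : Type) (x : κ → A) (p : MvPolynomial (κ × ℕ) K),
    (∀ l, ε (x l) = 0) ∧ WtGe s p ∧ evG K x p = z

theorem rp_mono (ε : A →ₐ[K] K) {s t : ℕ} (h : s ≤ t) {z : A} (hz : Rp ε t z) : Rp ε s z := by
  obtain ⟨κ, x, p, h1, h2, h3⟩ := hz
  exact ⟨κ, x, p, h1, wtGe_mono h h2, h3⟩

theorem rp_any (ε : A →ₐ[K] K) (a : A) : Rp ε 0 a := by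
  refine ⟨Unit, fun _ => a - algebraMap K A (ε a),
    MvPolynomial.C (ε a) + MvPolynomial.X ((), 0), ?_, wtGe_zero _, ?_⟩
  · intro _
    rw [map_sub, AlgHom.commutes]
    simp
  · rw [map_add, evG_C, evG_X, gamma_one']
    ring

theorem rp_gamma (ε : A →ₐ[K] K) (r : ℕ) (y : A) (hy : ε y = 0) : Rp ε r (gamma r y) := by
  cases r with
  | zero =>
    rw [gamma_zero']
    exact rp_any ε 1
  | succ r =>
    refine ⟨Unit, fun _ => y, MvPolynomial.X ((), r), fun _ => hy, wtGe_X _, ?_⟩
    rw [evG_X]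

theorem evG_rename {κ κ' : Type} (f : κ → κ') (x : κ' → A) (p : MvPolynomial (κ × ℕ) K) :
    evG K x (MvPolynomial.rename (Prod.map f id) p) = evG K (x ∘ f) p := by
  unfold evG
  rw [MvPolynomial.aeval_rename]
  rfl

theorem rp_mul (ε : A →ₐ[K] K) {s t : ℕ} {a b : A} (ha : Rp ε s a) (hb : Rp ε t b) :
    Rp ε (s + t) (a * b) := by
  obtain ⟨κ, x, p, h1, h2, h3⟩ := ha
  obtain ⟨κ', x', p', h1', h2', h3'⟩ := hb
  refine ⟨κ ⊕ κ', Sum.elim x x',
    MvPolynomial.rename (Prod.map Sum.inl id) p * MvPolynomial.rename (Prod.map Sum.inr id) p',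
    ?_, wtGe_mul (wtGe_rename _ Sum.inl_injective h2) (wtGe_rename _ Sum.inr_injective h2'), ?_⟩
  · intro l
    cases l with
    | inl l => exact h1 l
    | inr l => exact h1' l
  · rw [map_mul, evG_rename, evG_rename, ← h3, ← h3']
    rfl

theorem rp_add (ε : A →ₐ[K] K) {s : ℕ} {a b : A} (ha : Rp ε s a) (hb : Rp ε s b) :
    Rp ε s (a + b) := by
  obtain ⟨κ, x, p, h1, h2, h3⟩ := ha
  obtain ⟨κ', x', p', h1', h2', h3'⟩ := hb
  refine ⟨κ ⊕ κ', Sum.elim x x',
    MvPolynomial.rename (Prod.map Sum.inl id) p + MvPolynomial.rename (Prod.map Sum.inr id) p',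
    ?_, wtGe_add (wtGe_rename _ Sum.inl_injective h2) (wtGe_rename _ Sum.inr_injective h2'), ?_⟩
  · intro l
    cases l with
    | inl l => exact h1 l
    | inr l => exact h1' l
  · rw [map_add, evG_rename, evG_rename, ← h3, ← h3']
    rfl

theorem rp_list (ε : A →ₐ[K] K) (l : List (ℕ × A)) (hl : ∀ p ∈ l, ε p.2 = 0) :
    Rp ε (l.map Prod.fst).sum (l.map fun p => gamma p.1 p.2).prod := by
  induction l with
  | nil =>
    simp only [List.map_nil, List.prod_nil, List.sum_nil]
    exact rp_any ε 1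
  | cons p l ih =>
    simp only [List.map_cons, List.prod_cons, List.sum_cons]
    exact rp_mul ε (rp_gamma ε p.1 p.2 (hl p List.mem_cons_self))
      (ih (fun q hq => hl q (List.mem_cons_of_mem _ hq)))

/-- every element of the `s`-th term of the γ-filtration is a value of a polynomial of weight at
least `s`. -/
theorem rp_of_mem_gammaFil (ε : A →ₐ[K] K) (s : ℕ) (z : A)
    (hz : z ∈ gammaFil (ε : A →+* K) s) : Rp ε s z := by
  unfold gammaFil at hz
  induction hz using Submodule.span_induction with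
  | mem g hg =>
    obtain ⟨l, h1, h2, h3⟩ := hg
    rw [h3]
    exact rp_mono ε h2 (rp_list ε l h1)
  | zero =>
    exact ⟨Unit, fun _ => 0, 0, fun _ => map_zero _, fun m hm => by simp at hm, map_zero _⟩
  | add x y _ _ hx hy => exact rp_add ε hx hy
  | smul a x _ hx =>
    have h := rp_mul ε (rp_any ε a) hx
    rw [zero_add] at h
    exact h

end Rep

end Groth.Agent.H43
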