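import Groth.Agent.H43.HilbT2

set_option linter.unusedVariables false
set_option linter.unusedSectionVars false
set_option linter.style.longLine false
set_option linter.unusedSimpArgs false

/-! General facts on the multigraded pieces of `T(I)` for a monomial ideal: description by
functions on the region, independence of the pieces, vanishing for constant sign patterns and the
graded decomposition `⨆ α, tPiece I α = ⊤`. -/

noncomputable section

namespace Groth.Agent.H43.HilbT

open W4c1hilbpn MvPolynomial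

variable {σ : Type*} [Fintype σ] [DecidableEq σ] {k : Type*} [Field k]
variable {I : Ideal (MvPolynomial σ k)} {α : σ → ℤ}

/-! ### functions on the region -/

variable (I α) in
/-- functions supported on the nonnegative part of the region and invariant along its edges -/
def RF : Submodule k ((σ → ℤ) → k) where
  carrier := {F | (∀ γ, γ ∉ region I α → F γ = 0) ∧ (∀ γ, ¬ NN γ → F γ = 0) ∧
    (∀ γ i, γ ∈ region I α → γ + Pi.single i 1 ∈ region I α → F (γ + Pi.single i 1) = F γ)}
  zero_mem' := ⟨fun _ _ => rfl, fun _ _ => rfl, fun _ _ _ _ => rfl⟩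
  add_mem' := by
    rintro F G ⟨h1, h2, h3⟩ ⟨g1, g2, g3⟩
    refine ⟨fun γ h => ?_, fun γ h => ?_, fun γ i h h' => ?_⟩
    · show F γ + G γ = 0
      rw [h1 γ h, g1 γ h, add_zero]
    · show F γ + G γ = 0
      rw [h2 γ h, g2 γ h, add_zero]
    · show F (γ + Pi.single i 1) + G (γ + Pi.single i 1) = F γ + G γ
      rw [h3 γ i h h', g3 γ i h h']
  smul_mem' := by
    rintro c F ⟨h1, h2, h3⟩
    refine ⟨fun γ h => ?_, fun γ h => ?_, fun γ i h h' => ?_⟩
    · show c * F γ = 0
      rw [h1 γ h, mul_zero]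
    · show c * F γ = 0
      rw [h2 γ h, mul_zero]
    · show c * F (γ + Pi.single i 1) = c * F γ
      rw [h3 γ i h h']

lemma rf_reach {F : (σ → ℤ) → k} (hF : F ∈ RF I α) {v w : ↥(region I α)}
    (h : (RG I α).Reachable v w) : F v.1 = F w.1 := by
  refine const_of_reachable (fun v : ↥(region I α) => F v.1) (fun u v hadj => ?_) h
  obtain ⟨i, hi | hi⟩ := stepGraph_adj_cases (show (stepGraph σ).Adj u.1 v.1 from hadj)
  · show F u.1 = F v.1
    rw [hi]
    exact (hF.2.2 u.1 i u.2 (hi ▸ v.2)).symm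
  · show F u.1 = F v.1
    rw [hi]
    exact hF.2.2 v.1 i v.2 (hi ▸ u.2)

lemma cfun_mem_RF (f : {c : (RG I α).ConnectedComponent // Good I α c} → k) :
    cfun f ∈ RF I α := by
  refine ⟨fun γ h => ?_, fun γ h => ?_, fun γ i h h' => ?_⟩
  · rw [cfun, dif_neg h]
  · by_contra hc
    exact h (cfun_NN f hc)
  · exact (cfun_adj f h h' (stepGraph_adj_single γ i)).symm

/-- region functions are functions on good components -/
def rfEquiv : RF I α ≃ₗ[k] ({c : (RG I α).ConnectedComponent // Good I α c} → k) where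
  toFun F := fun c => F.1 (Quot.out c.1).1
  map_add' F G := rfl
  map_smul' c F := rfl
  invFun f := ⟨cfun f, cfun_mem_RF f⟩
  left_inv F := by
    apply Subtype.ext
    funext γ
    show cfun (fun c : {c : (RG I α).ConnectedComponent // Good I α c} => F.1 (Quot.out c.1).1) γ = F.1 γ
    by_cases h : γ ∈ region I α
    · by_cases hg : Good I α ((RG I α).connectedComponentMk ⟨γ, h⟩)
      · rw [cfun_of_good _ h hg]
        have hr : (RG I α).Reachable (Quot.out ((RG I α).connectedComponentMk ⟨γ, h⟩)) ⟨γ, h⟩ :=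
          SimpleGraph.ConnectedComponent.eq.mp (Quot.out_eq _)
        exact rf_reach F.2 hr
      · rw [cfun, dif_pos h, dif_neg hg]
        unfold Good at hg
        push Not at hg
        obtain ⟨v, hv, hnn⟩ := hg
        have hr : (RG I α).Reachable v ⟨γ, h⟩ := SimpleGraph.ConnectedComponent.eq.mp hv
        have := rf_reach F.2 hr
        rw [F.2.2.1 v.1 hnn] at this
        exact this
    · rw [cfun, dif_neg h, F.2.1 γ h]
  right_inv f := by
    funext c
    obtain ⟨c, hc⟩ := c
    show cfun f (Quot.out c).1 = f ⟨c, hc⟩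
    have hv : (RG I α).connectedComponentMk (Quot.out c) = c := Quot.out_eq c
    have hg : Good I α ((RG I α).connectedComponentMk ⟨(Quot.out c).1, (Quot.out c).2⟩) := by
      show Good I α ((RG I α).connectedComponentMk (Quot.out c))
      rw [hv]
      exact hc
    rw [cfun_of_good f (Quot.out c).2 hg]
    exact congrArg f (Subtype.ext hv)

/-- region functions describe the graded piece -/
def rfT (hI : IsMonomial I) (α : σ → ℤ) : RF I α ≃ₗ[k] tPiece I α :=
  rfEquiv.trans (tPieceEquiv hI α)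

lemma rfT_apply (hI : IsMonomial I) (F : RF I α) (β : σ →₀ ℕ) (hβ : monomial β (1:k) ∈ I) :
    (rfT hI α F).1 ⟨monomial β 1, hβ⟩ =
      F.1 (sh β α) • Ideal.Quotient.mk I (monomial (toExp (sh β α)) (1:k)) := by
  have e1 : (rfT hI α F) = PhiLin α hI (rfEquiv F) := rfl
  rw [e1, PhiLin_apply, vfun, if_pos (show β ∈ exps I from hβ)]
  have e2 : cfun (rfEquiv F) = F.1 := congrArg Subtype.val (rfEquiv.left_inv F)
  rw [e2]

lemma finrank_RF (hI : IsMonomial I) (α : σ → ℤ) :
    Module.finrank k ↥(RF I α) = Module.finrank k ↥(tPiece I α) :=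
  (rfT hI α).finrank_eq

lemma tPiece_eq_bot_of_RF (hI : IsMonomial I) (h : ∀ F ∈ RF I α, F = 0) : tPiece I α = ⊥ := by
  rw [Submodule.eq_bot_iff]
  intro φ hφ
  have h0 : (rfT hI α).symm ⟨φ, hφ⟩ = 0 := Subtype.ext (h _ ((rfT hI α).symm ⟨φ, hφ⟩).2)
  have := congrArg (rfT hI α) h0
  rw [LinearEquiv.apply_symm_apply, map_zero] at this
  exact congrArg Subtype.val this

/-! ### vanishing for constant sign patterns -/

theorem tPiece_eq_bot_of_nonneg (hI : IsMonomial I) (hα : ∀ i, 0 ≤ α i) : tPiece I α = ⊥ := by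
  refine tPiece_eq_bot_of_RF hI fun F hF => ?_
  funext γ
  refine hF.1 γ fun hγ => ?_
  obtain ⟨⟨β, hβ, hγe⟩, hnot⟩ := mem_region_iff.mp hγ
  subst hγe
  apply hnot
  refine ⟨fun i => ?_, exps_of_le hβ ?_⟩
  · have := hα i
    show 0 ≤ (β i : ℤ) + α i
    omega
  · rw [Finsupp.le_def]
    intro i
    have := hα i
    show β i ≤ ((β i : ℤ) + α i).toNat
    omega

theorem tPiece_eq_bot_of_neg (hI : IsMonomial I) [Module.Finite k (MvPolynomial σ k ⧸ I)]
    {a b : σ} (hab : a ≠ b) (hα : ∀ i, α i < 0) : tPiece I α = ⊥ := by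
  refine tPiece_eq_bot_of_RF hI fun F hF => ?_
  obtain ⟨Na, hNa⟩ := exists_single_mem hI a
  have hbound : ∀ γ, γ ∈ region I α → NN γ → γ a < Na := by
    intro γ hγ hnn
    by_contra hc
    refine (mem_region_iff.mp hγ).2 ⟨hnn, exps_of_le hNa ?_⟩
    rw [Finsupp.le_def]
    intro i
    by_cases hi : i = a
    · subst hi
      rw [Finsupp.single_eq_same]
      show Na ≤ (γ i).toNat
      have := hnn i
      omega
    · rw [Finsupp.single_apply, if_neg (fun h => hi h.symm)]
      exact Nat.zero_le _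
  have key : ∀ n : ℕ, ∀ γ, γ ∈ region I α → NN γ → (Na : ℤ) - γ a + γ b ≤ n → F γ = 0 := by
    intro n
    induction n with
    | zero =>
      intro γ hγ hnn hle
      have := hbound γ hγ hnn
      have := hnn b
      omega
    | succ n ih =>
      intro γ hγ hnn hle
      obtain ⟨β, hβ, hγe⟩ := (mem_region_iff.mp hγ).1
      by_cases h1 : ∃ β' ∈ exps I, γ - Pi.single b 1 = sh β' α
      · have hγ' : γ - Pi.single b 1 + Pi.single b 1 = γ := sub_add_cancel _ _
        have hreg : γ - Pi.single b 1 ∈ region I α :=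
          region_of_step h1 (by rw [hγ']; exact hγ)
        have e := hF.2.2 (γ - Pi.single b 1) b hreg (by rw [hγ']; exact hγ)
        rw [hγ'] at e
        rw [e]
        by_cases hnn' : NN (γ - Pi.single b 1)
        · refine ih _ hreg hnn' ?_
          have e1 : (γ - Pi.single b 1 : σ → ℤ) a = γ a := by
            rw [Pi.sub_apply, Pi.single_eq_of_ne hab, sub_zero]
          have e2 : (γ - Pi.single b 1 : σ → ℤ) b = γ b - 1 := by
            rw [Pi.sub_apply, Pi.single_eq_same]
          rw [e1, e2]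
          push_cast at hle
          omega
        · exact hF.2.1 _ hnn'
      · have hreg : γ + Pi.single a 1 ∈ region I α := by
          refine mem_region_iff.mpr ⟨⟨β + Finsupp.single a 1, exps_add hβ _, by rw [sh_step, ← hγe]⟩, ?_⟩
          rintro ⟨hnn2, hin⟩
          apply h1
          refine ⟨toExp (fun i => (γ - Pi.single b 1 : σ → ℤ) i - α i), exps_of_le hin ?_, ?_⟩
          · rw [Finsupp.le_def]
            intro i
            have h3 := hnn i
            have h4 := hα i
            show ((γ + Pi.single a 1 : σ → ℤ) i).toNat ≤ ((γ - Pi.single b 1 : σ → ℤ) i - α i).toNat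
            rw [Pi.add_apply, Pi.sub_apply]
            by_cases hia : i = a
            · subst hia
              rw [Pi.single_eq_same, Pi.single_eq_of_ne hab]
              omega
            · by_cases hib : i = b
              · subst hib
                rw [Pi.single_eq_same, Pi.single_eq_of_ne hia]
                omega
              · rw [Pi.single_eq_of_ne hia, Pi.single_eq_of_ne hib]
                omega
          · funext i
            have h3 := hnn i
            have h4 := hα i
            show (γ - Pi.single b 1 : σ → ℤ) i = ((((γ - Pi.single b 1 : σ → ℤ) i - α i).toNat : ℕ) : ℤ) + α i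
            rw [Pi.sub_apply]
            by_cases hib : i = b
            · subst hib
              rw [Pi.single_eq_same]
              omega
            · rw [Pi.single_eq_of_ne hib]
              omega
        have e := hF.2.2 γ a hγ hreg
        rw [← e]
        refine ih _ hreg (NN_step hnn a) ?_
        have e1 : (γ + Pi.single a 1 : σ → ℤ) a = γ a + 1 := by
          rw [Pi.add_apply, Pi.single_eq_same]
        have e2 : (γ + Pi.single a 1 : σ → ℤ) b = γ b := by
          rw [Pi.add_apply, Pi.single_eq_of_ne (fun h => hab h.symm), add_zero]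
        rw [e1, e2]
        push_cast at hle
        omega
  funext γ
  by_cases hγ : γ ∈ region I α
  · by_cases hnn : NN γ
    · exact key ((Na : ℤ) - γ a + γ b).toNat γ hγ hnn (Int.self_le_toNat _)
    · exact hF.2.1 γ hnn
  · exact hF.1 γ hγ

/-! ### coefficient functionals -/

/-- the coefficient of the monomial `δ` in a lift of a class -/
def qcf (δ : σ →₀ ℕ) (q : MvPolynomial σ k ⧸ I) : k :=
  coeff δ (Function.surjInv Ideal.Quotient.mk_surjective q)

lemma qcf_mk (hI : IsMonomial I) {δ : σ →₀ ℕ} (hδ : δ ∉ exps I) (p : MvPolynomial σ k) :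
    qcf δ (Ideal.Quotient.mk I p) = coeff δ p := by
  unfold qcf
  have h1 : Ideal.Quotient.mk I
      (Function.surjInv Ideal.Quotient.mk_surjective (Ideal.Quotient.mk I p)) =
      Ideal.Quotient.mk I p := Function.surjInv_eq _ _
  have h2 := Ideal.Quotient.eq.mp h1
  have h3 : coeff δ (Function.surjInv Ideal.Quotient.mk_surjective (Ideal.Quotient.mk I p) - p) = 0 := by
    by_contra h
    exact hδ (hI _ h2 δ (mem_support_iff.mpr h))
  rw [coeff_sub] at h3
  exact sub_eq_zero.mp h3

/-- the coefficient functional of a standard monomial -/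
def qcl (hI : IsMonomial I) (δ : σ →₀ ℕ) (hδ : δ ∉ exps I) :
    (MvPolynomial σ k ⧸ I) →ₗ[k] k where
  toFun := qcf δ
  map_add' q₁ q₂ := by
    obtain ⟨p₁, rfl⟩ := Ideal.Quotient.mk_surjective q₁
    obtain ⟨p₂, rfl⟩ := Ideal.Quotient.mk_surjective q₂
    rw [← map_add, qcf_mk hI hδ, qcf_mk hI hδ, qcf_mk hI hδ, coeff_add]
  map_smul' c q := by
    obtain ⟨p, rfl⟩ := Ideal.Quotient.mk_surjective q
    have : c • Ideal.Quotient.mk I p = Ideal.Quotient.mk I (c • p) := rfl
    rw [this, qcf_mk hI hδ, qcf_mk hI hδ, coeff_smul]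
    rfl

/-- evaluation of a tangent vector at an element of the ideal -/
def evalL (x : ↥I) : Tgt I →ₗ[k] (MvPolynomial σ k ⧸ I) where
  toFun ψ := ψ x
  map_add' _ _ := rfl
  map_smul' _ _ := rfl

lemma smul_mk_k (c : k) (p : MvPolynomial σ k) :
    c • Ideal.Quotient.mk I p = Ideal.Quotient.mk I (c • p) := rfl

/-! ### independence of the graded pieces -/

theorem tPiece_indep (hI : IsMonomial I) : iSupIndep (fun α : σ → ℤ => tPiece I α) := by
  intro α
  rw [Submodule.disjoint_def]
  intro φ hφ hφ'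
  apply tgt_ext hI
  intro β hβ
  show φ ⟨monomial β 1, hβ⟩ = 0
  by_cases hnn : NN (sh β α)
  · by_cases hδ : toExp (sh β α) ∈ exps I
    · rw [co_spec hφ hβ, mk_monomial_eq_zero hδ, smul_zero]
    · set ℓ : Tgt I →ₗ[k] k := (qcl hI _ hδ).comp (evalL ⟨monomial β 1, hβ⟩) with hℓ
      have hle : (⨆ (α' : σ → ℤ) (_ : α' ≠ α), tPiece I α') ≤ LinearMap.ker ℓ := by
        refine iSup₂_le fun α' hα' ψ hψ => ?_
        rw [LinearMap.mem_ker]
        show qcf (toExp (sh β α)) (ψ ⟨monomial β 1, hβ⟩) = 0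
        by_cases hnn' : NN (sh β α')
        · rw [co_spec hψ hβ, smul_mk_k, qcf_mk hI hδ, coeff_smul, coeff_monomial, if_neg, smul_zero]
          intro he
          apply hα'
          have := toExp_inj_of_NN hnn' hnn he
          funext i
          have := congrFun this i
          simp only [sh_apply] at this
          omega
        · have : ∃ i, sh β α' i < 0 := by
            by_contra hcon
            push Not at hcon
            exact hnn' hcon
          rw [((mem_tPiece_iff.mp hψ) β hβ).2 this]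
          exact (qcl hI _ hδ).map_zero
      have h0 : ℓ φ = 0 := LinearMap.mem_ker.mp (hle hφ')
      have h1 : ℓ φ = co hφ β := by
        show qcf (toExp (sh β α)) (φ ⟨monomial β 1, hβ⟩) = _
        rw [co_spec hφ hβ, smul_mk_k, qcf_mk hI hδ, coeff_smul, coeff_monomial, if_pos rfl,
          smul_eq_mul, mul_one]
      rw [co_spec hφ hβ, ← h1, h0, zero_smul]
  · have : ∃ i, sh β α i < 0 := by
      by_contra hcon
      push Not at hcon
      exact hnn hcon
    exact ((mem_tPiece_iff.mp hφ) β hβ).2 this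

lemma finrank_finset_sup_eq {k V ι : Type*} [Field k] [AddCommGroup V] [Module k V]
    [DecidableEq ι] (p : ι → Submodule k V) (hind : iSupIndep p) (s : Finset ι)
    (hp : ∀ i ∈ s, Module.Finite k (p i)) :
    Module.Finite k ↥(s.sup p) ∧
      Module.finrank k ↥(s.sup p) = ∑ i ∈ s, Module.finrank k (p i) := by
  induction s using Finset.induction_on with
  | empty =>
    rw [Finset.sup_empty]
    exact ⟨inferInstance, by simp⟩
  | insert a s ha ih =>
    have hfa : Module.Finite k (p a) := hp a (Finset.mem_insert_self a s)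
    obtain ⟨hfs, heq⟩ := ih (fun i hi => hp i (Finset.mem_insert_of_mem hi))
    rw [Finset.sup_insert, Finset.sum_insert ha]
    refine ⟨inferInstance, ?_⟩
    have hdisj : Disjoint (p a) (s.sup p) :=
      (hind a).mono_right (Finset.sup_le fun j hj =>
        le_iSup₂_of_le j (show j ≠ a from fun h => ha (by rw [← h]; exact hj)) le_rfl)
    have := Submodule.finrank_sup_add_finrank_inf_eq (p a) (s.sup p)
    rw [disjoint_iff.mp hdisj, finrank_bot, add_zero] at this
    rw [this, heq]

section finite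

variable (hI : IsMonomial I) [Module.Finite k (MvPolynomial σ k ⧸ I)]
include hI

lemma finite_tPiece (α : σ → ℤ) : Module.Finite k ↥(tPiece I α) := by
  haveI := finite_good hI (α := α)
  exact Module.Finite.equiv (tPieceEquiv hI α)

/-- dimension of a span of graded pieces -/
theorem finrank_iSup_subtype (P : (σ → ℤ) → Prop) (s : Finset (σ → ℤ))
    (hs : ∀ α, P α → tPiece I α ≠ ⊥ → α ∈ s) (hs' : ∀ α ∈ s, P α) :
    Module.finrank k ↥(⨆ α : {α : σ → ℤ // P α}, tPiece I α.1) =
      ∑ α ∈ s, Module.finrank k ↥(tPiece I α) := by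
  have e : (⨆ α : {α : σ → ℤ // P α}, tPiece I α.1) = s.sup (fun α => tPiece I α) := by
    apply le_antisymm
    · refine iSup_le fun α => ?_
      by_cases h : tPiece I α.1 = ⊥
      · rw [h]; exact bot_le
      · exact Finset.le_sup (f := fun α => tPiece I α) (hs α.1 α.2 h)
    · refine Finset.sup_le fun α hα => ?_
      exact le_iSup (fun α : {α : σ → ℤ // P α} => tPiece I α.1) ⟨α, hs' α hα⟩
  rw [e]
  exact (finrank_finset_sup_eq _ (tPiece_indep hI) s (fun α _ => finite_tPiece hI α)).2

/-! ### the graded decomposition -/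

omit [Module.Finite k (MvPolynomial σ k ⧸ I)] in
lemma exists_gens : ∃ B₀ : Finset (σ →₀ ℕ), (∀ β ∈ B₀, β ∈ exps I) ∧
    ∀ β ∈ exps I, ∃ β₀ ∈ B₀, β₀ ≤ β := by
  classical
  obtain ⟨s, hs⟩ := (inferInstance : IsNoetherian (MvPolynomial σ k) (MvPolynomial σ k)).noetherian I
  refine ⟨s.biUnion fun p => p.support, ?_, ?_⟩
  · intro β hβ
    obtain ⟨p, hp, hβp⟩ := Finset.mem_biUnion.mp hβ
    have hpI : p ∈ I := by
      rw [← hs]
      exact Submodule.subset_span hp
    exact hI p hpI β hβp
  · intro β hβ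
    have hle : I ≤ Ideal.span ((fun s => monomial s (1 : k)) '' (↑(s.biUnion fun p => p.support) : Set (σ →₀ ℕ))) := by
      rw [← hs]
      refine Submodule.span_le.mpr fun p hp => ?_
      rw [SetLike.mem_coe, mem_ideal_span_monomial_image]
      intro xi hxi
      exact ⟨xi, Finset.mem_coe.mpr (Finset.mem_biUnion.mpr ⟨p, hp, hxi⟩), le_rfl⟩
    have := mem_ideal_span_monomial_image.mp (hle (show monomial β (1:k) ∈ I from hβ)) β
      (by rw [mem_support_iff, coeff_monomial, if_pos rfl]; exact one_ne_zero)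
    obtain ⟨β₀, hβ₀, hle'⟩ := this
    exact ⟨β₀, Finset.mem_coe.mp hβ₀, hle'⟩

omit [Module.Finite k (MvPolynomial σ k ⧸ I)] in
lemma mk_expand (S : Finset (σ →₀ ℕ)) (hS : ∀ δ, δ ∉ exps I → δ ∈ S) (hS' : ∀ δ ∈ S, δ ∉ exps I)
    (p : MvPolynomial σ k) :
    Ideal.Quotient.mk I p = ∑ δ ∈ S, coeff δ p • Ideal.Quotient.mk I (monomial δ (1:k)) := by
  classical
  have h1 : Ideal.Quotient.mk I p =
      ∑ β ∈ p.support, coeff β p • Ideal.Quotient.mk I (monomial β (1:k)) := by
    conv_lhs => rw [← support_sum_monomial_coeff p]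
    rw [map_sum]
    refine Finset.sum_congr rfl fun β _ => ?_
    rw [smul_mk_k, smul_monomial, smul_eq_mul, mul_one]
  rw [h1]
  have h2 : ∑ β ∈ p.support, coeff β p • Ideal.Quotient.mk I (monomial β (1:k)) =
      ∑ β ∈ p.support ∪ S, coeff β p • Ideal.Quotient.mk I (monomial β (1:k)) := by
    refine Finset.sum_subset Finset.subset_union_left fun β _ hβ => ?_
    rw [notMem_support_iff.mp hβ, zero_smul]
  have h3 : ∑ β ∈ S, coeff β p • Ideal.Quotient.mk I (monomial β (1:k)) =
      ∑ β ∈ p.support ∪ S, coeff β p • Ideal.Quotient.mk I (monomial β (1:k)) := by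
    refine Finset.sum_subset Finset.subset_union_right fun β _ hβ => ?_
    have : β ∈ exps I := by
      by_contra h
      exact hβ (hS β h)
    rw [mk_monomial_eq_zero this, smul_zero]
  rw [h2, h3]

end finite

lemma toExp_sh_sub (β : σ →₀ ℕ) (α : σ → ℤ) : toExp (sh β α - α) = β := by
  ext i
  show ((sh β α - α) i).toNat = β i
  rw [Pi.sub_apply, sh_apply]
  omega

open Classical in
/-- coefficient function of the degree `α` component of `φ` -/
def gradF (φ : Tgt I) (α : σ → ℤ) (γ : σ → ℤ) : k :=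
  if h : (γ ∈ region I α ∧ NN γ) ∧ monomial (toExp (γ - α)) (1:k) ∈ I then
    qcf (toExp γ) (φ ⟨monomial (toExp (γ - α)) 1, h.2⟩) else 0

lemma gradF_sh (φ : Tgt I) {β : σ →₀ ℕ} (hβ : monomial β (1:k) ∈ I)
    (hreg : sh β α ∈ region I α) (hnn : NN (sh β α)) :
    gradF φ α (sh β α) = qcf (toExp (sh β α)) (φ ⟨monomial β 1, hβ⟩) := by
  have e : toExp (sh β α - α) = β := toExp_sh_sub β α
  have hm : monomial (toExp (sh β α - α)) (1:k) ∈ I := by rw [e]; exact hβ
  rw [gradF, dif_pos ⟨⟨hreg, hnn⟩, hm⟩]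
  have : (⟨monomial (toExp (sh β α - α)) 1, hm⟩ : ↥I) = ⟨monomial β 1, hβ⟩ :=
    Subtype.ext (by show monomial (toExp (sh β α - α)) (1:k) = monomial β 1; rw [e])
  rw [this]

lemma gradF_of_not {φ : Tgt I} {γ : σ → ℤ} (h : ¬ (γ ∈ region I α ∧ NN γ)) :
    gradF φ α γ = 0 := by
  rw [gradF, dif_neg (fun hh => h hh.1)]

lemma gradF_mem (hI : IsMonomial I) (φ : Tgt I) (α : σ → ℤ) : gradF φ α ∈ RF I α := by
  refine ⟨fun γ h => gradF_of_not (fun hh => h hh.1), fun γ h => gradF_of_not (fun hh => h hh.2),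
    fun γ i hγ hγ' => ?_⟩
  obtain ⟨β, hβ, hγe⟩ := (mem_region_iff.mp hγ).1
  subst hγe
  have hβ' : β + Finsupp.single i 1 ∈ exps I := exps_add hβ _
  have hβm : monomial β (1:k) ∈ I := hβ
  have hβm' : monomial (β + Finsupp.single i 1) (1:k) ∈ I := hβ'
  have hstep : sh β α + Pi.single i 1 = sh (β + Finsupp.single i 1) α := (sh_step β α i).symm
  by_cases hnn' : NN (sh β α + Pi.single i 1)
  · obtain ⟨p, hp⟩ := Ideal.Quotient.mk_surjective (φ ⟨monomial β 1, hβm⟩)
    have hφ' : φ ⟨monomial (β + Finsupp.single i 1) 1, hβm'⟩ = Ideal.Quotient.mk I (X i * p) := by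
      rw [phi_step φ hβm i hβm', ← hp, smul_mk]
    have hδ' : toExp (sh β α + Pi.single i 1) ∉ exps I := fun hh =>
      (mem_region_iff.mp hγ').2 ⟨hnn', hh⟩
    have e1 : gradF φ α (sh β α + Pi.single i 1) =
        coeff (toExp (sh β α + Pi.single i 1)) (X i * p) := by
      have hreg2 : sh (β + Finsupp.single i 1) α ∈ region I α := by rw [← hstep]; exact hγ'
      have hnn2 : NN (sh (β + Finsupp.single i 1) α) := by rw [← hstep]; exact hnn'
      rw [hstep, gradF_sh φ hβm' hreg2 hnn2, hφ', qcf_mk hI (by rw [← hstep]; exact hδ')]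
    rw [e1]
    by_cases hnn : NN (sh β α)
    · have hδ : toExp (sh β α) ∉ exps I := fun hh => (mem_region_iff.mp hγ).2 ⟨hnn, hh⟩
      rw [gradF_sh φ hβm hγ hnn, ← hp, qcf_mk hI hδ, toExp_step hnn, add_comm, coeff_X_mul]
    · rw [gradF_of_not (fun hh => hnn hh.2), coeff_X_mul', if_neg]
      intro hmem
      rw [Finsupp.mem_support_iff] at hmem
      apply hmem
      show ((sh β α + Pi.single i 1 : σ → ℤ) i).toNat = 0
      have h1 : ∃ j, sh β α j < 0 := by
        by_contra hcon
        push Not at hcon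
        exact hnn hcon
      obtain ⟨j, hj⟩ := h1
      have h2 := hnn' j
      by_cases hji : j = i
      · subst hji
        rw [Pi.add_apply, Pi.single_eq_same] at h2 ⊢
        omega
      · rw [Pi.add_apply, Pi.single_eq_of_ne hji] at h2
        omega
  · rw [gradF_of_not (fun hh => hnn' hh.2), gradF_of_not (fun hh => not_NN_of_step i hnn' hh.2)]

/-- the degree `α` component of `φ` -/
def gradT (hI : IsMonomial I) (φ : Tgt I) (α : σ → ℤ) : tPiece I α :=
  rfT hI α ⟨gradF φ α, gradF_mem hI φ α⟩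

lemma gradT_apply (hI : IsMonomial I) (φ : Tgt I) (α : σ → ℤ) (β : σ →₀ ℕ)
    (hβ : monomial β (1:k) ∈ I) :
    (gradT hI φ α).1 ⟨monomial β 1, hβ⟩ =
      gradF φ α (sh β α) • Ideal.Quotient.mk I (monomial (toExp (sh β α)) (1:k)) :=
  rfT_apply hI ⟨gradF φ α, gradF_mem hI φ α⟩ β hβ

theorem iSup_tPiece_eq_top (hI : IsMonomial I) [Module.Finite k (MvPolynomial σ k ⧸ I)] :
    (⨆ α : σ → ℤ, tPiece I α) = ⊤ := by
  classical
  rw [eq_top_iff]
  intro φ _
  obtain ⟨B₀, hB₀, hgen⟩ := exists_gens hI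
  set Std : Finset (σ →₀ ℕ) := (std_finite hI).toFinset with hStd
  have hS : ∀ δ, δ ∉ exps I → δ ∈ Std := fun δ h => (std_finite hI).mem_toFinset.mpr h
  have hS' : ∀ δ ∈ Std, δ ∉ exps I := fun δ h => (std_finite hI).mem_toFinset.mp h
  set A : Finset (σ → ℤ) :=
    (B₀ ×ˢ Std).image (fun p => fun i => ((p.2 i : ℕ) : ℤ) - ((p.1 i : ℕ) : ℤ)) with hA
  set ψ : Tgt I := ∑ α ∈ A, (gradT hI φ α).1 with hψdef
  have hψ : ψ ∈ ⨆ α : σ → ℤ, tPiece I α :=
    Submodule.sum_mem _ fun α _ => (le_iSup (fun α : σ → ℤ => tPiece I α) α) (gradT hI φ α).2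
  have hgenEq : ∀ β₀ ∈ B₀, ∀ hm : monomial β₀ (1:k) ∈ I,
      φ ⟨monomial β₀ 1, hm⟩ = ψ ⟨monomial β₀ 1, hm⟩ := by
    intro β₀ hβ₀ hm
    obtain ⟨p, hp⟩ := Ideal.Quotient.mk_surjective (φ ⟨monomial β₀ 1, hm⟩)
    rw [hψdef, LinearMap.sum_apply, ← hp, mk_expand hI Std hS hS' p]
    set ι : (σ →₀ ℕ) → (σ → ℤ) := fun δ => fun i => ((δ i : ℕ) : ℤ) - ((β₀ i : ℕ) : ℤ) with hι
    have hιinj : Set.InjOn ι ↑Std := by
      intro δ _ δ' _ he
      ext i
      have := congrFun he i
      simp only [hι] at this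
      omega
    have hsub : Std.image ι ⊆ A := by
      intro α hα
      obtain ⟨δ, hδ, rfl⟩ := Finset.mem_image.mp hα
      exact Finset.mem_image.mpr ⟨(β₀, δ), Finset.mem_product.mpr ⟨hβ₀, hδ⟩, rfl⟩
    have hterm : ∀ δ ∈ Std, (gradT hI φ (ι δ)).1 ⟨monomial β₀ 1, hm⟩ =
        coeff δ p • Ideal.Quotient.mk I (monomial δ (1:k)) := by
      intro δ hδ
      have hsh : sh β₀ (ι δ) = fun i => ((δ i : ℕ) : ℤ) := by
        funext i
        simp only [sh_apply, hι]
        omega
      have hte : toExp (sh β₀ (ι δ)) = δ := by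
        rw [hsh]
        ext i
        show (((δ i : ℕ) : ℤ)).toNat = δ i
        omega
      have hnn : NN (sh β₀ (ι δ)) := by
        rw [hsh]
        intro i
        exact Int.natCast_nonneg _
      have hreg : sh β₀ (ι δ) ∈ region I (ι δ) :=
        mem_region_iff.mpr ⟨⟨β₀, hm, rfl⟩, fun hh => hS' δ hδ (hte ▸ hh.2)⟩
      rw [gradT_apply, gradF_sh φ hm hreg hnn, hte, ← hp, qcf_mk hI (hS' δ hδ)]
    have hzero : ∀ α ∈ A, α ∉ Std.image ι → (gradT hI φ α).1 ⟨monomial β₀ 1, hm⟩ = 0 := by
      intro α _ hα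
      rw [gradT_apply]
      by_cases hc : sh β₀ α ∈ region I α ∧ NN (sh β₀ α)
      · exfalso
        apply hα
        have hδ : toExp (sh β₀ α) ∉ exps I := fun hh => (mem_region_iff.mp hc.1).2 ⟨hc.2, hh⟩
        refine Finset.mem_image.mpr ⟨toExp (sh β₀ α), hS _ hδ, ?_⟩
        funext i
        have := hc.2 i
        simp only [hι, toExp_apply, sh_apply] at this ⊢
        omega
      · rw [gradF_of_not hc, zero_smul]
    rw [← Finset.sum_subset hsub hzero, Finset.sum_image hιinj]
    exact (Finset.sum_congr rfl hterm).symm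
  have heq : φ = ψ := by
    apply tgt_ext hI
    intro β hβ
    obtain ⟨β₀, hβ₀, hle⟩ := hgen β hβ
    have hm : monomial β₀ (1:k) ∈ I := hB₀ β₀ hβ₀
    have hx : (⟨monomial β 1, hβ⟩ : ↥I) =
        (monomial (β - β₀) (1:k)) • (⟨monomial β₀ 1, hm⟩ : ↥I) := by
      apply Subtype.ext
      show monomial β 1 = monomial (β - β₀) (1:k) * monomial β₀ 1
      rw [monomial_mul, one_mul, tsub_add_cancel_of_le hle]
    rw [hx, map_smul, map_smul, hgenEq β₀ hβ₀ hm]
  rw [heq]
  exact hψ

end Groth.Agent.H43.HilbT
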