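import Mathlib

set_option linter.unusedVariables false
set_option linter.unusedSectionVars false
set_option linter.style.longLine false
set_option linter.unusedSimpArgs false

/-! Planar duality for staircase complexes, by linear algebra: for antitone `m κ : ℕ → ℕ → ℤ`
the spaces `Z0` (relative `H⁰` of the complex of present cells) and `Z1` (functions on missing
faces constant across missing edges) satisfy `dim Z0 - dim Z1 = n₀ - n₁ + n₂`. -/

noncomputable section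

namespace Groth.Agent.H43.HilbD

open Finset Matrix

variable {k : Type*} [Field k]

section ext0
variable {ι : Type*} [DecidableEq ι]

/-- extension by zero of a function on a finset -/
def ext0 (S : Finset ι) (u : ↥S → k) (x : ι) : k :=
  if h : x ∈ S then u ⟨x, h⟩ else 0

lemma ext0_mem (S : Finset ι) (u : ↥S → k) {x : ι} (h : x ∈ S) : ext0 S u x = u ⟨x, h⟩ :=
  dif_pos h

lemma ext0_not_mem (S : Finset ι) (u : ↥S → k) {x : ι} (h : x ∉ S) : ext0 S u x = 0 :=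
  dif_neg h

lemma ext0_coe (S : Finset ι) (u : ↥S → k) (e : ↥S) : ext0 S u e.1 = u e := by
  rw [ext0_mem S u e.2]

lemma ext0_res (S : Finset ι) (F : ι → k) (hF : ∀ x, x ∉ S → F x = 0) (x : ι) :
    ext0 S (fun e : ↥S => F e.1) x = F x := by
  by_cases h : x ∈ S
  · rw [ext0_mem S _ h]
  · rw [ext0_not_mem S _ h, hF x h]

lemma sum_ite_left (S : Finset ι) (u : ↥S → k) (x : ι) :
    ∑ e : ↥S, (if x = e.1 then (1:k) else 0) * u e = ext0 S u x := by
  by_cases h : x ∈ S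
  · rw [ext0_mem S u h, Finset.sum_eq_single (⟨x, h⟩ : ↥S)]
    · rw [if_pos rfl, one_mul]
    · intro e _ hne
      rw [if_neg, zero_mul]
      intro hx
      exact hne (Subtype.ext hx.symm)
    · intro hh
      exact absurd (Finset.mem_univ _) hh
  · rw [ext0_not_mem S u h]
    refine Finset.sum_eq_zero fun e _ => ?_
    rw [if_neg, zero_mul]
    intro hx
    apply h
    rw [hx]
    exact e.2

lemma sum_ite_right (S : Finset ι) (u : ↥S → k) (x : ι) :
    ∑ e : ↥S, (if e.1 = x then (1:k) else 0) * u e = ext0 S u x := by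
  rw [← sum_ite_left S u x]
  refine Finset.sum_congr rfl fun e _ => ?_
  by_cases h : e.1 = x
  · rw [if_pos h, if_pos h.symm]
  · rw [if_neg h, if_neg (fun hh => h hh.symm)]

end ext0

section defs
variable (m κ : ℕ → ℕ → ℤ) (N : ℕ)

/-- the box `[0,N)²` -/
def box : Finset (ℕ × ℕ) := range N ×ˢ range N
/-- missing vertices -/
def M0 : Finset (ℕ × ℕ) := (box N).filter fun q => κ q.1 q.2 ≤ m q.1 q.2
/-- missing horizontal edges -/
def M1x : Finset (ℕ × ℕ) := (box N).filter fun q => κ (q.1 + 1) q.2 ≤ m q.1 q.2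
/-- missing vertical edges -/
def M1y : Finset (ℕ × ℕ) := (box N).filter fun q => κ q.1 (q.2 + 1) ≤ m q.1 q.2
/-- missing faces -/
def M2 : Finset (ℕ × ℕ) := (box N).filter fun q => κ (q.1 + 1) (q.2 + 1) ≤ m q.1 q.2

/-- hypotheses: `m`, `κ` antitone, `κ ≥ 0`, `m < 0` outside the box -/
structure Hyp : Prop where
  m1 : ∀ a b, m (a + 1) b ≤ m a b
  m2 : ∀ a b, m a (b + 1) ≤ m a b
  k1 : ∀ a b, κ (a + 1) b ≤ κ a b
  k2 : ∀ a b, κ a (b + 1) ≤ κ a b
  k0 : ∀ a b, 0 ≤ κ a b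
  hN : ∀ a b, (N ≤ a ∨ N ≤ b) → m a b < 0

variable (k)

/-- relative `H⁰` of present cells -/
def Z0 : Submodule k (ℕ → ℕ → k) where
  carrier := {φ | (∀ a b, ¬ (0 ≤ m a b ∧ m a b < κ a b) → φ a b = 0) ∧
    (∀ a b, 0 ≤ m a b → m a b < κ (a + 1) b → φ (a + 1) b = φ a b) ∧
    (∀ a b, 0 ≤ m a b → m a b < κ a (b + 1) → φ a (b + 1) = φ a b)}
  zero_mem' := ⟨fun _ _ _ => rfl, fun _ _ _ _ => rfl, fun _ _ _ _ => rfl⟩
  add_mem' := by
    rintro φ ψ ⟨h1, h2, h3⟩ ⟨g1, g2, g3⟩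
    refine ⟨fun a b h => ?_, fun a b h h' => ?_, fun a b h h' => ?_⟩
    · show φ a b + ψ a b = 0
      rw [h1 a b h, g1 a b h, add_zero]
    · show φ (a+1) b + ψ (a+1) b = φ a b + ψ a b
      rw [h2 a b h h', g2 a b h h']
    · show φ a (b+1) + ψ a (b+1) = φ a b + ψ a b
      rw [h3 a b h h', g3 a b h h']
  smul_mem' := by
    rintro c φ ⟨h1, h2, h3⟩
    refine ⟨fun a b h => ?_, fun a b h h' => ?_, fun a b h h' => ?_⟩
    · show c * φ a b = 0
      rw [h1 a b h, mul_zero]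
    · show c * φ (a+1) b = c * φ a b
      rw [h2 a b h h']
    · show c * φ a (b+1) = c * φ a b
      rw [h3 a b h h']

/-- `Z0` without the support condition on missing vertices -/
def Zh : Submodule k (ℕ → ℕ → k) where
  carrier := {φ | (∀ a b, m a b < 0 → φ a b = 0) ∧
    (∀ a b, 0 ≤ m a b → m a b < κ (a + 1) b → φ (a + 1) b = φ a b) ∧
    (∀ a b, 0 ≤ m a b → m a b < κ a (b + 1) → φ a (b + 1) = φ a b)}
  zero_mem' := ⟨fun _ _ _ => rfl, fun _ _ _ _ => rfl, fun _ _ _ _ => rfl⟩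
  add_mem' := by
    rintro φ ψ ⟨h1, h2, h3⟩ ⟨g1, g2, g3⟩
    refine ⟨fun a b h => ?_, fun a b h h' => ?_, fun a b h h' => ?_⟩
    · show φ a b + ψ a b = 0
      rw [h1 a b h, g1 a b h, add_zero]
    · show φ (a+1) b + ψ (a+1) b = φ a b + ψ a b
      rw [h2 a b h h', g2 a b h h']
    · show φ a (b+1) + ψ a (b+1) = φ a b + ψ a b
      rw [h3 a b h h', g3 a b h h']
  smul_mem' := by
    rintro c φ ⟨h1, h2, h3⟩
    refine ⟨fun a b h => ?_, fun a b h h' => ?_, fun a b h h' => ?_⟩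
    · show c * φ a b = 0
      rw [h1 a b h, mul_zero]
    · show c * φ (a+1) b = c * φ a b
      rw [h2 a b h h']
    · show c * φ a (b+1) = c * φ a b
      rw [h3 a b h h']

/-- functions on missing faces constant across missing edges, vanishing next to the boundary -/
def Z1 : Submodule k (ℕ → ℕ → k) where
  carrier := {ψ | (∀ a b, ¬ (κ (a + 1) (b + 1) ≤ m a b) → ψ a b = 0) ∧
    (∀ a b, κ (a + 1) (b + 1) ≤ m a (b + 1) → ψ a (b + 1) = ψ a b) ∧
    (∀ a, κ (a + 1) 0 ≤ m a 0 → ψ a 0 = 0) ∧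
    (∀ a b, κ (a + 1) (b + 1) ≤ m (a + 1) b → ψ (a + 1) b = ψ a b) ∧
    (∀ b, κ 0 (b + 1) ≤ m 0 b → ψ 0 b = 0)}
  zero_mem' := ⟨fun _ _ _ => rfl, fun _ _ _ => rfl, fun _ _ => rfl, fun _ _ _ => rfl, fun _ _ => rfl⟩
  add_mem' := by
    rintro φ ψ ⟨h1, h2, h3, h4, h5⟩ ⟨g1, g2, g3, g4, g5⟩
    refine ⟨fun a b h => ?_, fun a b h => ?_, fun a h => ?_, fun a b h => ?_, fun b h => ?_⟩
    · show φ a b + ψ a b = 0
      rw [h1 a b h, g1 a b h, add_zero]
    · show φ a (b+1) + ψ a (b+1) = φ a b + ψ a b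
      rw [h2 a b h, g2 a b h]
    · show φ a 0 + ψ a 0 = 0
      rw [h3 a h, g3 a h, add_zero]
    · show φ (a+1) b + ψ (a+1) b = φ a b + ψ a b
      rw [h4 a b h, g4 a b h]
    · show φ 0 b + ψ 0 b = 0
      rw [h5 b h, g5 b h, add_zero]
  smul_mem' := by
    rintro c φ ⟨h1, h2, h3, h4, h5⟩
    refine ⟨fun a b h => ?_, fun a b h => ?_, fun a h => ?_, fun a b h => ?_, fun b h => ?_⟩
    · show c * φ a b = 0
      rw [h1 a b h, mul_zero]
    · show c * φ a (b+1) = c * φ a b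
      rw [h2 a b h]
    · show c * φ a 0 = 0
      rw [h3 a h, mul_zero]
    · show c * φ (a+1) b = c * φ a b
      rw [h4 a b h]
    · show c * φ 0 b = 0
      rw [h5 b h, mul_zero]

/-- incidence of faces with missing horizontal edges -/
def Dx : Matrix ↥(M2 m κ N) ↥(M1x m κ N) k :=
  fun f e => (if f.1 = e.1 then 1 else 0) - (if (f.1.1, f.1.2 + 1) = e.1 then 1 else 0)

/-- incidence of faces with missing vertical edges -/
def Dy : Matrix ↥(M2 m κ N) ↥(M1y m κ N) k :=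
  fun f e => (if (f.1.1 + 1, f.1.2) = e.1 then 1 else 0) - (if f.1 = e.1 then 1 else 0)

/-- the coboundary on missing cells -/
def DD : Matrix ↥(M2 m κ N) (↥(M1x m κ N) ⊕ ↥(M1y m κ N)) k :=
  Matrix.fromCols (Dx k m κ N) (Dy k m κ N)

lemma Dx_mulVec (u : ↥(M1x m κ N) → k) (f : ↥(M2 m κ N)) :
    (Dx k m κ N *ᵥ u) f = ext0 _ u f.1 - ext0 _ u (f.1.1, f.1.2 + 1) := by
  show ∑ e, Dx k m κ N f e * u e = _
  simp only [Dx, sub_mul, Finset.sum_sub_distrib, sum_ite_left]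

lemma Dy_mulVec (u : ↥(M1y m κ N) → k) (f : ↥(M2 m κ N)) :
    (Dy k m κ N *ᵥ u) f = ext0 _ u (f.1.1 + 1, f.1.2) - ext0 _ u f.1 := by
  show ∑ e, Dy k m κ N f e * u e = _
  simp only [Dy, sub_mul, Finset.sum_sub_distrib, sum_ite_left]

lemma DD_mulVec (v : ↥(M1x m κ N) ⊕ ↥(M1y m κ N) → k) (f : ↥(M2 m κ N)) :
    (DD k m κ N *ᵥ v) f =
      (ext0 _ (v ∘ Sum.inl) f.1 - ext0 _ (v ∘ Sum.inl) (f.1.1, f.1.2 + 1)) +
      (ext0 _ (v ∘ Sum.inr) (f.1.1 + 1, f.1.2) - ext0 _ (v ∘ Sum.inr) f.1) := by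
  rw [DD, Matrix.fromCols_mulVec, Pi.add_apply, Dx_mulVec, Dy_mulVec]

lemma DxT_mulVec_succ (ψ : ↥(M2 m κ N) → k) (e : ↥(M1x m κ N)) (a b : ℕ)
    (he : e.1 = (a, b + 1)) :
    ((Dx k m κ N)ᵀ *ᵥ ψ) e = ext0 _ ψ (a, b + 1) - ext0 _ ψ (a, b) := by
  show ∑ f, Dx k m κ N f e * ψ f = _
  simp only [Dx, sub_mul, Finset.sum_sub_distrib, he]
  congr 1
  · exact sum_ite_right _ ψ (a, b + 1)
  · rw [← sum_ite_right _ ψ (a, b)]
    refine Finset.sum_congr rfl fun f _ => ?_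
    congr 1
    refine if_congr ?_ rfl rfl
    constructor
    · intro h
      exact Prod.ext (by simpa using congrArg Prod.fst h) (by simpa using congrArg Prod.snd h)
    · intro h
      rw [h]

lemma DxT_mulVec_zero (ψ : ↥(M2 m κ N) → k) (e : ↥(M1x m κ N)) (a : ℕ)
    (he : e.1 = (a, 0)) :
    ((Dx k m κ N)ᵀ *ᵥ ψ) e = ext0 _ ψ (a, 0) := by
  show ∑ f, Dx k m κ N f e * ψ f = _
  simp only [Dx, sub_mul, Finset.sum_sub_distrib, he]
  rw [sum_ite_right _ ψ (a, 0), Finset.sum_eq_zero, sub_zero]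
  intro f _
  rw [if_neg, zero_mul]
  intro h
  have := congrArg Prod.snd h
  simp at this

lemma DyT_mulVec_succ (ψ : ↥(M2 m κ N) → k) (e : ↥(M1y m κ N)) (a b : ℕ)
    (he : e.1 = (a + 1, b)) :
    ((Dy k m κ N)ᵀ *ᵥ ψ) e = ext0 _ ψ (a, b) - ext0 _ ψ (a + 1, b) := by
  show ∑ f, Dy k m κ N f e * ψ f = _
  simp only [Dy, sub_mul, Finset.sum_sub_distrib, he]
  congr 1
  · rw [← sum_ite_right _ ψ (a, b)]
    refine Finset.sum_congr rfl fun f _ => ?_
    congr 1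
    refine if_congr ?_ rfl rfl
    constructor
    · intro h
      exact Prod.ext (by simpa using congrArg Prod.fst h) (by simpa using congrArg Prod.snd h)
    · intro h
      rw [h]
  · exact sum_ite_right _ ψ (a + 1, b)

lemma DyT_mulVec_zero (ψ : ↥(M2 m κ N) → k) (e : ↥(M1y m κ N)) (b : ℕ)
    (he : e.1 = (0, b)) :
    ((Dy k m κ N)ᵀ *ᵥ ψ) e = - ext0 _ ψ (0, b) := by
  show ∑ f, Dy k m κ N f e * ψ f = _
  simp only [Dy, sub_mul, Finset.sum_sub_distrib, he]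
  rw [sum_ite_right _ ψ (0, b), Finset.sum_eq_zero, zero_sub]
  intro f _
  rw [if_neg, zero_mul]
  intro h
  have := congrArg Prod.fst h
  simp at this

end defs

section main
variable {m κ : ℕ → ℕ → ℤ} {N : ℕ}

lemma Hyp.inbox (H : Hyp m κ N) {a b : ℕ} (h : 0 ≤ m a b) : a < N ∧ b < N := by
  constructor
  · by_contra hh
    have := H.hN a b (Or.inl (not_lt.mp hh))
    omega
  · by_contra hh
    have := H.hN a b (Or.inr (not_lt.mp hh))
    omega

lemma Hyp.mem_M0 (H : Hyp m κ N) {a b : ℕ} : (a, b) ∈ M0 m κ N ↔ κ a b ≤ m a b := by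
  simp only [M0, box, mem_filter, mem_product, mem_range]
  exact ⟨fun h => h.2, fun h => ⟨H.inbox (le_trans (H.k0 a b) h), h⟩⟩

lemma Hyp.mem_M1x (H : Hyp m κ N) {a b : ℕ} : (a, b) ∈ M1x m κ N ↔ κ (a + 1) b ≤ m a b := by
  simp only [M1x, box, mem_filter, mem_product, mem_range]
  exact ⟨fun h => h.2, fun h => ⟨H.inbox (le_trans (H.k0 (a+1) b) h), h⟩⟩

lemma Hyp.mem_M1y (H : Hyp m κ N) {a b : ℕ} : (a, b) ∈ M1y m κ N ↔ κ a (b + 1) ≤ m a b := by
  simp only [M1y, box, mem_filter, mem_product, mem_range]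
  exact ⟨fun h => h.2, fun h => ⟨H.inbox (le_trans (H.k0 a (b+1)) h), h⟩⟩

lemma Hyp.mem_M2 (H : Hyp m κ N) {a b : ℕ} :
    (a, b) ∈ M2 m κ N ↔ κ (a + 1) (b + 1) ≤ m a b := by
  simp only [M2, box, mem_filter, mem_product, mem_range]
  exact ⟨fun h => h.2, fun h => ⟨H.inbox (le_trans (H.k0 (a+1) (b+1)) h), h⟩⟩

variable (k)

lemma kerT_iff (H : Hyp m κ N) (χ : ↥(M2 m κ N) → k) :
    (DD k m κ N)ᵀ *ᵥ χ = 0 ↔ (fun a b => ext0 (M2 m κ N) χ (a, b)) ∈ Z1 k m κ := by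
  rw [DD, Matrix.transpose_fromCols, Matrix.fromRows_mulVec]
  constructor
  · intro h
    have hx : ∀ e, ((Dx k m κ N)ᵀ *ᵥ χ) e = 0 := fun e => by
      have := congrFun h (Sum.inl e)
      simpa using this
    have hy : ∀ e, ((Dy k m κ N)ᵀ *ᵥ χ) e = 0 := fun e => by
      have := congrFun h (Sum.inr e)
      simpa using this
    refine ⟨fun a b hn => ?_, fun a b hc => ?_, fun a hc => ?_, fun a b hc => ?_, fun b hc => ?_⟩
    · exact ext0_not_mem _ _ (fun hmem => hn (H.mem_M2.mp hmem))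
    · have hmem : (a, b+1) ∈ M1x m κ N := H.mem_M1x.mpr hc
      have := hx ⟨(a, b+1), hmem⟩
      rw [DxT_mulVec_succ k m κ N χ _ a b rfl] at this
      exact sub_eq_zero.mp this
    · have hmem : (a, 0) ∈ M1x m κ N := H.mem_M1x.mpr hc
      have := hx ⟨(a, 0), hmem⟩
      rw [DxT_mulVec_zero k m κ N χ _ a rfl] at this
      exact this
    · have hmem : (a+1, b) ∈ M1y m κ N := H.mem_M1y.mpr hc
      have := hy ⟨(a+1, b), hmem⟩
      rw [DyT_mulVec_succ k m κ N χ _ a b rfl] at this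
      exact (sub_eq_zero.mp this).symm
    · have hmem : (0, b) ∈ M1y m κ N := H.mem_M1y.mpr hc
      have := hy ⟨(0, b), hmem⟩
      rw [DyT_mulVec_zero k m κ N χ _ b rfl] at this
      exact neg_eq_zero.mp this
  · rintro ⟨h0, h1, h2, h3, h4⟩
    funext e
    rcases e with e | e
    · show ((Dx k m κ N)ᵀ *ᵥ χ) e = 0
      obtain ⟨⟨a, b⟩, he⟩ := e
      cases b with
      | zero =>
        rw [DxT_mulVec_zero k m κ N χ _ a rfl]
        exact h2 a (H.mem_M1x.mp he)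
      | succ b =>
        rw [DxT_mulVec_succ k m κ N χ _ a b rfl]
        exact sub_eq_zero.mpr (h1 a b (H.mem_M1x.mp he))
    · show ((Dy k m κ N)ᵀ *ᵥ χ) e = 0
      obtain ⟨⟨a, b⟩, he⟩ := e
      cases a with
      | zero =>
        rw [DyT_mulVec_zero k m κ N χ _ b rfl]
        exact neg_eq_zero.mpr (h4 b (H.mem_M1y.mp he))
      | succ a =>
        rw [DyT_mulVec_succ k m κ N χ _ a b rfl]
        exact sub_eq_zero.mpr (h3 a b (H.mem_M1y.mp he)).symm

/-- `Z1` is the kernel of the transposed coboundary -/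
def z1Equiv (H : Hyp m κ N) :
    Z1 k m κ ≃ₗ[k] ↥(LinearMap.ker (DD k m κ N)ᵀ.mulVecLin) where
  toFun ψ := ⟨fun f => ψ.1 f.1.1 f.1.2, by
    rw [LinearMap.mem_ker, Matrix.mulVecLin_apply, kerT_iff k H]
    have e : (fun a b => ext0 (M2 m κ N) (fun f : ↥(M2 m κ N) => ψ.1 f.1.1 f.1.2) (a, b)) = ψ.1 := by
      funext a b
      exact ext0_res _ (fun q : ℕ × ℕ => ψ.1 q.1 q.2)
        (fun q hq => ψ.2.1 q.1 q.2 (fun hc => hq (H.mem_M2.mpr hc))) (a, b)
    rw [e]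
    exact ψ.2⟩
  map_add' ψ χ := rfl
  map_smul' c ψ := rfl
  invFun χ := ⟨fun a b => ext0 (M2 m κ N) χ.1 (a, b), (kerT_iff k H χ.1).mp (by
    have := χ.2
    rwa [LinearMap.mem_ker, Matrix.mulVecLin_apply] at this)⟩
  left_inv ψ := by
    apply Subtype.ext
    funext a b
    exact ext0_res _ (fun q : ℕ × ℕ => ψ.1 q.1 q.2)
      (fun q hq => ψ.2.1 q.1 q.2 (fun hc => hq (H.mem_M2.mpr hc))) (a, b)
  right_inv χ := by
    apply Subtype.ext
    funext f
    exact ext0_coe _ χ.1 f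

/-! ### the kernel of the coboundary -/

lemma Zh_dx (H : Hyp m κ N) {Φ : ℕ → ℕ → k} (hΦ : Φ ∈ Zh k m κ) (a b : ℕ) :
    ext0 (M1x m κ N) (fun e : ↥(M1x m κ N) => Φ (e.1.1 + 1) e.1.2 - Φ e.1.1 e.1.2) (a, b) =
      Φ (a + 1) b - Φ a b := by
  refine ext0_res _ (fun q : ℕ × ℕ => Φ (q.1 + 1) q.2 - Φ q.1 q.2) (fun q hq => ?_) (a, b)
  show Φ (q.1 + 1) q.2 - Φ q.1 q.2 = 0
  by_cases hm : 0 ≤ m q.1 q.2
  · have hlt : m q.1 q.2 < κ (q.1 + 1) q.2 := not_le.mp (fun hc => hq (H.mem_M1x.mpr hc))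
    rw [hΦ.2.1 _ _ hm hlt, sub_self]
  · have h1 : m q.1 q.2 < 0 := not_le.mp hm
    have h2 : m (q.1 + 1) q.2 < 0 := lt_of_le_of_lt (H.m1 _ _) h1
    rw [hΦ.1 _ _ h1, hΦ.1 _ _ h2, sub_self]

lemma Zh_dy (H : Hyp m κ N) {Φ : ℕ → ℕ → k} (hΦ : Φ ∈ Zh k m κ) (a b : ℕ) :
    ext0 (M1y m κ N) (fun e : ↥(M1y m κ N) => Φ e.1.1 (e.1.2 + 1) - Φ e.1.1 e.1.2) (a, b) =
      Φ a (b + 1) - Φ a b := by
  refine ext0_res _ (fun q : ℕ × ℕ => Φ q.1 (q.2 + 1) - Φ q.1 q.2) (fun q hq => ?_) (a, b)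
  show Φ q.1 (q.2 + 1) - Φ q.1 q.2 = 0
  by_cases hm : 0 ≤ m q.1 q.2
  · have hlt : m q.1 q.2 < κ q.1 (q.2 + 1) := not_le.mp (fun hc => hq (H.mem_M1y.mpr hc))
    rw [hΦ.2.2 _ _ hm hlt, sub_self]
  · have h1 : m q.1 q.2 < 0 := not_le.mp hm
    have h2 : m q.1 (q.2 + 1) < 0 := lt_of_le_of_lt (H.m2 _ _) h1
    rw [hΦ.1 _ _ h1, hΦ.1 _ _ h2, sub_self]

/-- the coboundary of an element of `Zh`, as a cochain on missing edges -/
def dvec (Φ : ℕ → ℕ → k) : ↥(M1x m κ N) ⊕ ↥(M1y m κ N) → k :=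
  Sum.elim (fun e => Φ (e.1.1 + 1) e.1.2 - Φ e.1.1 e.1.2)
    (fun e => Φ e.1.1 (e.1.2 + 1) - Φ e.1.1 e.1.2)

lemma dvec_mem_ker (H : Hyp m κ N) {Φ : ℕ → ℕ → k} (hΦ : Φ ∈ Zh k m κ) :
    dvec k (m := m) (κ := κ) (N := N) Φ ∈ LinearMap.ker (DD k m κ N).mulVecLin := by
  rw [LinearMap.mem_ker, Matrix.mulVecLin_apply]
  funext f
  rw [DD_mulVec]
  have e1 : dvec k (m := m) (κ := κ) (N := N) Φ ∘ Sum.inl =
      fun e : ↥(M1x m κ N) => Φ (e.1.1 + 1) e.1.2 - Φ e.1.1 e.1.2 := rfl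
  have e2 : dvec k (m := m) (κ := κ) (N := N) Φ ∘ Sum.inr =
      fun e : ↥(M1y m κ N) => Φ e.1.1 (e.1.2 + 1) - Φ e.1.1 e.1.2 := rfl
  rw [e1, e2]
  obtain ⟨⟨a, b⟩, hf⟩ := f
  show (ext0 _ _ (a, b) - ext0 _ _ (a, b + 1)) + (ext0 _ _ (a + 1, b) - ext0 _ _ (a, b)) = 0
  rw [Zh_dx k H hΦ, Zh_dx k H hΦ, Zh_dy k H hΦ, Zh_dy k H hΦ]
  ring

lemma Zh_eq_zero (H : Hyp m κ N) {Φ : ℕ → ℕ → k} (hΦ : Φ ∈ Zh k m κ)
    (hstep : ∀ a b, Φ (a + 1) b = Φ a b) : Φ = 0 := by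
  funext a b
  have h : ∀ n, Φ (a + n) b = Φ a b := by
    intro n
    induction n with
    | zero => rfl
    | succ n ih => rw [← add_assoc, hstep, ih]
  rw [← h N]
  exact hΦ.1 _ _ (H.hN _ _ (Or.inl (Nat.le_add_left N a)))

/-- the linear map `Zh → ker D` -/
def dLin (H : Hyp m κ N) : Zh k m κ →ₗ[k] ↥(LinearMap.ker (DD k m κ N).mulVecLin) where
  toFun Φ := ⟨dvec k Φ.1, dvec_mem_ker k H Φ.2⟩
  map_add' Φ Ψ := by
    apply Subtype.ext
    funext e
    rcases e with e | e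
    · show (Φ.1 + Ψ.1) (e.1.1 + 1) e.1.2 - (Φ.1 + Ψ.1) e.1.1 e.1.2 =
        (Φ.1 (e.1.1 + 1) e.1.2 - Φ.1 e.1.1 e.1.2) + (Ψ.1 (e.1.1 + 1) e.1.2 - Ψ.1 e.1.1 e.1.2)
      simp only [Pi.add_apply]
      ring
    · show (Φ.1 + Ψ.1) e.1.1 (e.1.2 + 1) - (Φ.1 + Ψ.1) e.1.1 e.1.2 =
        (Φ.1 e.1.1 (e.1.2 + 1) - Φ.1 e.1.1 e.1.2) + (Ψ.1 e.1.1 (e.1.2 + 1) - Ψ.1 e.1.1 e.1.2)
      simp only [Pi.add_apply]
      ring
  map_smul' c Φ := by
    apply Subtype.ext
    funext e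
    rcases e with e | e
    · show (c • Φ.1) (e.1.1 + 1) e.1.2 - (c • Φ.1) e.1.1 e.1.2 =
        c * (Φ.1 (e.1.1 + 1) e.1.2 - Φ.1 e.1.1 e.1.2)
      simp only [Pi.smul_apply, smul_eq_mul]
      ring
    · show (c • Φ.1) e.1.1 (e.1.2 + 1) - (c • Φ.1) e.1.1 e.1.2 =
        c * (Φ.1 e.1.1 (e.1.2 + 1) - Φ.1 e.1.1 e.1.2)
      simp only [Pi.smul_apply, smul_eq_mul]
      ring

lemma dLin_injective (H : Hyp m κ N) : Function.Injective (dLin k H) := by
  rw [injective_iff_map_eq_zero]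
  intro Φ hΦ
  apply Subtype.ext
  refine Zh_eq_zero k H Φ.2 fun a b => ?_
  have h0 : dvec k (m := m) (κ := κ) (N := N) Φ.1 = 0 := congrArg Subtype.val hΦ
  have h1 := Zh_dx k H Φ.2 a b
  have h2 : (fun e : ↥(M1x m κ N) => Φ.1 (e.1.1 + 1) e.1.2 - Φ.1 e.1.1 e.1.2) = 0 := by
    funext e
    exact congrFun h0 (Sum.inl e)
  rw [h2] at h1
  have h3 : ext0 (M1x m κ N) (0 : ↥(M1x m κ N) → k) (a, b) = 0 := by
    unfold ext0
    split_ifs <;> rfl
  rw [h3] at h1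
  exact (sub_eq_zero.mp h1.symm)

lemma dLin_surjective (H : Hyp m κ N) : Function.Surjective (dLin k H) := by
  rintro ⟨v, hv⟩
  rw [LinearMap.mem_ker, Matrix.mulVecLin_apply] at hv
  set w1 : ℕ → ℕ → k := fun a b => ext0 (M1x m κ N) (v ∘ Sum.inl) (a, b) with hw1
  set w2 : ℕ → ℕ → k := fun a b => ext0 (M1y m κ N) (v ∘ Sum.inr) (a, b) with hw2
  have s1 : ∀ a b, ¬ (κ (a + 1) b ≤ m a b) → w1 a b = 0 := fun a b h =>
    ext0_not_mem _ _ (fun hmem => h (H.mem_M1x.mp hmem))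
  have s2 : ∀ a b, ¬ (κ a (b + 1) ≤ m a b) → w2 a b = 0 := fun a b h =>
    ext0_not_mem _ _ (fun hmem => h (H.mem_M1y.mp hmem))
  have cl : ∀ a b, w1 a b + w2 (a + 1) b - w1 a (b + 1) - w2 a b = 0 := by
    intro a b
    by_cases hf : κ (a + 1) (b + 1) ≤ m a b
    · have hmem : (a, b) ∈ M2 m κ N := H.mem_M2.mpr hf
      have := congrFun hv ⟨(a, b), hmem⟩
      rw [DD_mulVec] at this
      have this' : (w1 a b - w1 a (b + 1)) + (w2 (a + 1) b - w2 a b) = 0 := this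
      linear_combination this'
    · have a1 : w1 a b = 0 := s1 a b (fun h => hf (le_trans (H.k2 _ _) h))
      have a2 : w2 a b = 0 := s2 a b (fun h => hf (le_trans (H.k1 _ _) h))
      have a3 : w1 a (b + 1) = 0 := s1 a (b + 1) (fun h => hf (le_trans h (H.m2 _ _)))
      have a4 : w2 (a + 1) b = 0 := s2 (a + 1) b (fun h => hf (le_trans h (H.m1 _ _)))
      rw [a1, a2, a3, a4]
      ring
  have z1 : ∀ a b, m a b < 0 → w1 a b = 0 := fun a b h =>
    s1 a b (fun hc => by have := H.k0 (a + 1) b; omega)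
  have z2 : ∀ a b, m a b < 0 → w2 a b = 0 := fun a b h =>
    s2 a b (fun hc => by have := H.k0 a (b + 1); omega)
  have mN : ∀ a b n, m (a + n) b ≤ m a b := by
    intro a b n
    induction n with
    | zero => exact le_rfl
    | succ n ih => exact le_trans (by rw [← add_assoc]; exact H.m1 _ _) ih
  set Φ : ℕ → ℕ → k := fun a b => - ∑ n ∈ range N, w1 (a + n) b with hΦdef
  have e0 : ∀ a b, m a b < 0 → Φ a b = 0 := by
    intro a b h
    show - ∑ n ∈ range N, w1 (a + n) b = 0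
    rw [Finset.sum_eq_zero, neg_zero]
    intro n _
    exact z1 _ _ (lt_of_le_of_lt (mN a b n) h)
  have e1 : ∀ a b, Φ (a + 1) b - Φ a b = w1 a b := by
    intro a b
    have hA := Finset.sum_range_succ (fun n => w1 (a + n) b) N
    have hB := Finset.sum_range_succ' (fun n => w1 (a + n) b) N
    have hN0 : w1 (a + N) b = 0 := z1 _ _ (H.hN _ _ (Or.inl (Nat.le_add_left N a)))
    have hcong : ∑ n ∈ range N, w1 (a + 1 + n) b = ∑ n ∈ range N, w1 (a + (n + 1)) b :=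
      Finset.sum_congr rfl fun n _ => by rw [show a + 1 + n = a + (n + 1) by omega]
    show - ∑ n ∈ range N, w1 (a + 1 + n) b - - ∑ n ∈ range N, w1 (a + n) b = w1 a b
    rw [hcong]
    simp only [add_zero] at hB
    rw [hN0, add_zero] at hA
    linear_combination hB - hA
  have e2 : ∀ a b, Φ a (b + 1) - Φ a b = w2 a b := by
    intro a b
    have hS : ∑ n ∈ range N, (w1 (a + n) (b + 1) - w1 (a + n) b) =
        ∑ n ∈ range N, (w2 (a + (n + 1)) b - w2 (a + n) b) :=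
      Finset.sum_congr rfl fun n _ => by
        have := cl (a + n) b
        rw [show a + n + 1 = a + (n + 1) by omega] at this
        linear_combination -this
    rw [Finset.sum_range_sub (fun n => w2 (a + n) b) N] at hS
    have hN0 : w2 (a + N) b = 0 := z2 _ _ (H.hN _ _ (Or.inl (Nat.le_add_left N a)))
    rw [hN0, Finset.sum_sub_distrib] at hS
    show - ∑ n ∈ range N, w1 (a + n) (b + 1) - - ∑ n ∈ range N, w1 (a + n) b = w2 a b
    simp only [add_zero] at hS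
    linear_combination -hS
  have hΦ : Φ ∈ Zh k m κ := by
    refine ⟨e0, fun a b h h' => ?_, fun a b h h' => ?_⟩
    · have := e1 a b
      rw [s1 a b (not_le.mpr h')] at this
      exact sub_eq_zero.mp this
    · have := e2 a b
      rw [s2 a b (not_le.mpr h')] at this
      exact sub_eq_zero.mp this
  refine ⟨⟨Φ, hΦ⟩, ?_⟩
  apply Subtype.ext
  funext e
  rcases e with e | e
  · show Φ (e.1.1 + 1) e.1.2 - Φ e.1.1 e.1.2 = v (Sum.inl e)
    rw [e1]
    exact ext0_coe _ (v ∘ Sum.inl) e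
  · show Φ e.1.1 (e.1.2 + 1) - Φ e.1.1 e.1.2 = v (Sum.inr e)
    rw [e2]
    exact ext0_coe _ (v ∘ Sum.inr) e

/-- `Zh ≃ Z0 × (M0 → k)` -/
def zhEquiv (H : Hyp m κ N) : Zh k m κ ≃ₗ[k] (Z0 k m κ × (↥(M0 m κ N) → k)) where
  toFun Φ := (⟨fun a b => if (a, b) ∈ M0 m κ N then 0 else Φ.1 a b, by
      refine ⟨fun a b h => ?_, fun a b h h' => ?_, fun a b h h' => ?_⟩
      · show (if (a, b) ∈ M0 m κ N then 0 else Φ.1 a b) = 0
        by_cases hm : (a, b) ∈ M0 m κ N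
        · rw [if_pos hm]
        · rw [if_neg hm]
          have hm' : ¬ (κ a b ≤ m a b) := fun hc => hm (H.mem_M0.mpr hc)
          exact Φ.2.1 a b (by by_contra hc; exact h ⟨not_lt.mp hc, not_le.mp hm'⟩)
      · show (if (a + 1, b) ∈ M0 m κ N then 0 else Φ.1 (a + 1) b) =
          (if (a, b) ∈ M0 m κ N then 0 else Φ.1 a b)
        have n1 : (a, b) ∉ M0 m κ N := fun hc => by
          have := H.mem_M0.mp hc
          have := H.k1 a b
          omega
        have n2 : (a + 1, b) ∉ M0 m κ N := fun hc => by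
          have := H.mem_M0.mp hc
          have := H.m1 a b
          omega
        rw [if_neg n1, if_neg n2]
        exact Φ.2.2.1 a b h h'
      · show (if (a, b + 1) ∈ M0 m κ N then 0 else Φ.1 a (b + 1)) =
          (if (a, b) ∈ M0 m κ N then 0 else Φ.1 a b)
        have n1 : (a, b) ∉ M0 m κ N := fun hc => by
          have := H.mem_M0.mp hc
          have := H.k2 a b
          omega
        have n2 : (a, b + 1) ∉ M0 m κ N := fun hc => by
          have := H.mem_M0.mp hc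
          have := H.m2 a b
          omega
        rw [if_neg n1, if_neg n2]
        exact Φ.2.2.2 a b h h'⟩, fun e => Φ.1 e.1.1 e.1.2)
  map_add' Φ Ψ := by
    apply Prod.ext
    · apply Subtype.ext
      funext a b
      show (if (a, b) ∈ M0 m κ N then 0 else (Φ.1 + Ψ.1) a b) =
        (if (a, b) ∈ M0 m κ N then 0 else Φ.1 a b) + (if (a, b) ∈ M0 m κ N then 0 else Ψ.1 a b)
      split_ifs
      · rw [add_zero]
      · rfl
    · rfl
  map_smul' c Φ := by
    apply Prod.ext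
    · apply Subtype.ext
      funext a b
      show (if (a, b) ∈ M0 m κ N then 0 else (c • Φ.1) a b) =
        c * (if (a, b) ∈ M0 m κ N then 0 else Φ.1 a b)
      split_ifs
      · rw [mul_zero]
      · rfl
    · rfl
  invFun p := ⟨fun a b => p.1.1 a b + ext0 (M0 m κ N) p.2 (a, b), by
      have hg : ∀ a b, ¬ (κ a b ≤ m a b) → ext0 (M0 m κ N) p.2 (a, b) = 0 := fun a b h =>
        ext0_not_mem _ _ (fun hmem => h (H.mem_M0.mp hmem))
      refine ⟨fun a b h => ?_, fun a b h h' => ?_, fun a b h h' => ?_⟩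
      · show p.1.1 a b + ext0 (M0 m κ N) p.2 (a, b) = 0
        rw [p.1.2.1 a b (fun hc => by omega), hg a b (fun hc => by have := H.k0 a b; omega),
          add_zero]
      · show p.1.1 (a + 1) b + ext0 (M0 m κ N) p.2 (a + 1, b) =
          p.1.1 a b + ext0 (M0 m κ N) p.2 (a, b)
        rw [hg a b (fun hc => by have := H.k1 a b; omega),
          hg (a + 1) b (fun hc => by have := H.m1 a b; omega), p.1.2.2.1 a b h h']
      · show p.1.1 a (b + 1) + ext0 (M0 m κ N) p.2 (a, b + 1) =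
          p.1.1 a b + ext0 (M0 m κ N) p.2 (a, b)
        rw [hg a b (fun hc => by have := H.k2 a b; omega),
          hg a (b + 1) (fun hc => by have := H.m2 a b; omega), p.1.2.2.2 a b h h']⟩
  left_inv Φ := by
    apply Subtype.ext
    funext a b
    show (if (a, b) ∈ M0 m κ N then 0 else Φ.1 a b) +
      ext0 (M0 m κ N) (fun e : ↥(M0 m κ N) => Φ.1 e.1.1 e.1.2) (a, b) = Φ.1 a b
    by_cases hm : (a, b) ∈ M0 m κ N
    · rw [if_pos hm, ext0_mem _ _ hm, zero_add]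
    · rw [if_neg hm, ext0_not_mem _ _ hm, add_zero]
  right_inv p := by
    obtain ⟨φ, g⟩ := p
    apply Prod.ext
    · apply Subtype.ext
      funext a b
      show (if (a, b) ∈ M0 m κ N then 0 else φ.1 a b + ext0 (M0 m κ N) g (a, b)) = φ.1 a b
      by_cases hm : (a, b) ∈ M0 m κ N
      · rw [if_pos hm]
        have := H.mem_M0.mp hm
        exact (φ.2.1 a b (fun hc => by omega)).symm
      · rw [if_neg hm, ext0_not_mem _ _ hm, add_zero]
    · funext e
      show φ.1 e.1.1 e.1.2 + ext0 (M0 m κ N) g (e.1.1, e.1.2) = g e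
      have := H.mem_M0.mp (show (e.1.1, e.1.2) ∈ M0 m κ N from e.2)
      rw [φ.2.1 e.1.1 e.1.2 (fun hc => by omega), zero_add]
      exact ext0_coe _ g e

lemma finrank_ker_mulVecLin {r c : Type*} [Fintype r] [Fintype c] [DecidableEq c]
    (A : Matrix r c k) :
    Module.finrank k ↥(LinearMap.ker A.mulVecLin) + A.rank = Fintype.card c := by
  have h := LinearMap.finrank_range_add_finrank_ker A.mulVecLin
  rw [Module.finrank_fintype_fun_eq_card] at h
  show _ + Module.finrank k ↥(LinearMap.range A.mulVecLin) = _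
  omega

lemma finite_Z0 (H : Hyp m κ N) : Module.Finite k ↥(Z0 k m κ) := by
  have e1 := LinearEquiv.ofBijective (dLin k H) ⟨dLin_injective k H, dLin_surjective k H⟩
  haveI : Module.Finite k ↥(Zh k m κ) := Module.Finite.equiv e1.symm
  haveI : Module.Finite k (↥(Z0 k m κ) × (↥(M0 m κ N) → k)) := Module.Finite.equiv (zhEquiv k H)
  exact Module.Finite.of_surjective (LinearMap.fst k ↥(Z0 k m κ) (↥(M0 m κ N) → k))
    LinearMap.fst_surjective

lemma finite_Z1 (H : Hyp m κ N) : Module.Finite k ↥(Z1 k m κ) :=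
  Module.Finite.equiv (z1Equiv k H).symm

/-- the duality formula in terms of missing cells -/
theorem duality_missing (H : Hyp m κ N) :
    Module.finrank k ↥(Z0 k m κ) + (M0 m κ N).card + (M2 m κ N).card =
      Module.finrank k ↥(Z1 k m κ) + (M1x m κ N).card + (M1y m κ N).card := by
  haveI := finite_Z0 k H
  have e1 := LinearEquiv.ofBijective (dLin k H) ⟨dLin_injective k H, dLin_surjective k H⟩
  have f1 : Module.finrank k ↥(LinearMap.ker (DD k m κ N).mulVecLin) =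
      Module.finrank k ↥(Z0 k m κ) + (M0 m κ N).card := by
    rw [← e1.finrank_eq, (zhEquiv k H).finrank_eq, Module.finrank_prod,
      Module.finrank_fintype_fun_eq_card, Fintype.card_coe]
  have f2 : Module.finrank k ↥(LinearMap.ker (DD k m κ N)ᵀ.mulVecLin) =
      Module.finrank k ↥(Z1 k m κ) := (z1Equiv k H).finrank_eq.symm
  have r1 := finrank_ker_mulVecLin k (DD k m κ N)
  have r2 := finrank_ker_mulVecLin k (DD k m κ N)ᵀ
  rw [Matrix.rank_transpose] at r2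
  rw [Fintype.card_sum, Fintype.card_coe, Fintype.card_coe] at r1
  rw [Fintype.card_coe] at r2
  omega

end main

end Groth.Agent.H43.HilbD
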