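import Groth.Agent.H43.HilbT2

set_option linter.unusedVariables false
set_option linter.unusedSectionVars false
set_option linter.style.longLine false

/-! Three variables: staircase numbers, columns of the region, corners of good components. -/

namespace Groth.Agent.H43.HilbT

open W4c1hilbpn MvPolynomial

variable {k : Type*} [Field k] {I : Ideal (MvPolynomial (Fin 3) k)}

lemma e3_apply0 (a b c : ℕ) : e3 a b c 0 = a := rfl
lemma e3_apply1 (a b c : ℕ) : e3 a b c 1 = b := rfl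
lemma e3_apply2 (a b c : ℕ) : e3 a b c 2 = c := rfl

lemma eq_e3 (β : Fin 3 →₀ ℕ) : β = e3 (β 0) (β 1) (β 2) := by
  ext i; fin_cases i <;> rfl

lemma e3_le {a b c a' b' c' : ℕ} (ha : a ≤ a') (hb : b ≤ b') (hc : c ≤ c') :
    e3 a b c ≤ e3 a' b' c' := by
  rw [Finsupp.le_def]
  intro i
  fin_cases i
  · exact ha
  · exact hb
  · exact hc

lemma downclosed_iff_lt_card (D : Set ℕ) (hfin : D.Finite)
    (hdown : ∀ c ∈ D, ∀ c' ≤ c, c' ∈ D) (c : ℕ) : c ∈ D ↔ c < Nat.card ↥D := by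
  classical
  have hex : ∃ m, m ∉ D := by
    obtain ⟨m, hm⟩ := Infinite.exists_notMem_finset hfin.toFinset
    exact ⟨m, fun h => hm (hfin.mem_toFinset.mpr h)⟩
  obtain ⟨m, hm1, hm2⟩ : ∃ m, (∀ c < m, c ∈ D) ∧ (∀ c, m ≤ c → c ∉ D) := by
    refine ⟨Nat.find hex, fun c hc => ?_, fun c hc h => Nat.find_spec hex (hdown c h _ hc)⟩
    by_contra h
    exact Nat.find_min hex hc h
  have hD : D = Set.Iio m := by
    ext c
    constructor
    · intro h
      by_contra hc
      exact hm2 c (not_lt.mp hc) h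
    · exact hm1 c
  subst hD
  rw [Nat.card_coe_set_eq, Set.ncard_Iio_nat]
  exact Set.mem_Iio

/-- the point `(a, b, e)` -/
def pt (a b : ℕ) (e : ℤ) : Fin 3 → ℤ := ![(a:ℤ), (b:ℤ), e]

lemma pt_apply0 (a b : ℕ) (e : ℤ) : pt a b e 0 = a := rfl
lemma pt_apply1 (a b : ℕ) (e : ℤ) : pt a b e 1 = b := rfl
lemma pt_apply2 (a b : ℕ) (e : ℤ) : pt a b e 2 = e := rfl

lemma pt_add_single0 (a b : ℕ) (x : ℤ) : pt a b x + Pi.single 0 1 = pt (a+1) b x := by
  funext i; fin_cases i <;> simp [pt]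

lemma pt_add_single1 (a b : ℕ) (x : ℤ) : pt a b x + Pi.single 1 1 = pt a (b+1) x := by
  funext i; fin_cases i <;> simp [pt]

lemma pt_add_single2 (a b : ℕ) (x : ℤ) : pt a b x + Pi.single 2 1 = pt a b (x+1) := by
  funext i; fin_cases i <;> simp [pt]

lemma toExp_pt (a b : ℕ) (e : ℤ) : toExp (pt a b e) = e3 a b e.toNat := by
  ext i; fin_cases i
  · show ((a:ℤ)).toNat = a
    simp
  · show ((b:ℤ)).toNat = b
    simp
  · rfl

section stair

variable (hI : IsMonomial I) [Module.Finite k (MvPolynomial (Fin 3) k ⧸ I)]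
include hI

lemma stair_set_finite (a b : ℕ) : {c : ℕ | e3 a b c ∉ exps I}.Finite := by
  refine Set.Finite.of_finite_image (f := fun c => e3 a b c) ((std_finite hI).subset ?_) ?_
  · rintro _ ⟨c, hc, rfl⟩
    exact hc
  · intro c _ c' _ e
    exact DFunLike.congr_fun e 2

lemma e3_mem_iff (a b c : ℕ) : e3 a b c ∈ exps I ↔ stairZ I a b ≤ c := by
  have h := downclosed_iff_lt_card {c : ℕ | e3 a b c ∉ exps I} (stair_set_finite hI a b)
    (fun c hc c' hcc' hmem' => hc (exps_of_le hmem' (e3_le le_rfl le_rfl hcc'))) c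
  have h' : (e3 a b c ∉ exps I) ↔ c < stairZ I a b := h
  rw [← not_lt, ← h', not_not]

lemma stair_anti {a b a' b' : ℕ} (ha : a ≤ a') (hb : b ≤ b') :
    stairZ I a' b' ≤ stairZ I a b := by
  rw [← e3_mem_iff hI]
  exact exps_of_le ((e3_mem_iff hI a b _).mpr le_rfl) (e3_le ha hb le_rfl)

lemma stair_zero_of_ge0 {N : ℕ} (hN : Finsupp.single 0 N ∈ exps I) {a : ℕ} (ha : N ≤ a) (b : ℕ) :
    stairZ I a b = 0 := by
  have : e3 a b 0 ∈ exps I := by
    refine exps_of_le hN ?_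
    rw [Finsupp.le_def]
    intro i
    fin_cases i
    · show (Finsupp.single (0 : Fin 3) N) 0 ≤ a
      simpa using ha
    · show (Finsupp.single (0 : Fin 3) N) 1 ≤ b
      simp
    · show (Finsupp.single (0 : Fin 3) N) 2 ≤ 0
      simp
  exact Nat.le_zero.mp ((e3_mem_iff hI a b 0).mp this)

lemma stair_zero_of_ge1 {N : ℕ} (hN : Finsupp.single 1 N ∈ exps I) (a : ℕ) {b : ℕ} (hb : N ≤ b) :
    stairZ I a b = 0 := by
  have : e3 a b 0 ∈ exps I := by
    refine exps_of_le hN ?_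
    rw [Finsupp.le_def]
    intro i
    fin_cases i
    · show (Finsupp.single (1 : Fin 3) N) 0 ≤ a
      simp
    · show (Finsupp.single (1 : Fin 3) N) 1 ≤ b
      simpa using hb
    · show (Finsupp.single (1 : Fin 3) N) 2 ≤ 0
      simp
  exact Nat.le_zero.mp ((e3_mem_iff hI a b 0).mp this)

variable {α : Fin 3 → ℤ} {a1 a2 : ℕ} (h0 : α 0 = a1) (h1 : α 1 = a2)
include h0 h1

lemma pt_mem_region {a b : ℕ} {e : ℤ} (ha : a1 ≤ a) (hb : a2 ≤ b)
    (hlow : α 2 + stairZ I (a - a1) (b - a2) ≤ e) (hup : e < stairZ I a b) :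
    pt a b e ∈ region I α := by
  refine ⟨⟨e3 (a - a1) (b - a2) (e - α 2).toNat, (e3_mem_iff hI _ _ _).mpr ?_, ?_⟩, ?_⟩
  · omega
  · funext i; fin_cases i
    · show (a:ℤ) = ((a - a1 : ℕ) : ℤ) + α 0
      rw [h0]; omega
    · show (b:ℤ) = ((b - a2 : ℕ) : ℤ) + α 1
      rw [h1]; omega
    · show e = (((e - α 2).toNat : ℕ) : ℤ) + α 2
      omega
  · rintro ⟨hnn, hmem⟩
    have h2 : (0:ℤ) ≤ e := hnn 2
    have hmem' : toExp (pt a b e) ∈ exps I := hmem
    rw [toExp_pt, e3_mem_iff hI] at hmem'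
    omega

lemma region_destruct {γ : Fin 3 → ℤ} (hγ : γ ∈ region I α) :
    ∃ (a b : ℕ) (e : ℤ), γ = pt a b e ∧ a1 ≤ a ∧ a2 ≤ b ∧
      α 2 + stairZ I (a - a1) (b - a2) ≤ e ∧ (NN γ → e < stairZ I a b) := by
  obtain ⟨⟨β, hβ, hγe⟩, hnot⟩ := hγ
  replace hγe : γ = sh β α := hγe
  subst hγe
  refine ⟨β 0 + a1, β 1 + a2, (β 2 : ℤ) + α 2, ?_, by omega, by omega, ?_, ?_⟩
  · funext i; fin_cases i
    · show (β 0 : ℤ) + α 0 = ((β 0 + a1 : ℕ) : ℤ)
      rw [h0]; push_cast; rfl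
    · show (β 1 : ℤ) + α 1 = ((β 1 + a2 : ℕ) : ℤ)
      rw [h1]; push_cast; rfl
    · rfl
  · rw [Nat.add_sub_cancel, Nat.add_sub_cancel]
    have : stairZ I (β 0) (β 1) ≤ β 2 := (e3_mem_iff hI _ _ _).mp (by rw [← eq_e3]; exact hβ)
    omega
  · intro hnn
    by_contra hcon
    apply hnot
    refine ⟨hnn, ?_⟩
    have : toExp (sh β α) = e3 (β 0 + a1) (β 1 + a2) ((β 2 : ℤ) + α 2).toNat := by
      ext i; fin_cases i
      · show ((β 0 : ℤ) + α 0).toNat = β 0 + a1
        rw [h0]; omega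
      · show ((β 1 : ℤ) + α 1).toNat = β 1 + a2
        rw [h1]; omega
      · rfl
    show toExp (sh β α) ∈ exps I
    rw [this, e3_mem_iff hI]
    have h2 : (0:ℤ) ≤ (β 2 : ℤ) + α 2 := hnn 2
    omega

lemma exists_corner (c₀ : (RG I α).ConnectedComponent) (hc₀ : Good I α c₀) :
    ∃ (a b n : ℕ), a1 ≤ a ∧ a2 ≤ b ∧ stairZ I (a+1) b ≤ n ∧ stairZ I a (b+1) ≤ n ∧
      n < stairZ I a b ∧ α 2 = (n:ℤ) - stairZ I (a - a1) (b - a2) ∧
      ∃ hm : pt a b (n:ℤ) ∈ region I α, (RG I α).connectedComponentMk ⟨_, hm⟩ = c₀ := by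
  have hfin := good_supp_finite hI c₀ hc₀
  obtain ⟨v, hv, hmax⟩ := Set.exists_max_image c₀.supp (fun v => v.1 0 + v.1 1) hfin
    c₀.nonempty_supp
  obtain ⟨a, b, e, hve, ha, hb, hlow, hup⟩ := region_destruct hI h0 h1 v.2
  have hup' := hup (hc₀ v hv)
  have hdown : ∀ t : ℕ, ∀ x : ℤ, x = e - t → α 2 + stairZ I (a - a1) (b - a2) ≤ x →
      ∃ hm : pt a b x ∈ region I α, (RG I α).connectedComponentMk ⟨_, hm⟩ = c₀ := by
    intro t
    induction t with
    | zero =>
      intro x hx _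
      have hx' : x = e := by simpa using hx
      subst hx'
      have : pt a b x = v.1 := hve.symm
      refine ⟨this ▸ v.2, ?_⟩
      rw [← (show (RG I α).connectedComponentMk v = c₀ from hv)]
      congr 1
      exact Subtype.ext this
    | succ t ih =>
      intro x hx hle
      obtain ⟨hm, hcomp⟩ := ih (x + 1) (by push_cast at hx; omega) (by omega)
      have hm' : pt a b x ∈ region I α :=
        pt_mem_region hI h0 h1 ha hb hle (by push_cast at hx; omega)
      refine ⟨hm', ?_⟩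
      rw [← hcomp]
      apply SimpleGraph.ConnectedComponent.connectedComponentMk_eq_of_adj
      show (stepGraph (Fin 3)).Adj (pt a b x) (pt a b (x + 1))
      rw [← pt_add_single2]
      exact stepGraph_adj_single _ 2
  -- bottom of the column
  obtain ⟨hm₀, hcomp₀⟩ := hdown (e - (α 2 + stairZ I (a - a1) (b - a2))).toNat
    (α 2 + stairZ I (a - a1) (b - a2)) (by omega) le_rfl
  have hnn₀ : (0:ℤ) ≤ α 2 + stairZ I (a - a1) (b - a2) := hc₀ _ hcomp₀ 2
  obtain ⟨n, hn⟩ : ∃ n : ℕ, (n:ℤ) = α 2 + stairZ I (a - a1) (b - a2) :=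
    ⟨(α 2 + stairZ I (a - a1) (b - a2)).toNat, by omega⟩
  obtain ⟨hm₀', hcomp₀'⟩ := hdown (e - (n:ℤ)).toNat (n:ℤ) (by omega) (by omega)
  have hv0 : v.1 0 = a := by rw [hve]; rfl
  have hv1 : v.1 1 = b := by rw [hve]; rfl
  refine ⟨a, b, n, ha, hb, ?_, ?_, by omega, by omega, hm₀', hcomp₀'⟩
  · by_contra hcon
    have hm1 : pt (a+1) b (n:ℤ) ∈ region I α := by
      refine pt_mem_region hI h0 h1 (by omega) hb ?_ (by omega)
      have := stair_anti hI (a := a - a1) (b := b - a2) (a' := a + 1 - a1) (b' := b - a2)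
        (by omega) le_rfl
      omega
    have hcomp1 : (RG I α).connectedComponentMk ⟨_, hm1⟩ = c₀ := by
      rw [← hcomp₀']
      symm
      apply SimpleGraph.ConnectedComponent.connectedComponentMk_eq_of_adj
      show (stepGraph (Fin 3)).Adj (pt a b (n:ℤ)) (pt (a+1) b (n:ℤ))
      rw [← pt_add_single0]
      exact stepGraph_adj_single _ 0
    have := hmax ⟨_, hm1⟩ hcomp1
    simp only [pt_apply0, pt_apply1, hv0, hv1] at this
    push_cast at this
    omega
  · by_contra hcon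
    have hm1 : pt a (b+1) (n:ℤ) ∈ region I α := by
      refine pt_mem_region hI h0 h1 ha (by omega) ?_ (by omega)
      have := stair_anti hI (a := a - a1) (b := b - a2) (a' := a - a1) (b' := b + 1 - a2)
        le_rfl (by omega)
      omega
    have hcomp1 : (RG I α).connectedComponentMk ⟨_, hm1⟩ = c₀ := by
      rw [← hcomp₀']
      symm
      apply SimpleGraph.ConnectedComponent.connectedComponentMk_eq_of_adj
      show (stepGraph (Fin 3)).Adj (pt a b (n:ℤ)) (pt a (b+1) (n:ℤ))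
      rw [← pt_add_single1]
      exact stepGraph_adj_single _ 1
    have := hmax ⟨_, hm1⟩ hcomp1
    simp only [pt_apply0, pt_apply1, hv0, hv1] at this
    push_cast at this
    omega

end stair

end Groth.Agent.H43.HilbT
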