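import Groth.Agent.H43.HilbD1
import Groth.Agent.H43.HilbD2
import Groth.Agent.H43.HilbT3

set_option linter.unusedVariables false
set_option linter.unusedSectionVars false
set_option linter.style.longLine false
set_option linter.unusedSimpArgs false

/-! Three variables: coordinates adapted to a labelling `x, y, z` of the variables, the staircase
function `hh`, and the identification of the graded pieces of degrees `(i, j, -t)` and
`(-i-1, -j-1, t-1)` with the spaces `Z0`, `Z1` of the planar duality. -/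

noncomputable section

namespace Groth.Agent.H43.HilbT

open W4c1hilbpn MvPolynomial
open Groth.Agent.H43.HilbD

variable {k : Type*} [Field k] {I : Ideal (MvPolynomial (Fin 3) k)}

/-- a labelling of the three variables -/
structure Tri (x y z : Fin 3) : Prop where
  xy : x ≠ y
  xz : x ≠ z
  yz : y ≠ z

lemma Tri.cover {x y z : Fin 3} (T : Tri x y z) (w : Fin 3) : w = x ∨ w = y ∨ w = z := by
  obtain ⟨h1, h2, h3⟩ := T
  revert x y z w
  decide

section coords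
variable (x y : Fin 3)

/-- integer point with coordinates `a, b, c` at `x, y` and the remaining index -/
def P (a b c : ℤ) : Fin 3 → ℤ := fun w => if w = x then a else if w = y then b else c

/-- exponent vector with coordinates `a, b, c` -/
def E (a b c : ℕ) : Fin 3 →₀ ℕ :=
  Finsupp.equivFunOnFinite.symm (fun w => if w = x then a else if w = y then b else c)

variable {x y} {z : Fin 3} (T : Tri x y z)
include T

omit T in
lemma P_x (a b c : ℤ) : P x y a b c x = a := if_pos rfl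
lemma P_y (a b c : ℤ) : P x y a b c y = b := by
  unfold P; rw [if_neg T.xy.symm, if_pos rfl]
lemma P_z (a b c : ℤ) : P x y a b c z = c := by
  unfold P; rw [if_neg T.xz.symm, if_neg T.yz.symm]

omit T in
lemma E_x (a b c : ℕ) : E x y a b c x = a := if_pos rfl
lemma E_y (a b c : ℕ) : E x y a b c y = b := by
  show (if y = x then a else if y = y then b else c) = b
  rw [if_neg T.xy.symm, if_pos rfl]
lemma E_z (a b c : ℕ) : E x y a b c z = c := by
  show (if z = x then a else if z = y then b else c) = c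
  rw [if_neg T.xz.symm, if_neg T.yz.symm]

lemma eq_P (γ : Fin 3 → ℤ) : γ = P x y (γ x) (γ y) (γ z) := by
  funext w
  rcases T.cover w with rfl | rfl | rfl
  · exact (P_x _ _ _).symm
  · exact (P_y T _ _ _).symm
  · exact (P_z T _ _ _).symm

lemma eq_E (β : Fin 3 →₀ ℕ) : β = E x y (β x) (β y) (β z) := by
  ext w
  rcases T.cover w with rfl | rfl | rfl
  · exact (E_x _ _ _).symm
  · exact (E_y T _ _ _).symm
  · exact (E_z T _ _ _).symm

lemma P_ext {a b c a' b' c' : ℤ} (h : P x y a b c = P x y a' b' c') :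
    a = a' ∧ b = b' ∧ c = c' := by
  refine ⟨?_, ?_, ?_⟩
  · have := congrFun h x; rwa [P_x, P_x] at this
  · have := congrFun h y; rwa [P_y T, P_y T] at this
  · have := congrFun h z; rwa [P_z T, P_z T] at this

lemma P_add_x (a b c : ℤ) : P x y a b c + Pi.single x 1 = P x y (a + 1) b c := by
  funext w
  rcases T.cover w with rfl | rfl | rfl
  · rw [Pi.add_apply, Pi.single_eq_same, P_x, P_x]
  · rw [Pi.add_apply, Pi.single_eq_of_ne T.xy.symm, P_y T, P_y T, add_zero]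
  · rw [Pi.add_apply, Pi.single_eq_of_ne T.xz.symm, P_z T, P_z T, add_zero]

lemma P_add_y (a b c : ℤ) : P x y a b c + Pi.single y 1 = P x y a (b + 1) c := by
  funext w
  rcases T.cover w with rfl | rfl | rfl
  · rw [Pi.add_apply, Pi.single_eq_of_ne T.xy, P_x, P_x, add_zero]
  · rw [Pi.add_apply, Pi.single_eq_same, P_y T, P_y T]
  · rw [Pi.add_apply, Pi.single_eq_of_ne T.yz.symm, P_z T, P_z T, add_zero]

lemma P_add_z (a b c : ℤ) : P x y a b c + Pi.single z 1 = P x y a b (c + 1) := by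
  funext w
  rcases T.cover w with rfl | rfl | rfl
  · rw [Pi.add_apply, Pi.single_eq_of_ne T.xz, P_x, P_x, add_zero]
  · rw [Pi.add_apply, Pi.single_eq_of_ne T.yz, P_y T, P_y T, add_zero]
  · rw [Pi.add_apply, Pi.single_eq_same, P_z T, P_z T]

lemma NN_P (a b c : ℤ) : NN (P x y a b c) ↔ 0 ≤ a ∧ 0 ≤ b ∧ 0 ≤ c := by
  constructor
  · intro h
    have h1 := h x; have h2 := h y; have h3 := h z
    rw [P_x] at h1; rw [P_y T] at h2; rw [P_z T] at h3
    exact ⟨h1, h2, h3⟩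
  · rintro ⟨h1, h2, h3⟩ w
    rcases T.cover w with rfl | rfl | rfl
    · rw [P_x]; exact h1
    · rw [P_y T]; exact h2
    · rw [P_z T]; exact h3

lemma toExp_P (a b c : ℤ) : toExp (P x y a b c) = E x y a.toNat b.toNat c.toNat := by
  ext w
  rcases T.cover w with rfl | rfl | rfl
  · rw [toExp_apply, P_x, E_x]
  · rw [toExp_apply, P_y T, E_y T]
  · rw [toExp_apply, P_z T, E_z T]

lemma sh_E (a b c : ℕ) (α : Fin 3 → ℤ) :
    sh (E x y a b c) α = P x y ((a:ℤ) + α x) ((b:ℤ) + α y) ((c:ℤ) + α z) := by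
  funext w
  rcases T.cover w with rfl | rfl | rfl
  · rw [sh_apply, P_x, E_x]
  · rw [sh_apply, P_y T, E_y T]
  · rw [sh_apply, P_z T, E_z T]

lemma E_le {a b c a' b' c' : ℕ} (ha : a ≤ a') (hb : b ≤ b') (hc : c ≤ c') :
    E x y a b c ≤ E x y a' b' c' := by
  rw [Finsupp.le_def]
  intro w
  rcases T.cover w with rfl | rfl | rfl
  · rw [E_x, E_x]; exact ha
  · rw [E_y T, E_y T]; exact hb
  · rw [E_z T, E_z T]; exact hc

end coords

/-- the staircase function in the direction of the third label -/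
def hh (I : Ideal (MvPolynomial (Fin 3) k)) (x y : Fin 3) (a b : ℕ) : ℕ :=
  Nat.card {c : ℕ // E x y a b c ∉ exps I}

section stair

variable (hI : IsMonomial I) [Module.Finite k (MvPolynomial (Fin 3) k ⧸ I)]
variable {x y z : Fin 3} (T : Tri x y z)
include hI T

lemma hh_set_finite (a b : ℕ) : {c : ℕ | E x y a b c ∉ exps I}.Finite := by
  refine Set.Finite.of_finite_image (f := fun c => E x y a b c) ((std_finite hI).subset ?_) ?_
  · rintro _ ⟨c, hc, rfl⟩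
    exact hc
  · intro c _ c' _ e
    have := DFunLike.congr_fun e z
    rwa [E_z T, E_z T] at this

lemma E_mem_iff (a b c : ℕ) : E x y a b c ∈ exps I ↔ hh I x y a b ≤ c := by
  have h := downclosed_iff_lt_card {c : ℕ | E x y a b c ∉ exps I} (hh_set_finite hI T a b)
    (fun c hc c' hcc' hmem' => hc (exps_of_le hmem' (E_le T le_rfl le_rfl hcc'))) c
  have h' : (E x y a b c ∉ exps I) ↔ c < hh I x y a b := h
  rw [← not_lt, ← h', not_not]

lemma hh_anti {a b a' b' : ℕ} (ha : a ≤ a') (hb : b ≤ b') :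
    hh I x y a' b' ≤ hh I x y a b := by
  rw [← E_mem_iff hI T]
  exact exps_of_le ((E_mem_iff hI T a b _).mpr le_rfl) (E_le T ha hb le_rfl)

lemma exists_hh_zero : ∃ N, ∀ a b, (N ≤ a ∨ N ≤ b) → hh I x y a b = 0 := by
  obtain ⟨N1, hN1⟩ := exists_single_mem hI x
  obtain ⟨N2, hN2⟩ := exists_single_mem hI y
  refine ⟨max N1 N2, fun a b h => ?_⟩
  have : E x y a b 0 ∈ exps I := by
    rcases h with h | h
    · refine exps_of_le hN1 ?_
      rw [Finsupp.le_def]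
      intro w
      by_cases hw : w = x
      · subst hw
        rw [Finsupp.single_eq_same, E_x]
        exact le_trans (le_max_left _ _) h
      · rw [Finsupp.single_apply, if_neg (fun hh => hw hh.symm)]
        exact Nat.zero_le _
    · refine exps_of_le hN2 ?_
      rw [Finsupp.le_def]
      intro w
      by_cases hw : w = y
      · subst hw
        rw [Finsupp.single_eq_same, E_y T]
        exact le_trans (le_max_right _ _) h
      · rw [Finsupp.single_apply, if_neg (fun hh => hw hh.symm)]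
        exact Nat.zero_le _
  exact Nat.le_zero.mp ((E_mem_iff hI T a b 0).mp this)

/-- membership in the region in coordinates -/
lemma mem_region_P (α : Fin 3 → ℤ) (A B C : ℤ) :
    P x y A B C ∈ region I α ↔
      (∃ a b c : ℕ, hh I x y a b ≤ c ∧ A = a + α x ∧ B = b + α y ∧ C = c + α z) ∧
      ¬ (0 ≤ A ∧ 0 ≤ B ∧ 0 ≤ C ∧ hh I x y A.toNat B.toNat ≤ C.toNat) := by
  rw [mem_region_iff]
  refine and_congr ⟨?_, ?_⟩ (not_congr ?_)
  · rintro ⟨β, hβ, e⟩
    rw [eq_E T β] at hβ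
    refine ⟨β x, β y, β z, (E_mem_iff hI T _ _ _).mp hβ, ?_, ?_, ?_⟩
    · have := congrFun e x; rwa [P_x, sh_apply] at this
    · have := congrFun e y; rwa [P_y T, sh_apply] at this
    · have := congrFun e z; rwa [P_z T, sh_apply] at this
  · rintro ⟨a, b, c, h, eA, eB, eC⟩
    exact ⟨E x y a b c, (E_mem_iff hI T _ _ _).mpr h, by rw [sh_E T, eA, eB, eC]⟩
  · rw [NN_P T, toExp_P T, E_mem_iff hI T]
    constructor
    · rintro ⟨⟨h1, h2, h3⟩, h4⟩
      exact ⟨h1, h2, h3, h4⟩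
    · rintro ⟨h1, h2, h3, h4⟩
      exact ⟨⟨h1, h2, h3⟩, h4⟩

/-- invariance of a region function along a vertical segment -/
lemma rf_col {α : Fin 3 → ℤ} {F : (Fin 3 → ℤ) → k} (hF : F ∈ RF I α) (A B c : ℤ) (n : ℕ)
    (h : ∀ d : ℕ, d ≤ n → P x y A B (c + d) ∈ region I α) :
    F (P x y A B (c + n)) = F (P x y A B c) := by
  induction n with
  | zero => simp
  | succ n ih =>
    have h1 := h n (Nat.le_succ n)
    have h2 := h (n + 1) le_rfl
    have e : P x y A B (c + ((n + 1 : ℕ) : ℤ)) = P x y A B (c + n) + Pi.single z 1 := by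
      rw [P_add_z T]
      push_cast
      rw [add_assoc]
    rw [e, hF.2.2 _ z h1 (by rw [← e]; exact h2)]
    exact ih (fun d hd => h d (Nat.le_succ_of_le hd))

/-- a region function vanishes on a segment reaching height `-1` -/
lemma rf_col_neg {α : Fin 3 → ℤ} {F : (Fin 3 → ℤ) → k} (hF : F ∈ RF I α) (A B C : ℤ)
    (hC : -1 ≤ C) (h : ∀ c : ℤ, -1 ≤ c → c ≤ C → P x y A B c ∈ region I α) :
    F (P x y A B C) = 0 := by
  have h0 : F (P x y A B (-1)) = 0 := hF.2.1 _ (fun hnn => by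
    have := ((NN_P T _ _ _).mp hnn).2.2
    omega)
  have := rf_col hI T hF A B (-1) (C + 1).toNat (fun d hd => h _ (by omega) (by omega))
  rw [h0] at this
  rw [← this]
  congr 2
  omega

end stair


/-! ### the duality data -/

/-- the function `m` of the planar duality -/
def mmF (I : Ideal (MvPolynomial (Fin 3) k)) (x y : Fin 3) (t : ℕ) (a b : ℕ) : ℤ :=
  (hh I x y a b : ℤ) - t

/-- the function `κ` of the planar duality -/
def kkF (I : Ideal (MvPolynomial (Fin 3) k)) (x y : Fin 3) (i j : ℕ) (a b : ℕ) : ℤ :=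
  (hh I x y (a + i) (b + j) : ℤ)

lemma mmF_apply (x y : Fin 3) (t a b : ℕ) : mmF I x y t a b = (hh I x y a b : ℤ) - t := rfl

lemma kkF_apply (x y : Fin 3) (i j a b : ℕ) :
    kkF I x y i j a b = (hh I x y (a + i) (b + j) : ℤ) := rfl

/-- multidegree `(i, j, -t)` -/
def al1 (x y : Fin 3) (i j t : ℕ) : Fin 3 → ℤ := P x y i j (-(t:ℤ))

/-- multidegree `(-i-1, -j-1, t-1)` -/
def al2 (x y : Fin 3) (i j t : ℕ) : Fin 3 → ℤ := P x y (-(i:ℤ) - 1) (-(j:ℤ) - 1) ((t:ℤ) - 1)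

/-- from region functions to `Z0` -/
def toZ0 (I : Ideal (MvPolynomial (Fin 3) k)) (x y : Fin 3) (i j t : ℕ)
    (F : (Fin 3 → ℤ) → k) (a b : ℕ) : k :=
  if 0 ≤ mmF I x y t a b ∧ mmF I x y t a b < kkF I x y i j a b then
    F (P x y ((a:ℤ) + i) ((b:ℤ) + j) (mmF I x y t a b)) else 0

open Classical in
/-- from `Z0` to region functions -/
def ofZ0 (I : Ideal (MvPolynomial (Fin 3) k)) (x y : Fin 3) (i j t : ℕ)
    (φ : ℕ → ℕ → k) (γ : Fin 3 → ℤ) : k :=
  if γ ∈ region I (al1 x y i j t) ∧ NN γ then φ (γ x - i).toNat (γ y - j).toNat else 0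

/-- from region functions to `Z1` -/
def toZ1 (I : Ideal (MvPolynomial (Fin 3) k)) (x y : Fin 3) (i j t : ℕ)
    (F : (Fin 3 → ℤ) → k) (a b : ℕ) : k :=
  if kkF I x y i j (a + 1) (b + 1) ≤ mmF I x y t a b then
    F (P x y (a:ℤ) (b:ℤ) (kkF I x y i j (a + 1) (b + 1) + t - 1)) else 0

open Classical in
/-- from `Z1` to region functions -/
def ofZ1 (I : Ideal (MvPolynomial (Fin 3) k)) (x y : Fin 3) (i j t : ℕ)
    (ψ : ℕ → ℕ → k) (γ : Fin 3 → ℤ) : k :=
  if γ ∈ region I (al2 x y i j t) ∧ NN γ then ψ (γ x).toNat (γ y).toNat else 0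

/-- bounds for the staircase -/
structure Bd (I : Ideal (MvPolynomial (Fin 3) k)) (x y : Fin 3) (N H : ℕ) : Prop where
  hN : ∀ a b, (N ≤ a ∨ N ≤ b) → hh I x y a b = 0
  hH : hh I x y 0 0 ≤ H

lemma mem_box {N a b : ℕ} : (a, b) ∈ box N ↔ a < N ∧ b < N := by
  unfold box
  rw [Finset.mem_product, Finset.mem_range, Finset.mem_range]

section duality

variable (hI : IsMonomial I) [Module.Finite k (MvPolynomial (Fin 3) k ⧸ I)]
variable {x y z : Fin 3} (T : Tri x y z) (i j t : ℕ) {N : ℕ}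
include hI T

lemma hyp_mk (hN : ∀ a b, (N ≤ a ∨ N ≤ b) → hh I x y a b = 0) (ht : 1 ≤ t) :
    Hyp (mmF I x y t) (kkF I x y i j) N where
  m1 a b := by
    have := hh_anti hI T (Nat.le_add_right a 1) (le_refl b)
    simp only [mmF_apply]; omega
  m2 a b := by
    have := hh_anti hI T (le_refl a) (Nat.le_add_right b 1)
    simp only [mmF_apply]; omega
  k1 a b := by
    have := hh_anti hI T (show a + i ≤ a + 1 + i by omega) (le_refl (b + j))
    simp only [kkF_apply]; omega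
  k2 a b := by
    have := hh_anti hI T (le_refl (a + i)) (show b + j ≤ b + 1 + j by omega)
    simp only [kkF_apply]; omega
  k0 a b := by rw [kkF_apply]; omega
  hN a b h := by rw [mmF_apply, hN a b h]; omega

/-! #### the first equivalence -/

lemma reg1 (a b : ℕ) (C : ℤ) :
    P x y ((a:ℤ) + i) ((b:ℤ) + j) C ∈ region I (al1 x y i j t) ↔
      mmF I x y t a b ≤ C ∧ C < kkF I x y i j a b := by
  rw [mem_region_P hI T, al1, P_x, P_y T, P_z T, mmF_apply, kkF_apply]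
  have e1 : ((a:ℤ) + (i:ℤ)).toNat = a + i := by omega
  have e2 : ((b:ℤ) + (j:ℤ)).toNat = b + j := by omega
  rw [e1, e2]
  constructor
  · rintro ⟨⟨a', b', c', h, eA, eB, eC⟩, hnot⟩
    have ha : a' = a := by omega
    have hb : b' = b := by omega
    subst ha hb
    refine ⟨by omega, ?_⟩
    by_contra hc
    exact hnot ⟨by omega, by omega, by omega, by omega⟩
  · rintro ⟨h1, h2⟩
    refine ⟨⟨a, b, (C + t).toNat, by omega, rfl, rfl, by omega⟩, ?_⟩
    rintro ⟨_, _, h3, h4⟩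
    omega

lemma reg1_form {A B C : ℤ} (h : P x y A B C ∈ region I (al1 x y i j t)) :
    ∃ a b : ℕ, A = (a:ℤ) + i ∧ B = (b:ℤ) + j := by
  rw [mem_region_P hI T, al1, P_x, P_y T, P_z T] at h
  obtain ⟨⟨a, b, c, _, eA, eB, _⟩, _⟩ := h
  exact ⟨a, b, eA, eB⟩

lemma toZ0_val {F : (Fin 3 → ℤ) → k} (hF : F ∈ RF I (al1 x y i j t)) (a b : ℕ) (C : ℤ)
    (h1 : mmF I x y t a b ≤ C) (h2 : C < kkF I x y i j a b) :
    F (P x y ((a:ℤ) + i) ((b:ℤ) + j) C) = toZ0 I x y i j t F a b := by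
  rw [toZ0]
  by_cases h0 : 0 ≤ mmF I x y t a b
  · rw [if_pos ⟨h0, lt_of_le_of_lt h1 h2⟩]
    have key := rf_col hI T hF ((a:ℤ) + i) ((b:ℤ) + j) (mmF I x y t a b)
      (C - mmF I x y t a b).toNat
      (fun d hd => (reg1 hI T i j t a b _).mpr ⟨by omega, by omega⟩)
    have e : C = mmF I x y t a b + ((C - mmF I x y t a b).toNat : ℤ) := by omega
    rw [← key, ← e]
  · rw [if_neg (fun h => h0 h.1)]
    by_cases hC : -1 ≤ C
    · exact rf_col_neg hI T hF _ _ C hC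
        (fun c hc1 hc2 => (reg1 hI T i j t a b c).mpr ⟨by omega, by omega⟩)
    · exact hF.2.1 _ (fun hnn => hC (by have := ((NN_P T _ _ _).mp hnn).2.2; omega))

lemma toZ0_mem (Hy : Hyp (mmF I x y t) (kkF I x y i j) N) {F : (Fin 3 → ℤ) → k}
    (hF : F ∈ RF I (al1 x y i j t)) :
    toZ0 I x y i j t F ∈ Z0 k (mmF I x y t) (kkF I x y i j) := by
  refine ⟨fun a b h => ?_, fun a b h h' => ?_, fun a b h h' => ?_⟩
  · rw [toZ0, if_neg h]
  · have hm := Hy.m1 a b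
    have hk := Hy.k1 a b
    rw [← toZ0_val hI T i j t hF (a + 1) b (mmF I x y t a b) hm h',
      ← toZ0_val hI T i j t hF a b (mmF I x y t a b) le_rfl (lt_of_lt_of_le h' hk)]
    have ec : ((a + 1 : ℕ) : ℤ) + i = (a:ℤ) + i + 1 := by push_cast; ring
    rw [ec, ← P_add_x T]
    refine hF.2.2 _ x ((reg1 hI T i j t a b _).mpr ⟨le_rfl, lt_of_lt_of_le h' hk⟩) ?_
    rw [P_add_x T, ← ec]
    exact (reg1 hI T i j t (a + 1) b _).mpr ⟨hm, h'⟩
  · have hm := Hy.m2 a b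
    have hk := Hy.k2 a b
    rw [← toZ0_val hI T i j t hF a (b + 1) (mmF I x y t a b) hm h',
      ← toZ0_val hI T i j t hF a b (mmF I x y t a b) le_rfl (lt_of_lt_of_le h' hk)]
    have ec : ((b + 1 : ℕ) : ℤ) + j = (b:ℤ) + j + 1 := by push_cast; ring
    rw [ec, ← P_add_y T]
    refine hF.2.2 _ y ((reg1 hI T i j t a b _).mpr ⟨le_rfl, lt_of_lt_of_le h' hk⟩) ?_
    rw [P_add_y T, ← ec]
    exact (reg1 hI T i j t a (b + 1) _).mpr ⟨hm, h'⟩

lemma ofZ0_P (φ : ℕ → ℕ → k) (a b : ℕ) (C : ℤ)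
    (h : P x y ((a:ℤ) + i) ((b:ℤ) + j) C ∈ region I (al1 x y i j t)) (hC : 0 ≤ C) :
    ofZ0 I x y i j t φ (P x y ((a:ℤ) + i) ((b:ℤ) + j) C) = φ a b := by
  have e1 : ((a:ℤ) + i - i).toNat = a := by omega
  have e2 : ((b:ℤ) + j - j).toNat = b := by omega
  rw [ofZ0, if_pos ⟨h, (NN_P T _ _ _).mpr ⟨by omega, by omega, hC⟩⟩, P_x, P_y T, e1, e2]

lemma ofZ0_not (φ : ℕ → ℕ → k) (γ : Fin 3 → ℤ)
    (h : ¬ (γ ∈ region I (al1 x y i j t) ∧ NN γ)) : ofZ0 I x y i j t φ γ = 0 := by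
  rw [ofZ0, if_neg h]

lemma ofZ0_mem (Hy : Hyp (mmF I x y t) (kkF I x y i j) N) {φ : ℕ → ℕ → k}
    (hφ : φ ∈ Z0 k (mmF I x y t) (kkF I x y i j)) :
    ofZ0 I x y i j t φ ∈ RF I (al1 x y i j t) := by
  obtain ⟨h1, h2, h3⟩ := hφ
  refine ⟨fun γ h => ofZ0_not hI T i j t φ γ (fun hh => h hh.1),
    fun γ h => ofZ0_not hI T i j t φ γ (fun hh => h hh.2), ?_⟩
  intro γ w hγ hγ'
  obtain ⟨A, B, C, rfl⟩ : ∃ A B C, γ = P x y A B C := ⟨_, _, _, eq_P T γ⟩
  obtain ⟨a, b, rfl, rfl⟩ := reg1_form hI T i j t hγ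
  have hr := (reg1 hI T i j t a b C).mp hγ
  have hnotC : ∀ (A' B' C' : ℤ), ¬ 0 ≤ C' →
      ¬ (P x y A' B' C' ∈ region I (al1 x y i j t) ∧ NN (P x y A' B' C')) :=
    fun A' B' C' hC hh => hC ((NN_P T _ _ _).mp hh.2).2.2
  rcases T.cover w with hw | hw | hw
  · rw [hw] at hγ' ⊢
    have ec : (a:ℤ) + i + 1 = ((a + 1 : ℕ) : ℤ) + i := by push_cast; ring
    rw [P_add_x T, ec] at hγ' ⊢
    have hr' := (reg1 hI T i j t (a + 1) b C).mp hγ'
    by_cases hC : 0 ≤ C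
    · rw [ofZ0_P hI T i j t φ (a + 1) b C hγ' hC, ofZ0_P hI T i j t φ a b C hγ hC]
      by_cases h0 : 0 ≤ mmF I x y t a b
      · exact h2 a b h0 (lt_of_le_of_lt hr.1 hr'.2)
      · have hm := Hy.m1 a b
        rw [h1 a b (fun h => h0 h.1), h1 (a + 1) b (fun h => h0 (le_trans h.1 hm))]
    · rw [ofZ0_not hI T i j t φ _ (hnotC _ _ C hC), ofZ0_not hI T i j t φ _ (hnotC _ _ C hC)]
  · rw [hw] at hγ' ⊢
    have ec : (b:ℤ) + j + 1 = ((b + 1 : ℕ) : ℤ) + j := by push_cast; ring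
    rw [P_add_y T, ec] at hγ' ⊢
    have hr' := (reg1 hI T i j t a (b + 1) C).mp hγ'
    by_cases hC : 0 ≤ C
    · rw [ofZ0_P hI T i j t φ a (b + 1) C hγ' hC, ofZ0_P hI T i j t φ a b C hγ hC]
      by_cases h0 : 0 ≤ mmF I x y t a b
      · exact h3 a b h0 (lt_of_le_of_lt hr.1 hr'.2)
      · have hm := Hy.m2 a b
        rw [h1 a b (fun h => h0 h.1), h1 a (b + 1) (fun h => h0 (le_trans h.1 hm))]
    · rw [ofZ0_not hI T i j t φ _ (hnotC _ _ C hC), ofZ0_not hI T i j t φ _ (hnotC _ _ C hC)]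
  · rw [hw] at hγ' ⊢
    rw [P_add_z T] at hγ' ⊢
    have hr' := (reg1 hI T i j t a b (C + 1)).mp hγ'
    by_cases hC : 0 ≤ C
    · rw [ofZ0_P hI T i j t φ a b (C + 1) hγ' (by omega), ofZ0_P hI T i j t φ a b C hγ hC]
    · rw [ofZ0_not hI T i j t φ (P x y ((a:ℤ) + i) ((b:ℤ) + j) C) (hnotC _ _ C hC)]
      by_cases hC1 : 0 ≤ C + 1
      · rw [ofZ0_P hI T i j t φ a b (C + 1) hγ' hC1]
        exact h1 a b (fun h => by have := hr.1; have := h.1; omega)
      · exact ofZ0_not hI T i j t φ _ (hnotC _ _ (C + 1) hC1)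

/-- the first equivalence -/
def equiv1 (Hy : Hyp (mmF I x y t) (kkF I x y i j) N) :
    RF I (al1 x y i j t) ≃ₗ[k] Z0 k (mmF I x y t) (kkF I x y i j) where
  toFun F := ⟨toZ0 I x y i j t F.1, toZ0_mem hI T i j t Hy F.2⟩
  map_add' F G := by
    apply Subtype.ext
    funext a b
    show toZ0 I x y i j t (F.1 + G.1) a b = toZ0 I x y i j t F.1 a b + toZ0 I x y i j t G.1 a b
    unfold toZ0
    split_ifs
    · rfl
    · rw [add_zero]
  map_smul' c F := by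
    apply Subtype.ext
    funext a b
    show toZ0 I x y i j t (c • F.1) a b = c • toZ0 I x y i j t F.1 a b
    unfold toZ0
    split_ifs
    · rfl
    · rw [smul_zero]
  invFun φ := ⟨ofZ0 I x y i j t φ.1, ofZ0_mem hI T i j t Hy φ.2⟩
  left_inv F := by
    apply Subtype.ext
    funext γ
    show ofZ0 I x y i j t (toZ0 I x y i j t F.1) γ = F.1 γ
    by_cases h : γ ∈ region I (al1 x y i j t) ∧ NN γ
    · obtain ⟨A, B, C, rfl⟩ : ∃ A B C, γ = P x y A B C := ⟨_, _, _, eq_P T γ⟩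
      obtain ⟨a, b, rfl, rfl⟩ := reg1_form hI T i j t h.1
      have hr := (reg1 hI T i j t a b C).mp h.1
      have hC := ((NN_P T _ _ _).mp h.2).2.2
      rw [ofZ0_P hI T i j t _ a b C h.1 hC]
      exact (toZ0_val hI T i j t F.2 a b C hr.1 hr.2).symm
    · rw [ofZ0_not hI T i j t _ γ h]
      by_cases h1 : γ ∈ region I (al1 x y i j t)
      · exact (F.2.2.1 γ (fun hn => h ⟨h1, hn⟩)).symm
      · exact (F.2.1 γ h1).symm
  right_inv φ := by
    apply Subtype.ext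
    funext a b
    show toZ0 I x y i j t (ofZ0 I x y i j t φ.1) a b = φ.1 a b
    by_cases h : 0 ≤ mmF I x y t a b ∧ mmF I x y t a b < kkF I x y i j a b
    · have hreg := (reg1 hI T i j t a b (mmF I x y t a b)).mpr ⟨le_rfl, h.2⟩
      rw [toZ0, if_pos h, ofZ0_P hI T i j t _ a b _ hreg h.1]
    · rw [toZ0, if_neg h]
      exact (φ.2.1 a b h).symm

/-! #### the second equivalence -/

lemma reg2 (ht : 1 ≤ t) (a b : ℕ) (C : ℤ) :
    P x y (a:ℤ) (b:ℤ) C ∈ region I (al2 x y i j t) ↔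
      kkF I x y i j (a + 1) (b + 1) ≤ C - t + 1 ∧ C - t + 1 ≤ mmF I x y t a b := by
  rw [mem_region_P hI T, al2, P_x, P_y T, P_z T, mmF_apply, kkF_apply]
  have e1 : ((a:ℤ)).toNat = a := by omega
  have e2 : ((b:ℤ)).toNat = b := by omega
  rw [e1, e2]
  constructor
  · rintro ⟨⟨a', b', c', h, eA, eB, eC⟩, hnot⟩
    have ha : a' = a + 1 + i := by omega
    have hb : b' = b + 1 + j := by omega
    subst ha hb
    refine ⟨by omega, ?_⟩
    by_contra hc
    exact hnot ⟨by omega, by omega, by omega, by omega⟩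
  · rintro ⟨h1, h2⟩
    refine ⟨⟨a + 1 + i, b + 1 + j, (C - t + 1).toNat, by omega, by omega, by omega, by omega⟩, ?_⟩
    rintro ⟨_, _, h3, h4⟩
    omega

lemma reg2x (b : ℕ) (C : ℤ) :
    P x y (-1) (b:ℤ) C ∈ region I (al2 x y i j t) ↔ kkF I x y i j 0 (b + 1) ≤ C - t + 1 := by
  rw [mem_region_P hI T, al2, P_x, P_y T, P_z T, kkF_apply]
  constructor
  · rintro ⟨⟨a', b', c', h, eA, eB, eC⟩, _⟩
    have ha : a' = 0 + i := by omega
    have hb : b' = b + 1 + j := by omega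
    subst ha hb
    omega
  · intro h1
    refine ⟨⟨0 + i, b + 1 + j, (C - t + 1).toNat, by omega, by omega, by omega, by omega⟩, ?_⟩
    rintro ⟨h3, _⟩
    omega

lemma reg2y (a : ℕ) (C : ℤ) :
    P x y (a:ℤ) (-1) C ∈ region I (al2 x y i j t) ↔ kkF I x y i j (a + 1) 0 ≤ C - t + 1 := by
  rw [mem_region_P hI T, al2, P_x, P_y T, P_z T, kkF_apply]
  constructor
  · rintro ⟨⟨a', b', c', h, eA, eB, eC⟩, _⟩
    have ha : a' = a + 1 + i := by omega
    have hb : b' = 0 + j := by omega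
    subst ha hb
    omega
  · intro h1
    refine ⟨⟨a + 1 + i, 0 + j, (C - t + 1).toNat, by omega, by omega, by omega, by omega⟩, ?_⟩
    rintro ⟨_, h3, _⟩
    omega

lemma toZ1_val (ht : 1 ≤ t) {F : (Fin 3 → ℤ) → k} (hF : F ∈ RF I (al2 x y i j t)) (a b : ℕ) (C : ℤ)
    (h1 : kkF I x y i j (a + 1) (b + 1) ≤ C - t + 1) (h2 : C - t + 1 ≤ mmF I x y t a b) :
    F (P x y (a:ℤ) (b:ℤ) C) = toZ1 I x y i j t F a b := by
  rw [toZ1, if_pos (le_trans h1 h2)]
  have key := rf_col hI T hF (a:ℤ) (b:ℤ) (kkF I x y i j (a + 1) (b + 1) + t - 1)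
    (C - (kkF I x y i j (a + 1) (b + 1) + t - 1)).toNat
    (fun d hd => (reg2 hI T i j t ht a b _).mpr ⟨by omega, by omega⟩)
  have e : C = kkF I x y i j (a + 1) (b + 1) + t - 1 +
      ((C - (kkF I x y i j (a + 1) (b + 1) + t - 1)).toNat : ℤ) := by omega
  rw [← key, ← e]

lemma toZ1_mem (ht : 1 ≤ t) (Hy : Hyp (mmF I x y t) (kkF I x y i j) N) {F : (Fin 3 → ℤ) → k}
    (hF : F ∈ RF I (al2 x y i j t)) :
    toZ1 I x y i j t F ∈ Z1 k (mmF I x y t) (kkF I x y i j) := by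
  refine ⟨fun a b h => ?_, fun a b h => ?_, fun a h => ?_, fun a b h => ?_, fun b h => ?_⟩
  · rw [toZ1, if_neg h]
  · -- ψ a (b+1) = ψ a b
    have hk := Hy.k2 (a + 1) (b + 1)
    have hm := Hy.m2 a b
    obtain ⟨C, hC⟩ : ∃ C : ℤ, C = mmF I x y t a (b + 1) + t - 1 := ⟨_, rfl⟩
    rw [← toZ1_val hI T i j t ht hF a (b + 1) C (by omega) (by omega),
      ← toZ1_val hI T i j t ht hF a b C (by omega) (by omega)]
    have ec : ((b + 1 : ℕ) : ℤ) = (b:ℤ) + 1 := by omega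
    rw [ec, ← P_add_y T]
    refine hF.2.2 _ y ((reg2 hI T i j t ht a b C).mpr ⟨by omega, by omega⟩) ?_
    rw [P_add_y T, ← ec]
    exact (reg2 hI T i j t ht a (b + 1) C).mpr ⟨by omega, by omega⟩
  · -- ψ a 0 = 0
    have hk := Hy.k2 (a + 1) 0
    obtain ⟨C, hC⟩ : ∃ C : ℤ, C = mmF I x y t a 0 + t - 1 := ⟨_, rfl⟩
    rw [← toZ1_val hI T i j t ht hF a 0 C (by omega) (by omega)]
    have ec : ((0 : ℕ) : ℤ) = -1 + 1 := by norm_num
    rw [ec, ← P_add_y T]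
    rw [hF.2.2 _ y ((reg2y hI T i j t a C).mpr (by omega))
      (by rw [P_add_y T, ← ec]; exact (reg2 hI T i j t ht a 0 C).mpr ⟨by omega, by omega⟩)]
    exact hF.2.1 _ (fun hnn => by have := ((NN_P T _ _ _).mp hnn).2.1; omega)
  · -- ψ (a+1) b = ψ a b
    have hk := Hy.k1 (a + 1) (b + 1)
    have hm := Hy.m1 a b
    obtain ⟨C, hC⟩ : ∃ C : ℤ, C = mmF I x y t (a + 1) b + t - 1 := ⟨_, rfl⟩
    rw [← toZ1_val hI T i j t ht hF (a + 1) b C (by omega) (by omega),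
      ← toZ1_val hI T i j t ht hF a b C (by omega) (by omega)]
    have ec : ((a + 1 : ℕ) : ℤ) = (a:ℤ) + 1 := by omega
    rw [ec, ← P_add_x T]
    refine hF.2.2 _ x ((reg2 hI T i j t ht a b C).mpr ⟨by omega, by omega⟩) ?_
    rw [P_add_x T, ← ec]
    exact (reg2 hI T i j t ht (a + 1) b C).mpr ⟨by omega, by omega⟩
  · -- ψ 0 b = 0
    have hk := Hy.k1 0 (b + 1)
    obtain ⟨C, hC⟩ : ∃ C : ℤ, C = mmF I x y t 0 b + t - 1 := ⟨_, rfl⟩
    rw [← toZ1_val hI T i j t ht hF 0 b C (by omega) (by omega)]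
    have ec : ((0 : ℕ) : ℤ) = -1 + 1 := by norm_num
    rw [ec, ← P_add_x T]
    rw [hF.2.2 _ x ((reg2x hI T i j t b C).mpr (by omega))
      (by rw [P_add_x T, ← ec]; exact (reg2 hI T i j t ht 0 b C).mpr ⟨by omega, by omega⟩)]
    exact hF.2.1 _ (fun hnn => by have := ((NN_P T _ _ _).mp hnn).1; omega)

lemma ofZ1_P (ψ : ℕ → ℕ → k) (a b : ℕ) (C : ℤ)
    (h : P x y (a:ℤ) (b:ℤ) C ∈ region I (al2 x y i j t)) (hC : 0 ≤ C) :
    ofZ1 I x y i j t ψ (P x y (a:ℤ) (b:ℤ) C) = ψ a b := by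
  have e1 : ((a:ℤ)).toNat = a := by omega
  have e2 : ((b:ℤ)).toNat = b := by omega
  rw [ofZ1, if_pos ⟨h, (NN_P T _ _ _).mpr ⟨by omega, by omega, hC⟩⟩, P_x, P_y T, e1, e2]

lemma ofZ1_not (ψ : ℕ → ℕ → k) (γ : Fin 3 → ℤ)
    (h : ¬ (γ ∈ region I (al2 x y i j t) ∧ NN γ)) : ofZ1 I x y i j t ψ γ = 0 := by
  rw [ofZ1, if_neg h]

lemma ofZ1_mem (ht : 1 ≤ t) (Hy : Hyp (mmF I x y t) (kkF I x y i j) N) {ψ : ℕ → ℕ → k}
    (hψ : ψ ∈ Z1 k (mmF I x y t) (kkF I x y i j)) :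
    ofZ1 I x y i j t ψ ∈ RF I (al2 x y i j t) := by
  obtain ⟨g1, g2, g3, g4, g5⟩ := hψ
  refine ⟨fun γ h => ofZ1_not hI T i j t ψ γ (fun hh => h hh.1),
    fun γ h => ofZ1_not hI T i j t ψ γ (fun hh => h hh.2), ?_⟩
  intro γ w hγ hγ'
  by_cases hnn' : NN (γ + Pi.single w 1)
  swap
  · rw [ofZ1_not hI T i j t ψ (γ + Pi.single w 1) (fun hh => hnn' hh.2),
      ofZ1_not hI T i j t ψ γ (fun hh => hnn' (NN_step hh.2 w))]
  obtain ⟨A, B, C, rfl⟩ : ∃ A B C, γ = P x y A B C := ⟨_, _, _, eq_P T γ⟩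
  rcases T.cover w with hw | hw | hw
  · rw [hw] at hγ' hnn' ⊢
    rw [P_add_x T] at hγ' hnn' ⊢
    obtain ⟨hA1, hB, hC⟩ := (NN_P T _ _ _).mp hnn'
    obtain ⟨b, rfl⟩ := Int.eq_ofNat_of_zero_le hB
    by_cases hA : 0 ≤ A
    · obtain ⟨a, rfl⟩ := Int.eq_ofNat_of_zero_le hA
      have e : ((a:ℤ) + 1) = ((a + 1 : ℕ) : ℤ) := by omega
      rw [e] at hγ' ⊢
      rw [ofZ1_P hI T i j t ψ (a + 1) b C hγ' hC, ofZ1_P hI T i j t ψ a b C hγ hC]
      have r := (reg2 hI T i j t ht a b C).mp hγ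
      have r' := (reg2 hI T i j t ht (a + 1) b C).mp hγ'
      exact g4 a b (le_trans r.1 r'.2)
    · have hA' : A = -1 := by omega
      subst hA'
      have e : ((-1:ℤ) + 1) = ((0 : ℕ) : ℤ) := by norm_num
      rw [e] at hγ' ⊢
      rw [ofZ1_P hI T i j t ψ 0 b C hγ' hC, ofZ1_not hI T i j t ψ (P x y (-1) (b:ℤ) C)
        (fun hh => by have := ((NN_P T _ _ _).mp hh.2).1; omega)]
      have r := (reg2x hI T i j t b C).mp hγ
      have r' := (reg2 hI T i j t ht 0 b C).mp hγ'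
      exact g5 b (le_trans r r'.2)
  · rw [hw] at hγ' hnn' ⊢
    rw [P_add_y T] at hγ' hnn' ⊢
    obtain ⟨hA, hB1, hC⟩ := (NN_P T _ _ _).mp hnn'
    obtain ⟨a, rfl⟩ := Int.eq_ofNat_of_zero_le hA
    by_cases hB : 0 ≤ B
    · obtain ⟨b, rfl⟩ := Int.eq_ofNat_of_zero_le hB
      have e : ((b:ℤ) + 1) = ((b + 1 : ℕ) : ℤ) := by omega
      rw [e] at hγ' ⊢
      rw [ofZ1_P hI T i j t ψ a (b + 1) C hγ' hC, ofZ1_P hI T i j t ψ a b C hγ hC]
      have r := (reg2 hI T i j t ht a b C).mp hγ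
      have r' := (reg2 hI T i j t ht a (b + 1) C).mp hγ'
      exact g2 a b (le_trans r.1 r'.2)
    · have hB' : B = -1 := by omega
      subst hB'
      have e : ((-1:ℤ) + 1) = ((0 : ℕ) : ℤ) := by norm_num
      rw [e] at hγ' ⊢
      rw [ofZ1_P hI T i j t ψ a 0 C hγ' hC, ofZ1_not hI T i j t ψ (P x y (a:ℤ) (-1) C)
        (fun hh => by have := ((NN_P T _ _ _).mp hh.2).2.1; omega)]
      have r := (reg2y hI T i j t a C).mp hγ
      have r' := (reg2 hI T i j t ht a 0 C).mp hγ'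
      exact g3 a (le_trans r r'.2)
  · rw [hw] at hγ' hnn' ⊢
    rw [P_add_z T] at hγ' hnn' ⊢
    obtain ⟨hA, hB, hC1⟩ := (NN_P T _ _ _).mp hnn'
    obtain ⟨a, rfl⟩ := Int.eq_ofNat_of_zero_le hA
    obtain ⟨b, rfl⟩ := Int.eq_ofNat_of_zero_le hB
    have r := (reg2 hI T i j t ht a b C).mp hγ
    have hk := Hy.k0 (a + 1) (b + 1)
    have hC : 0 ≤ C := by omega
    rw [ofZ1_P hI T i j t ψ a b (C + 1) hγ' hC1, ofZ1_P hI T i j t ψ a b C hγ hC]

/-- the second equivalence -/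
def equiv2 (ht : 1 ≤ t) (Hy : Hyp (mmF I x y t) (kkF I x y i j) N) :
    RF I (al2 x y i j t) ≃ₗ[k] Z1 k (mmF I x y t) (kkF I x y i j) where
  toFun F := ⟨toZ1 I x y i j t F.1, toZ1_mem hI T i j t ht Hy F.2⟩
  map_add' F G := by
    apply Subtype.ext
    funext a b
    show toZ1 I x y i j t (F.1 + G.1) a b = toZ1 I x y i j t F.1 a b + toZ1 I x y i j t G.1 a b
    unfold toZ1
    split_ifs
    · rfl
    · rw [add_zero]
  map_smul' c F := by
    apply Subtype.ext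
    funext a b
    show toZ1 I x y i j t (c • F.1) a b = c • toZ1 I x y i j t F.1 a b
    unfold toZ1
    split_ifs
    · rfl
    · rw [smul_zero]
  invFun ψ := ⟨ofZ1 I x y i j t ψ.1, ofZ1_mem hI T i j t ht Hy ψ.2⟩
  left_inv F := by
    apply Subtype.ext
    funext γ
    show ofZ1 I x y i j t (toZ1 I x y i j t F.1) γ = F.1 γ
    by_cases h : γ ∈ region I (al2 x y i j t) ∧ NN γ
    · obtain ⟨A, B, C, rfl⟩ : ∃ A B C, γ = P x y A B C := ⟨_, _, _, eq_P T γ⟩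
      obtain ⟨hA, hB, hC⟩ := (NN_P T _ _ _).mp h.2
      obtain ⟨a, rfl⟩ := Int.eq_ofNat_of_zero_le hA
      obtain ⟨b, rfl⟩ := Int.eq_ofNat_of_zero_le hB
      have hr := (reg2 hI T i j t ht a b C).mp h.1
      rw [ofZ1_P hI T i j t _ a b C h.1 hC]
      exact (toZ1_val hI T i j t ht F.2 a b C hr.1 hr.2).symm
    · rw [ofZ1_not hI T i j t _ γ h]
      by_cases h1 : γ ∈ region I (al2 x y i j t)
      · exact (F.2.2.1 γ (fun hn => h ⟨h1, hn⟩)).symm
      · exact (F.2.1 γ h1).symm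
  right_inv ψ := by
    apply Subtype.ext
    funext a b
    show toZ1 I x y i j t (ofZ1 I x y i j t ψ.1) a b = ψ.1 a b
    by_cases h : kkF I x y i j (a + 1) (b + 1) ≤ mmF I x y t a b
    · have hk := Hy.k0 (a + 1) (b + 1)
      have hreg := (reg2 hI T i j t ht a b (kkF I x y i j (a + 1) (b + 1) + t - 1)).mpr
        ⟨by omega, by omega⟩
      rw [toZ1, if_pos h, ofZ1_P hI T i j t _ a b _ hreg (by omega)]
    · rw [toZ1, if_neg h]
      exact (ψ.2.1 a b h).symm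

/-- the duality for a single height `t` -/
theorem dual_t (ht : 1 ≤ t) (Hy : Hyp (mmF I x y t) (kkF I x y i j) N) :
    Module.finrank k ↥(tPiece I (al1 x y i j t)) +
        (M0 (mmF I x y t) (kkF I x y i j) N).card + (M2 (mmF I x y t) (kkF I x y i j) N).card =
      Module.finrank k ↥(tPiece I (al2 x y i j t)) +
        (M1x (mmF I x y t) (kkF I x y i j) N).card + (M1y (mmF I x y t) (kkF I x y i j) N).card := by
  rw [← finrank_RF hI, ← finrank_RF hI, (equiv1 hI T i j t Hy).finrank_eq,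
    (equiv2 hI T i j t ht Hy).finrank_eq]
  exact duality_missing k Hy

lemma al1_bot_of_Z0 (Hy : Hyp (mmF I x y t) (kkF I x y i j) N)
    (hZ : ∀ φ ∈ Z0 k (mmF I x y t) (kkF I x y i j), φ = 0) : tPiece I (al1 x y i j t) = ⊥ := by
  refine tPiece_eq_bot_of_RF hI fun F hF => ?_
  have h0 : equiv1 hI T i j t Hy ⟨F, hF⟩ = 0 :=
    Subtype.ext (hZ _ (equiv1 hI T i j t Hy ⟨F, hF⟩).2)
  have h1 := (LinearEquiv.map_eq_zero_iff _).mp h0
  exact congrArg Subtype.val h1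

lemma al2_bot_of_Z1 (ht : 1 ≤ t) (Hy : Hyp (mmF I x y t) (kkF I x y i j) N)
    (hZ : ∀ ψ ∈ Z1 k (mmF I x y t) (kkF I x y i j), ψ = 0) : tPiece I (al2 x y i j t) = ⊥ := by
  refine tPiece_eq_bot_of_RF hI fun F hF => ?_
  have h0 : equiv2 hI T i j t ht Hy ⟨F, hF⟩ = 0 :=
    Subtype.ext (hZ _ (equiv2 hI T i j t ht Hy ⟨F, hF⟩).2)
  have h1 := (LinearEquiv.map_eq_zero_iff _).mp h0
  exact congrArg Subtype.val h1

end duality


/-! ### summation over the heights -/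

section sums

/-- the function `m` attached to a staircase -/
def mOf (h : ℕ → ℕ → ℕ) (t : ℕ) (a b : ℕ) : ℤ := (h a b : ℤ) - t

/-- the function `κ` attached to a staircase -/
def kOf (h : ℕ → ℕ → ℕ) (i j : ℕ) (a b : ℕ) : ℤ := (h (a + i) (b + j) : ℤ)

lemma sum_card_filter_nat (N H : ℕ) (h κ' : ℕ → ℕ → ℕ) (h1 : ∀ a b, κ' a b ≤ h a b)
    (h2 : ∀ a b, h a b ≤ H) :
    ∑ t ∈ Finset.Icc 1 H, ((box N).filter
        (fun q : ℕ × ℕ => ((κ' q.1 q.2 : ℕ) : ℤ) ≤ ((h q.1 q.2 : ℕ) : ℤ) - (t : ℤ))).card =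
      ∑ q ∈ box N, (h q.1 q.2 - κ' q.1 q.2) := by
  have key := Finset.sum_card_bipartiteAbove_eq_sum_card_bipartiteBelow
    (s := Finset.Icc 1 H) (t := box N)
    (fun (t : ℕ) (q : ℕ × ℕ) => ((κ' q.1 q.2 : ℕ) : ℤ) ≤ ((h q.1 q.2 : ℕ) : ℤ) - (t : ℤ))
  refine key.trans (Finset.sum_congr rfl fun q _ => ?_)
  have e : (Finset.Icc 1 H).bipartiteBelow
      (fun (t : ℕ) (q : ℕ × ℕ) => ((κ' q.1 q.2 : ℕ) : ℤ) ≤ ((h q.1 q.2 : ℕ) : ℤ) - (t : ℤ)) q =
      Finset.Icc 1 (h q.1 q.2 - κ' q.1 q.2) := by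
    ext t
    rw [Finset.mem_bipartiteBelow, Finset.mem_Icc, Finset.mem_Icc]
    have := h1 q.1 q.2
    have := h2 q.1 q.2
    beta_reduce
    omega
  rw [e, Nat.card_Icc]
  omega

lemma sum_card_filter (N H : ℕ) (h κ' : ℕ → ℕ → ℕ) (h1 : ∀ a b, κ' a b ≤ h a b)
    (h2 : ∀ a b, h a b ≤ H) :
    ((∑ t ∈ Finset.Icc 1 H, ((box N).filter
        (fun q : ℕ × ℕ => ((κ' q.1 q.2 : ℕ) : ℤ) ≤ ((h q.1 q.2 : ℕ) : ℤ) - (t : ℤ))).card : ℕ) : ℤ) =
      ∑ q ∈ box N, ((h q.1 q.2 : ℤ) - (κ' q.1 q.2 : ℤ)) := by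
  rw [sum_card_filter_nat N H h κ' h1 h2, Nat.cast_sum]
  exact Finset.sum_congr rfl fun q _ => Nat.cast_sub (h1 q.1 q.2)

lemma sum_box_telescope (N : ℕ) (f : ℕ → ℕ → ℤ) (h1 : ∀ b, f N b = 0) (h2 : ∀ a, f a N = 0) :
    ∑ q ∈ box N, (f q.1 q.2 - f (q.1 + 1) q.2 - f q.1 (q.2 + 1) + f (q.1 + 1) (q.2 + 1)) =
      f 0 0 := by
  have e0 : ∑ q ∈ box N, (f q.1 q.2 - f (q.1 + 1) q.2 - f q.1 (q.2 + 1) + f (q.1 + 1) (q.2 + 1)) =
      ∑ a ∈ Finset.range N, ∑ b ∈ Finset.range N,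
        (f a b - f (a + 1) b - f a (b + 1) + f (a + 1) (b + 1)) :=
    Finset.sum_product' (Finset.range N) (Finset.range N)
      (fun a b => f a b - f (a + 1) b - f a (b + 1) + f (a + 1) (b + 1))
  rw [e0]
  have inner : ∀ a, ∑ b ∈ Finset.range N,
      (f a b - f (a + 1) b - f a (b + 1) + f (a + 1) (b + 1)) = f a 0 - f (a + 1) 0 := by
    intro a
    have e := Finset.sum_range_sub' (fun b => f a b - f (a + 1) b) N
    simp only [h2, sub_zero] at e
    rw [← e]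
    exact Finset.sum_congr rfl fun b _ => by ring
  rw [Finset.sum_congr rfl fun a _ => inner a]
  have e := Finset.sum_range_sub' (fun a => f a 0) N
  simp only [h1, sub_zero] at e
  exact e

lemma sum_missing (N H : ℕ) (h : ℕ → ℕ → ℕ) (i j : ℕ)
    (hanti : ∀ a b a' b', a ≤ a' → b ≤ b' → h a' b' ≤ h a b)
    (hN : ∀ a b, (N ≤ a ∨ N ≤ b) → h a b = 0) (hH : ∀ a b, h a b ≤ H) :
    ∑ t ∈ Finset.Icc 1 H, (M0 (mOf h t) (kOf h i j) N).card +
      ∑ t ∈ Finset.Icc 1 H, (M2 (mOf h t) (kOf h i j) N).card + h i j =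
    ∑ t ∈ Finset.Icc 1 H, (M1x (mOf h t) (kOf h i j) N).card +
      ∑ t ∈ Finset.Icc 1 H, (M1y (mOf h t) (kOf h i j) N).card := by
  have c0 : ((∑ t ∈ Finset.Icc 1 H, (M0 (mOf h t) (kOf h i j) N).card : ℕ) : ℤ) =
      ∑ q ∈ box N, ((h q.1 q.2 : ℤ) - (h (q.1 + i) (q.2 + j) : ℤ)) :=
    sum_card_filter N H h (fun a b => h (a + i) (b + j))
      (fun a b => hanti a b (a + i) (b + j) (by omega) (by omega)) hH
  have c2 : ((∑ t ∈ Finset.Icc 1 H, (M2 (mOf h t) (kOf h i j) N).card : ℕ) : ℤ) =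
      ∑ q ∈ box N, ((h q.1 q.2 : ℤ) - (h (q.1 + 1 + i) (q.2 + 1 + j) : ℤ)) :=
    sum_card_filter N H h (fun a b => h (a + 1 + i) (b + 1 + j))
      (fun a b => hanti a b (a + 1 + i) (b + 1 + j) (by omega) (by omega)) hH
  have c1x : ((∑ t ∈ Finset.Icc 1 H, (M1x (mOf h t) (kOf h i j) N).card : ℕ) : ℤ) =
      ∑ q ∈ box N, ((h q.1 q.2 : ℤ) - (h (q.1 + 1 + i) (q.2 + j) : ℤ)) :=
    sum_card_filter N H h (fun a b => h (a + 1 + i) (b + j))
      (fun a b => hanti a b (a + 1 + i) (b + j) (by omega) (by omega)) hH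
  have c1y : ((∑ t ∈ Finset.Icc 1 H, (M1y (mOf h t) (kOf h i j) N).card : ℕ) : ℤ) =
      ∑ q ∈ box N, ((h q.1 q.2 : ℤ) - (h (q.1 + i) (q.2 + 1 + j) : ℤ)) :=
    sum_card_filter N H h (fun a b => h (a + i) (b + 1 + j))
      (fun a b => hanti a b (a + i) (b + 1 + j) (by omega) (by omega)) hH
  have tel := sum_box_telescope N (fun a b => (h (a + i) (b + j) : ℤ))
    (fun b => by
      show ((h (N + i) (b + j) : ℕ) : ℤ) = 0
      rw [hN _ _ (Or.inl (Nat.le_add_right N i)), Nat.cast_zero])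
    (fun a => by
      show ((h (a + i) (N + j) : ℕ) : ℤ) = 0
      rw [hN _ _ (Or.inr (Nat.le_add_right N j)), Nat.cast_zero])
  simp only [Nat.zero_add] at tel
  have hZ : ((∑ t ∈ Finset.Icc 1 H, (M0 (mOf h t) (kOf h i j) N).card : ℕ) : ℤ) +
      ((∑ t ∈ Finset.Icc 1 H, (M2 (mOf h t) (kOf h i j) N).card : ℕ) : ℤ) + (h i j : ℤ) =
      ((∑ t ∈ Finset.Icc 1 H, (M1x (mOf h t) (kOf h i j) N).card : ℕ) : ℤ) +
      ((∑ t ∈ Finset.Icc 1 H, (M1y (mOf h t) (kOf h i j) N).card : ℕ) : ℤ) := by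
    rw [c0, c2, c1x, c1y, ← tel, ← Finset.sum_add_distrib, ← Finset.sum_add_distrib,
      ← Finset.sum_add_distrib]
    exact Finset.sum_congr rfl fun q _ => by ring
  exact_mod_cast hZ

end sums

/-! ### the total duality -/

section total

variable (hI : IsMonomial I) [Module.Finite k (MvPolynomial (Fin 3) k ⧸ I)]
variable {x y z : Fin 3} (T : Tri x y z) (i j : ℕ) {N H : ℕ}
include hI T

lemma exists_bd : ∃ N H, Bd I x y N H := by
  obtain ⟨N, hN⟩ := exists_hh_zero hI T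
  exact ⟨N, hh I x y 0 0, hN, le_rfl⟩

lemma hh_le_of_bd (B : Bd I x y N H) (a b : ℕ) : hh I x y a b ≤ H :=
  le_trans (hh_anti hI T (Nat.zero_le a) (Nat.zero_le b)) B.hH

theorem dual_sum (B : Bd I x y N H) :
    ∑ t ∈ Finset.Icc 1 H, Module.finrank k ↥(tPiece I (al1 x y i j t)) =
      hh I x y i j + ∑ t ∈ Finset.Icc 1 H, Module.finrank k ↥(tPiece I (al2 x y i j t)) := by
  have hsum : ∀ t ∈ Finset.Icc 1 H,
      Module.finrank k ↥(tPiece I (al1 x y i j t)) +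
        (M0 (mmF I x y t) (kkF I x y i j) N).card + (M2 (mmF I x y t) (kkF I x y i j) N).card =
      Module.finrank k ↥(tPiece I (al2 x y i j t)) +
        (M1x (mmF I x y t) (kkF I x y i j) N).card + (M1y (mmF I x y t) (kkF I x y i j) N).card :=
    fun t ht => dual_t hI T i j t (Finset.mem_Icc.mp ht).1
      (hyp_mk hI T i j t B.hN (Finset.mem_Icc.mp ht).1)
  have S := Finset.sum_congr rfl hsum
  simp only [Finset.sum_add_distrib] at S
  have sm : ∑ t ∈ Finset.Icc 1 H, (M0 (mmF I x y t) (kkF I x y i j) N).card +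
      ∑ t ∈ Finset.Icc 1 H, (M2 (mmF I x y t) (kkF I x y i j) N).card + hh I x y i j =
      ∑ t ∈ Finset.Icc 1 H, (M1x (mmF I x y t) (kkF I x y i j) N).card +
      ∑ t ∈ Finset.Icc 1 H, (M1y (mmF I x y t) (kkF I x y i j) N).card :=
    sum_missing N H (hh I x y) i j (fun a b a' b' ha hb => hh_anti hI T ha hb) B.hN
      (hh_le_of_bd hI T B)
  omega

lemma al1_bot_of_gt (B : Bd I x y N H) (t : ℕ) (ht : H < t) : tPiece I (al1 x y i j t) = ⊥ := by
  refine al1_bot_of_Z0 hI T i j t (hyp_mk hI T i j t B.hN (by omega)) fun φ hφ => ?_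
  funext a b
  refine hφ.1 a b (fun h => ?_)
  have := hh_le_of_bd hI T B a b
  have h0 := h.1
  rw [mmF_apply] at h0
  omega

lemma al1_bot_of_ge (B : Bd I x y N H) (t : ℕ) (ht : 1 ≤ t) (hij : N ≤ i ∨ N ≤ j) :
    tPiece I (al1 x y i j t) = ⊥ := by
  refine al1_bot_of_Z0 hI T i j t (hyp_mk hI T i j t B.hN ht) fun φ hφ => ?_
  funext a b
  refine hφ.1 a b (fun h => ?_)
  have hk : kkF I x y i j a b = 0 := by
    rw [kkF_apply, B.hN (a + i) (b + j) (by omega), Nat.cast_zero]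
  have h1 := h.1
  have h2 := h.2
  omega

lemma al2_bot_of_gt (B : Bd I x y N H) (t : ℕ) (ht : H < t) : tPiece I (al2 x y i j t) = ⊥ := by
  have Hy := hyp_mk hI T i j t B.hN (by omega)
  refine al2_bot_of_Z1 hI T i j t (by omega) Hy fun ψ hψ => ?_
  funext a b
  refine hψ.1 a b (fun h => ?_)
  have := hh_le_of_bd hI T B a b
  have hk := Hy.k0 (a + 1) (b + 1)
  rw [mmF_apply] at h
  omega

lemma al2_bot_of_ge (B : Bd I x y N H) (t : ℕ) (ht : 1 ≤ t) (hij : N ≤ i ∨ N ≤ j) :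
    tPiece I (al2 x y i j t) = ⊥ := by
  refine al2_bot_of_Z1 hI T i j t ht (hyp_mk hI T i j t B.hN ht) fun ψ hψ => ?_
  obtain ⟨g1, g2, g3, g4, g5⟩ := hψ
  have hk : ∀ a b, kkF I x y i j a b = 0 := fun a b => by
    rw [kkF_apply, B.hN (a + i) (b + j) (by omega), Nat.cast_zero]
  funext a b
  induction a with
  | zero =>
    by_cases h : 0 ≤ mmF I x y t 0 b
    · exact g5 b (by rw [hk]; exact h)
    · exact g1 0 b (by rw [hk]; exact h)
  | succ a ih =>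
    by_cases h : 0 ≤ mmF I x y t (a + 1) b
    · rw [g4 a b (by rw [hk]; exact h)]; exact ih
    · exact g1 (a + 1) b (by rw [hk]; exact h)

omit hI [Module.Finite k (MvPolynomial (Fin 3) k ⧸ I)] in
lemma al1_inj {a b t a' b' t' : ℕ} (h : al1 x y a b t = al1 x y a' b' t') :
    a = a' ∧ b = b' ∧ t = t' := by
  obtain ⟨h1, h2, h3⟩ := P_ext T h
  exact ⟨by omega, by omega, by omega⟩

omit hI [Module.Finite k (MvPolynomial (Fin 3) k ⧸ I)] in
lemma al2_inj {a b t a' b' t' : ℕ} (h : al2 x y a b t = al2 x y a' b' t') :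
    a = a' ∧ b = b' ∧ t = t' := by
  obtain ⟨h1, h2, h3⟩ := P_ext T h
  exact ⟨by omega, by omega, by omega⟩

lemma mem_of_ne_bot1 (B : Bd I x y N H) {α : Fin 3 → ℤ} (hx : 0 ≤ α x) (hy : 0 ≤ α y)
    (hz : α z < 0) (hne : tPiece I α ≠ ⊥) :
    ∃ a b t : ℕ, a < N ∧ b < N ∧ 1 ≤ t ∧ t ≤ H ∧ α = al1 x y a b t := by
  have h1 : α x = (((α x).toNat : ℕ) : ℤ) := by omega
  have h2 : α y = (((α y).toNat : ℕ) : ℤ) := by omega
  have h3 : α z = -(((-α z).toNat : ℕ) : ℤ) := by omega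
  have e : α = al1 x y (α x).toNat (α y).toNat (-α z).toNat := by
    rw [al1, ← h1, ← h2, ← h3]
    exact eq_P T α
  refine ⟨_, _, _, ?_, ?_, by omega, ?_, e⟩
  · by_contra h
    exact hne (by rw [e]; exact al1_bot_of_ge hI T _ _ B _ (by omega) (Or.inl (by omega)))
  · by_contra h
    exact hne (by rw [e]; exact al1_bot_of_ge hI T _ _ B _ (by omega) (Or.inr (by omega)))
  · by_contra h
    exact hne (by rw [e]; exact al1_bot_of_gt hI T _ _ B _ (by omega))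

lemma mem_of_ne_bot2 (B : Bd I x y N H) {α : Fin 3 → ℤ} (hx : α x < 0) (hy : α y < 0)
    (hz : 0 ≤ α z) (hne : tPiece I α ≠ ⊥) :
    ∃ a b t : ℕ, a < N ∧ b < N ∧ 1 ≤ t ∧ t ≤ H ∧ α = al2 x y a b t := by
  have h1 : α x = -(((-α x - 1).toNat : ℕ) : ℤ) - 1 := by omega
  have h2 : α y = -(((-α y - 1).toNat : ℕ) : ℤ) - 1 := by omega
  have h3 : α z = (((α z + 1).toNat : ℕ) : ℤ) - 1 := by omega
  have e : α = al2 x y (-α x - 1).toNat (-α y - 1).toNat (α z + 1).toNat := by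
    rw [al2, ← h1, ← h2, ← h3]
    exact eq_P T α
  refine ⟨_, _, _, ?_, ?_, by omega, ?_, e⟩
  · by_contra h
    exact hne (by rw [e]; exact al2_bot_of_ge hI T _ _ B _ (by omega) (Or.inl (by omega)))
  · by_contra h
    exact hne (by rw [e]; exact al2_bot_of_ge hI T _ _ B _ (by omega) (Or.inr (by omega)))
  · by_contra h
    exact hne (by rw [e]; exact al2_bot_of_gt hI T _ _ B _ (by omega))

omit hI [Module.Finite k (MvPolynomial (Fin 3) k ⧸ I)] in
lemma pat1 (α : Fin 3 → ℤ) :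
    (∀ w, α w < 0 ↔ w ∈ ({z} : Set (Fin 3))) ↔ (0 ≤ α x ∧ 0 ≤ α y ∧ α z < 0) := by
  constructor
  · intro h
    exact ⟨not_lt.mp (fun hx => T.xz ((h x).mp hx)), not_lt.mp (fun hy => T.yz ((h y).mp hy)),
      (h z).mpr rfl⟩
  · rintro ⟨hx, hy, hz⟩ w
    rcases T.cover w with hw | hw | hw <;> rw [hw]
    · exact ⟨fun h => absurd h (not_lt.mpr hx), fun h => absurd h T.xz⟩
    · exact ⟨fun h => absurd h (not_lt.mpr hy), fun h => absurd h T.yz⟩
    · exact ⟨fun _ => rfl, fun _ => hz⟩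

omit hI [Module.Finite k (MvPolynomial (Fin 3) k ⧸ I)] in
lemma pat2 (α : Fin 3 → ℤ) :
    (∀ w, α w < 0 ↔ w ∈ ({z}ᶜ : Set (Fin 3))) ↔ (α x < 0 ∧ α y < 0 ∧ 0 ≤ α z) := by
  constructor
  · intro h
    exact ⟨(h x).mpr T.xz, (h y).mpr T.yz, not_lt.mp (fun hz => (h z).mp hz rfl)⟩
  · rintro ⟨hx, hy, hz⟩ w
    rcases T.cover w with hw | hw | hw <;> rw [hw]
    · exact ⟨fun _ => T.xz, fun _ => hx⟩
    · exact ⟨fun _ => T.yz, fun _ => hy⟩
    · exact ⟨fun h => absurd h (not_lt.mpr hz), fun h => absurd rfl h⟩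

theorem finrank_fix1 (B : Bd I x y N H) :
    Module.finrank k ↥(⨆ α : {α : Fin 3 → ℤ // α x = (i:ℤ) ∧ α y = (j:ℤ)}, tPiece I α.1) =
      ∑ t ∈ Finset.Icc 1 H, Module.finrank k ↥(tPiece I (al1 x y i j t)) := by
  classical
  have hs : ∀ α : Fin 3 → ℤ, (α x = (i:ℤ) ∧ α y = (j:ℤ)) → tPiece I α ≠ ⊥ →
      α ∈ (Finset.Icc 1 H).image (fun t => al1 x y i j t) := by
    intro α hα hne
    by_cases hz : 0 ≤ α z
    · exfalso
      apply hne
      refine tPiece_eq_bot_of_nonneg hI fun w => ?_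
      rcases T.cover w with hw | hw | hw <;> rw [hw]
      · rw [hα.1]; omega
      · rw [hα.2]; omega
      · exact hz
    · obtain ⟨a, b, t, ha, hb, ht1, ht2, e⟩ :=
        mem_of_ne_bot1 hI T B (by rw [hα.1]; omega) (by rw [hα.2]; omega) (not_le.mp hz) hne
      rw [Finset.mem_image]
      refine ⟨t, Finset.mem_Icc.mpr ⟨ht1, ht2⟩, ?_⟩
      have hax : α x = (a:ℤ) := by rw [e, al1, P_x]
      have hay : α y = (b:ℤ) := by rw [e, al1, P_y T]
      have hai : a = i := by have := hα.1; omega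
      have hbj : b = j := by have := hα.2; omega
      rw [← hai, ← hbj]
      exact e.symm
  have hs' : ∀ α ∈ (Finset.Icc 1 H).image (fun t => al1 x y i j t),
      (α x = (i:ℤ) ∧ α y = (j:ℤ)) := by
    intro α hα
    obtain ⟨t, _, rfl⟩ := Finset.mem_image.mp hα
    exact ⟨by show al1 x y i j t x = _; rw [al1, P_x],
      by show al1 x y i j t y = _; rw [al1, P_y T]⟩
  have h := finrank_iSup_subtype hI (fun α : Fin 3 → ℤ => α x = (i:ℤ) ∧ α y = (j:ℤ)) _ hs hs'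
  rw [Finset.sum_image] at h
  · exact h
  · intro t _ t' _ e
    exact (al1_inj T e).2.2

theorem finrank_fix2 (B : Bd I x y N H) :
    Module.finrank k
        ↥(⨆ α : {α : Fin 3 → ℤ // α x = -(i:ℤ) - 1 ∧ α y = -(j:ℤ) - 1}, tPiece I α.1) =
      ∑ t ∈ Finset.Icc 1 H, Module.finrank k ↥(tPiece I (al2 x y i j t)) := by
  classical
  have hs : ∀ α : Fin 3 → ℤ, (α x = -(i:ℤ) - 1 ∧ α y = -(j:ℤ) - 1) → tPiece I α ≠ ⊥ →
      α ∈ (Finset.Icc 1 H).image (fun t => al2 x y i j t) := by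
    intro α hα hne
    by_cases hz : 0 ≤ α z
    · obtain ⟨a, b, t, ha, hb, ht1, ht2, e⟩ :=
        mem_of_ne_bot2 hI T B (by rw [hα.1]; omega) (by rw [hα.2]; omega) hz hne
      rw [Finset.mem_image]
      refine ⟨t, Finset.mem_Icc.mpr ⟨ht1, ht2⟩, ?_⟩
      have hax : α x = -(a:ℤ) - 1 := by rw [e, al2, P_x]
      have hay : α y = -(b:ℤ) - 1 := by rw [e, al2, P_y T]
      have hai : a = i := by have := hα.1; omega
      have hbj : b = j := by have := hα.2; omega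
      rw [← hai, ← hbj]
      exact e.symm
    · exfalso
      apply hne
      refine tPiece_eq_bot_of_neg hI T.xy fun w => ?_
      rcases T.cover w with hw | hw | hw <;> rw [hw]
      · rw [hα.1]; omega
      · rw [hα.2]; omega
      · exact not_le.mp hz
  have hs' : ∀ α ∈ (Finset.Icc 1 H).image (fun t => al2 x y i j t),
      (α x = -(i:ℤ) - 1 ∧ α y = -(j:ℤ) - 1) := by
    intro α hα
    obtain ⟨t, _, rfl⟩ := Finset.mem_image.mp hα
    exact ⟨by show al2 x y i j t x = _; rw [al2, P_x],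
      by show al2 x y i j t y = _; rw [al2, P_y T]⟩
  have h := finrank_iSup_subtype hI
    (fun α : Fin 3 → ℤ => α x = -(i:ℤ) - 1 ∧ α y = -(j:ℤ) - 1) _ hs hs'
  rw [Finset.sum_image] at h
  · exact h
  · intro t _ t' _ e
    exact (al2_inj T e).2.2

/-- duality for the pieces with two fixed coordinates -/
theorem fix_duality :
    Module.finrank k ↥(⨆ α : {α : Fin 3 → ℤ // α x = (i:ℤ) ∧ α y = (j:ℤ)}, tPiece I α.1) =
      hh I x y i j + Module.finrank k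
        ↥(⨆ α : {α : Fin 3 → ℤ // α x = -(i:ℤ) - 1 ∧ α y = -(j:ℤ) - 1}, tPiece I α.1) := by
  obtain ⟨N, H, B⟩ := exists_bd hI T
  rw [finrank_fix1 hI T i j B, finrank_fix2 hI T i j B]
  exact dual_sum hI T i j B

theorem finrank_sig1 (B : Bd I x y N H) :
    Module.finrank k ↥(sigPiece I ({z} : Set (Fin 3))) =
      ∑ q ∈ box N, ∑ t ∈ Finset.Icc 1 H,
        Module.finrank k ↥(tPiece I (al1 x y q.1 q.2 t)) := by
  classical
  have hs : ∀ α : Fin 3 → ℤ, (∀ w, α w < 0 ↔ w ∈ ({z} : Set (Fin 3))) → tPiece I α ≠ ⊥ →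
      α ∈ ((box N) ×ˢ (Finset.Icc 1 H)).image
        (fun p : (ℕ × ℕ) × ℕ => al1 x y p.1.1 p.1.2 p.2) := by
    intro α hα hne
    obtain ⟨hx, hy, hz⟩ := (pat1 T α).mp hα
    obtain ⟨a, b, t, ha, hb, ht1, ht2, e⟩ := mem_of_ne_bot1 hI T B hx hy hz hne
    rw [Finset.mem_image]
    exact ⟨((a, b), t), Finset.mem_product.mpr ⟨mem_box.mpr ⟨ha, hb⟩,
      Finset.mem_Icc.mpr ⟨ht1, ht2⟩⟩, e.symm⟩
  have hs' : ∀ α ∈ ((box N) ×ˢ (Finset.Icc 1 H)).image
      (fun p : (ℕ × ℕ) × ℕ => al1 x y p.1.1 p.1.2 p.2),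
      (∀ w, α w < 0 ↔ w ∈ ({z} : Set (Fin 3))) := by
    intro α hα
    obtain ⟨p, hp, rfl⟩ := Finset.mem_image.mp hα
    have ht := (Finset.mem_Icc.mp (Finset.mem_product.mp hp).2).1
    refine (pat1 T _).mpr ⟨?_, ?_, ?_⟩
    · show 0 ≤ al1 x y p.1.1 p.1.2 p.2 x
      rw [al1, P_x]; omega
    · show 0 ≤ al1 x y p.1.1 p.1.2 p.2 y
      rw [al1, P_y T]; omega
    · show al1 x y p.1.1 p.1.2 p.2 z < 0
      rw [al1, P_z T]; omega
  have h := finrank_iSup_subtype hI (fun α : Fin 3 → ℤ => ∀ w, α w < 0 ↔ w ∈ ({z} : Set (Fin 3)))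
    _ hs hs'
  rw [Finset.sum_image, Finset.sum_product] at h
  · exact h
  · intro p _ p' _ e
    obtain ⟨h1, h2, h3⟩ := al1_inj T e
    exact Prod.ext (Prod.ext h1 h2) h3

theorem finrank_sig2 (B : Bd I x y N H) :
    Module.finrank k ↥(sigPiece I ({z}ᶜ : Set (Fin 3))) =
      ∑ q ∈ box N, ∑ t ∈ Finset.Icc 1 H,
        Module.finrank k ↥(tPiece I (al2 x y q.1 q.2 t)) := by
  classical
  have hs : ∀ α : Fin 3 → ℤ, (∀ w, α w < 0 ↔ w ∈ ({z}ᶜ : Set (Fin 3))) → tPiece I α ≠ ⊥ →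
      α ∈ ((box N) ×ˢ (Finset.Icc 1 H)).image
        (fun p : (ℕ × ℕ) × ℕ => al2 x y p.1.1 p.1.2 p.2) := by
    intro α hα hne
    obtain ⟨hx, hy, hz⟩ := (pat2 T α).mp hα
    obtain ⟨a, b, t, ha, hb, ht1, ht2, e⟩ := mem_of_ne_bot2 hI T B hx hy hz hne
    rw [Finset.mem_image]
    exact ⟨((a, b), t), Finset.mem_product.mpr ⟨mem_box.mpr ⟨ha, hb⟩,
      Finset.mem_Icc.mpr ⟨ht1, ht2⟩⟩, e.symm⟩
  have hs' : ∀ α ∈ ((box N) ×ˢ (Finset.Icc 1 H)).image
      (fun p : (ℕ × ℕ) × ℕ => al2 x y p.1.1 p.1.2 p.2),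
      (∀ w, α w < 0 ↔ w ∈ ({z}ᶜ : Set (Fin 3))) := by
    intro α hα
    obtain ⟨p, hp, rfl⟩ := Finset.mem_image.mp hα
    have ht := (Finset.mem_Icc.mp (Finset.mem_product.mp hp).2).1
    refine (pat2 T _).mpr ⟨?_, ?_, ?_⟩
    · show al2 x y p.1.1 p.1.2 p.2 x < 0
      rw [al2, P_x]; omega
    · show al2 x y p.1.1 p.1.2 p.2 y < 0
      rw [al2, P_y T]; omega
    · show 0 ≤ al2 x y p.1.1 p.1.2 p.2 z
      rw [al2, P_z T]; omega
  have h := finrank_iSup_subtype hI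
    (fun α : Fin 3 → ℤ => ∀ w, α w < 0 ↔ w ∈ ({z}ᶜ : Set (Fin 3))) _ hs hs'
  rw [Finset.sum_image, Finset.sum_product] at h
  · exact h
  · intro p _ p' _ e
    obtain ⟨h1, h2, h3⟩ := al2_inj T e
    exact Prod.ext (Prod.ext h1 h2) h3

/-- the colength as a sum of staircase numbers -/
lemma colength_eq (hN : ∀ a b, (N ≤ a ∨ N ≤ b) → hh I x y a b = 0) :
    Module.finrank k (MvPolynomial (Fin 3) k ⧸ I) = ∑ q ∈ box N, hh I x y q.1 q.2 := by
  classical
  have hS : ∀ δ, δ ∈ (std_finite hI).toFinset ↔ δ ∉ exps I := fun δ => (std_finite hI).mem_toFinset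
  have hli := linInd_std (k := k) (I := I) hI
  have hspan : ⊤ ≤ Submodule.span k (Set.range (fun β : {β : Fin 3 →₀ ℕ // β ∉ exps I} =>
      Ideal.Quotient.mk I (monomial β.1 (1:k)))) := by
    intro q _
    obtain ⟨p, rfl⟩ := Ideal.Quotient.mk_surjective q
    rw [mk_expand hI (std_finite hI).toFinset (fun δ h => (hS δ).mpr h) (fun δ h => (hS δ).mp h) p]
    exact Submodule.sum_mem _ fun δ hδ => Submodule.smul_mem _ _
      (Submodule.subset_span ⟨⟨δ, (hS δ).mp hδ⟩, rfl⟩)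
  have hfin : Module.finrank k (MvPolynomial (Fin 3) k ⧸ I) =
      Nat.card {β : Fin 3 →₀ ℕ // β ∉ exps I} :=
    Module.finrank_eq_nat_card_basis (Module.Basis.mk hli hspan)
  have hcard : Nat.card {β : Fin 3 →₀ ℕ // β ∉ exps I} = (std_finite hI).toFinset.card :=
    (Nat.card_coe_set_eq {β : Fin 3 →₀ ℕ | β ∉ exps I}).trans
      (Set.ncard_eq_toFinset_card _ (std_finite hI))
  rw [hfin, hcard]
  have hmaps : ∀ β ∈ (std_finite hI).toFinset, (β x, β y) ∈ box N := by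
    intro β hβ
    have hβ' := (hS β).mp hβ
    rw [eq_E T β, E_mem_iff hI T] at hβ'
    rw [mem_box]
    by_contra hc
    have := hN (β x) (β y) (by omega)
    omega
  have hfib : ∀ q ∈ box N, ((std_finite hI).toFinset.filter
      (fun β : Fin 3 →₀ ℕ => (β x, β y) = q)).card = hh I x y q.1 q.2 := by
    rintro ⟨a, b⟩ _
    have e : (std_finite hI).toFinset.filter (fun β : Fin 3 →₀ ℕ => (β x, β y) = (a, b)) =
        (Finset.range (hh I x y a b)).image (fun c => E x y a b c) := by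
      ext β
      rw [Finset.mem_filter, Finset.mem_image, hS]
      constructor
      · rintro ⟨hβ, hab⟩
        have ha : β x = a := congrArg Prod.fst hab
        have hb : β y = b := congrArg Prod.snd hab
        refine ⟨β z, ?_, ?_⟩
        · rw [Finset.mem_range]
          rw [eq_E T β, E_mem_iff hI T, ha, hb] at hβ
          omega
        · rw [← ha, ← hb]; exact (eq_E T β).symm
      · rintro ⟨c, hc, rfl⟩
        rw [E_mem_iff hI T, E_x, E_y T]
        exact ⟨by have := Finset.mem_range.mp hc; omega, rfl⟩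
    show _ = hh I x y a b
    rw [e, Finset.card_image_of_injective, Finset.card_range]
    intro c c' e'
    have := DFunLike.congr_fun e' z
    rwa [E_z T, E_z T] at this
  rw [Finset.card_eq_sum_card_fiberwise (f := fun β : Fin 3 →₀ ℕ => (β x, β y)) (t := box N) hmaps]
  exact Finset.sum_congr rfl hfib

/-- duality for the sign pieces -/
theorem sig_duality :
    Module.finrank k ↥(sigPiece I ({z} : Set (Fin 3))) =
      Module.finrank k ↥(sigPiece I ({z}ᶜ : Set (Fin 3))) +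
        Module.finrank k (MvPolynomial (Fin 3) k ⧸ I) := by
  obtain ⟨N, H, B⟩ := exists_bd hI T
  rw [finrank_sig1 hI T B, finrank_sig2 hI T B, colength_eq hI T B.hN, ← Finset.sum_add_distrib]
  refine Finset.sum_congr rfl fun q _ => ?_
  rw [dual_sum hI T q.1 q.2 B, add_comm]

/-- a finite set containing the multidegrees of the given two sign patterns with nonzero piece -/
lemma exists_finset_tri : ∃ S : Finset (Fin 3 → ℤ), ∀ α : Fin 3 → ℤ, tPiece I α ≠ ⊥ →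
    ((0 ≤ α x ∧ 0 ≤ α y ∧ α z < 0) ∨ (α x < 0 ∧ α y < 0 ∧ 0 ≤ α z)) → α ∈ S := by
  classical
  obtain ⟨N, H, B⟩ := exists_bd hI T
  refine ⟨((box N ×ˢ Finset.Icc 1 H).image (fun p : (ℕ × ℕ) × ℕ => al1 x y p.1.1 p.1.2 p.2)) ∪
    ((box N ×ˢ Finset.Icc 1 H).image (fun p : (ℕ × ℕ) × ℕ => al2 x y p.1.1 p.1.2 p.2)), ?_⟩
  intro α hne hα
  rw [Finset.mem_union]
  rcases hα with ⟨hx, hy, hz⟩ | ⟨hx, hy, hz⟩
  · left
    obtain ⟨a, b, t, ha, hb, ht1, ht2, e⟩ := mem_of_ne_bot1 hI T B hx hy hz hne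
    exact Finset.mem_image.mpr ⟨((a, b), t), Finset.mem_product.mpr ⟨mem_box.mpr ⟨ha, hb⟩,
      Finset.mem_Icc.mpr ⟨ht1, ht2⟩⟩, e.symm⟩
  · right
    obtain ⟨a, b, t, ha, hb, ht1, ht2, e⟩ := mem_of_ne_bot2 hI T B hx hy hz hne
    exact Finset.mem_image.mpr ⟨((a, b), t), Finset.mem_product.mpr ⟨mem_box.mpr ⟨ha, hb⟩,
      Finset.mem_Icc.mpr ⟨ht1, ht2⟩⟩, e.symm⟩

end total

section whole

variable (hI : IsMonomial I) [Module.Finite k (MvPolynomial (Fin 3) k ⧸ I)]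
include hI

/-- finitely many graded pieces are nonzero -/
theorem exists_finset_ne_bot : ∃ S : Finset (Fin 3 → ℤ), ∀ α, tPiece I α ≠ ⊥ → α ∈ S := by
  classical
  have T2 : Tri (0 : Fin 3) 1 2 := ⟨by decide, by decide, by decide⟩
  have T0 : Tri (1 : Fin 3) 2 0 := ⟨by decide, by decide, by decide⟩
  have T1 : Tri (2 : Fin 3) 0 1 := ⟨by decide, by decide, by decide⟩
  obtain ⟨S2, h2⟩ := exists_finset_tri hI T2
  obtain ⟨S0, h0⟩ := exists_finset_tri hI T0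
  obtain ⟨S1, h1⟩ := exists_finset_tri hI T1
  refine ⟨S2 ∪ S0 ∪ S1, fun α hne => ?_⟩
  rw [Finset.mem_union, Finset.mem_union]
  by_cases a0 : α 0 < 0 <;> by_cases a1 : α 1 < 0 <;> by_cases a2 : α 2 < 0
  · exfalso
    apply hne
    refine tPiece_eq_bot_of_neg hI (a := (0 : Fin 3)) (b := 1) (by decide) fun w => ?_
    rcases T2.cover w with hw | hw | hw <;> rw [hw] <;> assumption
  · exact Or.inl (Or.inl (h2 α hne (Or.inr ⟨a0, a1, not_lt.mp a2⟩)))
  · exact Or.inr (h1 α hne (Or.inr ⟨a2, a0, not_lt.mp a1⟩))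
  · exact Or.inl (Or.inr (h0 α hne (Or.inl ⟨not_lt.mp a1, not_lt.mp a2, a0⟩)))
  · exact Or.inl (Or.inr (h0 α hne (Or.inr ⟨a1, a2, not_lt.mp a0⟩)))
  · exact Or.inr (h1 α hne (Or.inl ⟨not_lt.mp a2, not_lt.mp a0, a1⟩))
  · exact Or.inl (Or.inl (h2 α hne (Or.inl ⟨not_lt.mp a0, not_lt.mp a1, a2⟩)))
  · exfalso
    apply hne
    refine tPiece_eq_bot_of_nonneg hI fun w => ?_
    rcases T2.cover w with hw | hw | hw <;> rw [hw]
    · exact not_lt.mp a0
    · exact not_lt.mp a1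
    · exact not_lt.mp a2

theorem finrank_sig_eq_sum (S : Finset (Fin 3 → ℤ)) (hS : ∀ α, tPiece I α ≠ ⊥ → α ∈ S)
    (Nn : Set (Fin 3)) (s' : Finset (Fin 3 → ℤ))
    (hs' : ∀ α, α ∈ s' ↔ α ∈ S ∧ ∀ w, α w < 0 ↔ w ∈ Nn) :
    Module.finrank k ↥(sigPiece I Nn) = ∑ α ∈ s', Module.finrank k ↥(tPiece I α) :=
  finrank_iSup_subtype hI (fun α => ∀ w, α w < 0 ↔ w ∈ Nn) s'
    (fun α hα hne => (hs' α).mpr ⟨hS α hne, hα⟩) (fun α hα => ((hs' α).mp hα).2)

theorem finrank_tgt_eq_sum (S : Finset (Fin 3 → ℤ)) (hS : ∀ α, tPiece I α ≠ ⊥ → α ∈ S) :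
    Module.finrank k (Tgt I) = ∑ α ∈ S, Module.finrank k ↥(tPiece I α) := by
  have h1 := finrank_iSup_subtype hI (fun _ : Fin 3 → ℤ => True) S (fun α _ h => hS α h)
    (fun α _ => trivial)
  have h2 : (⨆ α : {α : Fin 3 → ℤ // True}, tPiece I α.1) = ⊤ := by
    rw [eq_top_iff, ← iSup_tPiece_eq_top hI]
    exact iSup_le fun α => le_iSup (fun α : {α : Fin 3 → ℤ // True} => tPiece I α.1) ⟨α, trivial⟩
  rw [h2, finrank_top] at h1
  exact h1

end whole

end Groth.Agent.H43.HilbT
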