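import Mathlib

set_option linter.unusedVariables false
set_option linter.unusedSectionVars false
set_option linter.style.longLine false
set_option linter.unusedSimpArgs false

/-! Numerical lemmas on staircases `h : ℕ → ℕ → ℕ` satisfying the inequalities of a strongly
stable ideal: the first moment `∑ a · s(a)` of the slice sums is maximal for the staircase of a
power of the maximal ideal. Also some binomial sums. -/

namespace Groth.Agent.H43.HilbN

open Finset

lemma ch_congr {a a' b b' : ℕ} (h1 : a = a') (h2 : b = b') : Nat.choose a b = Nat.choose a' b' := by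
  rw [h1, h2]

lemma ch_succ' {n c n' c' : ℕ} (hn : n' = n + 1) (hc : c' = c + 1) :
    Nat.choose n' c' = Nat.choose n c + Nat.choose n c' := by
  subst hn hc
  exact Nat.choose_succ_succ' n c

lemma tel_nat (f : ℕ → ℕ) (hf : ∀ b, f (b + 1) ≤ f b) (N : ℕ) :
    ∑ b ∈ range N, (f b - f (b + 1)) = f 0 - f N := by
  have hmono : ∀ n, f n ≤ f 0 := by
    intro n
    induction n with
    | zero => exact le_rfl
    | succ m ihm => exact le_trans (hf m) ihm
  induction N with
  | zero => rw [Finset.sum_range_zero, Nat.sub_self]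
  | succ n ih =>
    rw [Finset.sum_range_succ, ih]
    have h1 := hmono n
    have h2 := hf n
    omega

lemma gauss_le (l N : ℕ) : ∑ b ∈ range N, (l - b) ≤ Nat.choose (l + 1) 2 := by
  induction l generalizing N with
  | zero =>
    have : ∑ b ∈ range N, (0 - b) = 0 := Finset.sum_eq_zero fun b _ => Nat.zero_sub b
    rw [this]
    exact Nat.zero_le _
  | succ l ih =>
    cases N with
    | zero => rw [Finset.sum_range_zero]; exact Nat.zero_le _
    | succ n =>
      rw [Finset.sum_range_succ']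
      have e : ∑ b ∈ range n, (l + 1 - (b + 1)) = ∑ b ∈ range n, (l - b) :=
        Finset.sum_congr rfl fun b _ => by omega
      have h := ih n
      have c : Nat.choose (l + 1 + 1) 2 = Nat.choose (l + 1) 1 + Nat.choose (l + 1) 2 :=
        ch_succ' (by omega) (by omega)
      rw [Nat.choose_one_right] at c
      omega

lemma gauss_eq (l N : ℕ) (hl : l ≤ N) : ∑ b ∈ range N, (l - b) = Nat.choose (l + 1) 2 := by
  induction l generalizing N with
  | zero =>
    have : ∑ b ∈ range N, (0 - b) = 0 := Finset.sum_eq_zero fun b _ => Nat.zero_sub b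
    rw [this]
    exact (Nat.choose_eq_zero_of_lt (by omega)).symm
  | succ l ih =>
    cases N with
    | zero => omega
    | succ n =>
      rw [Finset.sum_range_succ']
      have e : ∑ b ∈ range n, (l + 1 - (b + 1)) = ∑ b ∈ range n, (l - b) :=
        Finset.sum_congr rfl fun b _ => by omega
      have h := ih n (by omega)
      have c : Nat.choose (l + 1 + 1) 2 = Nat.choose (l + 1) 1 + Nat.choose (l + 1) 2 :=
        ch_succ' (by omega) (by omega)
      rw [Nat.choose_one_right] at c
      omega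

lemma hock (c n N : ℕ) (h : n ≤ N) :
    ∑ a ∈ range N, Nat.choose (n - a + c) (c + 1) = Nat.choose (n + c + 1) (c + 2) := by
  induction n generalizing N with
  | zero =>
    have e : ∑ a ∈ range N, Nat.choose (0 - a + c) (c + 1) = 0 :=
      Finset.sum_eq_zero fun a _ => Nat.choose_eq_zero_of_lt (by omega)
    rw [e]
    exact (Nat.choose_eq_zero_of_lt (by omega)).symm
  | succ l ih =>
    cases N with
    | zero => omega
    | succ m =>
      rw [Finset.sum_range_succ']
      have e : ∑ a ∈ range m, Nat.choose (l + 1 - (a + 1) + c) (c + 1) =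
          ∑ a ∈ range m, Nat.choose (l - a + c) (c + 1) :=
        Finset.sum_congr rfl fun a _ => ch_congr (by omega) rfl
      have h' := ih m (by omega)
      have e2 : Nat.choose (l + 1 - 0 + c) (c + 1) = Nat.choose (l + c + 1) (c + 1) :=
        ch_congr (by omega) rfl
      have c' : Nat.choose (l + 1 + c + 1) (c + 2) =
          Nat.choose (l + c + 1) (c + 1) + Nat.choose (l + c + 1) (c + 2) :=
        ch_succ' (by omega) (by omega)
      omega

lemma bnd_eq (r N : ℕ) (h : r ≤ N) :
    ∑ i ∈ range N, Nat.choose (r - (i + 1) + 2) 3 = Nat.choose (r + 2) 4 := by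
  cases r with
  | zero =>
    have e : ∑ i ∈ range N, Nat.choose (0 - (i + 1) + 2) 3 = 0 :=
      Finset.sum_eq_zero fun i _ => Nat.choose_eq_zero_of_lt (by omega)
    rw [e]
    exact (Nat.choose_eq_zero_of_lt (by omega)).symm
  | succ r' =>
    have e : ∑ i ∈ range N, Nat.choose (r' + 1 - (i + 1) + 2) 3 =
        ∑ i ∈ range N, Nat.choose (r' - i + 2) (2 + 1) :=
      Finset.sum_congr rfl fun i _ => ch_congr (by omega) (by omega)
    have h2 := hock 2 r' N (by omega)
    exact (e.trans h2).trans (ch_congr (by omega) (by omega))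

lemma tetra_eq (n N1 N2 : ℕ) (h1 : n ≤ N1) (h2 : n ≤ N2) :
    ∑ a ∈ range N1, ∑ b ∈ range N2, (n - a - b) = Nat.choose (n + 2) 3 := by
  have e : ∑ a ∈ range N1, ∑ b ∈ range N2, (n - a - b) =
      ∑ a ∈ range N1, Nat.choose (n - a + 1) (1 + 1) :=
    Finset.sum_congr rfl fun a _ =>
      (gauss_eq (n - a) N2 (by omega)).trans (ch_congr (by omega) (by omega))
  exact (e.trans (hock 1 n N1 h1)).trans (ch_congr (by omega) (by omega))

/-! ### closed forms -/

lemma two_choose (n : ℕ) : 2 * Nat.choose (n + 1) 2 = (n + 1) * n := by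
  induction n with
  | zero => decide
  | succ n ih =>
    have c : Nat.choose (n + 1 + 1) 2 = Nat.choose (n + 1) 1 + Nat.choose (n + 1) 2 :=
      ch_succ' (by omega) (by omega)
    rw [Nat.choose_one_right] at c
    rw [c, mul_add, ih]
    ring

lemma six_choose (n : ℕ) : 6 * Nat.choose (n + 2) 3 = (n + 2) * (n + 1) * n := by
  induction n with
  | zero => decide
  | succ n ih =>
    have c : Nat.choose (n + 1 + 2) 3 = Nat.choose (n + 2) 2 + Nat.choose (n + 2) 3 :=
      ch_succ' (by omega) (by omega)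
    have t := two_choose (n + 1)
    have t' : 2 * Nat.choose (n + 2) 2 = (n + 2) * (n + 1) := t
    rw [c, mul_add, ih]
    have : 6 * Nat.choose (n + 2) 2 = 3 * ((n + 2) * (n + 1)) := by rw [← t']; ring
    rw [this]
    ring

lemma tf_choose (n : ℕ) : 24 * Nat.choose (n + 3) 4 = (n + 3) * (n + 2) * (n + 1) * n := by
  induction n with
  | zero => decide
  | succ n ih =>
    have c : Nat.choose (n + 1 + 3) 4 = Nat.choose (n + 3) 3 + Nat.choose (n + 3) 4 :=
      ch_succ' (by omega) (by omega)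
    have t := six_choose (n + 1)
    have t' : 6 * Nat.choose (n + 3) 3 = (n + 3) * (n + 2) * (n + 1) := t
    rw [c, mul_add, ih]
    have : 24 * Nat.choose (n + 3) 3 = 4 * ((n + 3) * (n + 2) * (n + 1)) := by rw [← t']; ring
    rw [this]
    ring

lemma three_mul (r : ℕ) :
    3 * (Nat.choose (r + 3) 4 + Nat.choose (r + 2) 4) =
      Nat.choose (r + 2) 2 * Nat.choose (r + 1) 2 := by
  cases r with
  | zero => decide
  | succ s =>
    have a1 := tf_choose (s + 1)
    have a1' : 24 * Nat.choose (s + 1 + 3) 4 = (s + 4) * (s + 3) * (s + 2) * (s + 1) := a1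
    have a2 : 24 * Nat.choose (s + 1 + 2) 4 = (s + 3) * (s + 2) * (s + 1) * s := tf_choose s
    have b1 : 2 * Nat.choose (s + 1 + 2) 2 = (s + 3) * (s + 2) := two_choose (s + 2)
    have b2 : 2 * Nat.choose (s + 1 + 1) 2 = (s + 2) * (s + 1) := two_choose (s + 1)
    have key : 24 * (3 * (Nat.choose (s + 1 + 3) 4 + Nat.choose (s + 1 + 2) 4)) =
        24 * (Nat.choose (s + 1 + 2) 2 * Nat.choose (s + 1 + 1) 2) := by
      have e1 : 24 * (3 * (Nat.choose (s + 1 + 3) 4 + Nat.choose (s + 1 + 2) 4)) =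
          3 * (24 * Nat.choose (s + 1 + 3) 4 + 24 * Nat.choose (s + 1 + 2) 4) := by ring
      have e2 : 24 * (Nat.choose (s + 1 + 2) 2 * Nat.choose (s + 1 + 1) 2) =
          6 * ((2 * Nat.choose (s + 1 + 2) 2) * (2 * Nat.choose (s + 1 + 1) 2)) := by ring
      rw [e1, e2, a1', a2, b1, b2]
      ring
    exact Nat.eq_of_mul_eq_mul_left (by norm_num) key

/-! ### the extremal property -/

/-- the inequalities satisfied by the staircase of a strongly stable ideal -/
structure SS (h : ℕ → ℕ → ℕ) (N : ℕ) : Prop where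
  hN : ∀ a b, (N ≤ a ∨ N ≤ b) → h a b = 0
  anti : ∀ a b a' b', a ≤ a' → b ≤ b' → h a' b' ≤ h a b
  p1 : ∀ a b, 1 ≤ h a b → h a (b + 1) + 1 ≤ h a b
  p2 : ∀ a b, h (a + 1) b ≤ h a (b + 1)
  p3 : ∀ a b, 1 ≤ h a b → h (a + 1) b + 1 ≤ h a b

/-- slice sums -/
def sl (h : ℕ → ℕ → ℕ) (N A : ℕ) : ℕ := ∑ b ∈ range N, h A b

/-- tail sums of the slice sums -/
def Dd (h : ℕ → ℕ → ℕ) (N j : ℕ) : ℕ := ∑ a ∈ range N, sl h N (a + j)

section ext
variable {h : ℕ → ℕ → ℕ} {N : ℕ} (S : SS h N)
include S

lemma sl_zero {A : ℕ} (hA : N ≤ A) : sl h N A = 0 :=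
  Finset.sum_eq_zero fun b _ => S.hN A b (Or.inl hA)

lemma Dd_succ (j : ℕ) : Dd h N j = sl h N j + Dd h N (j + 1) := by
  have e1 : ∑ a ∈ range (N + 1), sl h N (a + j) = Dd h N j + sl h N (N + j) :=
    Finset.sum_range_succ (fun a => sl h N (a + j)) N
  have e2 : ∑ a ∈ range (N + 1), sl h N (a + j) =
      ∑ a ∈ range N, sl h N (a + 1 + j) + sl h N (0 + j) :=
    Finset.sum_range_succ' (fun a => sl h N (a + j)) N
  have e3 : ∑ a ∈ range N, sl h N (a + 1 + j) = Dd h N (j + 1) := by
    unfold Dd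
    exact Finset.sum_congr rfl fun a _ => by
      have : a + 1 + j = a + (j + 1) := by omega
      rw [this]
  have e4 : sl h N (N + j) = 0 := sl_zero S (by omega)
  have e5 : sl h N (0 + j) = sl h N j := by rw [Nat.zero_add]
  omega

lemma col_le (A b : ℕ) : h A b ≤ h A 0 - b := by
  induction b with
  | zero => omega
  | succ b ih =>
    by_cases h0 : h A (b + 1) = 0
    · omega
    · have h1 := S.anti A b A (b + 1) le_rfl (by omega)
      have h2 := S.p1 A b (by omega)
      omega

lemma sl_le_choose (A : ℕ) : sl h N A ≤ Nat.choose (h A 0 + 1) 2 := by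
  unfold sl
  exact le_trans (Finset.sum_le_sum fun b _ => col_le S A b) (gauss_le (h A 0) N)

lemma sl_step (A : ℕ) (hpos : 1 ≤ sl h N (A + 1)) :
    sl h N (A + 1) + h (A + 1) 0 + 1 ≤ sl h N A := by
  have hp : 1 ≤ h (A + 1) 0 := by
    by_contra hc
    have h0 : sl h N (A + 1) = 0 := Finset.sum_eq_zero fun b _ => by
      show h (A + 1) b = 0
      have := S.anti (A + 1) 0 (A + 1) b le_rfl (Nat.zero_le b)
      omega
    omega
  have hA0 := S.anti A 0 (A + 1) 0 (by omega) le_rfl
  have h3 := S.p3 A 0 (by omega)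
  have e1 : ∑ b ∈ range (N + 1), h A b = sl h N A + h A N :=
    Finset.sum_range_succ (fun b => h A b) N
  have e2 : ∑ b ∈ range (N + 1), h A b = ∑ b ∈ range N, h A (b + 1) + h A 0 :=
    Finset.sum_range_succ' (fun b => h A b) N
  have e3 : sl h N (A + 1) ≤ ∑ b ∈ range N, h A (b + 1) :=
    Finset.sum_le_sum fun b _ => S.p2 A b
  have e4 : h A N = 0 := S.hN A N (Or.inr le_rfl)
  omega

lemma sl_anti (A : ℕ) : sl h N (A + 1) ≤ sl h N A := by
  by_cases hpos : 1 ≤ sl h N (A + 1)
  · have := sl_step S A hpos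
    omega
  · omega

lemma sl_zero_of_zero {j : ℕ} (hj : sl h N j = 0) (a : ℕ) : sl h N (a + j) = 0 := by
  induction a with
  | zero => rw [Nat.zero_add]; exact hj
  | succ a ih =>
    have h1 := sl_anti S (a + j)
    have e : a + 1 + j = a + j + 1 := by omega
    rw [e]
    omega

lemma s_step (l j : ℕ) (hs : sl h N j ≤ Nat.choose (l + 1 + 1) 2) :
    sl h N (j + 1) ≤ Nat.choose (l + 1) 2 := by
  by_cases h0 : sl h N (j + 1) = 0
  · omega
  · have f1 := sl_step S j (by omega)
    have f2 := sl_le_choose S (j + 1)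
    have c : Nat.choose (l + 1 + 1) 2 = Nat.choose (l + 1) 1 + Nat.choose (l + 1) 2 :=
      ch_succ' (by omega) (by omega)
    rw [Nat.choose_one_right] at c
    by_cases hu : h (j + 1) 0 ≤ l
    · have := Nat.choose_le_choose 2 (show h (j + 1) 0 + 1 ≤ l + 1 by omega)
      omega
    · omega

lemma Dd_le_of_sl (l : ℕ) :
    ∀ j, sl h N j ≤ Nat.choose (l + 1) 2 → Dd h N j ≤ Nat.choose (l + 2) 3 := by
  induction l with
  | zero =>
    intro j hs
    have c0 : Nat.choose (0 + 1) 2 = 0 := Nat.choose_eq_zero_of_lt (by omega)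
    have hz := sl_zero_of_zero S (j := j) (by omega)
    have : Dd h N j = 0 := Finset.sum_eq_zero fun a _ => hz a
    omega
  | succ l ih =>
    intro j hs
    have s1 := s_step S l j hs
    have d1 := ih (j + 1) s1
    have e := Dd_succ S j
    have c : Nat.choose (l + 1 + 2) 3 = Nat.choose (l + 2) 2 + Nat.choose (l + 2) 3 :=
      ch_succ' (by omega) (by omega)
    have c2 : Nat.choose (l + 1 + 1) 2 = Nat.choose (l + 2) 2 := ch_congr (by omega) rfl
    omega

lemma Dd_step (n j : ℕ) (hD : Dd h N j ≤ Nat.choose (n + 3) 3) :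
    Dd h N (j + 1) ≤ Nat.choose (n + 2) 3 := by
  have e := Dd_succ S j
  have c : Nat.choose (n + 3) 3 = Nat.choose (n + 2) 2 + Nat.choose (n + 2) 3 :=
    ch_succ' (by omega) (by omega)
  by_cases hs : Nat.choose (n + 2) 2 ≤ sl h N j
  · omega
  · have hs' : sl h N j ≤ Nat.choose (n + 1 + 1) 2 := by
      have : Nat.choose (n + 1 + 1) 2 = Nat.choose (n + 2) 2 := ch_congr (by omega) rfl
      omega
    exact Dd_le_of_sl S n (j + 1) (s_step S n j hs')

lemma Dd_le (r : ℕ) (hD : Dd h N 0 = Nat.choose (r + 2) 3) (j : ℕ) :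
    Dd h N j ≤ Nat.choose (r - j + 2) 3 := by
  induction j with
  | zero => exact le_of_eq (hD.trans (ch_congr (by omega) rfl))
  | succ j ih =>
    by_cases hj : r ≤ j
    · have c0 : Nat.choose (r - j + 2) 3 = 0 := Nat.choose_eq_zero_of_lt (by omega)
      have := Dd_succ S j
      omega
    · obtain ⟨n, hn⟩ : ∃ n, r - j = n + 1 := ⟨r - j - 1, by omega⟩
      have ih' : Dd h N j ≤ Nat.choose (n + 3) 3 := by
        have : Nat.choose (r - j + 2) 3 = Nat.choose (n + 3) 3 := ch_congr (by omega) rfl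
        omega
      have := Dd_step S n j ih'
      have e : Nat.choose (r - (j + 1) + 2) 3 = Nat.choose (n + 2) 3 := ch_congr (by omega) rfl
      omega

theorem extremal (r : ℕ) (hr : r ≤ N) (hD : Dd h N 0 = Nat.choose (r + 2) 3) :
    ∑ i ∈ range N, Dd h N (i + 1) ≤ Nat.choose (r + 2) 4 ∧
    (∑ i ∈ range N, Dd h N (i + 1) = Nat.choose (r + 2) 4 → 1 ≤ r → 1 ≤ h (r - 1) 0) := by
  have hle : ∀ i ∈ range N, Dd h N (i + 1) ≤ Nat.choose (r - (i + 1) + 2) 3 :=
    fun i _ => Dd_le S r hD (i + 1)
  have hb := bnd_eq r N hr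
  refine ⟨le_trans (Finset.sum_le_sum hle) (le_of_eq hb), fun heq hr1 => ?_⟩
  have heq' : ∑ i ∈ range N, Dd h N (i + 1) = ∑ i ∈ range N, Nat.choose (r - (i + 1) + 2) 3 :=
    heq.trans hb.symm
  have hall := (Finset.sum_eq_sum_iff_of_le hle).mp heq'
  have hD1 : 1 ≤ Dd h N (r - 1) := by
    by_cases h1 : r = 1
    · have e : Dd h N (r - 1) = Dd h N 0 := by
        have : r - 1 = 0 := by omega
        rw [this]
      have c : Nat.choose (r + 2) 3 = 1 :=
        (ch_congr (a' := 3) (b' := 3) (by omega) rfl).trans (Nat.choose_self 3)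
      omega
    · have hi : r - 2 ∈ range N := Finset.mem_range.mpr (by omega)
      have e1 := hall (r - 2) hi
      have e2 : Nat.choose (r - (r - 2 + 1) + 2) 3 = 1 :=
        (ch_congr (a' := 3) (b' := 3) (by omega) rfl).trans (Nat.choose_self 3)
      have e3 : Dd h N (r - 2 + 1) = Dd h N (r - 1) := by
        have : r - 2 + 1 = r - 1 := by omega
        rw [this]
      omega
  have hs : 1 ≤ sl h N (r - 1) := by
    by_contra hc
    have hz := sl_zero_of_zero S (j := r - 1) (by omega)
    have : Dd h N (r - 1) = 0 := Finset.sum_eq_zero fun a _ => hz a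
    omega
  by_contra hc
  have : sl h N (r - 1) = 0 := Finset.sum_eq_zero fun b _ => by
    show h (r - 1) b = 0
    have := S.anti (r - 1) 0 (r - 1) b le_rfl (Nat.zero_le b)
    omega
  omega

end ext

end Groth.Agent.H43.HilbN
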