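import Groth.Agent.H43.HilbD3
import Groth.Agent.H43.HilbN

set_option linter.unusedVariables false
set_option linter.unusedSectionVars false
set_option linter.style.longLine false
set_option linter.unusedSimpArgs false

/-! Bounds for the dimension of the space `Z1` of the planar duality by counting special and
isolated faces; consequences for the pieces of sign pattern `{z}ᶜ` of `T(I)` in three variables,
and the inequalities satisfied by the staircase of a strongly stable ideal. -/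

noncomputable section

namespace Groth.Agent.H43.HilbT

open W4c1hilbpn MvPolynomial
open Groth.Agent.H43.HilbD Groth.Agent.H43.HilbN

variable {k : Type*} [Field k] {I : Ideal (MvPolynomial (Fin 3) k)}

/-! ### special and isolated faces -/

section planar

variable {m κ : ℕ → ℕ → ℤ} {N : ℕ}

/-- special faces: missing faces whose lower and left edges are present -/
def SpF (m κ : ℕ → ℕ → ℤ) (N : ℕ) : Finset (ℕ × ℕ) :=
  (box N).filter fun q => κ (q.1 + 1) (q.2 + 1) ≤ m q.1 q.2 ∧ ¬ κ (q.1 + 1) q.2 ≤ m q.1 q.2 ∧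
    ¬ κ q.1 (q.2 + 1) ≤ m q.1 q.2

/-- isolated faces: missing faces all of whose edges are present -/
def IsoF (m κ : ℕ → ℕ → ℤ) (N : ℕ) : Finset (ℕ × ℕ) :=
  (box N).filter fun q => κ (q.1 + 1) (q.2 + 1) ≤ m q.1 q.2 ∧ ¬ κ (q.1 + 1) q.2 ≤ m q.1 q.2 ∧
    ¬ κ q.1 (q.2 + 1) ≤ m q.1 q.2 ∧ ¬ κ (q.1 + 1) (q.2 + 1) ≤ m q.1 (q.2 + 1) ∧
    ¬ κ (q.1 + 1) (q.2 + 1) ≤ m (q.1 + 1) q.2

lemma mem_SpF {a b : ℕ} : (a, b) ∈ SpF m κ N ↔ ((a, b) ∈ box N ∧ (κ (a + 1) (b + 1) ≤ m a b ∧
    ¬ κ (a + 1) b ≤ m a b ∧ ¬ κ a (b + 1) ≤ m a b)) := Finset.mem_filter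

lemma mem_IsoF {a b : ℕ} : (a, b) ∈ IsoF m κ N ↔ ((a, b) ∈ box N ∧ (κ (a + 1) (b + 1) ≤ m a b ∧
    ¬ κ (a + 1) b ≤ m a b ∧ ¬ κ a (b + 1) ≤ m a b ∧ ¬ κ (a + 1) (b + 1) ≤ m a (b + 1) ∧
    ¬ κ (a + 1) (b + 1) ≤ m (a + 1) b)) := Finset.mem_filter

lemma ext0_add' {ι : Type*} [DecidableEq ι] (S : Finset ι) (u v : ↥S → k) (x : ι) :
    ext0 S (u + v) x = ext0 S u x + ext0 S v x := by
  unfold ext0
  split_ifs with h
  · rfl
  · rw [add_zero]

lemma ext0_smul' {ι : Type*} [DecidableEq ι] (S : Finset ι) (c : k) (u : ↥S → k) (x : ι) :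
    ext0 S (c • u) x = c • ext0 S u x := by
  unfold ext0
  split_ifs with h
  · rfl
  · rw [smul_zero]

variable (k)

lemma Z1_eq_zero_of_SpF (H : Hyp m κ N) {ψ : ℕ → ℕ → k} (hψ : ψ ∈ Z1 k m κ)
    (h0 : ∀ a b, (a, b) ∈ SpF m κ N → ψ a b = 0) : ψ = 0 := by
  obtain ⟨g1, g2, g3, g4, g5⟩ := hψ
  have key : ∀ n a b, a + b = n → ψ a b = 0 := by
    intro n
    induction n using Nat.strong_induction_on with
    | _ n ih =>
      intro a b hab
      by_cases hf : κ (a + 1) (b + 1) ≤ m a b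
      · by_cases hx : κ (a + 1) b ≤ m a b
        · cases b with
          | zero => exact g3 a hx
          | succ b' =>
            rw [g2 a b' hx]
            exact ih (a + b') (by omega) a b' rfl
        · by_cases hy : κ a (b + 1) ≤ m a b
          · cases a with
            | zero => exact g5 b hy
            | succ a' =>
              rw [g4 a' b hy]
              exact ih (a' + b) (by omega) a' b rfl
          · have hin := H.inbox (le_trans (H.k0 (a + 1) (b + 1)) hf)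
            exact h0 a b (mem_SpF.mpr ⟨mem_box.mpr hin, hf, hx, hy⟩)
      · exact g1 a b hf
  funext a b
  exact key (a + b) a b rfl

/-- restriction to the special faces -/
def resSp (m κ : ℕ → ℕ → ℤ) (N : ℕ) : ↥(Z1 k m κ) →ₗ[k] (↥(SpF m κ N) → k) where
  toFun ψ q := ψ.1 q.1.1 q.1.2
  map_add' _ _ := rfl
  map_smul' _ _ := rfl

lemma finrank_Z1_le (H : Hyp m κ N) : Module.finrank k ↥(Z1 k m κ) ≤ (SpF m κ N).card := by
  have hinj : Function.Injective (resSp k m κ N) := by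
    intro ψ χ e
    have hz : (ψ - χ).1 = 0 := Z1_eq_zero_of_SpF k H (ψ - χ).2 (fun a b hq => by
      have h1 := congrFun e ⟨(a, b), hq⟩
      have h2 : ψ.1 a b = χ.1 a b := h1
      show ψ.1 a b - χ.1 a b = 0
      rw [h2, sub_self])
    exact sub_eq_zero.mp (Subtype.ext hz)
  have h1 := LinearMap.finrank_le_finrank_of_injective hinj
  rw [Module.finrank_fintype_fun_eq_card, Fintype.card_coe] at h1
  exact h1

lemma extIso_mem (u : ↥(IsoF m κ N) → k) :
    (fun a b => ext0 (IsoF m κ N) u (a, b)) ∈ Z1 k m κ := by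
  refine ⟨fun a b hn => ?_, fun a b hc => ?_, fun a hc => ?_, fun a b hc => ?_, fun b hc => ?_⟩
  · exact ext0_not_mem _ _ (fun hmem => hn (mem_IsoF.mp hmem).2.1)
  · have h1 : (a, b + 1) ∉ IsoF m κ N := fun hmem => (mem_IsoF.mp hmem).2.2.1 hc
    have h2 : (a, b) ∉ IsoF m κ N := fun hmem => (mem_IsoF.mp hmem).2.2.2.2.1 hc
    show ext0 _ u (a, b + 1) = ext0 _ u (a, b)
    rw [ext0_not_mem _ _ h1, ext0_not_mem _ _ h2]
  · have h1 : (a, 0) ∉ IsoF m κ N := fun hmem => (mem_IsoF.mp hmem).2.2.1 hc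
    exact ext0_not_mem _ _ h1
  · have h1 : (a + 1, b) ∉ IsoF m κ N := fun hmem => (mem_IsoF.mp hmem).2.2.2.1 hc
    have h2 : (a, b) ∉ IsoF m κ N := fun hmem => (mem_IsoF.mp hmem).2.2.2.2.2 hc
    show ext0 _ u (a + 1, b) = ext0 _ u (a, b)
    rw [ext0_not_mem _ _ h1, ext0_not_mem _ _ h2]
  · have h1 : (0, b) ∉ IsoF m κ N := fun hmem => (mem_IsoF.mp hmem).2.2.2.1 hc
    exact ext0_not_mem _ _ h1

/-- extension by zero from the isolated faces -/
def extIso (m κ : ℕ → ℕ → ℤ) (N : ℕ) : (↥(IsoF m κ N) → k) →ₗ[k] ↥(Z1 k m κ) where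
  toFun u := ⟨fun a b => ext0 (IsoF m κ N) u (a, b), extIso_mem k u⟩
  map_add' u v := by
    apply Subtype.ext
    funext a b
    exact ext0_add' (IsoF m κ N) u v (a, b)
  map_smul' c u := by
    apply Subtype.ext
    funext a b
    exact ext0_smul' (IsoF m κ N) c u (a, b)

lemma le_finrank_Z1 (H : Hyp m κ N) : (IsoF m κ N).card ≤ Module.finrank k ↥(Z1 k m κ) := by
  have hinj : Function.Injective (extIso k m κ N) := by
    intro u v e
    funext q
    have h1 : ext0 (IsoF m κ N) u (q.1.1, q.1.2) = ext0 (IsoF m κ N) v (q.1.1, q.1.2) :=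
      congrFun (congrFun (congrArg Subtype.val e) q.1.1) q.1.2
    have e1 : ((q.1.1, q.1.2) : ℕ × ℕ) = q.1 := rfl
    rw [e1, ext0_coe, ext0_coe] at h1
    exact h1
  haveI := finite_Z1 k H
  have h1 := LinearMap.finrank_le_finrank_of_injective hinj
  rw [Module.finrank_fintype_fun_eq_card, Fintype.card_coe] at h1
  exact h1

end planar

/-! ### bounds for the graded pieces -/

section bounds

variable (hI : IsMonomial I) [Module.Finite k (MvPolynomial (Fin 3) k ⧸ I)]
variable {x y z : Fin 3} (T : Tri x y z) (i j t : ℕ) {N : ℕ}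
include hI T

lemma finrank_al2_le (ht : 1 ≤ t) (Hy : Hyp (mmF I x y t) (kkF I x y i j) N) :
    Module.finrank k ↥(tPiece I (al2 x y i j t)) ≤
      (SpF (mmF I x y t) (kkF I x y i j) N).card := by
  rw [← finrank_RF hI, (equiv2 hI T i j t ht Hy).finrank_eq]
  exact finrank_Z1_le k Hy

lemma le_finrank_al2 (ht : 1 ≤ t) (Hy : Hyp (mmF I x y t) (kkF I x y i j) N) :
    (IsoF (mmF I x y t) (kkF I x y i j) N).card ≤
      Module.finrank k ↥(tPiece I (al2 x y i j t)) := by
  rw [← finrank_RF hI, (equiv2 hI T i j t ht Hy).finrank_eq]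
  exact le_finrank_Z1 k Hy

end bounds

/-! ### counting special faces over all heights -/

section count

lemma sum_card_SpF (N H : ℕ) (h : ℕ → ℕ → ℕ) (i j : ℕ)
    (hanti : ∀ a b a' b', a ≤ a' → b ≤ b' → h a' b' ≤ h a b) (hH : ∀ a b, h a b ≤ H)
    (hp2 : ∀ a b, h (a + 1) b ≤ h a (b + 1)) :
    ∑ t ∈ Finset.Icc 1 H, (SpF (mOf h t) (kOf h i j) N).card =
      ∑ q ∈ box N, (h (q.1 + 1 + i) (q.2 + j) - h (q.1 + 1 + i) (q.2 + 1 + j)) := by
  show ∑ t ∈ Finset.Icc 1 H, ((box N).filter (fun q : ℕ × ℕ =>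
      kOf h i j (q.1 + 1) (q.2 + 1) ≤ mOf h t q.1 q.2 ∧
      ¬ kOf h i j (q.1 + 1) q.2 ≤ mOf h t q.1 q.2 ∧
      ¬ kOf h i j q.1 (q.2 + 1) ≤ mOf h t q.1 q.2)).card = _
  have key := Finset.sum_card_bipartiteAbove_eq_sum_card_bipartiteBelow
    (s := Finset.Icc 1 H) (t := box N)
    (fun (t : ℕ) (q : ℕ × ℕ) => kOf h i j (q.1 + 1) (q.2 + 1) ≤ mOf h t q.1 q.2 ∧
      ¬ kOf h i j (q.1 + 1) q.2 ≤ mOf h t q.1 q.2 ∧
      ¬ kOf h i j q.1 (q.2 + 1) ≤ mOf h t q.1 q.2)
  refine key.trans (Finset.sum_congr rfl fun q _ => ?_)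
  have a1 := hanti q.1 q.2 (q.1 + 1 + i) (q.2 + j) (by omega) (by omega)
  have a3 := hanti (q.1 + 1 + i) (q.2 + j) (q.1 + 1 + i) (q.2 + 1 + j) (by omega) (by omega)
  have a5 := hH q.1 q.2
  have a6 : h (q.1 + 1 + i) (q.2 + j) ≤ h (q.1 + i) (q.2 + 1 + j) := by
    have := hp2 (q.1 + i) (q.2 + j)
    have e1 : q.1 + i + 1 = q.1 + 1 + i := by omega
    have e2 : q.2 + j + 1 = q.2 + 1 + j := by omega
    rw [e1, e2] at this
    exact this
  have e : (Finset.Icc 1 H).bipartiteBelow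
      (fun (t : ℕ) (q : ℕ × ℕ) => kOf h i j (q.1 + 1) (q.2 + 1) ≤ mOf h t q.1 q.2 ∧
        ¬ kOf h i j (q.1 + 1) q.2 ≤ mOf h t q.1 q.2 ∧
        ¬ kOf h i j q.1 (q.2 + 1) ≤ mOf h t q.1 q.2) q =
      Finset.Icc (h q.1 q.2 - h (q.1 + 1 + i) (q.2 + j) + 1)
        (h q.1 q.2 - h (q.1 + 1 + i) (q.2 + 1 + j)) := by
    ext t
    rw [Finset.mem_bipartiteBelow, Finset.mem_Icc, Finset.mem_Icc]
    simp only [mOf, kOf]
    omega
  rw [e, Nat.card_Icc]
  omega

lemma sum_SpF_total (N H : ℕ) (h : ℕ → ℕ → ℕ)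
    (hanti : ∀ a b a' b', a ≤ a' → b ≤ b' → h a' b' ≤ h a b)
    (hN : ∀ a b, (N ≤ a ∨ N ≤ b) → h a b = 0) (hH : ∀ a b, h a b ≤ H)
    (hp2 : ∀ a b, h (a + 1) b ≤ h a (b + 1)) :
    ∑ q ∈ box N, ∑ t ∈ Finset.Icc 1 H, (SpF (mOf h t) (kOf h q.1 q.2) N).card =
      ∑ i ∈ Finset.range N, Dd h N (i + 1) := by
  have inner : ∀ i j, ∑ t ∈ Finset.Icc 1 H, (SpF (mOf h t) (kOf h i j) N).card =
      ∑ a ∈ Finset.range N, h (a + 1 + i) j := by
    intro i j
    rw [sum_card_SpF N H h i j hanti hH hp2]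
    have e0 : ∑ q ∈ box N, (h (q.1 + 1 + i) (q.2 + j) - h (q.1 + 1 + i) (q.2 + 1 + j)) =
        ∑ a ∈ Finset.range N, ∑ b ∈ Finset.range N,
          (h (a + 1 + i) (b + j) - h (a + 1 + i) (b + 1 + j)) :=
      Finset.sum_product' (Finset.range N) (Finset.range N)
        (fun a b => h (a + 1 + i) (b + j) - h (a + 1 + i) (b + 1 + j))
    rw [e0]
    refine Finset.sum_congr rfl fun a _ => ?_
    have tl : ∑ b ∈ Finset.range N, (h (a + 1 + i) (b + j) - h (a + 1 + i) (b + 1 + j)) =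
        h (a + 1 + i) (0 + j) - h (a + 1 + i) (N + j) :=
      tel_nat (fun b => h (a + 1 + i) (b + j))
        (fun b => hanti (a + 1 + i) (b + j) (a + 1 + i) (b + 1 + j) le_rfl (by omega)) N
    have z : h (a + 1 + i) (N + j) = 0 := hN _ _ (Or.inr (by omega))
    have e1 : h (a + 1 + i) (0 + j) = h (a + 1 + i) j := by rw [Nat.zero_add]
    omega
  have e1 : ∑ q ∈ box N, ∑ t ∈ Finset.Icc 1 H, (SpF (mOf h t) (kOf h q.1 q.2) N).card =
      ∑ q ∈ box N, ∑ a ∈ Finset.range N, h (a + 1 + q.1) q.2 :=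
    Finset.sum_congr rfl fun q _ => inner q.1 q.2
  have e2 : ∑ q ∈ box N, ∑ a ∈ Finset.range N, h (a + 1 + q.1) q.2 =
      ∑ i ∈ Finset.range N, ∑ j ∈ Finset.range N, ∑ a ∈ Finset.range N, h (a + 1 + i) j :=
    Finset.sum_product' (Finset.range N) (Finset.range N)
      (fun i j => ∑ a ∈ Finset.range N, h (a + 1 + i) j)
  rw [e1, e2]
  refine Finset.sum_congr rfl fun i _ => ?_
  rw [Finset.sum_comm]
  unfold Dd sl
  refine Finset.sum_congr rfl fun a _ => ?_
  have e3 : a + 1 + i = a + (i + 1) := by omega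
  rw [e3]

end count

/-! ### the upper bound for the sign pattern `{z}ᶜ` -/

section upper

variable (hI : IsMonomial I) [Module.Finite k (MvPolynomial (Fin 3) k ⧸ I)]
variable {x y z : Fin 3} (T : Tri x y z) {N H : ℕ}
include hI T

theorem finrank_sig2_le (hp2 : ∀ a b, hh I x y (a + 1) b ≤ hh I x y a (b + 1))
    (B : Bd I x y N H) :
    Module.finrank k ↥(sigPiece I ({z}ᶜ : Set (Fin 3))) ≤
      ∑ i ∈ Finset.range N, Dd (hh I x y) N (i + 1) := by
  rw [finrank_sig2 hI T B]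
  have h1 : ∀ q ∈ box N,
      ∑ t ∈ Finset.Icc 1 H, Module.finrank k ↥(tPiece I (al2 x y q.1 q.2 t)) ≤
      ∑ t ∈ Finset.Icc 1 H, (SpF (mmF I x y t) (kkF I x y q.1 q.2) N).card := fun q _ =>
    Finset.sum_le_sum fun t ht => finrank_al2_le hI T q.1 q.2 t (Finset.mem_Icc.mp ht).1
      (hyp_mk hI T q.1 q.2 t B.hN (Finset.mem_Icc.mp ht).1)
  refine le_trans (Finset.sum_le_sum h1) (le_of_eq ?_)
  exact sum_SpF_total N H (hh I x y) (fun a b a' b' ha hb => hh_anti hI T ha hb) B.hN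
    (hh_le_of_bd hI T B) hp2

/-- the colength as `Dd` at `0` -/
lemma Dd_zero_eq (hN : ∀ a b, (N ≤ a ∨ N ≤ b) → hh I x y a b = 0) :
    Dd (hh I x y) N 0 = Module.finrank k (MvPolynomial (Fin 3) k ⧸ I) := by
  rw [colength_eq hI T hN]
  have e := Finset.sum_product' (Finset.range N) (Finset.range N) (fun a b => hh I x y a b)
  unfold Dd sl
  exact e.symm

omit hI [Module.Finite k (MvPolynomial (Fin 3) k ⧸ I)] in
lemma E_swap (a b c : ℕ) : E x y a b c = E x z a c b := by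
  have T' : Tri x z y := ⟨T.xz, T.xy, T.yz.symm⟩
  refine Finsupp.ext fun w => ?_
  rcases T.cover w with hw | hw | hw <;> rw [hw]
  · rw [E_x, E_x]
  · rw [E_y T, E_z T']
  · rw [E_z T, E_y T']

/-- the slice sums do not depend on the order of the last two labels -/
lemma sl_swap (hN : ∀ a b, (N ≤ a ∨ N ≤ b) → hh I x y a b = 0)
    (hN' : ∀ a b, (N ≤ a ∨ N ≤ b) → hh I x z a b = 0) (A : ℕ) :
    sl (hh I x y) N A = sl (hh I x z) N A := by
  classical
  have T' : Tri x z y := ⟨T.xz, T.xy, T.yz.symm⟩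
  have hle : ∀ b, hh I x y A b ≤ N := fun b => by
    rw [← E_mem_iff hI T]
    have h0 : E x z A N 0 ∈ exps I :=
      (E_mem_iff hI T' A N 0).mpr (le_of_eq (hN' A N (Or.inr le_rfl)))
    rw [← E_swap T] at h0
    exact exps_of_le h0 (E_le T le_rfl (Nat.zero_le b) le_rfl)
  have hle' : ∀ c, hh I x z A c ≤ N := fun c => by
    rw [← E_mem_iff hI T']
    have h0 : E x y A N 0 ∈ exps I :=
      (E_mem_iff hI T A N 0).mpr (le_of_eq (hN A N (Or.inr le_rfl)))
    rw [E_swap T] at h0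
    exact exps_of_le h0 (E_le T' le_rfl (Nat.zero_le c) le_rfl)
  have e1 : ∀ b, ((Finset.range N).filter (fun c => E x y A b c ∉ exps I)).card =
      hh I x y A b := by
    intro b
    have : (Finset.range N).filter (fun c => E x y A b c ∉ exps I) =
        Finset.range (hh I x y A b) := by
      ext c
      rw [Finset.mem_filter, Finset.mem_range, Finset.mem_range, E_mem_iff hI T]
      have := hle b
      omega
    rw [this, Finset.card_range]
  have e2 : ∀ c, ((Finset.range N).filter (fun b => E x y A b c ∉ exps I)).card =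
      hh I x z A c := by
    intro c
    have : (Finset.range N).filter (fun b => E x y A b c ∉ exps I) =
        Finset.range (hh I x z A c) := by
      ext b
      rw [Finset.mem_filter, Finset.mem_range, Finset.mem_range, E_swap T, E_mem_iff hI T']
      have := hle' c
      omega
    rw [this, Finset.card_range]
  have key := Finset.sum_card_bipartiteAbove_eq_sum_card_bipartiteBelow
    (s := Finset.range N) (t := Finset.range N) (fun (b c : ℕ) => E x y A b c ∉ exps I)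
  unfold sl
  calc ∑ b ∈ Finset.range N, hh I x y A b
      = ∑ b ∈ Finset.range N,
          ((Finset.range N).filter (fun c => E x y A b c ∉ exps I)).card :=
        Finset.sum_congr rfl fun b _ => (e1 b).symm
    _ = ∑ c ∈ Finset.range N,
          ((Finset.range N).filter (fun b => E x y A b c ∉ exps I)).card := key
    _ = ∑ c ∈ Finset.range N, hh I x z A c := Finset.sum_congr rfl fun c _ => e2 c

lemma Dd_swap (hN : ∀ a b, (N ≤ a ∨ N ≤ b) → hh I x y a b = 0)
    (hN' : ∀ a b, (N ≤ a ∨ N ≤ b) → hh I x z a b = 0) (j : ℕ) :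
    Dd (hh I x y) N j = Dd (hh I x z) N j := by
  unfold Dd
  exact Finset.sum_congr rfl fun a _ => sl_swap hI T hN hN' (a + j)

end upper

/-! ### strongly stable ideals -/

section moves

variable {x y z : Fin 3} (T : Tri x y z)
include T

lemma move_yx (a b c : ℕ) :
    E x y a (b + 1) c - Finsupp.single y 1 + Finsupp.single x 1 = E x y (a + 1) b c := by
  refine Finsupp.ext fun w => ?_
  rw [Finsupp.add_apply, Finsupp.tsub_apply, Finsupp.single_apply, Finsupp.single_apply]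
  rcases T.cover w with hw | hw | hw <;> rw [hw]
  · rw [E_x, E_x, if_neg T.xy.symm, if_pos rfl]; omega
  · rw [E_y T, E_y T, if_pos rfl, if_neg T.xy]; omega
  · rw [E_z T, E_z T, if_neg T.yz, if_neg T.xz]; omega

lemma move_zx (a b c : ℕ) :
    E x y a b (c + 1) - Finsupp.single z 1 + Finsupp.single x 1 = E x y (a + 1) b c := by
  refine Finsupp.ext fun w => ?_
  rw [Finsupp.add_apply, Finsupp.tsub_apply, Finsupp.single_apply, Finsupp.single_apply]
  rcases T.cover w with hw | hw | hw <;> rw [hw]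
  · rw [E_x, E_x, if_neg T.xz.symm, if_pos rfl]; omega
  · rw [E_y T, E_y T, if_neg T.yz.symm, if_neg T.xy]; omega
  · rw [E_z T, E_z T, if_pos rfl, if_neg T.xz]; omega

lemma move_zy (a b c : ℕ) :
    E x y a b (c + 1) - Finsupp.single z 1 + Finsupp.single y 1 = E x y a (b + 1) c := by
  refine Finsupp.ext fun w => ?_
  rw [Finsupp.add_apply, Finsupp.tsub_apply, Finsupp.single_apply, Finsupp.single_apply]
  rcases T.cover w with hw | hw | hw <;> rw [hw]
  · rw [E_x, E_x, if_neg T.xz.symm, if_neg T.xy.symm]; omega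
  · rw [E_y T, E_y T, if_neg T.yz.symm, if_pos rfl]; omega
  · rw [E_z T, E_z T, if_pos rfl, if_neg T.yz]; omega

end moves

section stable

variable (hS : IsStronglyStable I) [Module.Finite k (MvPolynomial (Fin 3) k ⧸ I)]
variable {x y z : Fin 3} (T : Tri x y z)
include hS T

omit [Module.Finite k (MvPolynomial (Fin 3) k ⧸ I)] in
lemma move_yx_mem (hxy : x < y) {a b c : ℕ} (h : E x y a (b + 1) c ∈ exps I) :
    E x y (a + 1) b c ∈ exps I := by
  have := hS.2 _ h x y hxy (by rw [E_y T]; omega)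
  rwa [move_yx T] at this

omit [Module.Finite k (MvPolynomial (Fin 3) k ⧸ I)] in
lemma move_zx_mem (hxz : x < z) {a b c : ℕ} (h : E x y a b (c + 1) ∈ exps I) :
    E x y (a + 1) b c ∈ exps I := by
  have := hS.2 _ h x z hxz (by rw [E_z T]; omega)
  rwa [move_zx T] at this

omit [Module.Finite k (MvPolynomial (Fin 3) k ⧸ I)] in
lemma move_zy_mem (hyz : y < z) {a b c : ℕ} (h : E x y a b (c + 1) ∈ exps I) :
    E x y a (b + 1) c ∈ exps I := by
  have := hS.2 _ h y z hyz (by rw [E_z T]; omega)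
  rwa [move_zy T] at this

omit [Module.Finite k (MvPolynomial (Fin 3) k ⧸ I)] in
lemma move_all (hxy : x < y) (hxz : x < z) :
    ∀ n a b c, b + c = n → E x y a b c ∈ exps I → E x y (a + b + c) 0 0 ∈ exps I := by
  intro n
  induction n with
  | zero =>
    intro a b c hbc h
    have hb : b = 0 := by omega
    have hc : c = 0 := by omega
    subst hb hc
    exact h
  | succ n ih =>
    intro a b c hbc h
    cases b with
    | succ b' =>
      have := ih (a + 1) b' c (by omega) (move_yx_mem hS T hxy h)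
      have e : a + 1 + b' + c = a + (b' + 1) + c := by omega
      rw [e] at this
      exact this
    | zero =>
      cases c with
      | zero => omega
      | succ c' =>
        have := ih (a + 1) 0 c' (by omega) (move_zx_mem hS T hxz h)
        have e : a + 1 + 0 + c' = a + 0 + (c' + 1) := by omega
        rw [e] at this
        exact this

lemma hh_p2 (hxy : x < y) (a b : ℕ) : hh I x y (a + 1) b ≤ hh I x y a (b + 1) := by
  rw [← E_mem_iff hS.1 T]
  exact move_yx_mem hS T hxy ((E_mem_iff hS.1 T a (b + 1) _).mpr le_rfl)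

lemma hh_p3 (hxz : x < z) (a b : ℕ) (h1 : 1 ≤ hh I x y a b) :
    hh I x y (a + 1) b + 1 ≤ hh I x y a b := by
  obtain ⟨c, hc⟩ : ∃ c, hh I x y a b = c + 1 := ⟨hh I x y a b - 1, by omega⟩
  have hmem : E x y a b (c + 1) ∈ exps I := (E_mem_iff hS.1 T a b (c + 1)).mpr (by omega)
  have := (E_mem_iff hS.1 T (a + 1) b c).mp (move_zx_mem hS T hxz hmem)
  omega

lemma hh_p1 (hyz : y < z) (a b : ℕ) (h1 : 1 ≤ hh I x y a b) :
    hh I x y a (b + 1) + 1 ≤ hh I x y a b := by
  obtain ⟨c, hc⟩ : ∃ c, hh I x y a b = c + 1 := ⟨hh I x y a b - 1, by omega⟩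
  have hmem : E x y a b (c + 1) ∈ exps I := (E_mem_iff hS.1 T a b (c + 1)).mpr (by omega)
  have := (E_mem_iff hS.1 T a (b + 1) c).mp (move_zy_mem hS T hyz hmem)
  omega

lemma ss_mk (hxy : x < y) (hxz : x < z) (hyz : y < z) {N : ℕ}
    (hN : ∀ a b, (N ≤ a ∨ N ≤ b) → hh I x y a b = 0) : SS (hh I x y) N where
  hN := hN
  anti := fun a b a' b' ha hb => hh_anti hS.1 T ha hb
  p1 := fun a b h1 => hh_p1 hS T hyz a b h1
  p2 := fun a b => hh_p2 hS T hxy a b
  p3 := fun a b h1 => hh_p3 hS T hxz a b h1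

end stable

end Groth.Agent.H43.HilbT
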