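import Groth.Agent.H43.HilbD4

set_option linter.unusedVariables false
set_option linter.unusedSectionVars false
set_option linter.style.longLine false
set_option linter.unusedSimpArgs false
set_option linter.style.haveILetI false

/-! Powers of the maximal ideal of `k[x,y,z]`: the dimensions of the sign pieces of `T(m^r)`;
the extremal property of `m^r` among strongly stable ideals of the same colength; vanishing of
the pieces negative at two variables when a variable lies in the ideal. -/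

noncomputable section

namespace Groth.Agent.H43.HilbT

open W4c1hilbpn MvPolynomial
open Groth.Agent.H43.HilbD Groth.Agent.H43.HilbN

variable {k : Type*} [Field k] {I : Ideal (MvPolynomial (Fin 3) k)}

/-- the `r`-th power of the maximal ideal at the origin -/
abbrev mpow (k : Type*) [Field k] (r : ℕ) : Ideal (MvPolynomial (Fin 3) k) :=
  (Ideal.span (Set.range (MvPolynomial.X : Fin 3 → MvPolynomial (Fin 3) k))) ^ r

lemma mem_exps_mpow (r : ℕ) (β : Fin 3 →₀ ℕ) : β ∈ exps (mpow k r) ↔ r ≤ Finsupp.degree β :=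
  MvPolynomial.monomial_mem_pow_idealOfVars_iff r β one_ne_zero

lemma isMonomial_mpow (r : ℕ) : IsMonomial (mpow k r) := by
  intro p hp β hβ
  exact (mem_exps_mpow r β).mpr ((MvPolynomial.mem_pow_idealOfVars_iff r p).mp hp β hβ)

instance finite_mpow (r : ℕ) : Module.Finite k (MvPolynomial (Fin 3) k ⧸ mpow k r) := by
  classical
  have hfin := Finsupp.finite_of_degree_lt (σ := Fin 3) r
  have hS : ∀ δ : Fin 3 →₀ ℕ, δ ∉ exps (mpow k r) → δ ∈ hfin.toFinset := fun δ hδ => by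
    rw [Set.Finite.mem_toFinset]
    rw [mem_exps_mpow, not_le] at hδ
    exact hδ
  have hS' : ∀ δ ∈ hfin.toFinset, δ ∉ exps (mpow k r) := fun δ hδ => by
    rw [Set.Finite.mem_toFinset] at hδ
    rw [mem_exps_mpow, not_le]
    exact hδ
  have htop : (⊤ : Submodule k (MvPolynomial (Fin 3) k ⧸ mpow k r)) ≤
      Submodule.span k ((fun δ : Fin 3 →₀ ℕ =>
        Ideal.Quotient.mk (mpow k r) (monomial δ (1:k))) ''
          (↑hfin.toFinset : Set (Fin 3 →₀ ℕ))) := by
    intro q _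
    obtain ⟨p, rfl⟩ := Ideal.Quotient.mk_surjective q
    rw [mk_expand (isMonomial_mpow r) hfin.toFinset hS hS' p]
    exact Submodule.sum_mem _ fun δ hδ => Submodule.smul_mem _ _
      (Submodule.subset_span ⟨δ, Finset.mem_coe.mpr hδ, rfl⟩)
  refine ⟨?_⟩
  rw [← top_le_iff.mp htop]
  exact Submodule.fg_span ((Finset.finite_toSet _).image _)

section coords

variable {x y z : Fin 3} (T : Tri x y z)
include T

lemma univ_eq_tri : (Finset.univ : Finset (Fin 3)) = {x, y, z} := by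
  obtain ⟨h1, h2, h3⟩ := T
  revert x y z
  decide

lemma sum_tri (f : Fin 3 → ℕ) : ∑ w, f w = f x + f y + f z := by
  rw [univ_eq_tri T, Finset.sum_insert (by
    rw [Finset.mem_insert, Finset.mem_singleton]
    exact fun h => h.elim T.xy T.xz), Finset.sum_pair T.yz, add_assoc]

lemma degree_E (a b c : ℕ) : Finsupp.degree (E x y a b c) = a + b + c := by
  rw [Finsupp.degree_eq_sum, sum_tri T, E_x, E_y T, E_z T]

lemma hh_mpow (r a b : ℕ) : hh (mpow k r) x y a b = r - (a + b) := by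
  have h1 := E_mem_iff (isMonomial_mpow (k := k) r) T a b (hh (mpow k r) x y a b)
  have h2 := E_mem_iff (isMonomial_mpow (k := k) r) T a b (r - (a + b))
  rw [mem_exps_mpow, degree_E T] at h1 h2
  omega

lemma bd_mpow (r : ℕ) : Bd (mpow k r) x y r r :=
  ⟨fun a b h => by rw [hh_mpow T]; omega, by rw [hh_mpow T]; omega⟩

lemma iso_eq_sp_mpow (r i j t : ℕ) :
    IsoF (mmF (mpow k r) x y t) (kkF (mpow k r) x y i j) r =
      SpF (mmF (mpow k r) x y t) (kkF (mpow k r) x y i j) r := by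
  ext ⟨a, b⟩
  rw [mem_IsoF, mem_SpF, mem_box]
  simp only [mmF_apply, kkF_apply, hh_mpow T]
  omega

lemma finrank_al2_mpow (r i j t : ℕ) (ht : 1 ≤ t) :
    Module.finrank k ↥(tPiece (mpow k r) (al2 x y i j t)) =
      (SpF (mmF (mpow k r) x y t) (kkF (mpow k r) x y i j) r).card := by
  have Hy := hyp_mk (isMonomial_mpow (k := k) r) T i j t (bd_mpow T r).hN ht
  apply le_antisymm
  · exact finrank_al2_le (isMonomial_mpow r) T i j t ht Hy
  · rw [← iso_eq_sp_mpow T r i j t]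
    exact le_finrank_al2 (isMonomial_mpow r) T i j t ht Hy

lemma Dd_mpow (r j : ℕ) : Dd (hh (mpow k r) x y) r j = Nat.choose (r - j + 2) 3 := by
  unfold Dd sl
  have e : ∑ a ∈ Finset.range r, ∑ b ∈ Finset.range r, hh (mpow k r) x y (a + j) b =
      ∑ a ∈ Finset.range r, ∑ b ∈ Finset.range r, (r - j - a - b) :=
    Finset.sum_congr rfl fun a _ => Finset.sum_congr rfl fun b _ => by
      rw [hh_mpow T]; omega
  rw [e]
  exact tetra_eq (r - j) r r (by omega) (by omega)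

theorem finrank_sig2_mpow (r : ℕ) :
    Module.finrank k ↥(sigPiece (mpow k r) ({z}ᶜ : Set (Fin 3))) = Nat.choose (r + 2) 4 := by
  have hJ := isMonomial_mpow (k := k) r
  have B := bd_mpow (k := k) T r
  rw [finrank_sig2 hJ T B]
  have h1 : ∀ q ∈ box r,
      ∑ t ∈ Finset.Icc 1 r, Module.finrank k ↥(tPiece (mpow k r) (al2 x y q.1 q.2 t)) =
      ∑ t ∈ Finset.Icc 1 r,
        (SpF (mmF (mpow k r) x y t) (kkF (mpow k r) x y q.1 q.2) r).card :=
    fun q _ => Finset.sum_congr rfl fun t ht =>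
      finrank_al2_mpow T r q.1 q.2 t (Finset.mem_Icc.mp ht).1
  refine (Finset.sum_congr rfl h1).trans ?_
  have h2 := sum_SpF_total r r (hh (mpow k r) x y)
    (fun a b a' b' ha hb => hh_anti hJ T ha hb) B.hN
    (hh_le_of_bd hJ T B) (fun a b => by rw [hh_mpow T, hh_mpow T]; omega)
  refine h2.trans ?_
  have h3 : ∑ i ∈ Finset.range r, Dd (hh (mpow k r) x y) r (i + 1) =
      ∑ i ∈ Finset.range r, Nat.choose (r - (i + 1) + 2) 3 :=
    Finset.sum_congr rfl fun i _ => Dd_mpow T r (i + 1)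
  rw [h3]
  exact bnd_eq r r le_rfl

lemma colength_mpow' (r : ℕ) :
    Module.finrank k (MvPolynomial (Fin 3) k ⧸ mpow k r) = Nat.choose (r + 2) 3 := by
  rw [colength_eq (isMonomial_mpow r) T (bd_mpow T r).hN]
  have e : ∑ q ∈ box r, hh (mpow k r) x y q.1 q.2 = ∑ q ∈ box r, (r - q.1 - q.2) :=
    Finset.sum_congr rfl fun q _ => by rw [hh_mpow T]; omega
  rw [e]
  exact (Finset.sum_product' (Finset.range r) (Finset.range r) (fun a b => r - a - b)).trans
    (tetra_eq r r r le_rfl le_rfl)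

theorem finrank_sig1_mpow (r : ℕ) :
    Module.finrank k ↥(sigPiece (mpow k r) ({z} : Set (Fin 3))) = Nat.choose (r + 3) 4 := by
  have d := sig_duality (isMonomial_mpow (k := k) r) T
  rw [finrank_sig2_mpow T r, colength_mpow' T r] at d
  have pas : Nat.choose (r + 3) 4 = Nat.choose (r + 2) 3 + Nat.choose (r + 2) 4 :=
    ch_succ' (by omega) (by omega)
  omega

end coords

/-! ### the whole tangent space -/

section whole

variable (hI : IsMonomial I) [Module.Finite k (MvPolynomial (Fin 3) k ⧸ I)]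
include hI

theorem finrank_tgt_eq_sigs :
    Module.finrank k (Tgt I) =
      (Module.finrank k ↥(sigPiece I ({2} : Set (Fin 3))) +
        Module.finrank k ↥(sigPiece I ({2}ᶜ : Set (Fin 3)))) +
      (Module.finrank k ↥(sigPiece I ({1} : Set (Fin 3))) +
        Module.finrank k ↥(sigPiece I ({1}ᶜ : Set (Fin 3)))) +
      (Module.finrank k ↥(sigPiece I ({0} : Set (Fin 3))) +
        Module.finrank k ↥(sigPiece I ({0}ᶜ : Set (Fin 3)))) := by
  obtain ⟨S, hS⟩ := exists_finset_ne_bot hI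
  have htop := finrank_tgt_eq_sum hI S hS
  have T2 : Tri (0 : Fin 3) 1 2 := ⟨by decide, by decide, by decide⟩
  have T0 : Tri (1 : Fin 3) 2 0 := ⟨by decide, by decide, by decide⟩
  have T1 : Tri (2 : Fin 3) 0 1 := ⟨by decide, by decide, by decide⟩
  have e0 := Finset.sum_filter_add_sum_filter_not S (fun α : Fin 3 → ℤ => α 0 < 0) (fun α : Fin 3 → ℤ => Module.finrank k ↥(tPiece I α))
  have e1 := Finset.sum_filter_add_sum_filter_not (S.filter (fun α : Fin 3 → ℤ => α 0 < 0)) (fun α : Fin 3 → ℤ => α 1 < 0) (fun α : Fin 3 → ℤ => Module.finrank k ↥(tPiece I α))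
  have e2 := Finset.sum_filter_add_sum_filter_not (S.filter (fun α : Fin 3 → ℤ => ¬ α 0 < 0)) (fun α : Fin 3 → ℤ => α 1 < 0) (fun α : Fin 3 → ℤ => Module.finrank k ↥(tPiece I α))
  have e3 := Finset.sum_filter_add_sum_filter_not ((S.filter (fun α : Fin 3 → ℤ => α 0 < 0)).filter (fun α : Fin 3 → ℤ => α 1 < 0)) (fun α : Fin 3 → ℤ => α 2 < 0) (fun α : Fin 3 → ℤ => Module.finrank k ↥(tPiece I α))
  have e4 := Finset.sum_filter_add_sum_filter_not ((S.filter (fun α : Fin 3 → ℤ => α 0 < 0)).filter (fun α : Fin 3 → ℤ => ¬ α 1 < 0)) (fun α : Fin 3 → ℤ => α 2 < 0) (fun α : Fin 3 → ℤ => Module.finrank k ↥(tPiece I α))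
  have e5 := Finset.sum_filter_add_sum_filter_not ((S.filter (fun α : Fin 3 → ℤ => ¬ α 0 < 0)).filter (fun α : Fin 3 → ℤ => α 1 < 0)) (fun α : Fin 3 → ℤ => α 2 < 0) (fun α : Fin 3 → ℤ => Module.finrank k ↥(tPiece I α))
  have e6 := Finset.sum_filter_add_sum_filter_not ((S.filter (fun α : Fin 3 → ℤ => ¬ α 0 < 0)).filter (fun α : Fin 3 → ℤ => ¬ α 1 < 0)) (fun α : Fin 3 → ℤ => α 2 < 0) (fun α : Fin 3 → ℤ => Module.finrank k ↥(tPiece I α))
  beta_reduce at e0 e1 e2 e3 e4 e5 e6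
  have lTTT : ∑ α ∈ (((S.filter (fun α : Fin 3 → ℤ => α 0 < 0)).filter (fun α : Fin 3 → ℤ => α 1 < 0)).filter (fun α : Fin 3 → ℤ => α 2 < 0)), Module.finrank k ↥(tPiece I α) = 0 :=
    Finset.sum_eq_zero fun α hα => by
      rw [Finset.mem_filter, Finset.mem_filter, Finset.mem_filter] at hα
      obtain ⟨⟨⟨_, a0⟩, a1⟩, a2⟩ := hα
      have hneg : ∀ w, α w < 0 := fun w => by
        rcases T2.cover w with hw | hw | hw <;> rw [hw] <;> assumption
      rw [tPiece_eq_bot_of_neg hI (α := α) (a := (0 : Fin 3)) (b := 1) (by decide) hneg, finrank_bot]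
  have lFFF : ∑ α ∈ (((S.filter (fun α : Fin 3 → ℤ => ¬ α 0 < 0)).filter (fun α : Fin 3 → ℤ => ¬ α 1 < 0)).filter (fun α : Fin 3 → ℤ => ¬ α 2 < 0)), Module.finrank k ↥(tPiece I α) = 0 :=
    Finset.sum_eq_zero fun α hα => by
      rw [Finset.mem_filter, Finset.mem_filter, Finset.mem_filter] at hα
      obtain ⟨⟨⟨_, a0⟩, a1⟩, a2⟩ := hα
      have hnn : ∀ w, 0 ≤ α w := fun w => by
        rcases T2.cover w with hw | hw | hw <;> rw [hw]
        · exact not_lt.mp a0
        · exact not_lt.mp a1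
        · exact not_lt.mp a2
      rw [tPiece_eq_bot_of_nonneg hI (α := α) hnn, finrank_bot]
  have lTTF := finrank_sig_eq_sum hI S hS ({2}ᶜ : Set (Fin 3)) (((S.filter (fun α : Fin 3 → ℤ => α 0 < 0)).filter (fun α : Fin 3 → ℤ => α 1 < 0)).filter (fun α : Fin 3 → ℤ => ¬ α 2 < 0))
    (fun α => by
      rw [Finset.mem_filter, Finset.mem_filter, Finset.mem_filter, pat2 T2]
      constructor
      · rintro ⟨⟨⟨hS', h0⟩, h1⟩, h2⟩
        exact ⟨hS', h0, h1, not_lt.mp h2⟩
      · rintro ⟨hS', c0, c1, c2⟩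
        exact ⟨⟨⟨hS', c0⟩, c1⟩, not_lt.mpr c2⟩)
  have lTFT := finrank_sig_eq_sum hI S hS ({1}ᶜ : Set (Fin 3)) (((S.filter (fun α : Fin 3 → ℤ => α 0 < 0)).filter (fun α : Fin 3 → ℤ => ¬ α 1 < 0)).filter (fun α : Fin 3 → ℤ => α 2 < 0))
    (fun α => by
      rw [Finset.mem_filter, Finset.mem_filter, Finset.mem_filter, pat2 T1]
      constructor
      · rintro ⟨⟨⟨hS', h0⟩, h1⟩, h2⟩
        exact ⟨hS', h2, h0, not_lt.mp h1⟩
      · rintro ⟨hS', c2, c0, c1⟩
        exact ⟨⟨⟨hS', c0⟩, not_lt.mpr c1⟩, c2⟩)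
  have lTFF := finrank_sig_eq_sum hI S hS ({0} : Set (Fin 3)) (((S.filter (fun α : Fin 3 → ℤ => α 0 < 0)).filter (fun α : Fin 3 → ℤ => ¬ α 1 < 0)).filter (fun α : Fin 3 → ℤ => ¬ α 2 < 0))
    (fun α => by
      rw [Finset.mem_filter, Finset.mem_filter, Finset.mem_filter, pat1 T0]
      constructor
      · rintro ⟨⟨⟨hS', h0⟩, h1⟩, h2⟩
        exact ⟨hS', not_lt.mp h1, not_lt.mp h2, h0⟩
      · rintro ⟨hS', c1, c2, c0⟩
        exact ⟨⟨⟨hS', c0⟩, not_lt.mpr c1⟩, not_lt.mpr c2⟩)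
  have lFTT := finrank_sig_eq_sum hI S hS ({0}ᶜ : Set (Fin 3)) (((S.filter (fun α : Fin 3 → ℤ => ¬ α 0 < 0)).filter (fun α : Fin 3 → ℤ => α 1 < 0)).filter (fun α : Fin 3 → ℤ => α 2 < 0))
    (fun α => by
      rw [Finset.mem_filter, Finset.mem_filter, Finset.mem_filter, pat2 T0]
      constructor
      · rintro ⟨⟨⟨hS', h0⟩, h1⟩, h2⟩
        exact ⟨hS', h1, h2, not_lt.mp h0⟩
      · rintro ⟨hS', c1, c2, c0⟩
        exact ⟨⟨⟨hS', not_lt.mpr c0⟩, c1⟩, c2⟩)
  have lFTF := finrank_sig_eq_sum hI S hS ({1} : Set (Fin 3)) (((S.filter (fun α : Fin 3 → ℤ => ¬ α 0 < 0)).filter (fun α : Fin 3 → ℤ => α 1 < 0)).filter (fun α : Fin 3 → ℤ => ¬ α 2 < 0))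
    (fun α => by
      rw [Finset.mem_filter, Finset.mem_filter, Finset.mem_filter, pat1 T1]
      constructor
      · rintro ⟨⟨⟨hS', h0⟩, h1⟩, h2⟩
        exact ⟨hS', not_lt.mp h2, not_lt.mp h0, h1⟩
      · rintro ⟨hS', c2, c0, c1⟩
        exact ⟨⟨⟨hS', not_lt.mpr c0⟩, c1⟩, not_lt.mpr c2⟩)
  have lFFT := finrank_sig_eq_sum hI S hS ({2} : Set (Fin 3)) (((S.filter (fun α : Fin 3 → ℤ => ¬ α 0 < 0)).filter (fun α : Fin 3 → ℤ => ¬ α 1 < 0)).filter (fun α : Fin 3 → ℤ => α 2 < 0))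
    (fun α => by
      rw [Finset.mem_filter, Finset.mem_filter, Finset.mem_filter, pat1 T2]
      constructor
      · rintro ⟨⟨⟨hS', h0⟩, h1⟩, h2⟩
        exact ⟨hS', not_lt.mp h0, not_lt.mp h1, h2⟩
      · rintro ⟨hS', c0, c1, c2⟩
        exact ⟨⟨⟨hS', not_lt.mpr c0⟩, not_lt.mpr c1⟩, c2⟩)
  omega

end whole

theorem finrank_tgt_mpow (r : ℕ) :
    Module.finrank k (Tgt (mpow k r)) = Nat.choose (r + 2) 2 * Nat.choose (r + 1) 2 := by
  have T2 : Tri (0 : Fin 3) 1 2 := ⟨by decide, by decide, by decide⟩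
  have T0 : Tri (1 : Fin 3) 2 0 := ⟨by decide, by decide, by decide⟩
  have T1 : Tri (2 : Fin 3) 0 1 := ⟨by decide, by decide, by decide⟩
  have e := finrank_tgt_eq_sigs (isMonomial_mpow (k := k) r)
  rw [e, finrank_sig1_mpow T2 r, finrank_sig2_mpow T2 r, finrank_sig1_mpow T1 r,
    finrank_sig2_mpow T1 r, finrank_sig1_mpow T0 r, finrank_sig2_mpow T0 r, ← three_mul r]
  ring

/-! ### the extremal property of `m^r` -/

lemma eq_of_exps_eq {J : Ideal (MvPolynomial (Fin 3) k)} (hI : IsMonomial I) (hJ : IsMonomial J)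
    (h : exps I = exps J) : I = J := by
  apply le_antisymm
  · intro p hp
    exact mem_of_support p fun β hβ => by rw [← h]; exact hI p hp β hβ
  · intro p hp
    exact mem_of_support p fun β hβ => by rw [h]; exact hJ p hp β hβ

section extremal

variable (hS : IsStronglyStable I) [Module.Finite k (MvPolynomial (Fin 3) k ⧸ I)]
include hS

theorem eq_mpow (r : ℕ)
    (hd : Module.finrank k (MvPolynomial (Fin 3) k ⧸ I) = Nat.choose (r + 2) 3)
    (hpos : 1 ≤ r → 1 ≤ hh I 0 1 (r - 1) 0) : I = mpow k r := by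
  have T2 : Tri (0 : Fin 3) 1 2 := ⟨by decide, by decide, by decide⟩
  have hdeg : ∀ β ∈ exps I, r ≤ Finsupp.degree β := by
    intro β hβ
    by_contra hlt
    have hr1 : 1 ≤ r := by omega
    have h1 := hpos hr1
    have hnot : E (0 : Fin 3) 1 (r - 1) 0 0 ∉ exps I := fun hm => by
      have := (E_mem_iff hS.1 T2 (r - 1) 0 0).mp hm
      omega
    apply hnot
    rw [eq_E T2 β] at hβ
    have hmv := move_all hS T2 (by decide) (by decide) (β 1 + β 2) (β 0) (β 1) (β 2) rfl hβ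
    refine exps_of_le hmv (E_le T2 ?_ le_rfl le_rfl)
    rw [eq_E T2 β, degree_E T2] at hlt
    omega
  obtain ⟨N0, hN0⟩ := exists_hh_zero hS.1 T2
  have hN : ∀ a b, (N0 + r ≤ a ∨ N0 + r ≤ b) → hh I 0 1 a b = 0 :=
    fun a b h => hN0 a b (by omega)
  have hge : ∀ a b, r - a - b ≤ hh I 0 1 a b := fun a b => by
    have hm : E (0 : Fin 3) 1 a b (hh I 0 1 a b) ∈ exps I :=
      (E_mem_iff hS.1 T2 a b _).mpr le_rfl
    have := hdeg _ hm
    rw [degree_E T2] at this
    omega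
  have hsum : ∑ q ∈ box (N0 + r), (r - q.1 - q.2) = ∑ q ∈ box (N0 + r), hh I 0 1 q.1 q.2 := by
    rw [← colength_eq hS.1 T2 hN, hd]
    have e := Finset.sum_product' (Finset.range (N0 + r)) (Finset.range (N0 + r))
      (fun a b => r - a - b)
    exact e.trans (tetra_eq r (N0 + r) (N0 + r) (by omega) (by omega))
  have hall := (Finset.sum_eq_sum_iff_of_le (fun q _ => hge q.1 q.2)).mp hsum
  have hhh : ∀ a b, hh I 0 1 a b = r - a - b := fun a b => by
    by_cases hab : a < N0 + r ∧ b < N0 + r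
    · exact (hall (a, b) (mem_box.mpr hab)).symm
    · have h0 := hN a b (by omega)
      have := hge a b
      omega
  have hex : exps I = exps (mpow k r) := by
    ext β
    rw [mem_exps_mpow, eq_E T2 β, E_mem_iff hS.1 T2, hhh, degree_E T2]
    omega
  exact eq_of_exps_eq hS.1 (isMonomial_mpow r) hex

theorem stable_bounds (r : ℕ)
    (hd : Module.finrank k (MvPolynomial (Fin 3) k ⧸ I) = Nat.choose (r + 2) 3) :
    (Module.finrank k ↥(sigPiece I ({2}ᶜ : Set (Fin 3))) ≤ Nat.choose (r + 2) 4 ∧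
      (Module.finrank k ↥(sigPiece I ({2}ᶜ : Set (Fin 3))) = Nat.choose (r + 2) 4 →
        I = mpow k r)) ∧
    (Module.finrank k ↥(sigPiece I ({1}ᶜ : Set (Fin 3))) ≤ Nat.choose (r + 2) 4 ∧
      (Module.finrank k ↥(sigPiece I ({1}ᶜ : Set (Fin 3))) = Nat.choose (r + 2) 4 →
        I = mpow k r)) := by
  have T2 : Tri (0 : Fin 3) 1 2 := ⟨by decide, by decide, by decide⟩
  have T1 : Tri (0 : Fin 3) 2 1 := ⟨by decide, by decide, by decide⟩
  obtain ⟨N2, hN2⟩ := exists_hh_zero hS.1 T2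
  obtain ⟨N1, hN1⟩ := exists_hh_zero hS.1 T1
  have hN2' : ∀ a b, (N2 + N1 + r ≤ a ∨ N2 + N1 + r ≤ b) → hh I 0 1 a b = 0 :=
    fun a b h => hN2 a b (by omega)
  have hN1' : ∀ a b, (N2 + N1 + r ≤ a ∨ N2 + N1 + r ≤ b) → hh I 0 2 a b = 0 :=
    fun a b h => hN1 a b (by omega)
  have B2 : Bd I 0 1 (N2 + N1 + r) (hh I 0 1 0 0) := ⟨hN2', le_rfl⟩
  have B1 : Bd I 0 2 (N2 + N1 + r) (hh I 0 2 0 0) := ⟨hN1', le_rfl⟩
  have S2 : SS (hh I 0 1) (N2 + N1 + r) :=
    ss_mk hS T2 (by decide) (by decide) (by decide) hN2'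
  have hD : Dd (hh I 0 1) (N2 + N1 + r) 0 = Nat.choose (r + 2) 3 :=
    (Dd_zero_eq hS.1 T2 hN2').trans hd
  have ub2 := finrank_sig2_le hS.1 T2 (hh_p2 hS T2 (by decide)) B2
  have ub1 := finrank_sig2_le hS.1 T1 (hh_p2 hS T1 (by decide)) B1
  have esw : ∑ i ∈ Finset.range (N2 + N1 + r), Dd (hh I 0 2) (N2 + N1 + r) (i + 1) =
      ∑ i ∈ Finset.range (N2 + N1 + r), Dd (hh I 0 1) (N2 + N1 + r) (i + 1) :=
    Finset.sum_congr rfl fun i _ => (Dd_swap hS.1 T2 hN2' hN1' (i + 1)).symm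
  rw [esw] at ub1
  obtain ⟨hle, heq⟩ := extremal S2 r (by omega) hD
  have hfin : ∑ i ∈ Finset.range (N2 + N1 + r), Dd (hh I 0 1) (N2 + N1 + r) (i + 1) =
      Nat.choose (r + 2) 4 → I = mpow k r :=
    fun h => eq_mpow hS r hd (fun hr1 => heq h hr1)
  exact ⟨⟨le_trans ub2 hle, fun h => hfin (by omega)⟩,
    ⟨le_trans ub1 hle, fun h => hfin (by omega)⟩⟩

end extremal

/-! ### vanishing when a variable lies in the ideal -/

section vanish

variable (hI : IsMonomial I) [Module.Finite k (MvPolynomial (Fin 3) k ⧸ I)]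
variable {x y z : Fin 3} (T : Tri x y z) {N H : ℕ}
include hI T

lemma sig2_bot (B : Bd I x y N H)
    (hall : ∀ i j t, 1 ≤ t → tPiece I (al2 x y i j t) = ⊥) :
    sigPiece I ({z}ᶜ : Set (Fin 3)) = ⊥ := by
  unfold sigPiece
  rw [iSup_eq_bot]
  rintro ⟨α, hα⟩
  show tPiece I α = ⊥
  by_contra hne
  obtain ⟨hx, hy, hz⟩ := (pat2 T α).mp hα
  obtain ⟨a, b, t, -, -, ht, -, e⟩ := mem_of_ne_bot2 hI T B hx hy hz hne
  apply hne
  rw [e]
  exact hall a b t ht

lemma hh_zero_of_X (hX : (X x : MvPolynomial (Fin 3) k) ∈ I) (a b : ℕ) (ha : 1 ≤ a) :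
    hh I x y a b = 0 := by
  have hs : Finsupp.single x 1 ∈ exps I := hX
  have : E x y a b 0 ∈ exps I := by
    refine exps_of_le hs ?_
    rw [Finsupp.le_def]
    intro w
    by_cases hw : w = x
    · rw [hw, Finsupp.single_eq_same, E_x]
      exact ha
    · rw [Finsupp.single_apply, if_neg (fun hh => hw hh.symm)]
      exact Nat.zero_le _
  exact Nat.le_zero.mp ((E_mem_iff hI T a b 0).mp this)

lemma hh_le_one_of_X (hX : (X z : MvPolynomial (Fin 3) k) ∈ I) (a b : ℕ) :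
    hh I x y a b ≤ 1 := by
  have hs : Finsupp.single z 1 ∈ exps I := hX
  have : E x y a b 1 ∈ exps I := by
    refine exps_of_le hs ?_
    rw [Finsupp.le_def]
    intro w
    by_cases hw : w = z
    · rw [hw, Finsupp.single_eq_same, E_z T]
    · rw [Finsupp.single_apply, if_neg (fun hh => hw hh.symm)]
      exact Nat.zero_le _
  exact (E_mem_iff hI T a b 1).mp this

lemma al2_bot_of_x (hx0 : ∀ a b, 1 ≤ a → hh I x y a b = 0) (B : Bd I x y N H)
    (i j t : ℕ) (ht : 1 ≤ t) : tPiece I (al2 x y i j t) = ⊥ := by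
  have Hy := hyp_mk hI T i j t B.hN ht
  refine al2_bot_of_Z1 hI T i j t ht Hy fun ψ hψ => ?_
  refine Z1_eq_zero_of_SpF k Hy hψ fun a b hq => ?_
  exfalso
  obtain ⟨_, hf, hx, _⟩ := mem_SpF.mp hq
  apply hx
  rw [kkF_apply, mmF_apply] at hf ⊢
  rw [hx0 (a + 1 + i) (b + j) (by omega)]
  rw [hx0 (a + 1 + i) (b + 1 + j) (by omega)] at hf
  exact hf

lemma al2_bot_of_z (h1 : ∀ a b, hh I x y a b ≤ 1) (B : Bd I x y N H)
    (i j t : ℕ) (ht : 1 ≤ t) : tPiece I (al2 x y i j t) = ⊥ := by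
  have Hy := hyp_mk hI T i j t B.hN ht
  refine al2_bot_of_Z1 hI T i j t ht Hy fun ψ hψ => ?_
  obtain ⟨g1, g2, g3, g4, g5⟩ := hψ
  have main : ∀ a, ∀ d b, N ≤ b + d → ψ a b = 0 := by
    intro a
    induction a with
    | zero =>
      intro d
      induction d with
      | zero =>
        intro b hb
        refine g1 0 b (fun hf => ?_)
        have := Hy.inbox (le_trans (Hy.k0 _ _) hf)
        omega
      | succ d ihd =>
        intro b hb
        by_cases hf : kkF I x y i j (0 + 1) (b + 1) ≤ mmF I x y t 0 b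
        · by_cases htop : 1 ≤ hh I x y 0 (b + 1)
          · have hedge : kkF I x y i j (0 + 1) (b + 1) ≤ mmF I x y t 0 (b + 1) := by
              rw [kkF_apply, mmF_apply] at hf ⊢
              have := h1 0 b
              have := h1 0 (b + 1)
              omega
            rw [← g2 0 b hedge]
            exact ihd (b + 1) (by omega)
          · refine g5 b ?_
            rw [kkF_apply, mmF_apply] at hf ⊢
            have := hh_anti hI T (Nat.zero_le (0 + i)) (show b + 1 ≤ b + 1 + j by omega)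
            omega
        · exact g1 0 b hf
    | succ a iha =>
      intro d
      induction d with
      | zero =>
        intro b hb
        refine g1 (a + 1) b (fun hf => ?_)
        have := Hy.inbox (le_trans (Hy.k0 _ _) hf)
        omega
      | succ d ihd =>
        intro b hb
        by_cases hf : kkF I x y i j (a + 1 + 1) (b + 1) ≤ mmF I x y t (a + 1) b
        · by_cases htop : 1 ≤ hh I x y (a + 1) (b + 1)
          · have hedge : kkF I x y i j (a + 1 + 1) (b + 1) ≤ mmF I x y t (a + 1) (b + 1) := by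
              rw [kkF_apply, mmF_apply] at hf ⊢
              have := h1 (a + 1) b
              have := h1 (a + 1) (b + 1)
              omega
            rw [← g2 (a + 1) b hedge]
            exact ihd (b + 1) (by omega)
          · have hedge : kkF I x y i j (a + 1) (b + 1) ≤ mmF I x y t (a + 1) b := by
              rw [kkF_apply, mmF_apply] at hf ⊢
              have := hh_anti hI T (show a + 1 ≤ a + 1 + i by omega)
                (show b + 1 ≤ b + 1 + j by omega)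
              omega
            rw [g4 a b hedge]
            exact iha N b (by omega)
        · exact g1 (a + 1) b hf
  funext a b
  exact main a N b (by omega)

theorem sig2_bot_of_x (hX : (X x : MvPolynomial (Fin 3) k) ∈ I) :
    sigPiece I ({z}ᶜ : Set (Fin 3)) = ⊥ := by
  obtain ⟨N, H, B⟩ := exists_bd hI T
  exact sig2_bot hI T B (al2_bot_of_x hI T (fun a b ha => hh_zero_of_X hI T hX a b ha) B)

theorem sig2_bot_of_z (hX : (X z : MvPolynomial (Fin 3) k) ∈ I) :
    sigPiece I ({z}ᶜ : Set (Fin 3)) = ⊥ := by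
  obtain ⟨N, H, B⟩ := exists_bd hI T
  exact sig2_bot hI T B (al2_bot_of_z hI T (fun a b => hh_le_one_of_X hI T hX a b) B)

end vanish

section nonvanish

variable (hS : IsStronglyStable I) [Module.Finite k (MvPolynomial (Fin 3) k ⧸ I)]
variable {x y z : Fin 3} (T : Tri x y z)
include hS T

theorem sig2_ne_bot (hxy : x < y) (hxz : x < z) (hyz : y < z)
    (hX : (X x : MvPolynomial (Fin 3) k) ∉ I) : sigPiece I ({z}ᶜ : Set (Fin 3)) ≠ ⊥ := by
  have hI := hS.1
  obtain ⟨N, H, B⟩ := exists_bd hI T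
  have h10 : 1 ≤ hh I x y 1 0 := by
    by_contra hc
    apply hX
    have hm : E x y 1 0 0 ∈ exps I := (E_mem_iff hI T 1 0 0).mpr (by omega)
    have he : E x y 1 0 0 = Finsupp.single x 1 := by
      refine Finsupp.ext fun w => ?_
      rw [Finsupp.single_apply]
      rcases T.cover w with hw | hw | hw <;> rw [hw]
      · rw [E_x, if_pos rfl]
      · rw [E_y T, if_neg T.xy]
      · rw [E_z T, if_neg T.xz]
    rw [he] at hm
    exact hm
  have a00 := hh_anti hI T (show 0 ≤ 1 by omega) (le_refl 0)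
  have p1a := hh_p1 hS T hyz 1 0 h10
  have p2a := hh_p2 hS T hxy 0 0
  have p1b := hh_p1 hS T hyz 0 0 (by omega)
  have p3a := hh_p3 hS T hxz 0 0 (by omega)
  simp only [Nat.zero_add] at p1a p2a p1b p3a
  obtain ⟨t, ht⟩ : ∃ t, t = hh I x y 0 0 - hh I x y 1 1 := ⟨_, rfl⟩
  have ht1 : 1 ≤ t := by omega
  have Hy := hyp_mk hI T 0 0 t B.hN ht1
  have hN0 : 0 < N := by
    by_contra hc
    have := B.hN 0 0 (Or.inl (by omega))
    omega
  have hmem : (0, 0) ∈ IsoF (mmF I x y t) (kkF I x y 0 0) N := by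
    rw [mem_IsoF, mem_box]
    simp only [mmF_apply, kkF_apply, Nat.zero_add, Nat.add_zero]
    omega
  have hcard : 1 ≤ (IsoF (mmF I x y t) (kkF I x y 0 0) N).card :=
    Finset.card_pos.mpr ⟨(0, 0), hmem⟩
  have hfr := le_finrank_al2 hI T 0 0 t ht1 Hy
  intro hbot
  have hpat : ∀ w, al2 x y 0 0 t w < 0 ↔ w ∈ ({z}ᶜ : Set (Fin 3)) :=
    (pat2 T _).mpr ⟨by rw [al2, P_x]; omega, by rw [al2, P_y T]; omega,
      by rw [al2, P_z T]; omega⟩
  have hle : tPiece I (al2 x y 0 0 t) ≤ sigPiece I ({z}ᶜ : Set (Fin 3)) :=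
    le_iSup (fun α : {α : Fin 3 → ℤ // ∀ i, α i < 0 ↔ i ∈ ({z}ᶜ : Set (Fin 3))} =>
      tPiece I α.1) ⟨al2 x y 0 0 t, hpat⟩
  rw [hbot, le_bot_iff] at hle
  rw [hle, finrank_bot] at hfr
  omega

end nonvanish

end Groth.Agent.H43.HilbT
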