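import Groth.Agent.H43.HilbD5

set_option linter.unusedVariables false
set_option linter.unusedSectionVars false
set_option linter.style.longLine false
set_option linter.unusedSimpArgs false
set_option linter.style.haveILetI false

/-! Corners of the staircase give nonzero graded pieces of sign pattern `{z}ᶜ`: a minimal
generator not involving `z` can be sent to a socle monomial. -/

noncomputable section

namespace Groth.Agent.H43.HilbT

open W4c1hilbpn MvPolynomial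
open Groth.Agent.H43.HilbD Groth.Agent.H43.HilbN

variable {k : Type*} [Field k] {I : Ideal (MvPolynomial (Fin 3) k)}

lemma E01_eq (a b c : ℕ) : E (0 : Fin 3) 1 a b c = e3 a b c := by
  have T : Tri (0 : Fin 3) 1 2 := ⟨by decide, by decide, by decide⟩
  refine Finsupp.ext fun w => ?_
  rcases T.cover w with hw | hw | hw <;> rw [hw]
  · rw [E_x, e3_apply0]
  · rw [E_y T, e3_apply1]
  · rw [E_z T, e3_apply2]

lemma E02_eq (a b c : ℕ) : E (0 : Fin 3) 2 a c b = e3 a b c := by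
  have T : Tri (0 : Fin 3) 2 1 := ⟨by decide, by decide, by decide⟩
  refine Finsupp.ext fun w => ?_
  rcases T.cover w with hw | hw | hw <;> rw [hw]
  · rw [E_x, e3_apply0]
  · rw [E_y T, e3_apply2]
  · rw [E_z T, e3_apply1]

lemma E12_eq (a b c : ℕ) : E (1 : Fin 3) 2 b c a = e3 a b c := by
  have T : Tri (1 : Fin 3) 2 0 := ⟨by decide, by decide, by decide⟩
  refine Finsupp.ext fun w => ?_
  rcases T.cover w with hw | hw | hw <;> rw [hw]
  · rw [E_x, e3_apply1]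
  · rw [E_y T, e3_apply2]
  · rw [E_z T, e3_apply0]

section socle

variable (hI : IsMonomial I) [Module.Finite k (MvPolynomial (Fin 3) k ⧸ I)]
variable {x y z : Fin 3} (T : Tri x y z)
include hI T

/-- an isolated face from a corner of the staircase -/
lemma al2_ne_bot_of_corner {N H : ℕ} (B : Bd I x y N H) (A1 A2 a b : ℕ) (ha : a < A1)
    (hb : b < A2) (h0 : hh I x y A1 A2 = 0) (h1 : 1 ≤ hh I x y (A1 - 1) A2)
    (h2 : 1 ≤ hh I x y A1 (A2 - 1))
    (hc1 : hh I x y (a + 1) b < hh I x y a b) (hc2 : hh I x y a (b + 1) < hh I x y a b) :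
    tPiece I (al2 x y (A1 - 1 - a) (A2 - 1 - b) (hh I x y a b)) ≠ ⊥ := by
  have ht : 1 ≤ hh I x y a b := by omega
  have Hy := hyp_mk hI T (A1 - 1 - a) (A2 - 1 - b) (hh I x y a b) B.hN ht
  have hin : a < N ∧ b < N := by
    constructor
    · by_contra hc
      have := B.hN a b (Or.inl (by omega))
      omega
    · by_contra hc
      have := B.hN a b (Or.inr (by omega))
      omega
  have e1 : a + 1 + (A1 - 1 - a) = A1 := by omega
  have e2 : b + 1 + (A2 - 1 - b) = A2 := by omega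
  have e3' : a + (A1 - 1 - a) = A1 - 1 := by omega
  have e4 : b + (A2 - 1 - b) = A2 - 1 := by omega
  have hmem : (a, b) ∈ IsoF (mmF I x y (hh I x y a b))
      (kkF I x y (A1 - 1 - a) (A2 - 1 - b)) N := by
    rw [mem_IsoF, mem_box]
    simp only [mmF_apply, kkF_apply, e1, e2, e3', e4]
    omega
  have hcard : 1 ≤ (IsoF (mmF I x y (hh I x y a b))
      (kkF I x y (A1 - 1 - a) (A2 - 1 - b)) N).card := Finset.card_pos.mpr ⟨(a, b), hmem⟩
  have hfr := le_finrank_al2 hI T (A1 - 1 - a) (A2 - 1 - b) (hh I x y a b) ht Hy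
  intro hbot
  rw [hbot, finrank_bot] at hfr
  omega

theorem sig2_ne_bot_of_gens (A1 A2 B1 B3 C2 C3 : ℕ) (hA1 : 0 < A1) (hA2 : 0 < A2)
    (hB1 : 0 < B1) (hC2 : 0 < C2)
    (hA : E x y A1 A2 0 ∈ exps I ∧ E x y (A1 - 1) A2 0 ∉ exps I ∧ E x y A1 (A2 - 1) 0 ∉ exps I)
    (hB : E x y B1 0 B3 ∈ exps I ∧ E x y (B1 - 1) 0 B3 ∉ exps I)
    (hC : E x y 0 C2 C3 ∈ exps I ∧ E x y 0 (C2 - 1) C3 ∉ exps I)
    (hBA : B1 ≤ A1) (hCA : C2 ≤ A2) : sigPiece I ({z}ᶜ : Set (Fin 3)) ≠ ⊥ := by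
  classical
  obtain ⟨N, H, B⟩ := exists_bd hI T
  have h0 : hh I x y A1 A2 = 0 := Nat.le_zero.mp ((E_mem_iff hI T A1 A2 0).mp hA.1)
  have h1 : 1 ≤ hh I x y (A1 - 1) A2 := by
    have := hA.2.1
    rw [E_mem_iff hI T] at this
    omega
  have h2 : 1 ≤ hh I x y A1 (A2 - 1) := by
    have := hA.2.2
    rw [E_mem_iff hI T] at this
    omega
  have hb : hh I x y B1 0 ≤ B3 := (E_mem_iff hI T B1 0 B3).mp hB.1
  have hb' : B3 < hh I x y (B1 - 1) 0 := by
    have := hB.2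
    rw [E_mem_iff hI T] at this
    omega
  have hc : hh I x y 0 C2 ≤ C3 := (E_mem_iff hI T 0 C2 C3).mp hC.1
  have hc' : C3 < hh I x y 0 (C2 - 1) := by
    have := hC.2
    rw [E_mem_iff hI T] at this
    omega
  obtain ⟨M, hMB, hMC, hMne⟩ : ∃ M, B3 ≤ M ∧ C3 ≤ M ∧
      (M < hh I x y (B1 - 1) 0 ∨ M < hh I x y 0 (C2 - 1)) := by
    by_cases hbc : C3 ≤ B3
    · exact ⟨B3, le_rfl, hbc, Or.inl hb'⟩
    · exact ⟨C3, by omega, le_rfl, Or.inr hc'⟩
  obtain ⟨s, hs⟩ : ∃ s : Finset (ℕ × ℕ), s = ((Finset.range A1) ×ˢ (Finset.range A2)).filter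
      (fun q : ℕ × ℕ => M < hh I x y q.1 q.2) := ⟨_, rfl⟩
  have hmem_s : ∀ a b, (a, b) ∈ s ↔ (a < A1 ∧ b < A2) ∧ M < hh I x y a b := fun a b => by
    simp only [hs, Finset.mem_filter, Finset.mem_product, Finset.mem_range]
  have hne : s.Nonempty := by
    rcases hMne with h | h
    · exact ⟨(B1 - 1, 0), (hmem_s _ _).mpr ⟨⟨by omega, hA2⟩, h⟩⟩
    · exact ⟨(0, C2 - 1), (hmem_s _ _).mpr ⟨⟨hA1, by omega⟩, h⟩⟩
  obtain ⟨q, hq, hmax⟩ := Finset.exists_max_image s (fun q => q.1 + q.2) hne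
  obtain ⟨a, b⟩ := q
  obtain ⟨⟨ha, hb2⟩, hgt⟩ := (hmem_s a b).mp hq
  have hc1 : hh I x y (a + 1) b < hh I x y a b := by
    by_cases h : a + 1 < A1
    · by_contra hcon
      have hmem : (a + 1, b) ∈ s := (hmem_s _ _).mpr ⟨⟨h, hb2⟩, by omega⟩
      have : a + 1 + b ≤ a + b := hmax (a + 1, b) hmem
      omega
    · have e : a + 1 = A1 := by omega
      rw [e]
      have := hh_anti hI T hBA (Nat.zero_le b)
      omega
  have hc2 : hh I x y a (b + 1) < hh I x y a b := by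
    by_cases h : b + 1 < A2
    · by_contra hcon
      have hmem : (a, b + 1) ∈ s := (hmem_s _ _).mpr ⟨⟨ha, h⟩, by omega⟩
      have : a + (b + 1) ≤ a + b := hmax (a, b + 1) hmem
      omega
    · have e : b + 1 = A2 := by omega
      rw [e]
      have := hh_anti hI T (Nat.zero_le a) hCA
      omega
  have hne' := al2_ne_bot_of_corner hI T B A1 A2 a b ha hb2 h0 h1 h2 hc1 hc2
  have ht : 1 ≤ hh I x y a b := by omega
  intro hbot
  have hpat : ∀ w, al2 x y (A1 - 1 - a) (A2 - 1 - b) (hh I x y a b) w < 0 ↔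
      w ∈ ({z}ᶜ : Set (Fin 3)) :=
    (pat2 T _).mpr ⟨by rw [al2, P_x]; omega, by rw [al2, P_y T]; omega,
      by rw [al2, P_z T]; omega⟩
  have hle : tPiece I (al2 x y (A1 - 1 - a) (A2 - 1 - b) (hh I x y a b)) ≤
      sigPiece I ({z}ᶜ : Set (Fin 3)) :=
    le_iSup (fun α : {α : Fin 3 → ℤ // ∀ i, α i < 0 ↔ i ∈ ({z}ᶜ : Set (Fin 3))} =>
      tPiece I α.1) ⟨_, hpat⟩
  rw [hbot, le_bot_iff] at hle
  exact hne' hle

end socle

end Groth.Agent.H43.HilbT
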