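import Groth.Agent.H43.HilbD1
import Groth.Agent.H43.HilbD2

set_option linter.unusedVariables false
set_option linter.unusedSectionVars false
set_option linter.style.longLine false
set_option linter.unusedSimpArgs false
set_option linter.style.haveILetI false

/-! The graded pieces of `T(m^r)` for the `r`-th power of the ideal of variables in any number
`≥ 2` of variables. -/

noncomputable section

namespace Groth.Agent.H43.HilbT

open W4c1hilbpn MvPolynomial
open Groth.Agent.H43.HilbD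

variable {σ : Type*} [Fintype σ] [DecidableEq σ] {k : Type*} [Field k]

/-- the `r`-th power of the ideal of variables -/
abbrev mpowG (σ : Type*) (k : Type*) [Field k] (r : ℕ) : Ideal (MvPolynomial σ k) :=
  (Ideal.span (Set.range (MvPolynomial.X : σ → MvPolynomial σ k))) ^ r

lemma mem_exps_mpowG (r : ℕ) (β : σ →₀ ℕ) :
    β ∈ exps (mpowG σ k r) ↔ r ≤ Finsupp.degree β :=
  MvPolynomial.monomial_mem_pow_idealOfVars_iff r β one_ne_zero

lemma isMonomial_mpowG (r : ℕ) : IsMonomial (mpowG σ k r) := by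
  intro p hp β hβ
  exact (mem_exps_mpowG r β).mpr ((MvPolynomial.mem_pow_idealOfVars_iff r p).mp hp β hβ)

lemma degree_cast (β : σ →₀ ℕ) : ((Finsupp.degree β : ℕ) : ℤ) = ∑ i, (β i : ℤ) := by
  rw [Finsupp.degree_eq_sum, Nat.cast_sum]

lemma tot_toExp {γ : σ → ℤ} (h : NN γ) :
    ((Finsupp.degree (toExp γ) : ℕ) : ℤ) = ∑ i, γ i := by
  rw [degree_cast]
  refine Finset.sum_congr rfl fun i _ => ?_
  rw [toExp_apply]
  exact Int.toNat_of_nonneg (h i)

lemma tot_step (γ : σ → ℤ) (i : σ) :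
    ∑ j, (γ + Pi.single i (1:ℤ) : σ → ℤ) j = ∑ j, γ j + 1 := by
  simp only [Pi.add_apply, Finset.sum_add_distrib]
  rw [Finset.sum_pi_single' i (1:ℤ) Finset.univ, if_pos (Finset.mem_univ i)]

lemma sum_pos_neg (α : σ → ℤ) :
    ∑ i, ((α i).toNat : ℤ) - ((∑ i, (-α i).toNat : ℕ) : ℤ) = ∑ i, α i := by
  rw [Nat.cast_sum, ← Finset.sum_sub_distrib]
  refine Finset.sum_congr rfl fun i _ => ?_
  omega

lemma exists_sh_iff (r : ℕ) (α γ : σ → ℤ) :
    (∃ β ∈ exps (mpowG σ k r), γ = sh β α) ↔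
      (∀ i, α i ≤ γ i) ∧ (r : ℤ) + ∑ i, α i ≤ ∑ i, γ i := by
  constructor
  · rintro ⟨β, hβ, rfl⟩
    rw [mem_exps_mpowG] at hβ
    refine ⟨fun i => by rw [sh_apply]; omega, ?_⟩
    have h1 : ∑ i, sh β α i = ∑ i, (β i : ℤ) + ∑ i, α i := by
      simp only [sh_apply, Finset.sum_add_distrib]
    have h2 := degree_cast β
    rw [h1]
    omega
  · rintro ⟨h1, h2⟩
    refine ⟨toExp (fun i => γ i - α i), ?_, ?_⟩
    · rw [mem_exps_mpowG]
      have hNN : NN (fun i => γ i - α i) := fun i => by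
        have := h1 i
        show 0 ≤ γ i - α i
        omega
      have h3 := tot_toExp hNN
      rw [Finset.sum_sub_distrib] at h3
      omega
    · funext i
      rw [sh_apply, toExp_apply]
      have := h1 i
      omega

lemma mem_region_mpowG (r : ℕ) (α γ : σ → ℤ) :
    γ ∈ region (mpowG σ k r) α ↔ ((∀ i, α i ≤ γ i) ∧ (r : ℤ) + ∑ i, α i ≤ ∑ i, γ i) ∧
      ¬ (NN γ ∧ (r : ℤ) ≤ ∑ i, γ i) := by
  rw [mem_region_iff, exists_sh_iff]
  refine and_congr_right fun _ => not_congr (and_congr_right fun hNN => ?_)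
  rw [mem_exps_mpowG, ← tot_toExp hNN]
  exact Nat.cast_le.symm

/-- the support of the region functions when the total degree is `-1` -/
def Qp (r : ℕ) (α γ : σ → ℤ) : Prop :=
  NN γ ∧ (∀ i, α i ≤ γ i) ∧ ∑ i, γ i = (r : ℤ) - 1

lemma RF_iff_of_neg_one (r : ℕ) (α : σ → ℤ) (hα : ∑ i, α i = -1) (F : (σ → ℤ) → k) :
    F ∈ RF (mpowG σ k r) α ↔ ∀ γ, ¬ Qp r α γ → F γ = 0 := by
  constructor
  · rintro ⟨f1, f2, f3⟩ γ hγ
    by_cases hreg : γ ∈ region (mpowG σ k r) α
    · by_cases hNN : NN γ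
      · exfalso
        apply hγ
        obtain ⟨⟨h1, h2⟩, h3⟩ := (mem_region_mpowG r α γ).mp hreg
        refine ⟨hNN, h1, ?_⟩
        have : ¬ ((r : ℤ) ≤ ∑ i, γ i) := fun h => h3 ⟨hNN, h⟩
        omega
      · exact f2 γ hNN
    · exact f1 γ hreg
  · intro h
    refine ⟨fun γ hγ => h γ (fun hQ => hγ ?_), fun γ hγ => h γ (fun hQ => hγ hQ.1),
      fun γ i h1 h2 => ?_⟩
    · obtain ⟨q1, q2, q3⟩ := hQ
      rw [mem_region_mpowG]
      refine ⟨⟨q2, by omega⟩, fun hh => ?_⟩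
      have := hh.2
      omega
    · have n1 : ¬ Qp r α γ := by
        rintro ⟨q1, q2, q3⟩
        have := ((mem_region_mpowG r α _).mp h2).2
        apply this
        refine ⟨NN_step q1 i, ?_⟩
        rw [tot_step]
        omega
      have n2 : ¬ Qp r α (γ + Pi.single i 1) := by
        rintro ⟨q1, q2, q3⟩
        have := ((mem_region_mpowG r α _).mp h1).1.2
        rw [tot_step] at q3
        omega
      rw [h _ n1, h _ n2]

open Classical in
/-- region functions supported on a finite set -/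
def rfEquivFin (I : Ideal (MvPolynomial σ k)) (α : σ → ℤ) (Qf : Finset (σ → ℤ))
    (hQ : ∀ F : (σ → ℤ) → k, F ∈ RF I α ↔ ∀ γ, γ ∉ Qf → F γ = 0) :
    ↥(RF I α) ≃ₗ[k] (↥Qf → k) where
  toFun F q := F.1 q.1
  map_add' _ _ := rfl
  map_smul' _ _ := rfl
  invFun u := ⟨ext0 Qf u, (hQ _).mpr fun γ h => ext0_not_mem Qf u h⟩
  left_inv F := Subtype.ext (funext fun γ => ext0_res Qf F.1 ((hQ F.1).mp F.2) γ)
  right_inv u := funext fun q => ext0_coe Qf u q

lemma finrank_RF_eq_card (I : Ideal (MvPolynomial σ k)) (α : σ → ℤ) (Qf : Finset (σ → ℤ))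
    (hQ : ∀ F : (σ → ℤ) → k, F ∈ RF I α ↔ ∀ γ, γ ∉ Qf → F γ = 0) :
    Module.finrank k ↥(RF I α) = Qf.card := by
  rw [(rfEquivFin I α Qf hQ).finrank_eq, Module.finrank_fintype_fun_eq_card, Fintype.card_coe]

open Classical in
/-- the lattice points `γ ≥ max(α,0)` of given total above `max(α,0)` -/
def Qfin (α : σ → ℤ) (m : ℕ) : Finset (σ → ℤ) :=
  ((Finset.univ : Finset σ).finsuppAntidiag m).image
    (fun δ : σ →₀ ℕ => fun i => (δ i : ℤ) + ((α i).toNat : ℤ))

lemma mem_Qfin (α : σ → ℤ) (m : ℕ) (γ : σ → ℤ) :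
    γ ∈ Qfin α m ↔
      NN γ ∧ (∀ i, α i ≤ γ i) ∧ ∑ i, γ i = (m : ℤ) + ∑ i, ((α i).toNat : ℤ) := by
  unfold Qfin
  rw [Finset.mem_image]
  constructor
  · rintro ⟨δ, hδ, rfl⟩
    rw [Finset.mem_finsuppAntidiag] at hδ
    refine ⟨fun i => ?_, fun i => ?_, ?_⟩
    · show 0 ≤ (δ i : ℤ) + ((α i).toNat : ℤ)
      omega
    · show α i ≤ (δ i : ℤ) + ((α i).toNat : ℤ)
      omega
    · show ∑ i, ((δ i : ℤ) + ((α i).toNat : ℤ)) = _
      rw [Finset.sum_add_distrib, ← hδ.1, Nat.cast_sum]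
  · rintro ⟨h1, h2, h3⟩
    have hNN : NN (fun i => γ i - ((α i).toNat : ℤ)) := fun i => by
      have := h1 i
      have := h2 i
      show 0 ≤ γ i - ((α i).toNat : ℤ)
      omega
    refine ⟨toExp (fun i => γ i - ((α i).toNat : ℤ)), ?_, ?_⟩
    · rw [Finset.mem_finsuppAntidiag]
      refine ⟨?_, Finset.subset_univ _⟩
      have e1 : ∑ i, ((toExp (fun i => γ i - ((α i).toNat : ℤ)) i : ℕ) : ℤ) =
          ∑ i, (γ i - ((α i).toNat : ℤ)) :=
        Finset.sum_congr rfl fun i _ => by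
          rw [toExp_apply]
          exact Int.toNat_of_nonneg (hNN i)
      rw [Finset.sum_sub_distrib] at e1
      have e2 : ((Finset.univ.sum ⇑(toExp (fun i => γ i - ((α i).toNat : ℤ))) : ℕ) : ℤ) =
          (m : ℤ) := by
        rw [Nat.cast_sum]
        omega
      exact_mod_cast e2
    · funext i
      show ((toExp (fun i => γ i - ((α i).toNat : ℤ)) i : ℕ) : ℤ) + ((α i).toNat : ℤ) = γ i
      rw [toExp_apply]
      have := h1 i
      have := h2 i
      omega

lemma card_Qfin (α : σ → ℤ) (m : ℕ) :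
    (Qfin α m).card = (Fintype.card σ + m - 1).choose m := by
  unfold Qfin
  rw [Finset.card_image_of_injective, Finset.card_finsuppAntidiag_nat_eq_choose,
    Finset.card_univ]
  intro δ δ' e
  ext i
  have : (δ i : ℤ) + ((α i).toNat : ℤ) = (δ' i : ℤ) + ((α i).toNat : ℤ) := congrFun e i
  omega

theorem finrank_tPiece_mpowG_pos (r : ℕ) (α : σ → ℤ) (hα : ∑ i, α i = -1)
    (hw : ∑ i, (-α i).toNat ≤ r) :
    Module.finrank k ↥(tPiece (mpowG σ k r) α) =
      (Fintype.card σ + (r - ∑ i, (-α i).toNat) - 1).choose (r - ∑ i, (-α i).toNat) := by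
  rw [← finrank_RF (isMonomial_mpowG r) α]
  have hsum := sum_pos_neg α
  have hQ : ∀ F : (σ → ℤ) → k, F ∈ RF (mpowG σ k r) α ↔
      ∀ γ, γ ∉ Qfin α (r - ∑ i, (-α i).toNat) → F γ = 0 := by
    intro F
    rw [RF_iff_of_neg_one r α hα]
    have hiff : ∀ γ, γ ∈ Qfin α (r - ∑ i, (-α i).toNat) ↔ Qp r α γ := by
      intro γ
      rw [mem_Qfin]
      unfold Qp
      refine and_congr_right fun _ => and_congr_right fun _ => ?_
      have : (((r - ∑ i, (-α i).toNat : ℕ)) : ℤ) =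
          (r : ℤ) - ((∑ i, (-α i).toNat : ℕ) : ℤ) := Nat.cast_sub hw
      constructor <;> intro h <;> omega
    exact forall_congr' fun γ => by rw [hiff]
  rw [finrank_RF_eq_card _ _ _ hQ, card_Qfin]

lemma RF_zero_of_le (hcard : 2 ≤ Fintype.card σ) (r : ℕ) (α : σ → ℤ) (hα : ∑ i, α i ≤ -2)
    (F : (σ → ℤ) → k) (hF : F ∈ RF (mpowG σ k r) α) : F = 0 := by
  obtain ⟨f1, f2, f3⟩ := hF
  obtain ⟨i0, hi0⟩ : ∃ i0, α i0 < 0 := by
    by_contra hcon
    push Not at hcon
    have : 0 ≤ ∑ i, α i := Finset.sum_nonneg fun i _ => hcon i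
    omega
  obtain ⟨j0, hj0⟩ := Fintype.exists_ne_of_one_lt_card (by omega : 1 < Fintype.card σ) i0
  have down : ∀ γ, γ ∈ region (mpowG σ k r) α → NN γ →
      (r : ℤ) + ∑ i, α i + 1 ≤ ∑ i, γ i →
      (γ - Pi.single i0 1) ∈ region (mpowG σ k r) α ∧ F γ = F (γ - Pi.single i0 1) := by
    intro γ hreg hNN hs
    obtain ⟨⟨h1, h2⟩, h3⟩ := (mem_region_mpowG r α γ).mp hreg
    have hlt : ¬ ((r : ℤ) ≤ ∑ i, γ i) := fun h => h3 ⟨hNN, h⟩
    have hadd : (γ - Pi.single i0 1) + Pi.single i0 1 = γ := sub_add_cancel _ _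
    have htot := tot_step (γ - Pi.single i0 1) i0
    rw [hadd] at htot
    have hreg' : (γ - Pi.single i0 1) ∈ region (mpowG σ k r) α := by
      rw [mem_region_mpowG]
      refine ⟨⟨fun i => ?_, by omega⟩, fun hh => ?_⟩
      · rw [Pi.sub_apply, Pi.single_apply]
        have := h1 i
        have := hNN i
        split_ifs with hi
        · have : α i < 0 := by rw [hi]; exact hi0
          omega
        · omega
      · have := hh.2
        omega
    refine ⟨hreg', ?_⟩
    have := f3 (γ - Pi.single i0 1) i0 hreg' (by rw [hadd]; exact hreg)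
    rw [hadd] at this
    exact this
  have up : ∀ γ, γ ∈ region (mpowG σ k r) α → NN γ → ∑ i, γ i = (r : ℤ) + ∑ i, α i →
      (γ + Pi.single j0 1) ∈ region (mpowG σ k r) α ∧ F (γ + Pi.single j0 1) = F γ := by
    intro γ hreg hNN hs
    obtain ⟨⟨h1, h2⟩, h3⟩ := (mem_region_mpowG r α γ).mp hreg
    have htot := tot_step γ j0
    have hreg' : (γ + Pi.single j0 1) ∈ region (mpowG σ k r) α := by
      rw [mem_region_mpowG]
      refine ⟨⟨fun i => ?_, by omega⟩, fun hh => ?_⟩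
      · rw [Pi.add_apply, Pi.single_apply]
        have := h1 i
        split_ifs <;> omega
      · have := hh.2
        omega
    exact ⟨hreg', f3 γ j0 hreg hreg'⟩
  have reduce : ∀ m : ℕ, (∀ γ, γ ∈ region (mpowG σ k r) α → NN γ →
      (r : ℤ) + ∑ i, α i + 1 ≤ ∑ i, γ i → γ i0 = (m : ℤ) → F γ = 0) →
      ∀ γ, γ ∈ region (mpowG σ k r) α → NN γ → γ i0 = (m : ℤ) → F γ = 0 := by
    intro m aux γ hreg hNN hm
    by_cases hs : (r : ℤ) + ∑ i, α i + 1 ≤ ∑ i, γ i
    · exact aux γ hreg hNN hs hm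
    · have h2 := ((mem_region_mpowG r α γ).mp hreg).1.2
      obtain ⟨hreg', e⟩ := up γ hreg hNN (by omega)
      rw [← e]
      refine aux _ hreg' (NN_step hNN j0) ?_ ?_
      · rw [tot_step]
        omega
      · rw [Pi.add_apply, Pi.single_apply, if_neg hj0.symm, add_zero]
        exact hm
  have main : ∀ m : ℕ, ∀ γ, γ ∈ region (mpowG σ k r) α → NN γ → γ i0 = (m : ℤ) →
      F γ = 0 := by
    intro m
    induction m with
    | zero =>
      refine reduce 0 ?_
      intro γ hreg hNN hs hm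
      obtain ⟨hreg', e⟩ := down γ hreg hNN hs
      rw [e]
      refine f2 _ (fun hh => ?_)
      have := hh i0
      rw [Pi.sub_apply, Pi.single_apply, if_pos rfl] at this
      omega
    | succ m ih =>
      refine reduce (m + 1) ?_
      intro γ hreg hNN hs hm
      obtain ⟨hreg', e⟩ := down γ hreg hNN hs
      rw [e]
      refine ih _ hreg' (fun i => ?_) ?_
      · rw [Pi.sub_apply, Pi.single_apply]
        have := hNN i
        split_ifs with hi
        · rw [hi]
          omega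
        · omega
      · rw [Pi.sub_apply, Pi.single_apply, if_pos rfl]
        omega
  funext γ
  by_cases hreg : γ ∈ region (mpowG σ k r) α
  · by_cases hNN : NN γ
    · exact main (γ i0).toNat γ hreg hNN (by have := hNN i0; omega)
    · exact f2 γ hNN
  · exact f1 γ hreg

theorem tPiece_mpowG_eq_bot (hcard : 2 ≤ Fintype.card σ) (r : ℕ) (α : σ → ℤ)
    (h : ¬ (∑ i, α i = -1 ∧ ∑ i, (-α i).toNat ≤ r)) : tPiece (mpowG σ k r) α = ⊥ := by
  refine tPiece_eq_bot_of_RF (isMonomial_mpowG r) fun F hF => ?_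
  rcases lt_trichotomy (∑ i, α i) (-1) with hlt | heq | hgt
  · exact RF_zero_of_le hcard r α (by omega) F hF
  · have hw : r < ∑ i, (-α i).toNat := by
      by_contra hc
      exact h ⟨heq, by omega⟩
    funext γ
    refine ((RF_iff_of_neg_one r α heq F).mp hF) γ ?_
    rintro ⟨q1, q2, q3⟩
    have hsum := sum_pos_neg α
    have hge : ∑ i, ((α i).toNat : ℤ) ≤ ∑ i, γ i := Finset.sum_le_sum fun i _ => by
      have := q1 i
      have := q2 i
      omega
    omega
  · funext γ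
    obtain ⟨f1, f2, f3⟩ := hF
    by_cases hreg : γ ∈ region (mpowG σ k r) α
    · by_cases hNN : NN γ
      · exfalso
        obtain ⟨⟨h1, h2⟩, h3⟩ := (mem_region_mpowG r α γ).mp hreg
        exact h3 ⟨hNN, by omega⟩
      · exact f2 γ hNN
    · exact f1 γ hreg

end Groth.Agent.H43.HilbT
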