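import Groth.Agent.H43.HilbD1

set_option linter.unusedVariables false
set_option linter.unusedSectionVars false
set_option linter.style.longLine false
set_option linter.unusedSimpArgs false

/-! Syzygy-type description of the region functions of a monomial ideal through a set of monomial
generators (no finiteness of the colength needed), a class-count of the dimension of a graded piece
of `T(I)`, and the dimension of a span of graded pieces. -/

noncomputable section

namespace Groth.Agent.H43.HilbS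

open W4c1hilbpn MvPolynomial
open Groth.Agent.H43.HilbT

variable {σ : Type*} [Fintype σ] [DecidableEq σ] {k : Type*} [Field k]
variable {I : Ideal (MvPolynomial σ k)} {α : σ → ℤ}

/-! ### ideals generated by monomials -/

lemma exps_span_monomials (Gs : Set (σ →₀ ℕ)) (β : σ →₀ ℕ) :
    β ∈ exps (Ideal.span ((fun s => monomial s (1:k)) '' Gs)) ↔ ∃ g ∈ Gs, g ≤ β := by
  classical
  show monomial β (1:k) ∈ Ideal.span ((fun s => monomial s (1:k)) '' Gs) ↔ _
  rw [mem_ideal_span_monomial_image]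
  constructor
  · intro h
    exact h β (by rw [support_monomial, if_neg one_ne_zero]; exact Finset.mem_singleton_self β)
  · intro h xi hxi
    rw [support_monomial, if_neg one_ne_zero, Finset.mem_singleton] at hxi
    rw [hxi]; exact h

lemma isMonomial_span_monomials (Gs : Set (σ →₀ ℕ)) :
    IsMonomial (Ideal.span ((fun s => monomial s (1:k)) '' Gs)) := by
  intro p hp β hβ
  rw [mem_ideal_span_monomial_image] at hp
  exact (exps_span_monomials Gs β).mpr (hp β hβ)

lemma two_single_le {β : σ →₀ ℕ} {x b : σ} (h1 : 1 ≤ β x) (h2 : 1 ≤ β b)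
    (h3 : x = b → 2 ≤ β x) : Finsupp.single x 1 + Finsupp.single b 1 ≤ β := by
  rw [Finsupp.le_def]
  intro y
  rw [Finsupp.add_apply, Finsupp.single_apply, Finsupp.single_apply]
  by_cases hx : x = y
  · by_cases hb : b = y
    · rw [if_pos hx, if_pos hb]
      have := h3 (hx.trans hb.symm)
      rw [hx] at this
      omega
    · rw [if_pos hx, if_neg hb]
      rw [hx] at h1
      omega
  · by_cases hb : b = y
    · rw [if_neg hx, if_pos hb]
      rw [hb] at h2
      omega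
    · rw [if_neg hx, if_neg hb]
      omega

lemma le_of_two_single_le {β : σ →₀ ℕ} {x b : σ}
    (h : Finsupp.single x 1 + Finsupp.single b 1 ≤ β) :
    1 ≤ β x ∧ 1 ≤ β b ∧ (x = b → 2 ≤ β x) := by
  rw [Finsupp.le_def] at h
  refine ⟨?_, ?_, ?_⟩
  · have := h x
    rw [Finsupp.add_apply, Finsupp.single_eq_same] at this
    omega
  · have := h b
    rw [Finsupp.add_apply, Finsupp.single_eq_same] at this
    omega
  · rintro rfl
    have := h x
    rw [Finsupp.add_apply, Finsupp.single_eq_same] at this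
    omega

/-! ### admissible values -/

variable (I) in
/-- `γ` is not a nonnegative exponent vector of `I` -/
def Ok (γ : σ → ℤ) : Prop := ¬ (NN γ ∧ toExp γ ∈ exps I)

lemma ok_of_le {γ γ' : σ → ℤ} (hle : ∀ i, γ i ≤ γ' i) (h : Ok I γ') : Ok I γ := by
  rintro ⟨h1, h2⟩
  apply h
  refine ⟨fun i => le_trans (h1 i) (hle i), exps_of_le h2 ?_⟩
  rw [Finsupp.le_def]
  intro i
  rw [toExp_apply, toExp_apply]
  exact Int.toNat_le_toNat (hle i)

lemma sh_mono {β β' : σ →₀ ℕ} (h : β ≤ β') (α : σ → ℤ) (i : σ) : sh β α i ≤ sh β' α i := by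
  have := Finsupp.le_def.mp h i
  rw [sh_apply, sh_apply]
  omega

lemma rf_bad {F : (σ → ℤ) → k} (hF : F ∈ RF I α) {γ : σ → ℤ} (h : ¬ (NN γ ∧ Ok I γ)) :
    F γ = 0 := by
  by_cases hNN : NN γ
  · exact hF.1 γ (fun hr => h ⟨hNN, hr.2⟩)
  · exact hF.2.1 γ hNN

lemma rf_add {F : (σ → ℤ) → k} (hF : F ∈ RF I α) (δ : σ →₀ ℕ) :
    ∀ β : σ →₀ ℕ, β ∈ exps I → Ok I (sh (β + δ) α) → F (sh (β + δ) α) = F (sh β α) := by
  induction δ using Finsupp.induction_linear with
  | zero => intro β _ _; rw [add_zero]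
  | add f g hf hg =>
    intro β hβ hok
    have h1 : Ok I (sh (β + f) α) :=
      ok_of_le (fun i => by simp only [sh_apply, Finsupp.add_apply]; omega) hok
    rw [← add_assoc] at hok ⊢
    rw [hg (β + f) (exps_add hβ f) hok, hf β hβ h1]
  | single a b =>
    induction b with
    | zero => intro β _ _; rw [Finsupp.single_zero, add_zero]
    | succ b ih =>
      intro β hβ hok
      have e : β + Finsupp.single a (b + 1) = (β + Finsupp.single a b) + Finsupp.single a 1 := by
        rw [add_assoc, ← Finsupp.single_add]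
      rw [e] at hok ⊢
      have h1 : Ok I (sh (β + Finsupp.single a b) α) :=
        ok_of_le (fun i => by simp only [sh_apply, Finsupp.add_apply]; omega) hok
      rw [sh_step] at hok ⊢
      have hr1 : sh (β + Finsupp.single a b) α ∈ region I α :=
        ⟨⟨_, exps_add hβ _, rfl⟩, h1⟩
      have hr2 : sh (β + Finsupp.single a b) α + Pi.single a 1 ∈ region I α :=
        ⟨⟨_, exps_add (exps_add hβ _) (Finsupp.single a 1), (sh_step _ _ _).symm⟩, hok⟩
      rw [hF.2.2 _ a hr1 hr2]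
      exact ih β hβ h1

lemma rf_le {F : (σ → ℤ) → k} (hF : F ∈ RF I α) {g β : σ →₀ ℕ} (hg : g ∈ exps I)
    (hle : g ≤ β) (hok : Ok I (sh β α)) : F (sh β α) = F (sh g α) := by
  obtain ⟨δ, rfl⟩ := le_iff_exists_add.mp hle
  exact rf_add hF δ g hg hok

lemma rf_pair {F : (σ → ℤ) → k} (hF : F ∈ RF I α) {g g' β : σ →₀ ℕ} (hg : g ∈ exps I)
    (hg' : g' ∈ exps I) (h1 : g ≤ β) (h2 : g' ≤ β) (hok : Ok I (sh β α)) :
    F (sh g α) = F (sh g' α) :=
  (rf_le hF hg h1 hok).symm.trans (rf_le hF hg' h2 hok)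

/-- a generator value is killed by a neighbouring generator with a negative entry -/
lemma rf_kill {F : (σ → ℤ) → k} (hF : F ∈ RF I α) {g g' β : σ →₀ ℕ} (hg : g ∈ exps I)
    (hg' : g' ∈ exps I) (h1 : g ≤ β) (h2 : g' ≤ β) (hok : Ok I (sh β α))
    (hbad : ¬ (NN (sh g' α) ∧ Ok I (sh g' α))) : F (sh g α) = 0 :=
  (rf_pair hF hg hg' h1 h2 hok).trans (rf_bad hF hbad)

section gens

variable (Gs : Set (σ →₀ ℕ)) (hG : ∀ β, β ∈ exps I → ∃ g ∈ Gs, g ≤ β)
  (hGs : ∀ g ∈ Gs, g ∈ exps I)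
include hG hGs

lemma rf_eq_zero {F : (σ → ℤ) → k} (hF : F ∈ RF I α) (h : ∀ g ∈ Gs, F (sh g α) = 0) :
    F = 0 := by
  funext γ
  show F γ = 0
  by_cases hr : γ ∈ region I α
  · obtain ⟨⟨β, hβ, hγ⟩, hok⟩ := hr
    have hγ' : γ = sh β α := hγ
    subst hγ'
    obtain ⟨g, hg, hle⟩ := hG β hβ
    rw [rf_le hF (hGs g hg) hle hok, h g hg]
  · exact hF.1 γ hr

lemma rf_mk (c : (σ →₀ ℕ) → k)
    (h1 : ∀ g ∈ Gs, ¬ (NN (sh g α) ∧ Ok I (sh g α)) → c g = 0)
    (h2 : ∀ g ∈ Gs, ∀ g' ∈ Gs, ∀ β, g ≤ β → g' ≤ β → Ok I (sh β α) → c g = c g') :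
    ∃ F ∈ RF I α, ∀ g ∈ Gs, F (sh g α) = c g := by
  classical
  have hex : ∀ γ : σ → ℤ, γ ∈ region I α →
      ∃ g, g ∈ Gs ∧ ∃ β, β ∈ exps I ∧ γ = sh β α ∧ g ≤ β := by
    rintro γ ⟨⟨β, hβ, hγ⟩, _⟩
    obtain ⟨g, hg, hle⟩ := hG β hβ
    exact ⟨g, hg, β, hβ, hγ, hle⟩
  let F : (σ → ℤ) → k := fun γ =>
    if h : γ ∈ region I α ∧ NN γ then c (Classical.choose (hex γ h.1)) else 0
  have F0 : ∀ γ, ¬ (γ ∈ region I α ∧ NN γ) → F γ = 0 := fun γ h => dif_neg h
  have Fspec : ∀ (β g : σ →₀ ℕ), g ∈ Gs → g ≤ β → sh β α ∈ region I α → NN (sh β α) →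
      F (sh β α) = c g := by
    intro β g hg hle hr hNN
    have hd : F (sh β α) = c (Classical.choose (hex (sh β α) hr)) := dif_pos ⟨hr, hNN⟩
    rw [hd]
    obtain ⟨hg0, β0, hβ0, e0, hle0⟩ := Classical.choose_spec (hex (sh β α) hr)
    have hb : β = β0 := sh_injective α e0
    rw [← hb] at hle0
    exact h2 _ hg0 g hg β hle0 hle hr.2
  refine ⟨F, ⟨fun γ hγ => F0 γ (fun h => hγ h.1), fun γ hγ => F0 γ (fun h => hγ h.2), ?_⟩, ?_⟩
  · intro γ i hr hr'
    obtain ⟨⟨β, hβ, hγ⟩, hok⟩ := hr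
    have hγ' : γ = sh β α := hγ
    subst hγ'
    obtain ⟨g, hg, hle⟩ := hG β hβ
    have hle' : g ≤ β + Finsupp.single i 1 := le_trans hle le_self_add
    rw [← sh_step] at hr' ⊢
    by_cases hNN' : NN (sh (β + Finsupp.single i 1) α)
    · rw [Fspec _ g hg hle' hr' hNN']
      by_cases hNN : NN (sh β α)
      · rw [Fspec β g hg hle ⟨⟨β, hβ, rfl⟩, hok⟩ hNN]
      · rw [F0 (sh β α) (fun h => hNN h.2)]
        apply h1 g hg
        rintro ⟨hn, _⟩
        apply hNN
        intro j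
        have := hn j
        have := sh_mono hle α j
        omega
    · rw [F0 _ (fun h => hNN' h.2)]
      have hNN : ¬ NN (sh β α) := fun h => hNN' (by rw [sh_step]; exact NN_step h i)
      exact (F0 _ (fun h => hNN h.2)).symm
  · intro g hg
    by_cases hgood : NN (sh g α) ∧ Ok I (sh g α)
    · exact Fspec g g hg le_rfl ⟨⟨g, hGs g hg, rfl⟩, hgood.2⟩ hgood.1
    · rw [h1 g hg hgood]
      exact F0 _ (fun h => hgood ⟨h.2, h.1.2⟩)

/-- class count of the dimension of a graded piece -/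
theorem finrank_of_classes (hI : IsMonomial I) {d : ℕ} (κ : (σ → ℤ) → Option (Fin d))
    (r : Fin d → (σ →₀ ℕ))
    (hgood : ∀ g ∈ Gs, ∀ m, κ (sh g α) = some m → NN (sh g α) ∧ Ok I (sh g α))
    (hstab : ∀ g ∈ Gs, ∀ β, g ≤ β → Ok I (sh β α) → κ (sh g α) = κ (sh β α))
    (hnone : ∀ F ∈ RF I α, ∀ g ∈ Gs, κ (sh g α) = none → F (sh g α) = 0)
    (hsome : ∀ F ∈ RF I α, ∀ g ∈ Gs, ∀ m, κ (sh g α) = some m → F (sh g α) = F (sh (r m) α))
    (hr : ∀ m, r m ∈ Gs ∧ κ (sh (r m) α) = some m) :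
    Module.Finite k ↥(tPiece I α) ∧ Module.finrank k ↥(tPiece I α) = d := by
  classical
  let ev : ↥(RF I α) →ₗ[k] (Fin d → k) :=
    { toFun := fun F m => F.1 (sh (r m) α)
      map_add' := fun _ _ => rfl
      map_smul' := fun _ _ => rfl }
  have hinj : Function.Injective ev := by
    rw [← LinearMap.ker_eq_bot, Submodule.eq_bot_iff]
    intro F hF0
    have h0 : ∀ m, F.1 (sh (r m) α) = 0 := fun m => congrFun (LinearMap.mem_ker.mp hF0) m
    apply Subtype.ext
    apply rf_eq_zero Gs hG hGs F.2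
    intro g hg
    cases hk : κ (sh g α) with
    | none => exact hnone F.1 F.2 g hg hk
    | some m => rw [hsome F.1 F.2 g hg m hk, h0 m]
  have hsurj : Function.Surjective ev := by
    intro f
    let c : (σ →₀ ℕ) → k := fun g => match κ (sh g α) with
      | none => 0
      | some m => f m
    have hc1 : ∀ g ∈ Gs, ¬ (NN (sh g α) ∧ Ok I (sh g α)) → c g = 0 := by
      intro g hg hbad
      show (match κ (sh g α) with | none => 0 | some m => f m) = 0
      cases hk : κ (sh g α) with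
      | none => rfl
      | some m => exact absurd (hgood g hg m hk) hbad
    have hc2 : ∀ g ∈ Gs, ∀ g' ∈ Gs, ∀ β, g ≤ β → g' ≤ β → Ok I (sh β α) → c g = c g' := by
      intro g hg g' hg' β h1 h2 hok
      show (match κ (sh g α) with | none => 0 | some m => f m) =
        (match κ (sh g' α) with | none => 0 | some m => f m)
      rw [hstab g hg β h1 hok, hstab g' hg' β h2 hok]
    obtain ⟨F, hF, hFc⟩ := rf_mk Gs hG hGs c hc1 hc2
    refine ⟨⟨F, hF⟩, funext fun m => ?_⟩
    show F (sh (r m) α) = f m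
    rw [hFc (r m) (hr m).1]
    show (match κ (sh (r m) α) with | none => 0 | some m => f m) = f m
    rw [(hr m).2]
  let e : ↥(RF I α) ≃ₗ[k] (Fin d → k) := LinearEquiv.ofBijective ev ⟨hinj, hsurj⟩
  let e' : (Fin d → k) ≃ₗ[k] ↥(tPiece I α) := e.symm.trans (rfT hI α)
  refine ⟨Module.Finite.equiv e', ?_⟩
  rw [← e'.finrank_eq, Module.finrank_fin_fun]

omit hG hGs in
lemma dummy_gens : True := trivial

end gens

/-! ### nonnegative vectors of total degree one -/

lemma nn_sum_one {γ : σ → ℤ} (hNN : NN γ) (hs : ∑ i, γ i = 1) : ∃ y, γ = Pi.single y 1 := by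
  have hex : ∃ y, 1 ≤ γ y := by
    by_contra hcon
    push Not at hcon
    have : ∑ i, γ i = 0 :=
      Finset.sum_eq_zero (fun i _ => by have := hcon i; have := hNN i; omega)
    omega
  obtain ⟨y, hy⟩ := hex
  have hsplit := Fintype.sum_eq_add_sum_compl y γ
  have hnn : 0 ≤ ∑ i ∈ ({y}ᶜ : Finset σ), γ i := Finset.sum_nonneg (fun i _ => hNN i)
  have hy1 : γ y = 1 := by omega
  have hrest : ∑ i ∈ ({y}ᶜ : Finset σ), γ i = 0 := by omega
  have hz := (Finset.sum_eq_zero_iff_of_nonneg (fun i _ => hNN i)).mp hrest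
  refine ⟨y, funext fun i => ?_⟩
  by_cases hi : i = y
  · rw [hi, Pi.single_eq_same, hy1]
  · rw [Pi.single_eq_of_ne hi]
    exact hz i (by rw [Finset.mem_compl, Finset.mem_singleton]; exact hi)

/-! ### spans of graded pieces -/

theorem finrank_iSup_of_finset (hI : IsMonomial I) (P : (σ → ℤ) → Prop) (s : Finset (σ → ℤ))
    (hs : ∀ α, P α → α ∉ s → tPiece I α = ⊥) (hs' : ∀ α ∈ s, P α)
    (hfin : ∀ α ∈ s, Module.Finite k ↥(tPiece I α)) :
    Module.finrank k ↥(⨆ α : {α : σ → ℤ // P α}, tPiece I α.1) =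
      ∑ α ∈ s, Module.finrank k ↥(tPiece I α) := by
  classical
  have e : (⨆ α : {α : σ → ℤ // P α}, tPiece I α.1) = s.sup (fun α => tPiece I α) := by
    apply le_antisymm
    · refine iSup_le fun α => ?_
      by_cases h : α.1 ∈ s
      · exact Finset.le_sup (f := fun α => tPiece I α) h
      · rw [hs α.1 α.2 h]; exact bot_le
    · refine Finset.sup_le fun α hα => ?_
      exact le_iSup (fun α : {α : σ → ℤ // P α} => tPiece I α.1) ⟨α, hs' α hα⟩
  rw [e]
  exact (finrank_finset_sup_eq _ (tPiece_indep hI) s hfin).2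

end Groth.Agent.H43.HilbS
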