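import Groth.Agent.H43.HilbS6

set_option linter.unusedVariables false
set_option linter.unusedSectionVars false
set_option linter.style.longLine false
set_option linter.unusedSimpArgs false
set_option linter.unusedTactic false
set_option linter.unreachableTactic false

/-! The ideal `x_0 (x_0, …, x_{n-1}) + x_1^q (x_1, …, x_{n-r-1})` of `k[x_0, …, x_n]`: exponents and
the graded pieces of `T(I)` in the families of nonzero multidegrees. -/

noncomputable section

namespace Groth.Agent.H43.HilbS47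

open W4c1hilbpn MvPolynomial
open Groth.Agent.H43.HilbT Groth.Agent.H43.HilbS

variable {n q r : ℕ} {k : Type*} [Field k]

/-- the ideal -/
abbrev I47 (n q r : ℕ) (k : Type*) [Field k] : Ideal (MvPolynomial (Fin (n + 1)) k) :=
  Ideal.span ({f : MvPolynomial (Fin (n + 1)) k | ∃ i : Fin (n + 1), i.val + 1 ≤ n ∧ f = MvPolynomial.X 0 * MvPolynomial.X i} ∪ {f : MvPolynomial (Fin (n + 1)) k | ∃ i : Fin (n + 1), 1 ≤ i.val ∧ i.val ≤ n - r - 1 ∧ f = MvPolynomial.X 1 ^ q * MvPolynomial.X i})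

/-- exponent of `x_u x_b` -/
def g1 (u b : Fin (n + 1)) : Fin (n + 1) →₀ ℕ := Finsupp.single u 1 + Finsupp.single b 1

/-- exponent of `x_v ^ q x_i` -/
def g3 (v i : Fin (n + 1)) (q : ℕ) : Fin (n + 1) →₀ ℕ := Finsupp.single v q + Finsupp.single i 1

lemma ite_comm' (a x : Fin (n + 1)) (t : ℕ) : (if a = x then t else 0) = if x = a then t else 0 := by
  by_cases h : a = x
  · rw [if_pos h, if_pos h.symm]
  · rw [if_neg h, if_neg (fun h' => h h'.symm)]

lemma g1_apply (u b x : Fin (n + 1)) :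
    g1 u b x = (if x = u then 1 else 0) + (if x = b then 1 else 0) := by
  have e : ∀ (a : Fin (n + 1)) (t : ℕ), (if a = x then t else 0) = if x = a then t else 0 :=
    fun a t => ite_comm' a x t
  unfold g1
  rw [Finsupp.add_apply, Finsupp.single_apply, Finsupp.single_apply, e, e]

lemma g3_apply (v i x : Fin (n + 1)) (q : ℕ) :
    g3 v i q x = (if x = v then q else 0) + (if x = i then 1 else 0) := by
  have e : ∀ (a : Fin (n + 1)) (t : ℕ), (if a = x then t else 0) = if x = a then t else 0 :=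
    fun a t => ite_comm' a x t
  unfold g3
  rw [Finsupp.add_apply, Finsupp.single_apply, Finsupp.single_apply, e, e]

/-- exponents of the generators -/
def Gs47 (n q r : ℕ) : Set (Fin (n + 1) →₀ ℕ) :=
  {g | (∃ x b : Fin (n + 1), x.val = 0 ∧ b.val + 1 ≤ n ∧ g = g1 x b) ∨
    (∃ x i : Fin (n + 1), x.val = 1 ∧ 1 ≤ i.val ∧ i.val + r + 1 ≤ n ∧ g = g3 x i q)}

lemma val_one (hn : 3 ≤ n) : ((1 : Fin (n + 1)) : ℕ) = 1 := by
  rw [Fin.val_one']; exact Nat.mod_eq_of_lt (by omega)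

lemma gens_eq (hr : r + 3 ≤ n) :
    ({f : MvPolynomial (Fin (n + 1)) k | ∃ i : Fin (n + 1), i.val + 1 ≤ n ∧ f = MvPolynomial.X 0 * MvPolynomial.X i} ∪ {f : MvPolynomial (Fin (n + 1)) k | ∃ i : Fin (n + 1), 1 ≤ i.val ∧ i.val ≤ n - r - 1 ∧ f = MvPolynomial.X 1 ^ q * MvPolynomial.X i}) =
      (fun s => monomial s (1:k)) '' Gs47 n q r := by
  have hXX : ∀ x b : Fin (n + 1), (X x * X b : MvPolynomial (Fin (n + 1)) k) =
      monomial (g1 x b) 1 := by
    intro x b
    show monomial (Finsupp.single x 1) (1:k) * monomial (Finsupp.single b 1) 1 = _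
    rw [monomial_mul, one_mul]
    rfl
  have hXq : ∀ x i : Fin (n + 1), (X x ^ q * X i : MvPolynomial (Fin (n + 1)) k) =
      monomial (g3 x i q) 1 := by
    intro x i
    rw [X_pow_eq_monomial]
    show monomial (Finsupp.single x q) (1:k) * monomial (Finsupp.single i 1) 1 = _
    rw [monomial_mul, one_mul]
    rfl
  ext f
  constructor
  · rintro (⟨i, hi, rfl⟩ | ⟨i, hi1, hi2, rfl⟩)
    · exact ⟨_, Or.inl ⟨0, i, by simp, hi, rfl⟩, (hXX 0 i).symm⟩
    · exact ⟨_, Or.inr ⟨1, i, val_one (by omega), hi1, by omega, rfl⟩, (hXq 1 i).symm⟩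
  · rintro ⟨g, (⟨x, b, hx, hb, rfl⟩ | ⟨x, i, hx, hi1, hi2, rfl⟩), rfl⟩
    · show monomial (g1 x b) (1:k) ∈ _
      rw [← hXX]
      have hx' : x = 0 := Fin.ext hx
      rw [hx']
      exact Or.inl ⟨b, hb, rfl⟩
    · show monomial (g3 x i q) (1:k) ∈ _
      rw [← hXq]
      have hx' : x = 1 := Fin.ext (by rw [val_one (by omega)]; exact hx)
      rw [hx']
      exact Or.inr ⟨i, hi1, by omega, rfl⟩

lemma I47_eq (hr : r + 3 ≤ n) :
    I47 n q r k = Ideal.span ((fun s => monomial s (1:k)) '' Gs47 n q r) := by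
  show Ideal.span _ = _
  rw [gens_eq hr]

lemma exps_I47 (hr : r + 3 ≤ n) (β : Fin (n + 1) →₀ ℕ) :
    β ∈ exps (I47 n q r k) ↔ ∃ g ∈ Gs47 n q r, g ≤ β := by
  rw [I47_eq hr]
  exact exps_span_monomials _ β

lemma isMonomial_I47 (hr : r + 3 ≤ n) : IsMonomial (I47 n q r k) := by
  rw [I47_eq hr]
  exact isMonomial_span_monomials _

lemma hG47 (hr : r + 3 ≤ n) : ∀ β, β ∈ exps (I47 n q r k) → ∃ g ∈ Gs47 n q r, g ≤ β :=
  fun β h => (exps_I47 hr β).mp h

lemma hGs47 (hr : r + 3 ≤ n) : ∀ g ∈ Gs47 n q r, g ∈ exps (I47 n q r k) :=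
  fun g hg => (exps_I47 hr g).mpr ⟨g, hg, le_rfl⟩

/-! ### positions of the variables -/

/-- `u = x_0`, `v = x_1` and the standing assumptions -/
structure Pos47 (n q r : ℕ) (u v : Fin (n + 1)) : Prop where
  hu : u.val = 0
  hv : v.val = 1
  hq : 1 ≤ q
  hr0 : 1 ≤ r
  hr : r + 3 ≤ n

/-- the variables `x_1, …, x_{n-1}` -/
def Lo (n : ℕ) (j : Fin (n + 1)) : Prop := 1 ≤ j.val ∧ j.val + 1 ≤ n

/-- the variables `x_2, …, x_{n-r-1}` -/
def IM (n r : ℕ) (i : Fin (n + 1)) : Prop := 2 ≤ i.val ∧ i.val + r + 1 ≤ n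

/-- the variables `x_{n-r}, …, x_{n-1}` -/
def Out (n r : ℕ) (o : Fin (n + 1)) : Prop := n ≤ o.val + r ∧ o.val + 1 ≤ n

lemma ne_of_val_ne {x y : Fin (n + 1)} (h : x.val ≠ y.val) : x ≠ y :=
  fun e => h (congrArg Fin.val e)

variable {u v : Fin (n + 1)}

lemma gs_cases (P : Pos47 n q r u v) {g : Fin (n + 1) →₀ ℕ} (hg : g ∈ Gs47 n q r) :
    (∃ b : Fin (n + 1), b.val + 1 ≤ n ∧ g = g1 u b) ∨
      (∃ i : Fin (n + 1), 1 ≤ i.val ∧ i.val + r + 1 ≤ n ∧ g = g3 v i q) := by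
  have hPu := P.hu
  have hPv := P.hv
  rcases hg with ⟨x, b, hx, hb, rfl⟩ | ⟨x, i, hx, hi1, hi2, rfl⟩
  · have hxu : x = u := Fin.ext (by omega)
    rw [hxu]
    exact Or.inl ⟨b, hb, rfl⟩
  · have hxv : x = v := Fin.ext (by omega)
    rw [hxv]
    exact Or.inr ⟨i, hi1, hi2, rfl⟩

lemma g1_mem (P : Pos47 n q r u v) {b : Fin (n + 1)} (hb : b.val + 1 ≤ n) :
    g1 u b ∈ Gs47 n q r :=
  Or.inl ⟨u, b, P.hu, hb, rfl⟩

lemma g3_mem (P : Pos47 n q r u v) {i : Fin (n + 1)} (hi1 : 1 ≤ i.val) (hi2 : i.val + r + 1 ≤ n) :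
    g3 v i q ∈ Gs47 n q r :=
  Or.inr ⟨v, i, P.hv, hi1, hi2, rfl⟩

lemma mem_exps_iff (P : Pos47 n q r u v) (β : Fin (n + 1) →₀ ℕ) :
    β ∈ exps (I47 n q r k) ↔
      2 ≤ β u ∨ (1 ≤ β u ∧ ∃ j, Lo n j ∧ 1 ≤ β j) ∨ q + 1 ≤ β v ∨
        (q ≤ β v ∧ ∃ i, IM n r i ∧ 1 ≤ β i) := by
  have hPu := P.hu
  have hPv := P.hv
  have hPr := P.hr
  rw [exps_I47 P.hr]
  constructor
  · rintro ⟨g, hg, hle⟩
    rcases gs_cases P hg with ⟨b, hb, rfl⟩ | ⟨i, hi1, hi2, rfl⟩
    · have hle' : Finsupp.single u 1 + Finsupp.single b 1 ≤ β := hle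
      obtain ⟨h1, h2, h3⟩ := le_of_two_single_le hle'
      by_cases hbu : b = u
      · left; exact h3 hbu.symm
      · right; left
        have hbv : b.val ≠ u.val := fun e => hbu (Fin.ext e)
        exact ⟨h1, b, ⟨by omega, hb⟩, h2⟩
    · have hv' := Finsupp.le_def.mp hle v
      have hi' := Finsupp.le_def.mp hle i
      rw [g3_apply] at hv' hi'
      by_cases hiv : i = v
      · right; right; left
        rw [if_pos rfl, if_pos hiv.symm] at hv'
        exact hv'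
      · right; right; right
        have hiv' : i.val ≠ v.val := fun e => hiv (Fin.ext e)
        rw [if_pos rfl, if_neg (fun e => hiv e.symm)] at hv'
        rw [if_neg hiv, if_pos rfl] at hi'
        exact ⟨by omega, i, ⟨by omega, hi2⟩, by omega⟩
  · rintro (h | ⟨h, j, ⟨hj1, hj2⟩, hj⟩ | h | ⟨h, i, ⟨hi1, hi2⟩, hi⟩)
    · exact ⟨g1 u u, g1_mem P (by omega), two_single_le (by omega) (by omega) (fun _ => h)⟩
    · have hne : u ≠ j := ne_of_val_ne (by omega)
      exact ⟨g1 u j, g1_mem P hj2, two_single_le h hj (fun e => absurd e hne)⟩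
    · refine ⟨g3 v v q, g3_mem P (by omega) (by omega), ?_⟩
      rw [Finsupp.le_def]
      intro x
      rw [g3_apply]
      by_cases hx : x = v
      · rw [if_pos hx, if_pos hx, hx]; exact h
      · rw [if_neg hx, if_neg hx]; omega
    · refine ⟨g3 v i q, g3_mem P (by omega) hi2, ?_⟩
      have hiv : i ≠ v := ne_of_val_ne (by omega)
      rw [Finsupp.le_def]
      intro x
      rw [g3_apply]
      by_cases hx : x = v
      · have hxi : ¬ x = i := fun e => hiv (e.symm.trans hx)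
        rw [if_pos hx, if_neg hxi, hx]; omega
      · rw [if_neg hx]
        by_cases hx' : x = i
        · rw [if_pos hx', hx']; omega
        · rw [if_neg hx']; omega

lemma ok_iff (P : Pos47 n q r u v) (γ : Fin (n + 1) → ℤ) :
    Ok (I47 n q r k) γ ↔
      ¬ (NN γ ∧ (2 ≤ γ u ∨ (1 ≤ γ u ∧ ∃ j, Lo n j ∧ 1 ≤ γ j) ∨ (q : ℤ) + 1 ≤ γ v ∨
        ((q : ℤ) ≤ γ v ∧ ∃ i, IM n r i ∧ 1 ≤ γ i))) := by
  unfold Ok
  refine not_congr (and_congr_right fun hNN => ?_)
  rw [mem_exps_iff P]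
  have hu := hNN u
  have hv := hNN v
  simp only [toExp_apply]
  constructor
  · rintro (h | ⟨h, j, hm, hj⟩ | h | ⟨h, i, hm, hi⟩)
    · left; omega
    · right; left; exact ⟨by omega, j, hm, by omega⟩
    · right; right; left; omega
    · right; right; right; exact ⟨by omega, i, hm, by omega⟩
  · rintro (h | ⟨h, j, hm, hj⟩ | h | ⟨h, i, hm, hi⟩)
    · left; omega
    · right; left; exact ⟨by omega, j, hm, by omega⟩
    · right; right; left; omega
    · right; right; right; exact ⟨by omega, i, hm, by omega⟩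

lemma not_ok_of (P : Pos47 n q r u v) {γ : Fin (n + 1) → ℤ} (hNN : NN γ)
    (h : 2 ≤ γ u ∨ (1 ≤ γ u ∧ ∃ j, Lo n j ∧ 1 ≤ γ j) ∨ (q : ℤ) + 1 ≤ γ v ∨
      ((q : ℤ) ≤ γ v ∧ ∃ i, IM n r i ∧ 1 ≤ γ i)) :
    ¬ Ok (I47 n q r k) γ :=
  fun hok => (ok_iff P γ).mp hok ⟨hNN, h⟩

lemma ok_of (P : Pos47 n q r u v) {γ : Fin (n + 1) → ℤ}
    (h : ¬ (2 ≤ γ u ∨ (1 ≤ γ u ∧ ∃ j, Lo n j ∧ 1 ≤ γ j) ∨ (q : ℤ) + 1 ≤ γ v ∨
      ((q : ℤ) ≤ γ v ∧ ∃ i, IM n r i ∧ 1 ≤ γ i))) :
    Ok (I47 n q r k) γ :=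
  (ok_iff P γ).mpr (fun h' => h h'.2)

/-! ### the multidegrees -/

/-- `e_c - e_b` -/
def δ (c b : Fin (n + 1)) : Fin (n + 1) → ℤ := fun x =>
  (if x = c then 1 else 0) - (if x = b then 1 else 0)

/-- `e_u + q e_n - q e_v - e_i` -/
def αG (u v i : Fin (n + 1)) (q : ℕ) : Fin (n + 1) → ℤ := fun x =>
  (if x = u then 1 else 0) + (if x = Fin.last n then (q : ℤ) else 0) -
    (if x = v then (q : ℤ) else 0) - (if x = i then 1 else 0)

/-- `m - q e_v` -/
def αE (v : Fin (n + 1)) (q : ℕ) (m : Fin (n + 1) →₀ ℕ) : Fin (n + 1) → ℤ := fun x =>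
  (m x : ℤ) - (if x = v then (q : ℤ) else 0)


/-- evaluate an entry of a shifted least common multiple of generators -/
macro "ev47" : tactic =>
  `(tactic| (simp only [sh_apply, Finsupp.sup_apply, g1_apply, g3_apply, δ, αG, αE,
      Fin.ext_iff, Fin.val_last]; first | done | omega | (split_ifs <;> omega)))

/-- evaluate an entry of a shifted least common multiple of generators in a hypothesis -/
macro "ev47h" h:ident : tactic =>
  `(tactic| (simp only [sh_apply, Finsupp.sup_apply, g1_apply, g3_apply, δ, αG, αE,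
      Fin.ext_iff, Fin.val_last] at $h:ident; first | done | omega | (split_ifs at $h:ident <;> omega)))

/-- transfer an entry inequality from a hypothesis to the goal -/
macro "ev47t" h:ident : tactic =>
  `(tactic| (simp only [sh_apply, Finsupp.sup_apply, g1_apply, g3_apply, δ, αG, αE,
      Fin.ext_iff, Fin.val_last] at $h:ident ⊢; first | done | omega | (split_ifs at $h:ident ⊢ <;> omega)))

set_option hygiene false in
macro "ev47hi" : tactic =>
  `(tactic| (simp only [sh_apply, Finsupp.sup_apply, g1_apply, g3_apply, δ, αG, αE,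
      Fin.ext_iff, Fin.val_last] at h hi; first | done | omega | (split_ifs at h hi <;> omega)))

set_option hygiene false in
macro "ev47hj" : tactic =>
  `(tactic| (simp only [sh_apply, Finsupp.sup_apply, g1_apply, g3_apply, δ, αG, αE,
      Fin.ext_iff, Fin.val_last] at h hj; first | done | omega | (split_ifs at h hj <;> omega)))

/-! ### three classes of admissible generators -/

theorem finrank_three_of_links {σ : Type*} [Fintype σ] [DecidableEq σ]
    {I : Ideal (MvPolynomial σ k)} {α : σ → ℤ} (Gs : Set (σ →₀ ℕ))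
    (hG : ∀ β, β ∈ exps I → ∃ g ∈ Gs, g ≤ β) (hGs : ∀ g ∈ Gs, g ∈ exps I)
    (hI : IsMonomial I) (lab : (σ →₀ ℕ) → Fin 3) (r0 r1 r2 : σ →₀ ℕ)
    (hr0 : r0 ∈ Gs ∧ (NN (sh r0 α) ∧ Ok I (sh r0 α)) ∧ lab r0 = 0)
    (hr1 : r1 ∈ Gs ∧ (NN (sh r1 α) ∧ Ok I (sh r1 α)) ∧ lab r1 = 1)
    (hr2 : r2 ∈ Gs ∧ (NN (sh r2 α) ∧ Ok I (sh r2 α)) ∧ lab r2 = 2)
    (hlink : ∀ g ∈ Gs, ∀ g' ∈ Gs, (NN (sh g α) ∧ Ok I (sh g α)) → Ok I (sh (g ⊔ g') α) →
      NN (sh g' α) ∧ lab g' = lab g)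
    (hrep0 : ∀ g ∈ Gs, (NN (sh g α) ∧ Ok I (sh g α)) → lab g = 0 → Ok I (sh (g ⊔ r0) α))
    (hrep1 : ∀ g ∈ Gs, (NN (sh g α) ∧ Ok I (sh g α)) → lab g = 1 → Ok I (sh (g ⊔ r1) α))
    (hrep2 : ∀ g ∈ Gs, (NN (sh g α) ∧ Ok I (sh g α)) → lab g = 2 → Ok I (sh (g ⊔ r2) α)) :
    Module.Finite k ↥(tPiece I α) ∧ Module.finrank k ↥(tPiece I α) = 3 := by
  classical
  have key : ∀ m : Fin 3, m = 0 ∨ m = 1 ∨ m = 2 := by decide
  have h10 : (1 : Fin 3) ≠ 0 := by decide
  have h20 : (2 : Fin 3) ≠ 0 := by decide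
  have h21 : (2 : Fin 3) ≠ 1 := by decide
  refine finrank_of_labels Gs hG hGs hI lab
    (fun m => if m = 0 then r0 else if m = 1 then r1 else r2) ?_ hlink ?_
  · intro m
    rcases key m with rfl | rfl | rfl
    · rw [if_pos rfl]; exact hr0
    · rw [if_neg h10, if_pos rfl]; exact hr1
    · rw [if_neg h20, if_neg h21]; exact hr2
  · intro g hg hc
    rcases key (lab g) with h | h | h
    · rw [h, if_pos rfl]; exact hrep0 g hg hc h
    · rw [h, if_neg h10, if_pos rfl]; exact hrep1 g hg hc h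
    · rw [h, if_neg h20, if_neg h21]; exact hrep2 g hg hc h

/-! ### the families -/

theorem famA47 (P : Pos47 n q r u v) :
    Module.Finite k ↥(tPiece (I47 n q r k) (δ (Fin.last n) u)) ∧
      Module.finrank k ↥(tPiece (I47 n q r k) (δ (Fin.last n) u)) = 2 := by
  have hPu := P.hu
  have hPv := P.hv
  have hPq := P.hq
  have hPr0 := P.hr0
  have hPr := P.hr
  obtain ⟨o₀, ho₀⟩ : ∃ o : Fin (n + 1), o.val + 1 = n :=
    ⟨⟨n - 1, by omega⟩, by show n - 1 + 1 = n; omega⟩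
  have hNN1 : ∀ b : Fin (n + 1), NN (sh (g1 u b) (δ (Fin.last n) u)) := by
    intro b x
    ev47
  have hu1 : ∀ b : Fin (n + 1), (g1 u b) u = 2 ↔ b = u := by
    intro b
    rw [g1_apply, if_pos rfl]
    constructor
    · intro h
      by_contra hne
      rw [if_neg (fun e => hne e.symm)] at h
      omega
    · intro h
      rw [if_pos h.symm]
  have hbad3 : ∀ (b i : Fin (n + 1)), 1 ≤ i.val → i.val + r + 1 ≤ n →
      ¬ Ok (I47 n q r k) (sh (g1 u b ⊔ g3 v i q) (δ (Fin.last n) u)) := by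
    intro b i hi1 hi2
    by_cases hiv : i = v
    · have hivv : i.val = v.val := congrArg Fin.val hiv
      refine not_ok_of P ?_ (Or.inr (Or.inr (Or.inl ?_)))
      · intro x; ev47
      · ev47
    · have hivv : i.val ≠ v.val := fun e => hiv (Fin.ext e)
      refine not_ok_of P ?_ (Or.inr (Or.inr (Or.inr ⟨?_, i, ⟨by omega, hi2⟩, ?_⟩)))
      · intro x; ev47
      · ev47
      · ev47
  refine finrank_two_of_links (Gs47 n q r) (hG47 hPr) (hGs47 hPr) (isMonomial_I47 hPr)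
    (fun g => g u = 2) (g1 u u) (g1 u o₀) ?_ ?_ ?_ ?_ ?_
  · refine ⟨g1_mem P (by omega), ⟨hNN1 u, ?_⟩, (hu1 u).mpr rfl⟩
    apply ok_of P
    rintro (h | ⟨h, j, ⟨hj1, hj2⟩, hj⟩ | h | ⟨h, i, ⟨hi1, hi2⟩, hi⟩)
    · ev47h h
    · ev47h hj
    · ev47h h
    · ev47h h
  · refine ⟨g1_mem P (by omega), ⟨hNN1 o₀, ?_⟩, fun h => ?_⟩
    · apply ok_of P
      rintro (h | ⟨h, j, ⟨hj1, hj2⟩, hj⟩ | h | ⟨h, i, ⟨hi1, hi2⟩, hi⟩)
      · ev47h h
      · ev47h h
      · ev47h h
      · ev47h h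
    · have h1 := (hu1 o₀).mp h
      have h2 := congrArg Fin.val h1
      omega
  · intro g hg g' hg' hc hok
    rcases gs_cases P hg with ⟨b, hb, rfl⟩ | ⟨i, hi1, hi2, rfl⟩
    · rcases gs_cases P hg' with ⟨b', hb', rfl⟩ | ⟨i', hi'1, hi'2, rfl⟩
      · refine ⟨hNN1 b', ?_⟩
        show (g1 u b') u = 2 ↔ (g1 u b) u = 2
        rw [hu1, hu1]
        by_cases hbu : b = u
        · by_cases hb'u : b' = u
          · exact ⟨fun _ => hbu, fun _ => hb'u⟩
          · exfalso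
            have hbv : b.val = u.val := congrArg Fin.val hbu
            have hb'v : b'.val ≠ u.val := fun e => hb'u (Fin.ext e)
            refine not_ok_of P ?_ (Or.inr (Or.inl ⟨?_, b', ⟨by omega, hb'⟩, ?_⟩)) hok
            · intro x; ev47
            · ev47
            · ev47
        · by_cases hb'u : b' = u
          · exfalso
            have hb'v : b'.val = u.val := congrArg Fin.val hb'u
            have hbv : b.val ≠ u.val := fun e => hbu (Fin.ext e)
            refine not_ok_of P ?_ (Or.inr (Or.inl ⟨?_, b, ⟨by omega, hb⟩, ?_⟩)) hok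
            · intro x; ev47
            · ev47
            · ev47
          · exact ⟨fun h => absurd h hb'u, fun h => absurd h hbu⟩
      · exact absurd hok (hbad3 b i' hi'1 hi'2)
    · exfalso
      have h1 := hc.1 u
      ev47h h1
  · intro g hg hc hp
    rcases gs_cases P hg with ⟨b, hb, rfl⟩ | ⟨i, hi1, hi2, rfl⟩
    · have hbu : b = u := (hu1 b).mp hp
      rw [hbu] at hc ⊢
      rw [sup_idem]
      exact hc.2
    · exfalso
      have h1 := hc.1 u
      ev47h h1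
  · intro g hg hc hp
    rcases gs_cases P hg with ⟨b, hb, rfl⟩ | ⟨i, hi1, hi2, rfl⟩
    · have hbu : b ≠ u := fun e => hp ((hu1 b).mpr e)
      have hbv : b.val ≠ u.val := fun e => hbu (Fin.ext e)
      apply ok_of P
      rintro (h | ⟨h, j, ⟨hj1, hj2⟩, hj⟩ | h | ⟨h, i, ⟨hi1, hi2⟩, hi⟩)
      · ev47h h
      · ev47h h
      · ev47h h
      · ev47hi
    · exfalso
      have h1 := hc.1 u
      ev47h h1

theorem famB47 (P : Pos47 n q r u v) {c : Fin (n + 1)} (hc : Lo n c) :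
    Module.Finite k ↥(tPiece (I47 n q r k) (δ c u)) ∧
      Module.finrank k ↥(tPiece (I47 n q r k) (δ c u)) = 1 := by
  have hPu := P.hu
  have hPv := P.hv
  have hPq := P.hq
  have hPr0 := P.hr0
  have hPr := P.hr
  have hc1 := hc.1
  have hc2 := hc.2
  obtain ⟨o₀, ho₀⟩ : ∃ o : Fin (n + 1), o.val + 1 = n :=
    ⟨⟨n - 1, by omega⟩, by show n - 1 + 1 = n; omega⟩
  have hNN1 : ∀ b : Fin (n + 1), NN (sh (g1 u b) (δ c u)) := by
    intro b x
    ev47
  refine finrank_one_of_links (Gs47 n q r) (hG47 hPr) (hGs47 hPr) (isMonomial_I47 hPr) (g1 u o₀)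
    (g1_mem P (by omega)) ⟨hNN1 o₀, ?_⟩ ?_ ?_
  · apply ok_of P
    rintro (h | ⟨h, j, ⟨hj1, hj2⟩, hj⟩ | h | ⟨h, i, ⟨hi1, hi2⟩, hi⟩)
    · ev47h h
    · ev47h h
    · ev47h h
    · ev47hi
  · intro g hg g' hg' hcd hok
    rcases gs_cases P hg' with ⟨b', hb', rfl⟩ | ⟨i', hi'1, hi'2, rfl⟩
    · exact hNN1 b'
    · exfalso
      rcases gs_cases P hg with ⟨b, hb, rfl⟩ | ⟨i, hi1, hi2, rfl⟩
      · by_cases hiv : i' = v
        · have hivv : i'.val = v.val := congrArg Fin.val hiv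
          refine not_ok_of P ?_ (Or.inr (Or.inr (Or.inl ?_))) hok
          · intro x; ev47
          · ev47
        · have hivv : i'.val ≠ v.val := fun e => hiv (Fin.ext e)
          refine not_ok_of P ?_ (Or.inr (Or.inr (Or.inr ⟨?_, i', ⟨by omega, hi'2⟩, ?_⟩))) hok
          · intro x; ev47
          · ev47
          · ev47
      · have h1 := hcd.1 u
        ev47h h1
  · intro g hg hcd
    rcases gs_cases P hg with ⟨b, hb, rfl⟩ | ⟨i, hi1, hi2, rfl⟩
    · have hbv : b.val ≠ u.val := by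
        intro e
        refine not_ok_of P hcd.1 (Or.inr (Or.inl ⟨?_, c, hc, ?_⟩)) hcd.2
        · ev47
        · ev47
      have h3 : ¬ ((q : ℤ) + 1 ≤ sh (g1 u b) (δ c u) v) := fun h =>
        (ok_iff P _).mp hcd.2 ⟨hcd.1, Or.inr (Or.inr (Or.inl h))⟩
      have h4 : ¬ ((q : ℤ) ≤ sh (g1 u b) (δ c u) v ∧
          ∃ i, IM n r i ∧ 1 ≤ sh (g1 u b) (δ c u) i) := fun h =>
        (ok_iff P _).mp hcd.2 ⟨hcd.1, Or.inr (Or.inr (Or.inr h))⟩
      apply ok_of P
      rintro (h | ⟨h, j, ⟨hj1, hj2⟩, hj⟩ | h | ⟨h, i, ⟨hi1, hi2⟩, hi⟩)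
      · ev47h h
      · ev47h h
      · apply h3
        ev47t h
      · apply h4
        refine ⟨?_, i, ⟨hi1, hi2⟩, ?_⟩
        · ev47t h
        · ev47t hi
    · exfalso
      have h1 := hcd.1 u
      ev47h h1

theorem famO47 (P : Pos47 n q r u v) {o : Fin (n + 1)} (ho : Out n r o) :
    Module.Finite k ↥(tPiece (I47 n q r k) (δ (Fin.last n) o)) ∧
      Module.finrank k ↥(tPiece (I47 n q r k) (δ (Fin.last n) o)) = 1 := by
  have hPu := P.hu
  have hPv := P.hv
  have hPq := P.hq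
  have hPr0 := P.hr0
  have hPr := P.hr
  have ho1 := ho.1
  have ho2 := ho.2
  have hcand : ∀ g ∈ Gs47 n q r, NN (sh g (δ (Fin.last n) o)) → g = g1 u o := by
    intro g hg hNN
    rcases gs_cases P hg with ⟨b, hb, rfl⟩ | ⟨i, hi1, hi2, rfl⟩
    · have h1 := hNN o
      by_contra hne
      have hbb : b ≠ o := fun e => hne (by rw [e])
      have hbb' : b.val ≠ o.val := fun e => hbb (Fin.ext e)
      ev47h h1
    · exfalso
      have h1 := hNN o
      ev47h h1
  have hNNr : NN (sh (g1 u o) (δ (Fin.last n) o)) := by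
    intro x
    ev47
  have hokr : Ok (I47 n q r k) (sh (g1 u o) (δ (Fin.last n) o)) := by
    apply ok_of P
    rintro (h | ⟨h, j, ⟨hj1, hj2⟩, hj⟩ | h | ⟨h, i, ⟨hi1, hi2⟩, hi⟩)
    · ev47h h
    · ev47h hj
    · ev47h h
    · ev47h h
  refine finrank_one_of_links (Gs47 n q r) (hG47 hPr) (hGs47 hPr) (isMonomial_I47 hPr) (g1 u o)
    (g1_mem P ho2) ⟨hNNr, hokr⟩ ?_ ?_
  · intro g hg g' hg' hcd hok
    have hg0 := hcand g hg hcd.1
    subst hg0
    rcases gs_cases P hg' with ⟨b', hb', rfl⟩ | ⟨i', hi'1, hi'2, rfl⟩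
    · by_cases hbb : b' = o
      · rw [hbb]; exact hNNr
      · exfalso
        have hbb' : b'.val ≠ o.val := fun e => hbb (Fin.ext e)
        by_cases hb'u : b' = u
        · have hb'uv : b'.val = u.val := congrArg Fin.val hb'u
          refine not_ok_of P ?_ (Or.inl ?_) hok
          · intro x; ev47
          · ev47
        · have hb'uv : b'.val ≠ u.val := fun e => hb'u (Fin.ext e)
          refine not_ok_of P ?_ (Or.inr (Or.inl ⟨?_, b', ⟨by omega, hb'⟩, ?_⟩)) hok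
          · intro x; ev47
          · ev47
          · ev47
    · exfalso
      refine not_ok_of P ?_ (Or.inr (Or.inl ⟨?_, v, ⟨by omega, by omega⟩, ?_⟩)) hok
      · intro x; ev47
      · ev47
      · ev47
  · intro g hg hcd
    have hg0 := hcand g hg hcd.1
    rw [hg0, sup_idem]
    exact hokr

theorem famI47o (P : Pos47 n q r u v) {i₀ c : Fin (n + 1)} (hi₀ : IM n r i₀) (hc : Out n r c) :
    Module.Finite k ↥(tPiece (I47 n q r k) (δ c i₀)) ∧
      Module.finrank k ↥(tPiece (I47 n q r k) (δ c i₀)) = 1 := by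
  have hPu := P.hu
  have hPv := P.hv
  have hPq := P.hq
  have hPr0 := P.hr0
  have hPr := P.hr
  have hi01 := hi₀.1
  have hi02 := hi₀.2
  have hc1 := hc.1
  have hc2 := hc.2
  have hcLo : Lo n c := ⟨by omega, hc2⟩
  have hcand : ∀ g ∈ Gs47 n q r,
      (NN (sh g (δ c i₀)) ∧ Ok (I47 n q r k) (sh g (δ c i₀))) → g = g3 v i₀ q := by
    intro g hg hcd
    rcases gs_cases P hg with ⟨b, hb, rfl⟩ | ⟨i, hi1, hi2, rfl⟩
    · exfalso
      have h1 := hcd.1 i₀
      have hbi : b.val = i₀.val := by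
        by_contra hne
        ev47h h1
      refine not_ok_of P hcd.1 (Or.inr (Or.inl ⟨?_, c, hcLo, ?_⟩)) hcd.2
      · ev47
      · ev47
    · have h1 := hcd.1 i₀
      have hii : i.val = i₀.val := by
        by_contra hne
        ev47h h1
      rw [Fin.ext hii]
  have hNNr : NN (sh (g3 v i₀ q) (δ c i₀)) := by
    intro x
    ev47
  have hokr : Ok (I47 n q r k) (sh (g3 v i₀ q) (δ c i₀)) := by
    apply ok_of P
    rintro (h | ⟨h, j, ⟨hj1, hj2⟩, hj⟩ | h | ⟨h, i, ⟨hi1, hi2⟩, hi⟩)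
    · ev47h h
    · ev47h h
    · ev47h h
    · ev47h hi
  refine finrank_one_of_links (Gs47 n q r) (hG47 hPr) (hGs47 hPr) (isMonomial_I47 hPr)
    (g3 v i₀ q) (g3_mem P (by omega) hi02) ⟨hNNr, hokr⟩ ?_ ?_
  · intro g hg g' hg' hcd hok
    have hg0 := hcand g hg hcd
    subst hg0
    rcases gs_cases P hg' with ⟨b', hb', rfl⟩ | ⟨i', hi'1, hi'2, rfl⟩
    · exfalso
      refine not_ok_of P ?_ (Or.inr (Or.inl ⟨?_, v, ⟨by omega, by omega⟩, ?_⟩)) hok
      · intro x; ev47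
      · ev47
      · ev47
    · by_cases hii : i' = i₀
      · rw [hii]; exact hNNr
      · exfalso
        have hii' : i'.val ≠ i₀.val := fun e => hii (Fin.ext e)
        by_cases hiv : i' = v
        · have hivv : i'.val = v.val := congrArg Fin.val hiv
          refine not_ok_of P ?_ (Or.inr (Or.inr (Or.inl ?_))) hok
          · intro x; ev47
          · ev47
        · have hivv : i'.val ≠ v.val := fun e => hiv (Fin.ext e)
          refine not_ok_of P ?_ (Or.inr (Or.inr (Or.inr ⟨?_, i', ⟨by omega, hi'2⟩, ?_⟩))) hok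
          · intro x; ev47
          · ev47
          · ev47
  · intro g hg hcd
    have hg0 := hcand g hg hcd
    rw [hg0, sup_idem]
    exact hokr

theorem famI47z (P : Pos47 n q r u v) {i₀ : Fin (n + 1)} (hi₀ : IM n r i₀) :
    Module.Finite k ↥(tPiece (I47 n q r k) (δ (Fin.last n) i₀)) ∧
      Module.finrank k ↥(tPiece (I47 n q r k) (δ (Fin.last n) i₀)) = 2 := by
  have hPu := P.hu
  have hPv := P.hv
  have hPq := P.hq
  have hPr0 := P.hr0
  have hPr := P.hr
  have hi01 := hi₀.1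
  have hi02 := hi₀.2
  have huv : u ≠ v := ne_of_val_ne (by omega)
  have hcand1 : ∀ b : Fin (n + 1), NN (sh (g1 u b) (δ (Fin.last n) i₀)) → i₀ = b := by
    intro b hNN
    have h1 := hNN i₀
    by_contra hne
    have hbb' : i₀.val ≠ b.val := fun e => hne (Fin.ext e)
    ev47h h1
  have hcand3 : ∀ i : Fin (n + 1), NN (sh (g3 v i q) (δ (Fin.last n) i₀)) → i₀ = i := by
    intro i hNN
    have h1 := hNN i₀
    by_contra hne
    have hbb' : i₀.val ≠ i.val := fun e => hne (Fin.ext e)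
    ev47h h1
  have hNN0 : NN (sh (g3 v i₀ q) (δ (Fin.last n) i₀)) := by
    intro x
    ev47
  have hok0 : Ok (I47 n q r k) (sh (g3 v i₀ q) (δ (Fin.last n) i₀)) := by
    apply ok_of P
    rintro (h | ⟨h, j, ⟨hj1, hj2⟩, hj⟩ | h | ⟨h, i, ⟨hi1, hi2⟩, hi⟩)
    · ev47h h
    · ev47h h
    · ev47h h
    · ev47h hi
  have hNN1 : NN (sh (g1 u i₀) (δ (Fin.last n) i₀)) := by
    intro x
    ev47
  have hok1 : Ok (I47 n q r k) (sh (g1 u i₀) (δ (Fin.last n) i₀)) := by
    apply ok_of P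
    rintro (h | ⟨h, j, ⟨hj1, hj2⟩, hj⟩ | h | ⟨h, i, ⟨hi1, hi2⟩, hi⟩)
    · ev47h h
    · ev47h hj
    · ev47h h
    · ev47h h
  have hp1 : ∀ b : Fin (n + 1), ¬ ((g1 u b) u = 0) := by
    intro b h
    rw [g1_apply, if_pos rfl] at h
    omega
  have hp3 : ∀ i : Fin (n + 1), 1 ≤ i.val → (g3 v i q) u = 0 := by
    intro i hi1
    have hui : u ≠ i := ne_of_val_ne (by omega)
    rw [g3_apply, if_neg huv, if_neg hui]
  have hbad : ∀ b' i : Fin (n + 1), 1 ≤ i.val → i.val + r + 1 ≤ n →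
      (b'.val = i₀.val ∨ i.val = i₀.val) →
      ¬ Ok (I47 n q r k) (sh (g3 v i q ⊔ g1 u b') (δ (Fin.last n) i₀)) := by
    intro b' i hi1 hi2 hor
    rcases hor with hor | hor
    · refine not_ok_of P ?_ (Or.inr (Or.inl ⟨?_, v, ⟨by omega, by omega⟩, ?_⟩))
      · intro x; ev47
      · ev47
      · ev47
    · refine not_ok_of P ?_ (Or.inr (Or.inl ⟨?_, v, ⟨by omega, by omega⟩, ?_⟩))
      · intro x; ev47
      · ev47
      · ev47
  refine finrank_two_of_links (Gs47 n q r) (hG47 hPr) (hGs47 hPr) (isMonomial_I47 hPr)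
    (fun g => g u = 0) (g3 v i₀ q) (g1 u i₀) ⟨g3_mem P (by omega) hi02, ⟨hNN0, hok0⟩, hp3 i₀ (by omega)⟩
    ⟨g1_mem P (by omega), ⟨hNN1, hok1⟩, hp1 i₀⟩ ?_ ?_ ?_
  · intro g hg g' hg' hc hok
    rcases gs_cases P hg with ⟨b, hb, rfl⟩ | ⟨i, hi1, hi2, rfl⟩
    · have hbv := hcand1 b hc.1
      subst hbv
      rcases gs_cases P hg' with ⟨b', hb', rfl⟩ | ⟨i', hi'1, hi'2, rfl⟩
      · by_cases hbb : b' = i₀
        · rw [hbb]
          exact ⟨hNN1, Iff.rfl⟩
        · exfalso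
          have hbb' : b'.val ≠ i₀.val := fun e => hbb (Fin.ext e)
          by_cases hb'u : b' = u
          · have hb'uv : b'.val = u.val := congrArg Fin.val hb'u
            refine not_ok_of P ?_ (Or.inl ?_) hok
            · intro x; ev47
            · ev47
          · have hb'uv : b'.val ≠ u.val := fun e => hb'u (Fin.ext e)
            refine not_ok_of P ?_ (Or.inr (Or.inl ⟨?_, b', ⟨by omega, hb'⟩, ?_⟩)) hok
            · intro x; ev47
            · ev47
            · ev47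
      · exfalso
        rw [sup_comm] at hok
        exact hbad i₀ i' hi'1 hi'2 (Or.inl rfl) hok
    · have hiv := hcand3 i hc.1
      subst hiv
      rcases gs_cases P hg' with ⟨b', hb', rfl⟩ | ⟨i', hi'1, hi'2, rfl⟩
      · exact absurd hok (hbad b' i₀ hi1 hi2 (Or.inr rfl))
      · by_cases hii : i' = i₀
        · rw [hii]
          exact ⟨hNN0, Iff.rfl⟩
        · exfalso
          have hii' : i'.val ≠ i₀.val := fun e => hii (Fin.ext e)
          by_cases hiv : i' = v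
          · have hivv : i'.val = v.val := congrArg Fin.val hiv
            refine not_ok_of P ?_ (Or.inr (Or.inr (Or.inl ?_))) hok
            · intro x; ev47
            · ev47
          · have hivv : i'.val ≠ v.val := fun e => hiv (Fin.ext e)
            refine not_ok_of P ?_ (Or.inr (Or.inr (Or.inr ⟨?_, i', ⟨by omega, hi'2⟩, ?_⟩))) hok
            · intro x; ev47
            · ev47
            · ev47
  · intro g hg hc hp
    rcases gs_cases P hg with ⟨b, hb, rfl⟩ | ⟨i, hi1, hi2, rfl⟩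
    · exact absurd hp (hp1 b)
    · have hiv := hcand3 i hc.1
      rw [← hiv, sup_idem]; exact hok0
  · intro g hg hc hp
    rcases gs_cases P hg with ⟨b, hb, rfl⟩ | ⟨i, hi1, hi2, rfl⟩
    · have hbv := hcand1 b hc.1
      rw [← hbv, sup_idem]; exact hok1
    · exact absurd (hp3 i hi1) hp

theorem famG47 (P : Pos47 n q r u v) {i₀ : Fin (n + 1)} (hi01 : 1 ≤ i₀.val)
    (hi02 : i₀.val + r + 1 ≤ n) :
    Module.Finite k ↥(tPiece (I47 n q r k) (αG u v i₀ q)) ∧
      Module.finrank k ↥(tPiece (I47 n q r k) (αG u v i₀ q)) = 1 := by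
  have hPu := P.hu
  have hPv := P.hv
  have hPq := P.hq
  have hPr0 := P.hr0
  have hPr := P.hr
  have hcand : ∀ g ∈ Gs47 n q r, NN (sh g (αG u v i₀ q)) → g = g3 v i₀ q := by
    intro g hg hNN
    rcases gs_cases P hg with ⟨b, hb, rfl⟩ | ⟨i, hi1, hi2, rfl⟩
    · exfalso
      have h1 := hNN v
      have h2 := hNN i₀
      simp only [sh_apply, g1_apply, g3_apply, αG, Fin.ext_iff, Fin.val_last] at h1 h2
      split_ifs at h1 h2 <;> omega
    · have h2 := hNN i₀
      have hii : i.val = i₀.val := by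
        by_contra hne
        ev47h h2
      rw [Fin.ext hii]
  have hNNr : NN (sh (g3 v i₀ q) (αG u v i₀ q)) := by
    intro x
    ev47
  have hokr : Ok (I47 n q r k) (sh (g3 v i₀ q) (αG u v i₀ q)) := by
    apply ok_of P
    rintro (h | ⟨h, j, ⟨hj1, hj2⟩, hj⟩ | h | ⟨h, i, ⟨hi1, hi2⟩, hi⟩)
    · ev47h h
    · ev47h hj
    · ev47h h
    · ev47h h
  refine finrank_one_of_links (Gs47 n q r) (hG47 hPr) (hGs47 hPr) (isMonomial_I47 hPr)
    (g3 v i₀ q) (g3_mem P hi01 hi02) ⟨hNNr, hokr⟩ ?_ ?_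
  · intro g hg g' hg' hcd hok
    have hg0 := hcand g hg hcd.1
    subst hg0
    rcases gs_cases P hg' with ⟨b', hb', rfl⟩ | ⟨i', hi'1, hi'2, rfl⟩
    · exfalso
      refine not_ok_of P ?_ (Or.inl ?_) hok
      · intro x; ev47
      · ev47
    · by_cases hii : i' = i₀
      · rw [hii]; exact hNNr
      · exfalso
        have hii' : i'.val ≠ i₀.val := fun e => hii (Fin.ext e)
        refine not_ok_of P ?_ (Or.inr (Or.inl ⟨?_, i', ⟨hi'1, by omega⟩, ?_⟩)) hok
        · intro x; ev47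
        · ev47
        · ev47
  · intro g hg hcd
    have hg0 := hcand g hg hcd.1
    rw [hg0, sup_idem]
    exact hokr

theorem famE47a (P : Pos47 n q r u v) {m : Fin (n + 1) →₀ ℕ} (hmu : m u = 0)
    (hmv : m v + 2 ≤ q) :
    Module.Finite k ↥(tPiece (I47 n q r k) (αE v q m)) ∧
      Module.finrank k ↥(tPiece (I47 n q r k) (αE v q m)) = 1 := by
  have hPu := P.hu
  have hPv := P.hv
  have hPq := P.hq
  have hPr0 := P.hr0
  have hPr := P.hr
  obtain ⟨w, hw⟩ : ∃ w : Fin (n + 1), w.val = 2 := ⟨⟨2, by omega⟩, rfl⟩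
  have hNN3 : ∀ i : Fin (n + 1), NN (sh (g3 v i q) (αE v q m)) := by
    intro i x
    ev47
  have hcand : ∀ b : Fin (n + 1), ¬ NN (sh (g1 u b) (αE v q m)) := by
    intro b hNN
    have h1 := hNN v
    ev47h h1
  refine finrank_one_of_links (Gs47 n q r) (hG47 hPr) (hGs47 hPr) (isMonomial_I47 hPr)
    (g3 v w q) (g3_mem P (by omega) (by omega)) ⟨hNN3 w, ?_⟩ ?_ ?_
  · apply ok_of P
    rintro (h | ⟨h, j, ⟨hj1, hj2⟩, hj⟩ | h | ⟨h, i, ⟨hi1, hi2⟩, hi⟩)
    · ev47h h
    · ev47h h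
    · ev47h h
    · ev47h h
  · intro g hg g' hg' hcd hok
    rcases gs_cases P hg' with ⟨b', hb', rfl⟩ | ⟨i', hi'1, hi'2, rfl⟩
    · exfalso
      rcases gs_cases P hg with ⟨b, hb, rfl⟩ | ⟨i, hi1, hi2, rfl⟩
      · exact hcand b hcd.1
      · refine not_ok_of P ?_ (Or.inr (Or.inl ⟨?_, i, ⟨hi1, by omega⟩, ?_⟩)) hok
        · intro x; ev47
        · ev47
        · ev47
    · exact hNN3 i'
  · intro g hg hcd
    rcases gs_cases P hg with ⟨b, hb, rfl⟩ | ⟨i, hi1, hi2, rfl⟩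
    · exact absurd hcd.1 (hcand b)
    · apply ok_of P
      rintro (h | ⟨h, j, ⟨hj1, hj2⟩, hj⟩ | h | ⟨h, i', ⟨hi1', hi2'⟩, hi'⟩)
      · ev47h h
      · ev47h h
      · ev47h h
      · ev47h h

theorem famVI (P : Pos47 n q r u v) {j₀ : Fin (n + 1)} (hj₀ : IM n r j₀) :
    Module.Finite k ↥(tPiece (I47 n q r k) (δ j₀ v)) ∧
      Module.finrank k ↥(tPiece (I47 n q r k) (δ j₀ v)) = 1 := by
  have hPu := P.hu
  have hPv := P.hv
  have hPq := P.hq
  have hPr0 := P.hr0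
  have hPr := P.hr
  have hj01 := hj₀.1
  have hj02 := hj₀.2
  obtain ⟨w, hw⟩ : ∃ w : Fin (n + 1), w.val = 2 := ⟨⟨2, by omega⟩, rfl⟩
  have hjLo : Lo n j₀ := ⟨by omega, by omega⟩
  have hNN3 : ∀ i : Fin (n + 1), NN (sh (g3 v i q) (δ j₀ v)) := by
    intro i x
    ev47
  have hcand1 : ∀ b : Fin (n + 1), ¬ (NN (sh (g1 u b) (δ j₀ v)) ∧
      Ok (I47 n q r k) (sh (g1 u b) (δ j₀ v))) := by
    intro b hcd
    have h1 := hcd.1 v
    have hbv : b.val = v.val := by
      by_contra hne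
      ev47h h1
    refine not_ok_of P hcd.1 (Or.inr (Or.inl ⟨?_, j₀, hjLo, ?_⟩)) hcd.2
    · ev47
    · ev47
  have hcand3 : ∀ i : Fin (n + 1), Ok (I47 n q r k) (sh (g3 v i q) (δ j₀ v)) →
      i.val ≠ v.val := by
    intro i hok e
    refine not_ok_of P (hNN3 i) (Or.inr (Or.inr (Or.inr ⟨?_, j₀, hj₀, ?_⟩))) hok
    · ev47
    · ev47
  refine finrank_one_of_links (Gs47 n q r) (hG47 hPr) (hGs47 hPr) (isMonomial_I47 hPr)
    (g3 v w q) (g3_mem P (by omega) (by omega)) ⟨hNN3 w, ?_⟩ ?_ ?_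
  · apply ok_of P
    rintro (h | ⟨h, j, ⟨hj1, hj2⟩, hj⟩ | h | ⟨h, i, ⟨hi1, hi2⟩, hi⟩)
    · ev47h h
    · ev47h h
    · ev47h h
    · ev47h h
  · intro g hg g' hg' hcd hok
    rcases gs_cases P hg' with ⟨b', hb', rfl⟩ | ⟨i', hi'1, hi'2, rfl⟩
    · exfalso
      rcases gs_cases P hg with ⟨b, hb, rfl⟩ | ⟨i, hi1, hi2, rfl⟩
      · exact hcand1 b hcd
      · refine not_ok_of P ?_ (Or.inr (Or.inl ⟨?_, j₀, hjLo, ?_⟩)) hok
        · intro x; ev47
        · ev47
        · ev47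
    · exact hNN3 i'
  · intro g hg hcd
    rcases gs_cases P hg with ⟨b, hb, rfl⟩ | ⟨i, hi1, hi2, rfl⟩
    · exact absurd hcd (hcand1 b)
    · have hiv := hcand3 i hcd.2
      apply ok_of P
      rintro (h | ⟨h, j, ⟨hj1, hj2⟩, hj⟩ | h | ⟨h, i', ⟨hi1', hi2'⟩, hi'⟩)
      · ev47h h
      · ev47h h
      · ev47h h
      · ev47h h

theorem famVO (P : Pos47 n q r u v) {o : Fin (n + 1)} (ho : Out n r o) :
    Module.Finite k ↥(tPiece (I47 n q r k) (δ o v)) ∧
      Module.finrank k ↥(tPiece (I47 n q r k) (δ o v)) = 2 := by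
  have hPu := P.hu
  have hPv := P.hv
  have hPq := P.hq
  have hPr0 := P.hr0
  have hPr := P.hr
  have ho1 := ho.1
  have ho2 := ho.2
  obtain ⟨w, hw⟩ : ∃ w : Fin (n + 1), w.val = 2 := ⟨⟨2, by omega⟩, rfl⟩
  have hoLo : Lo n o := ⟨by omega, ho2⟩
  have hwv : w ≠ v := ne_of_val_ne (by omega)
  have hNN3 : ∀ i : Fin (n + 1), NN (sh (g3 v i q) (δ o v)) := by
    intro i x
    ev47
  have hcand1 : ∀ b : Fin (n + 1), ¬ (NN (sh (g1 u b) (δ o v)) ∧
      Ok (I47 n q r k) (sh (g1 u b) (δ o v))) := by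
    intro b hcd
    have h1 := hcd.1 v
    have hbv : b.val = v.val := by
      by_contra hne
      ev47h h1
    refine not_ok_of P hcd.1 (Or.inr (Or.inl ⟨?_, o, hoLo, ?_⟩)) hcd.2
    · ev47
    · ev47
  have hp : ∀ i : Fin (n + 1), (g3 v i q) v = q + 1 ↔ i = v := by
    intro i
    rw [g3_apply, if_pos rfl]
    constructor
    · intro h
      by_contra hne
      rw [if_neg (fun e => hne e.symm)] at h
      omega
    · intro h
      rw [if_pos h.symm]
  have hok0 : Ok (I47 n q r k) (sh (g3 v v q) (δ o v)) := by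
    apply ok_of P
    rintro (h | ⟨h, j, ⟨hj1, hj2⟩, hj⟩ | h | ⟨h, i, ⟨hi1, hi2⟩, hi⟩)
    · ev47h h
    · ev47h h
    · ev47h h
    · ev47h hi
  have hok1 : Ok (I47 n q r k) (sh (g3 v w q) (δ o v)) := by
    apply ok_of P
    rintro (h | ⟨h, j, ⟨hj1, hj2⟩, hj⟩ | h | ⟨h, i, ⟨hi1, hi2⟩, hi⟩)
    · ev47h h
    · ev47h h
    · ev47h h
    · ev47h h
  refine finrank_two_of_links (Gs47 n q r) (hG47 hPr) (hGs47 hPr) (isMonomial_I47 hPr)
    (fun g => g v = q + 1) (g3 v v q) (g3 v w q)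
    ⟨g3_mem P (by omega) (by omega), ⟨hNN3 v, hok0⟩, (hp v).mpr rfl⟩
    ⟨g3_mem P (by omega) (by omega), ⟨hNN3 w, hok1⟩, fun h => hwv ((hp w).mp h)⟩ ?_ ?_ ?_
  · intro g hg g' hg' hcd hok
    rcases gs_cases P hg with ⟨b, hb, rfl⟩ | ⟨i, hi1, hi2, rfl⟩
    · exact absurd hcd (hcand1 b)
    · rcases gs_cases P hg' with ⟨b', hb', rfl⟩ | ⟨i', hi'1, hi'2, rfl⟩
      · exfalso
        refine not_ok_of P ?_ (Or.inr (Or.inl ⟨?_, o, hoLo, ?_⟩)) hok
        · intro x; ev47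
        · ev47
        · ev47
      · refine ⟨hNN3 i', ?_⟩
        show (g3 v i' q) v = q + 1 ↔ (g3 v i q) v = q + 1
        rw [hp, hp]
        by_cases hiv : i = v
        · by_cases hi'v : i' = v
          · exact ⟨fun _ => hiv, fun _ => hi'v⟩
          · exfalso
            have hivv : i.val = v.val := congrArg Fin.val hiv
            have hi'vv : i'.val ≠ v.val := fun e => hi'v (Fin.ext e)
            refine not_ok_of P ?_ (Or.inr (Or.inr (Or.inr ⟨?_, i', ⟨by omega, hi'2⟩, ?_⟩))) hok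
            · intro x; ev47
            · ev47
            · ev47
        · by_cases hi'v : i' = v
          · exfalso
            have hi'vv : i'.val = v.val := congrArg Fin.val hi'v
            have hivv : i.val ≠ v.val := fun e => hiv (Fin.ext e)
            refine not_ok_of P ?_ (Or.inr (Or.inr (Or.inr ⟨?_, i, ⟨by omega, hi2⟩, ?_⟩))) hok
            · intro x; ev47
            · ev47
            · ev47
          · exact ⟨fun h => absurd h hi'v, fun h => absurd h hiv⟩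
  · intro g hg hcd hpg
    rcases gs_cases P hg with ⟨b, hb, rfl⟩ | ⟨i, hi1, hi2, rfl⟩
    · exact absurd hcd (hcand1 b)
    · have hiv : i = v := (hp i).mp hpg
      rw [hiv, sup_idem]
      exact hok0
  · intro g hg hcd hpg
    rcases gs_cases P hg with ⟨b, hb, rfl⟩ | ⟨i, hi1, hi2, rfl⟩
    · exact absurd hcd (hcand1 b)
    · have hiv : i ≠ v := fun e => hpg ((hp i).mpr e)
      have hivv : i.val ≠ v.val := fun e => hiv (Fin.ext e)
      apply ok_of P
      rintro (h | ⟨h, j, ⟨hj1, hj2⟩, hj⟩ | h | ⟨h, i', ⟨hi1', hi2'⟩, hi'⟩)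
      · ev47h h
      · ev47h h
      · ev47h h
      · ev47h h

theorem famVZ (P : Pos47 n q r u v) :
    Module.Finite k ↥(tPiece (I47 n q r k) (δ (Fin.last n) v)) ∧
      Module.finrank k ↥(tPiece (I47 n q r k) (δ (Fin.last n) v)) = 3 := by
  have hPu := P.hu
  have hPv := P.hv
  have hPq := P.hq
  have hPr0 := P.hr0
  have hPr := P.hr
  obtain ⟨w, hw⟩ : ∃ w : Fin (n + 1), w.val = 2 := ⟨⟨2, by omega⟩, rfl⟩
  have huv : u ≠ v := ne_of_val_ne (by omega)
  have hwv : w ≠ v := ne_of_val_ne (by omega)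
  obtain ⟨lab, hlab⟩ : ∃ lab : (Fin (n + 1) →₀ ℕ) → Fin 3,
      ∀ g, lab g = if 1 ≤ g u then 2 else if g v = q + 1 then 0 else 1 := ⟨_, fun _ => rfl⟩
  have h20 : (2 : Fin 3) ≠ 0 := by decide
  have h21 : (2 : Fin 3) ≠ 1 := by decide
  have h10 : (1 : Fin 3) ≠ 0 := by decide
  have hl1 : ∀ b : Fin (n + 1), lab (g1 u b) = 2 := by
    intro b
    have h1 : 1 ≤ (g1 u b) u := by
      rw [g1_apply, if_pos rfl]
      exact Nat.le_add_right 1 _
    rw [hlab, if_pos h1]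
  have hl3v : lab (g3 v v q) = 0 := by
    have h1 : ¬ 1 ≤ (g3 v v q) u := by
      rw [g3_apply, if_neg huv, if_neg huv]
      omega
    have h2 : (g3 v v q) v = q + 1 := by
      rw [g3_apply, if_pos rfl, if_pos rfl]
    rw [hlab, if_neg h1, if_pos h2]
  have hl3 : ∀ i : Fin (n + 1), 1 ≤ i.val → i ≠ v → lab (g3 v i q) = 1 := by
    intro i hi1 hiv
    have hui : u ≠ i := ne_of_val_ne (by omega)
    have h1 : ¬ 1 ≤ (g3 v i q) u := by
      rw [g3_apply, if_neg huv, if_neg hui]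
      omega
    have h2 : ¬ (g3 v i q) v = q + 1 := by
      rw [g3_apply, if_pos rfl, if_neg (fun e => hiv e.symm)]
      omega
    rw [hlab, if_neg h1, if_neg h2]
  have hNN3 : ∀ i : Fin (n + 1), NN (sh (g3 v i q) (δ (Fin.last n) v)) := by
    intro i x
    ev47
  have hcand1 : ∀ b : Fin (n + 1), NN (sh (g1 u b) (δ (Fin.last n) v)) → v = b := by
    intro b hNN
    have h1 := hNN v
    by_contra hne
    have hbb' : v.val ≠ b.val := fun e => hne (Fin.ext e)
    ev47h h1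
  have hNN2 : NN (sh (g1 u v) (δ (Fin.last n) v)) := by
    intro x
    ev47
  have hok2 : Ok (I47 n q r k) (sh (g1 u v) (δ (Fin.last n) v)) := by
    apply ok_of P
    rintro (h | ⟨h, j, ⟨hj1, hj2⟩, hj⟩ | h | ⟨h, i, ⟨hi1, hi2⟩, hi⟩)
    · ev47h h
    · ev47h hj
    · ev47h h
    · ev47h h
  have hok0 : Ok (I47 n q r k) (sh (g3 v v q) (δ (Fin.last n) v)) := by
    apply ok_of P
    rintro (h | ⟨h, j, ⟨hj1, hj2⟩, hj⟩ | h | ⟨h, i, ⟨hi1, hi2⟩, hi⟩)
    · ev47h h
    · ev47h h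
    · ev47h h
    · ev47h hi
  have hok1 : Ok (I47 n q r k) (sh (g3 v w q) (δ (Fin.last n) v)) := by
    apply ok_of P
    rintro (h | ⟨h, j, ⟨hj1, hj2⟩, hj⟩ | h | ⟨h, i, ⟨hi1, hi2⟩, hi⟩)
    · ev47h h
    · ev47h h
    · ev47h h
    · ev47h h
  have hbad13 : ∀ (b i : Fin (n + 1)), 1 ≤ i.val → i.val + r + 1 ≤ n →
      ¬ Ok (I47 n q r k) (sh (g1 u b ⊔ g3 v i q) (δ (Fin.last n) v)) := by
    intro b i hi1 hi2
    refine not_ok_of P ?_ (Or.inr (Or.inl ⟨?_, i, ⟨hi1, by omega⟩, ?_⟩))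
    · intro x; ev47
    · ev47
    · ev47
  refine finrank_three_of_links (Gs47 n q r) (hG47 hPr) (hGs47 hPr) (isMonomial_I47 hPr)
    lab (g3 v v q) (g3 v w q) (g1 u v)
    ⟨g3_mem P (by omega) (by omega), ⟨hNN3 v, hok0⟩, hl3v⟩
    ⟨g3_mem P (by omega) (by omega), ⟨hNN3 w, hok1⟩, hl3 w (by omega) hwv⟩
    ⟨g1_mem P (by omega), ⟨hNN2, hok2⟩, hl1 v⟩ ?_ ?_ ?_ ?_
  · intro g hg g' hg' hcd hok
    rcases gs_cases P hg with ⟨b, hb, rfl⟩ | ⟨i, hi1, hi2, rfl⟩
    · have hbv := hcand1 b hcd.1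
      subst hbv
      rcases gs_cases P hg' with ⟨b', hb', rfl⟩ | ⟨i', hi'1, hi'2, rfl⟩
      · by_cases hbb : b' = v
        · rw [hbb]
          exact ⟨hNN2, rfl⟩
        · exfalso
          have hbb' : b'.val ≠ v.val := fun e => hbb (Fin.ext e)
          by_cases hb'u : b' = u
          · have hb'uv : b'.val = u.val := congrArg Fin.val hb'u
            refine not_ok_of P ?_ (Or.inl ?_) hok
            · intro x; ev47
            · ev47
          · have hb'uv : b'.val ≠ u.val := fun e => hb'u (Fin.ext e)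
            refine not_ok_of P ?_ (Or.inr (Or.inl ⟨?_, b', ⟨by omega, hb'⟩, ?_⟩)) hok
            · intro x; ev47
            · ev47
            · ev47
      · exact absurd hok (hbad13 v i' hi'1 hi'2)
    · rcases gs_cases P hg' with ⟨b', hb', rfl⟩ | ⟨i', hi'1, hi'2, rfl⟩
      · exfalso
        rw [sup_comm] at hok
        exact hbad13 b' i hi1 hi2 hok
      · refine ⟨hNN3 i', ?_⟩
        by_cases hiv : i = v
        · by_cases hi'v : i' = v
          · rw [hiv, hi'v]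
          · exfalso
            have hivv : i.val = v.val := congrArg Fin.val hiv
            have hi'vv : i'.val ≠ v.val := fun e => hi'v (Fin.ext e)
            refine not_ok_of P ?_ (Or.inr (Or.inr (Or.inr ⟨?_, i', ⟨by omega, hi'2⟩, ?_⟩))) hok
            · intro x; ev47
            · ev47
            · ev47
        · by_cases hi'v : i' = v
          · exfalso
            have hi'vv : i'.val = v.val := congrArg Fin.val hi'v
            have hivv : i.val ≠ v.val := fun e => hiv (Fin.ext e)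
            refine not_ok_of P ?_ (Or.inr (Or.inr (Or.inr ⟨?_, i, ⟨by omega, hi2⟩, ?_⟩))) hok
            · intro x; ev47
            · ev47
            · ev47
          · rw [hl3 i hi1 hiv, hl3 i' hi'1 hi'v]
  · intro g hg hcd hl
    rcases gs_cases P hg with ⟨b, hb, rfl⟩ | ⟨i, hi1, hi2, rfl⟩
    · rw [hl1] at hl
      exact absurd hl h20
    · by_cases hiv : i = v
      · rw [hiv, sup_idem]
        exact hok0
      · rw [hl3 i hi1 hiv] at hl
        exact absurd hl h10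
  · intro g hg hcd hl
    rcases gs_cases P hg with ⟨b, hb, rfl⟩ | ⟨i, hi1, hi2, rfl⟩
    · rw [hl1] at hl
      exact absurd hl h21
    · by_cases hiv : i = v
      · rw [hiv, hl3v] at hl
        exact absurd hl.symm h10
      · have hivv : i.val ≠ v.val := fun e => hiv (Fin.ext e)
        apply ok_of P
        rintro (h | ⟨h, j, ⟨hj1, hj2⟩, hj⟩ | h | ⟨h, i', ⟨hi1', hi2'⟩, hi'⟩)
        · ev47h h
        · ev47h h
        · ev47h h
        · ev47h h
  · intro g hg hcd hl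
    rcases gs_cases P hg with ⟨b, hb, rfl⟩ | ⟨i, hi1, hi2, rfl⟩
    · have hbv := hcand1 b hcd.1
      rw [← hbv, sup_idem]
      exact hok2
    · by_cases hiv : i = v
      · rw [hiv, hl3v] at hl
        exact absurd hl.symm h20
      · rw [hl3 i hi1 hiv] at hl
        exact absurd hl.symm h21

end Groth.Agent.H43.HilbS47
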