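import Groth.Agent.H43.HilbS10

set_option linter.unusedVariables false
set_option linter.unusedSectionVars false
set_option linter.style.longLine false
set_option linter.unusedSimpArgs false
set_option linter.unusedTactic false
set_option linter.unreachableTactic false

/-! The ideal `x_0 (x_0, …, x_{n-1}) + x_1^q (x_1, …, x_{n-r-1})`: the list of multidegrees of
total degree zero with a nonzero graded piece of `T(I)`, and the dimension count. -/

noncomputable section

namespace Groth.Agent.H43.HilbS47

open W4c1hilbpn MvPolynomial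
open Groth.Agent.H43.HilbT Groth.Agent.H43.HilbS

variable {n q r : ℕ} {k : Type*} [Field k]

/-- the variables `x_1, …, x_{n-r-1}` -/
def Inn (n r : ℕ) (i : Fin (n + 1)) : Prop := 1 ≤ i.val ∧ i.val + r + 1 ≤ n

instance (n : ℕ) : DecidablePred (Lo n) := fun j => by unfold Lo; infer_instance
instance (n r : ℕ) : DecidablePred (IM n r) := fun j => by unfold IM; infer_instance
instance (n r : ℕ) : DecidablePred (Out n r) := fun j => by unfold Out; infer_instance
instance (n r : ℕ) : DecidablePred (Inn n r) := fun j => by unfold Inn; infer_instance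

/-- the variables `x_1, …, x_{n-1}` -/
def loF (n : ℕ) : Finset (Fin (n + 1)) := Finset.univ.filter (fun j => Lo n j)
/-- the variables `x_2, …, x_{n-r-1}` -/
def imF (n r : ℕ) : Finset (Fin (n + 1)) := Finset.univ.filter (fun j => IM n r j)
/-- the variables `x_{n-r}, …, x_{n-1}` -/
def outF (n r : ℕ) : Finset (Fin (n + 1)) := Finset.univ.filter (fun j => Out n r j)
/-- the variables `x_1, …, x_{n-r-1}` -/
def innF (n r : ℕ) : Finset (Fin (n + 1)) := Finset.univ.filter (fun j => Inn n r j)

lemma mem_loF {j : Fin (n + 1)} : j ∈ loF n ↔ Lo n j := by simp [loF]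
lemma mem_imF {j : Fin (n + 1)} : j ∈ imF n r ↔ IM n r j := by simp [imF]
lemma mem_outF {j : Fin (n + 1)} : j ∈ outF n r ↔ Out n r j := by simp [outF]
lemma mem_innF {j : Fin (n + 1)} : j ∈ innF n r ↔ Inn n r j := by simp [innF]

lemma card_imF (hr : r + 3 ≤ n) : (imF n r).card = n - r - 2 := by
  have : (imF n r).map Fin.valEmbedding = Finset.Ico 2 (n - r) := by
    ext m
    simp only [Finset.mem_map, mem_imF, Fin.valEmbedding_apply, Finset.mem_Ico]
    constructor
    · rintro ⟨j, ⟨h1, h2⟩, rfl⟩
      exact ⟨h1, by omega⟩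
    · rintro ⟨h1, h2⟩
      exact ⟨⟨m, by omega⟩, ⟨h1, by show m + r + 1 ≤ n; omega⟩, rfl⟩
  have h1 := Nat.card_Ico 2 (n - r)
  have h2 : (imF n r).card = (Finset.Ico 2 (n - r)).card := by
    rw [← this, Finset.card_map]
  omega

lemma card_outF (hr : r + 3 ≤ n) : (outF n r).card = r := by
  have : (outF n r).map Fin.valEmbedding = Finset.Ico (n - r) n := by
    ext m
    simp only [Finset.mem_map, mem_outF, Fin.valEmbedding_apply, Finset.mem_Ico]
    constructor
    · rintro ⟨j, ⟨h1, h2⟩, rfl⟩
      exact ⟨by omega, by omega⟩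
    · rintro ⟨h1, h2⟩
      exact ⟨⟨m, by omega⟩, ⟨by show n ≤ m + r; omega, by show m + 1 ≤ n; omega⟩, rfl⟩
  have h1 := Nat.card_Ico (n - r) n
  have h2 : (outF n r).card = (Finset.Ico (n - r) n).card := by
    rw [← this, Finset.card_map]
  omega

lemma card_innF (hr : r + 3 ≤ n) : (innF n r).card = n - r - 1 := by
  have : (innF n r).map Fin.valEmbedding = Finset.Ico 1 (n - r) := by
    ext m
    simp only [Finset.mem_map, mem_innF, Fin.valEmbedding_apply, Finset.mem_Ico]
    constructor
    · rintro ⟨j, ⟨h1, h2⟩, rfl⟩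
      exact ⟨h1, by omega⟩
    · rintro ⟨h1, h2⟩
      exact ⟨⟨m, by omega⟩, ⟨h1, by show m + r + 1 ≤ n; omega⟩, rfl⟩
  have h1 := Nat.card_Ico 1 (n - r)
  have h2 : (innF n r).card = (Finset.Ico 1 (n - r)).card := by
    rw [← this, Finset.card_map]
  omega

variable {u v : Fin (n + 1)}

lemma cases3 (P : Pos47 n q r u v) (x : Fin (n + 1)) :
    x = u ∨ x = Fin.last n ∨ Lo n x := by
  have hPu := P.hu
  have hx := x.isLt
  by_cases h1 : x.val = u.val
  · exact Or.inl (Fin.ext h1)
  · by_cases h3 : x.val = n
    · exact Or.inr (Or.inl (Fin.ext (by rw [Fin.val_last]; exact h3)))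
    · exact Or.inr (Or.inr ⟨by omega, by omega⟩)

lemma sum_split (P : Pos47 n q r u v) (γ : Fin (n + 1) → ℤ) :
    ∑ x, γ x = γ u + γ (Fin.last n) + ∑ j ∈ loF n, γ j := by
  have hPu := P.hu
  have hPr := P.hr
  have hu : (Finset.univ : Finset (Fin (n + 1))) = insert u (insert (Fin.last n) (loF n)) := by
    ext x
    simp only [Finset.mem_univ, Finset.mem_insert, mem_loF, true_iff]
    exact cases3 P x
  have n1 : u ∉ insert (Fin.last n) (loF n) := by
    simp only [Finset.mem_insert, mem_loF, not_or]
    refine ⟨ne_of_val_ne (by rw [Fin.val_last]; omega), fun h => ?_⟩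
    have := h.1
    omega
  have n3 : Fin.last n ∉ loF n := by
    rw [mem_loF]
    intro h
    have := h.2
    rw [Fin.val_last] at this
    omega
  rw [hu, Finset.sum_insert n1, Finset.sum_insert n3]
  ring

/-! ### the list of multidegrees -/

/-- exponent of `x_v ^ q` -/
def pw (v : Fin (n + 1)) (q : ℕ) : Fin (n + 1) →₀ ℕ := Finsupp.single v q

lemma pw_apply (v x : Fin (n + 1)) (q : ℕ) : pw v q x = if x = v then q else 0 := by
  unfold pw
  rw [Finsupp.single_apply, ite_comm']

/-- exponent vectors of degree `q` in `x_1, …, x_n`, other than that of `x_1^q` -/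
def M47 (u v : Fin (n + 1)) (q : ℕ) : Finset (Fin (n + 1) →₀ ℕ) :=
  ((Finset.univ.erase u).finsuppAntidiag q).erase (pw v q)

/-- exponent of `x_1^{q-1} x_j` -/
def mO (v j : Fin (n + 1)) (q : ℕ) : Fin (n + 1) →₀ ℕ :=
  Finsupp.single v (q - 1) + Finsupp.single j 1

lemma mO_apply (v j x : Fin (n + 1)) (q : ℕ) :
    mO v j q x = (if x = v then q - 1 else 0) + (if x = j then 1 else 0) := by
  have e : ∀ (a : Fin (n + 1)) (t : ℕ), (if a = x then t else 0) = if x = a then t else 0 :=
    fun a t => ite_comm' a x t
  unfold mO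
  rw [Finsupp.add_apply, Finsupp.single_apply, Finsupp.single_apply, e, e]

lemma mO_inj {v j j' : Fin (n + 1)} (h : mO v j q = mO v j' q) : j = j' := by
  have := DFunLike.congr_fun h j
  rw [mO_apply, mO_apply, if_pos rfl] at this
  by_contra hne
  rw [if_neg hne] at this
  split_ifs at this <;> omega

/-- the exponents `x_1^{q-1} x_o` with `o` an outer variable -/
def DO47 (v : Fin (n + 1)) (q r : ℕ) : Finset (Fin (n + 1) →₀ ℕ) :=
  (outF n r).image (fun o => mO v o q)

/-- all multidegrees of total degree zero with a nonzero graded piece -/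
def L47 (u v : Fin (n + 1)) (q r : ℕ) : Finset (Fin (n + 1) → ℤ) :=
  ((((((Finset.univ.erase u).image (fun c => δ c u)) ∪ (M47 u v q).image (αE v q)) ∪
    (imF n r ×ˢ outF n r).image (fun p => δ p.2 p.1)) ∪
    (imF n r).image (fun i => δ (Fin.last n) i)) ∪
    (outF n r).image (fun o => δ (Fin.last n) o)) ∪
    (innF n r).image (fun i => αG u v i q)

lemma mem_LA {c : Fin (n + 1)} (hc : c ≠ u) : δ c u ∈ L47 u v q r := by
  unfold L47
  refine Finset.mem_union_left _ (Finset.mem_union_left _ (Finset.mem_union_left _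
    (Finset.mem_union_left _ (Finset.mem_union_left _ ?_))))
  exact Finset.mem_image_of_mem _ (Finset.mem_erase.mpr ⟨hc, Finset.mem_univ c⟩)

lemma mem_LB {m : Fin (n + 1) →₀ ℕ} (hm : m ∈ M47 u v q) : αE v q m ∈ L47 u v q r := by
  unfold L47
  refine Finset.mem_union_left _ (Finset.mem_union_left _ (Finset.mem_union_left _
    (Finset.mem_union_left _ (Finset.mem_union_right _ ?_))))
  exact Finset.mem_image_of_mem _ hm

lemma mem_LC {i c : Fin (n + 1)} (hi : IM n r i) (hc : Out n r c) : δ c i ∈ L47 u v q r := by
  unfold L47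
  refine Finset.mem_union_left _ (Finset.mem_union_left _ (Finset.mem_union_left _
    (Finset.mem_union_right _ ?_)))
  exact Finset.mem_image.mpr
    ⟨(i, c), Finset.mem_product.mpr ⟨mem_imF.mpr hi, mem_outF.mpr hc⟩, rfl⟩

lemma mem_LD {i : Fin (n + 1)} (hi : IM n r i) : δ (Fin.last n) i ∈ L47 u v q r := by
  unfold L47
  refine Finset.mem_union_left _ (Finset.mem_union_left _ (Finset.mem_union_right _ ?_))
  exact Finset.mem_image_of_mem _ (mem_imF.mpr hi)

lemma mem_LE {o : Fin (n + 1)} (ho : Out n r o) : δ (Fin.last n) o ∈ L47 u v q r := by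
  unfold L47
  refine Finset.mem_union_left _ (Finset.mem_union_right _ ?_)
  exact Finset.mem_image_of_mem _ (mem_outF.mpr ho)

lemma mem_LG {i : Fin (n + 1)} (hi : Inn n r i) : αG u v i q ∈ L47 u v q r := by
  unfold L47
  refine Finset.mem_union_right _ ?_
  exact Finset.mem_image_of_mem _ (mem_innF.mpr hi)

lemma mem_L47 {α : Fin (n + 1) → ℤ} (h : α ∈ L47 u v q r) :
    (∃ c, c ≠ u ∧ α = δ c u) ∨ (∃ m ∈ M47 u v q, α = αE v q m) ∨
      (∃ i c, IM n r i ∧ Out n r c ∧ α = δ c i) ∨ (∃ i, IM n r i ∧ α = δ (Fin.last n) i) ∨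
      (∃ o, Out n r o ∧ α = δ (Fin.last n) o) ∨ (∃ i, Inn n r i ∧ α = αG u v i q) := by
  unfold L47 at h
  rcases Finset.mem_union.mp h with h | h
  · rcases Finset.mem_union.mp h with h | h
    · rcases Finset.mem_union.mp h with h | h
      · rcases Finset.mem_union.mp h with h | h
        · rcases Finset.mem_union.mp h with h | h
          · obtain ⟨c, hc, e⟩ := Finset.mem_image.mp h
            exact Or.inl ⟨c, (Finset.mem_erase.mp hc).1, e.symm⟩
          · obtain ⟨m, hm, e⟩ := Finset.mem_image.mp h
            exact Or.inr (Or.inl ⟨m, hm, e.symm⟩)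
        · obtain ⟨⟨i, c⟩, hp, e⟩ := Finset.mem_image.mp h
          rw [Finset.mem_product] at hp
          exact Or.inr (Or.inr (Or.inl ⟨i, c, mem_imF.mp hp.1, mem_outF.mp hp.2, e.symm⟩))
      · obtain ⟨i, hi, e⟩ := Finset.mem_image.mp h
        exact Or.inr (Or.inr (Or.inr (Or.inl ⟨i, mem_imF.mp hi, e.symm⟩)))
    · obtain ⟨o, ho, e⟩ := Finset.mem_image.mp h
      exact Or.inr (Or.inr (Or.inr (Or.inr (Or.inl ⟨o, mem_outF.mp ho, e.symm⟩))))
  · obtain ⟨i, hi, e⟩ := Finset.mem_image.mp h
    exact Or.inr (Or.inr (Or.inr (Or.inr (Or.inr ⟨i, mem_innF.mp hi, e.symm⟩))))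

lemma mem_M47_of {m : Fin (n + 1) →₀ ℕ} (hmu : m u = 0) (hsum : ∑ x, m x = q)
    (h1 : m ≠ pw v q) : m ∈ M47 u v q := by
  unfold M47
  refine Finset.mem_erase.mpr ⟨h1, ?_⟩
  rw [Finset.mem_finsuppAntidiag]
  constructor
  · have := Finset.add_sum_erase Finset.univ (fun x => m x) (Finset.mem_univ u)
    simp only [hmu, zero_add] at this
    rw [← hsum]
    exact this
  · intro x hx
    rw [Finsupp.mem_support_iff] at hx
    rw [Finset.mem_erase]
    refine ⟨fun e => hx (by rw [e]; exact hmu), Finset.mem_univ x⟩

lemma m_entries {m : Fin (n + 1) →₀ ℕ} (hm : m ∈ M47 u v q) :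
    m u = 0 ∧ ∑ x, m x = q ∧ m ≠ pw v q := by
  unfold M47 at hm
  obtain ⟨h1, hm⟩ := Finset.mem_erase.mp hm
  rw [Finset.mem_finsuppAntidiag] at hm
  obtain ⟨hsum, hsupp⟩ := hm
  have hmu : m u = 0 := by
    by_contra h
    have := hsupp (Finsupp.mem_support_iff.mpr h)
    rw [Finset.mem_erase] at this
    exact this.1 rfl
  refine ⟨hmu, ?_, h1⟩
  have h3 := Finset.add_sum_erase Finset.univ (fun x => m x) (Finset.mem_univ u)
  simp only [hmu, zero_add] at h3
  rw [← h3]
  exact hsum

lemma mv_lt {m : Fin (n + 1) →₀ ℕ} (hm : m ∈ M47 u v q) : m v < q := by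
  obtain ⟨hmu, hsum, hne⟩ := m_entries hm
  by_contra hge
  push Not at hge
  have h3 : m v + ∑ x ∈ Finset.univ.erase v, m x = ∑ x, m x :=
    Finset.add_sum_erase Finset.univ (fun x => m x) (Finset.mem_univ v)
  have h0 : ∑ x ∈ Finset.univ.erase v, m x = 0 := by omega
  have hz := Finset.sum_eq_zero_iff.mp h0
  apply hne
  ext x
  rw [pw_apply]
  by_cases hx : x = v
  · rw [if_pos hx, hx]; omega
  · rw [if_neg hx]; exact hz x (Finset.mem_erase.mpr ⟨hx, Finset.mem_univ x⟩)

lemma m_eq_mO (P : Pos47 n q r u v) {m : Fin (n + 1) →₀ ℕ} (hm : m ∈ M47 u v q)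
    (hmv : m v + 1 = q) : ∃ j : Fin (n + 1), j ≠ u ∧ j ≠ v ∧ m = mO v j q := by
  have hPq := P.hq
  obtain ⟨hmu, hsum, hne⟩ := m_entries hm
  have hsumZ : ∑ x, (m x : ℤ) = q := by exact_mod_cast hsum
  obtain ⟨γ, hγ⟩ : ∃ γ : Fin (n + 1) → ℤ,
      ∀ x, γ x = (m x : ℤ) - (if x = v then (q : ℤ) - 1 else 0) := ⟨_, fun _ => rfl⟩
  have hNN : NN γ := by
    intro x
    rw [hγ]
    split_ifs with h
    · rw [h]; omega
    · omega
  have hs : ∑ x, γ x = 1 := by
    have e1 : ∑ x, γ x = ∑ x, (m x : ℤ) - ∑ x, (if x = v then (q : ℤ) - 1 else 0) := by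
      rw [← Finset.sum_sub_distrib]
      exact Finset.sum_congr rfl (fun x _ => hγ x)
    rw [e1, Finset.sum_ite_eq', if_pos (Finset.mem_univ v), hsumZ]
    ring
  obtain ⟨c, hc⟩ := nn_sum_one hNN hs
  have hcx : ∀ x, (m x : ℤ) = (if x = v then (q : ℤ) - 1 else 0) + (if x = c then 1 else 0) := by
    intro x
    have h1 := congrFun hc x
    rw [hγ, Pi.single_apply] at h1
    linarith
  have hcu : c ≠ u := by
    intro e
    have := hcx u
    rw [hmu, e, if_pos rfl] at this
    split_ifs at this <;> omega
  have hcv : c ≠ v := by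
    intro e
    have := hcx v
    rw [e, if_pos rfl, if_pos rfl] at this
    omega
  refine ⟨c, hcu, hcv, ?_⟩
  ext x
  rw [mO_apply]
  have := hcx x
  split_ifs at this ⊢ <;> omega

lemma αE_mO (P : Pos47 n q r u v) {j : Fin (n + 1)} (hjv : j ≠ v) :
    αE v q (mO v j q) = δ j v := by
  have hPq := P.hq
  have hjv' : j.val ≠ v.val := fun e => hjv (Fin.ext e)
  funext x
  simp only [αE, δ, mO_apply, Fin.ext_iff]
  split_ifs <;> push_cast <;> omega

lemma mO_mem (P : Pos47 n q r u v) {j : Fin (n + 1)} (hju : j ≠ u) (hjv : j ≠ v) :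
    mO v j q ∈ M47 u v q := by
  have hPu := P.hu
  have hPv := P.hv
  have hPq := P.hq
  have hvu : v ≠ u := ne_of_val_ne (by omega)
  apply mem_M47_of
  · rw [mO_apply, if_neg hvu.symm, if_neg hju.symm]
  · unfold mO
    simp only [Finsupp.add_apply, Finsupp.single_apply, Finset.sum_add_distrib,
      Finset.sum_ite_eq, Finset.mem_univ, if_true]
    omega
  · intro e
    have := DFunLike.congr_fun e v
    rw [mO_apply, pw_apply, if_pos rfl, if_neg hjv.symm, if_pos rfl] at this
    omega

lemma card_M47 (P : Pos47 n q r u v) : (M47 u v q).card + 1 = (n + q - 1).choose q := by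
  have hPu := P.hu
  have hPv := P.hv
  have hPr := P.hr
  have hvu : v ≠ u := ne_of_val_ne (by omega)
  have h1 : pw v q ∈ (Finset.univ.erase u).finsuppAntidiag q := by
    rw [Finset.mem_finsuppAntidiag]
    constructor
    · rw [Finset.sum_congr rfl (fun x _ => pw_apply v x q), Finset.sum_ite_eq',
        if_pos (Finset.mem_erase.mpr ⟨hvu, Finset.mem_univ v⟩)]
    · intro x hx
      rw [Finsupp.mem_support_iff, pw_apply] at hx
      rw [Finset.mem_erase]
      refine ⟨fun e => hx ?_, Finset.mem_univ x⟩
      rw [e, if_neg (fun e' => hvu e'.symm)]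
  have c1 := Finset.card_erase_of_mem h1
  have c0 : 0 < ((Finset.univ.erase u).finsuppAntidiag q).card := Finset.card_pos.mpr ⟨_, h1⟩
  have c4 := Finset.card_finsuppAntidiag_nat_eq_choose
    (s := (Finset.univ.erase u : Finset (Fin (n + 1)))) q
  have c5 : (Finset.univ.erase u : Finset (Fin (n + 1))).card = n := by
    rw [Finset.card_erase_of_mem (Finset.mem_univ u), Finset.card_univ, Fintype.card_fin]
    omega
  rw [c5] at c4
  unfold M47
  omega

lemma sum_δ (c b : Fin (n + 1)) : ∑ x, δ c b x = 0 := by
  unfold δ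
  rw [Finset.sum_sub_distrib, Finset.sum_ite_eq', Finset.sum_ite_eq', if_pos (Finset.mem_univ c),
    if_pos (Finset.mem_univ b)]
  norm_num

lemma sum_αG (u v i : Fin (n + 1)) (q : ℕ) : ∑ x, αG u v i q x = 0 := by
  simp only [αG, Finset.sum_sub_distrib, Finset.sum_add_distrib, Finset.sum_ite_eq',
    Finset.mem_univ, if_true]
  ring

lemma sum_αE {m : Fin (n + 1) →₀ ℕ} (hm : m ∈ M47 u v q) : ∑ x, αE v q m x = 0 := by
  obtain ⟨hmu, hsum, _⟩ := m_entries hm
  have hsumZ : ∑ x, (m x : ℤ) = q := by exact_mod_cast hsum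
  unfold αE
  rw [Finset.sum_sub_distrib, Finset.sum_ite_eq', if_pos (Finset.mem_univ v), hsumZ]
  ring

/-- finish after unfolding entries -/
macro "fin47" : tactic => `(tactic| first | done | omega | (split_ifs <;> omega))

/-! ### the sum over the list -/

lemma sum_L47 (P : Pos47 n q r u v) (f : (Fin (n + 1) → ℤ) → ℕ) :
    ∑ α ∈ L47 u v q r, f α = ∑ c ∈ Finset.univ.erase u, f (δ c u) +
      ∑ m ∈ M47 u v q, f (αE v q m) + ∑ p ∈ imF n r ×ˢ outF n r, f (δ p.2 p.1) +
      ∑ i ∈ imF n r, f (δ (Fin.last n) i) + ∑ o ∈ outF n r, f (δ (Fin.last n) o) +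
      ∑ i ∈ innF n r, f (αG u v i q) := by
  have hPu := P.hu
  have hPv := P.hv
  have hPq := P.hq
  have hPr0 := P.hr0
  have hPr := P.hr
  have fA : ∀ α ∈ (Finset.univ.erase u).image (fun c => δ c u), α u = -1 := by
    intro α h
    obtain ⟨c, hc, rfl⟩ := Finset.mem_image.mp h
    have hcu : c.val ≠ u.val := fun e' => (Finset.mem_erase.mp hc).1 (Fin.ext e')
    simp only [δ, Fin.ext_iff]
    fin47
  have fB : ∀ α ∈ (M47 u v q).image (αE v q),
      α u = 0 ∧ ∀ x : Fin (n + 1), x.val ≠ v.val → 0 ≤ α x := by
    intro α h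
    obtain ⟨m, hm, rfl⟩ := Finset.mem_image.mp h
    obtain ⟨hmu, _, _⟩ := m_entries hm
    refine ⟨?_, fun x hx => ?_⟩
    · simp only [αE, Fin.ext_iff, hmu]
      fin47
    · simp only [αE, Fin.ext_iff]
      fin47
  have fC : ∀ α ∈ (imF n r ×ˢ outF n r).image (fun p => δ p.2 p.1),
      α u = 0 ∧ α (Fin.last n) = 0 ∧ ∃ i, IM n r i ∧ α i = -1 := by
    intro α h
    obtain ⟨⟨i, c⟩, hp, rfl⟩ := Finset.mem_image.mp h
    rw [Finset.mem_product] at hp
    have hi : IM n r i := mem_imF.mp hp.1
    have hc : Out n r c := mem_outF.mp hp.2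
    have hi1 := hi.1
    have hi2 := hi.2
    have hc1 := hc.1
    have hc2 := hc.2
    refine ⟨?_, ?_, i, hi, ?_⟩
    · simp only [δ, Fin.ext_iff, Fin.val_last]
      fin47
    · simp only [δ, Fin.ext_iff, Fin.val_last]
      fin47
    · simp only [δ, Fin.ext_iff, Fin.val_last]
      fin47
  have fD : ∀ α ∈ (imF n r).image (fun i => δ (Fin.last n) i),
      α u = 0 ∧ α (Fin.last n) = 1 ∧ ∃ i, IM n r i ∧ α i = -1 := by
    intro α h
    obtain ⟨i, hi, rfl⟩ := Finset.mem_image.mp h
    have hi' := mem_imF.mp hi
    have hi1 := hi'.1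
    have hi2 := hi'.2
    refine ⟨?_, ?_, i, hi', ?_⟩
    · simp only [δ, Fin.ext_iff, Fin.val_last]
      fin47
    · simp only [δ, Fin.ext_iff, Fin.val_last]
      fin47
    · simp only [δ, Fin.ext_iff, Fin.val_last]
      fin47
  have fE : ∀ α ∈ (outF n r).image (fun o => δ (Fin.last n) o),
      α u = 0 ∧ α (Fin.last n) = 1 ∧ (∀ i, IM n r i → α i = 0) ∧
        ∃ o, Out n r o ∧ α o = -1 := by
    intro α h
    obtain ⟨o, ho, rfl⟩ := Finset.mem_image.mp h
    have ho' := mem_outF.mp ho
    have ho1 := ho'.1
    have ho2 := ho'.2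
    refine ⟨?_, ?_, fun i hi => ?_, o, ho', ?_⟩
    · simp only [δ, Fin.ext_iff, Fin.val_last]
      fin47
    · simp only [δ, Fin.ext_iff, Fin.val_last]
      fin47
    · have hi1 := hi.1
      have hi2 := hi.2
      simp only [δ, Fin.ext_iff, Fin.val_last]
      fin47
    · simp only [δ, Fin.ext_iff, Fin.val_last]
      fin47
  have fG : ∀ α ∈ (innF n r).image (fun i => αG u v i q), α u = 1 := by
    intro α h
    obtain ⟨i, hi, rfl⟩ := Finset.mem_image.mp h
    have hi' := mem_innF.mp hi
    have hi1 := hi'.1
    have hi2 := hi'.2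
    simp only [αG, Fin.ext_iff, Fin.val_last]
    fin47
  unfold L47
  have d5 : Disjoint ((((((Finset.univ.erase u).image (fun c => δ c u)) ∪
      (M47 u v q).image (αE v q)) ∪ (imF n r ×ˢ outF n r).image (fun p => δ p.2 p.1)) ∪
      (imF n r).image (fun i => δ (Fin.last n) i)) ∪
      (outF n r).image (fun o => δ (Fin.last n) o))
      ((innF n r).image (fun i => αG u v i q)) := by
    rw [Finset.disjoint_left]
    intro α h1 h2
    have hG := fG α h2
    simp only [Finset.mem_union] at h1
    rcases h1 with (((h1 | h1) | h1) | h1) | h1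
    · have := fA α h1; omega
    · have := (fB α h1).1; omega
    · have := (fC α h1).1; omega
    · have := (fD α h1).1; omega
    · have := (fE α h1).1; omega
  have d4 : Disjoint (((((Finset.univ.erase u).image (fun c => δ c u)) ∪
      (M47 u v q).image (αE v q)) ∪ (imF n r ×ˢ outF n r).image (fun p => δ p.2 p.1)) ∪
      (imF n r).image (fun i => δ (Fin.last n) i))
      ((outF n r).image (fun o => δ (Fin.last n) o)) := by
    rw [Finset.disjoint_left]
    intro α h1 h2
    obtain ⟨hEu, hEz, hEi, o, ho, hEo⟩ := fE α h2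
    simp only [Finset.mem_union] at h1
    rcases h1 with ((h1 | h1) | h1) | h1
    · have := fA α h1; omega
    · have := (fB α h1).2 o (by have := ho.1; omega); omega
    · have := (fC α h1).2.1; omega
    · obtain ⟨_, _, i, hi, hDi⟩ := fD α h1
      have := hEi i hi; omega
  have d3 : Disjoint ((((Finset.univ.erase u).image (fun c => δ c u)) ∪
      (M47 u v q).image (αE v q)) ∪ (imF n r ×ˢ outF n r).image (fun p => δ p.2 p.1))
      ((imF n r).image (fun i => δ (Fin.last n) i)) := by
    rw [Finset.disjoint_left]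
    intro α h1 h2
    obtain ⟨hDu, hDz, i, hi, hDi⟩ := fD α h2
    simp only [Finset.mem_union] at h1
    rcases h1 with (h1 | h1) | h1
    · have := fA α h1; omega
    · have := (fB α h1).2 i (by have := hi.1; omega); omega
    · have := (fC α h1).2.1; omega
  have d2 : Disjoint (((Finset.univ.erase u).image (fun c => δ c u)) ∪
      (M47 u v q).image (αE v q)) ((imF n r ×ˢ outF n r).image (fun p => δ p.2 p.1)) := by
    rw [Finset.disjoint_left]
    intro α h1 h2
    obtain ⟨hCu, hCz, i, hi, hCi⟩ := fC α h2
    rcases Finset.mem_union.mp h1 with h1 | h1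
    · have := fA α h1; omega
    · have := (fB α h1).2 i (by have := hi.1; omega); omega
  have d1 : Disjoint ((Finset.univ.erase u).image (fun c => δ c u))
      ((M47 u v q).image (αE v q)) := by
    rw [Finset.disjoint_left]
    intro α h1 h2
    have := fA α h1
    have := (fB α h2).1
    omega
  have iA : Set.InjOn (fun c => δ c u) ↑(Finset.univ.erase u) := by
    intro c hc c' hc' e
    have hc : c ≠ u := (Finset.mem_erase.mp hc).1
    have hcv : c.val ≠ u.val := fun e' => hc (Fin.ext e')
    by_contra hne
    have hv : c.val ≠ c'.val := fun e' => hne (Fin.ext e')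
    have := congrFun e c
    simp only [δ, Fin.ext_iff] at this
    split_ifs at this <;> omega
  have iB : Set.InjOn (αE v q) ↑(M47 u v q) := by
    intro m hm m' hm' e
    ext x
    have := congrFun e x
    simp only [αE] at this
    omega
  have iC : Set.InjOn (fun p : Fin (n + 1) × Fin (n + 1) => δ p.2 p.1)
      ↑(imF n r ×ˢ outF n r) := by
    rintro ⟨i, c⟩ hp ⟨i', c'⟩ hp' e
    rw [Finset.mem_coe, Finset.mem_product] at hp hp'
    have hi : IM n r i := mem_imF.mp hp.1
    have hc : Out n r c := mem_outF.mp hp.2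
    have hi' : IM n r i' := mem_imF.mp hp'.1
    have hc' : Out n r c' := mem_outF.mp hp'.2
    have hi1 := hi.1
    have hi2 := hi.2
    have hc1 := hc.1
    have hc2 := hc.2
    have hi'1 := hi'.1
    have hi'2 := hi'.2
    have hc'1 := hc'.1
    have hc'2 := hc'.2
    have h1 : i.val = i'.val := by
      by_contra hne
      have := congrFun e i
      simp only [δ, Fin.ext_iff] at this
      split_ifs at this <;> omega
    have h2 : c.val = c'.val := by
      by_contra hne
      have := congrFun e c
      simp only [δ, Fin.ext_iff] at this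
      split_ifs at this <;> omega
    rw [Fin.ext h1, Fin.ext h2]
  have iD : Set.InjOn (fun i => δ (Fin.last n) i) ↑(imF n r) := by
    intro i hi i' hi' e
    by_contra hne
    have hv : i.val ≠ i'.val := fun e' => hne (Fin.ext e')
    have := congrFun e i
    simp only [δ, Fin.ext_iff, Fin.val_last] at this
    split_ifs at this <;> omega
  have iE : Set.InjOn (fun o => δ (Fin.last n) o) ↑(outF n r) := by
    intro i hi i' hi' e
    by_contra hne
    have hv : i.val ≠ i'.val := fun e' => hne (Fin.ext e')
    have := congrFun e i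
    simp only [δ, Fin.ext_iff, Fin.val_last] at this
    split_ifs at this <;> omega
  have iG : Set.InjOn (fun i => αG u v i q) ↑(innF n r) := by
    intro i hi i' hi' e
    by_contra hne
    have hv : i.val ≠ i'.val := fun e' => hne (Fin.ext e')
    have := congrFun e i
    simp only [αG, Fin.ext_iff, Fin.val_last] at this
    split_ifs at this <;> omega
  rw [Finset.sum_union d5, Finset.sum_union d4, Finset.sum_union d3, Finset.sum_union d2,
    Finset.sum_union d1, Finset.sum_image iA, Finset.sum_image iB, Finset.sum_image iC,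
    Finset.sum_image iD, Finset.sum_image iE, Finset.sum_image iG]

/-! ### classification of the nonzero pieces -/

lemma unit_diff {γ : Fin (n + 1) → ℤ} (hNN : NN γ) (hsum : ∑ y', γ y' = 2) {b : Fin (n + 1)}
    (hγb : 1 ≤ γ b) :
    ∃ c : Fin (n + 1), ∀ y' : Fin (n + 1), γ y' = (if y'.val = b.val then 1 else 0) +
      (if y'.val = c.val then 1 else 0) := by
  have hNN' : NN (γ - Pi.single b 1) := by
    intro y'
    have := hNN y'
    rw [Pi.sub_apply, Pi.single_apply]
    split_ifs with h
    · rw [h]; omega
    · omega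
  have hsum' : ∑ y', (γ - Pi.single b 1 : Fin (n + 1) → ℤ) y' = 1 := by
    simp only [Pi.sub_apply, Finset.sum_sub_distrib, hsum]
    rw [Finset.sum_pi_single' b (1:ℤ) Finset.univ, if_pos (Finset.mem_univ b)]
    norm_num
  obtain ⟨c, hc⟩ := nn_sum_one hNN' hsum'
  refine ⟨c, fun y' => ?_⟩
  have := congrFun hc y'
  simp only [Pi.sub_apply, Pi.single_apply, Fin.ext_iff] at this
  linarith

set_option maxHeartbeats 3200000 in
theorem mem_L_of_ne_zero (P : Pos47 n q r u v) (hcase : 2 ≤ r ∨ (r = 1 ∧ 3 ≤ q))
    {α : Fin (n + 1) → ℤ} (hα : ∑ i, α i = 0) {F : (Fin (n + 1) → ℤ) → k}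
    (hF : F ∈ RF (I47 n q r k) α) {g : Fin (n + 1) →₀ ℕ} (hg : g ∈ Gs47 n q r)
    (hne : F (sh g α) ≠ 0) : α ∈ L47 u v q r := by
  have hPu := P.hu
  have hPv := P.hv
  have hPq := P.hq
  have hPr0 := P.hr0
  have hPr := P.hr
  have hl : (Fin.last n).val = n := Fin.val_last n
  have hgood : NN (sh g α) ∧ Ok (I47 n q r k) (sh g α) := by
    by_contra h
    exact hne (rf_bad hF h)
  obtain ⟨γ, hγdef⟩ : ∃ γ : Fin (n + 1) → ℤ, γ = sh g α := ⟨_, rfl⟩
  rw [← hγdef] at hgood
  obtain ⟨hNN, hOk⟩ := hgood
  have hOk2 : ¬ (2 ≤ γ u ∨ (1 ≤ γ u ∧ ∃ j, Lo n j ∧ 1 ≤ γ j) ∨ (q : ℤ) + 1 ≤ γ v ∨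
      ((q : ℤ) ≤ γ v ∧ ∃ i, IM n r i ∧ 1 ≤ γ i)) :=
    fun h => (ok_iff P γ).mp hOk ⟨hNN, h⟩
  have hOk3 : ¬ ((q : ℤ) + 1 ≤ γ v) := fun h => hOk2 (Or.inr (Or.inr (Or.inl h)))
  have hNu := hNN u
  have hNv := hNN v
  have hNz := hNN (Fin.last n)
  have hsplit := sum_split P γ
  have hlnn : 0 ≤ ∑ j ∈ loF n, γ j := Finset.sum_nonneg (fun j _ => hNN j)
  have hlov : Lo n v := ⟨by omega, by omega⟩
  obtain ⟨w, hw⟩ : ∃ w : Fin (n + 1), w.val = 2 := ⟨⟨2, by omega⟩, rfl⟩
  obtain ⟨o₀, ho₀⟩ : ∃ o : Fin (n + 1), o.val + 1 = n :=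
    ⟨⟨n - 1, by omega⟩, by show n - 1 + 1 = n; omega⟩
  have hU1 : 1 ≤ γ u → γ u = 1 ∧ (∀ j, Lo n j → γ j = 0) := by
    intro hU
    refine ⟨?_, fun j hj => ?_⟩
    · by_contra h
      exact hOk2 (Or.inl (by omega))
    · have := hNN j
      by_contra h
      exact hOk2 (Or.inr (Or.inl ⟨hU, j, hj, by omega⟩))
  have hγall1 : ∀ (s : ℤ), 1 ≤ γ u → ∑ x, γ x = s → ∀ x : Fin (n + 1),
      γ x = (if x.val = u.val then 1 else 0) + (if x.val = n then s - 1 else 0) := by
    intro s hU hs x
    obtain ⟨hγu, hlo0⟩ := hU1 hU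
    have hmsum : ∑ j ∈ loF n, γ j = 0 :=
      Finset.sum_eq_zero (fun j hj => hlo0 j (mem_loF.mp hj))
    have hγz : γ (Fin.last n) = s - 1 := by omega
    have hx := x.isLt
    by_cases h1 : x.val = u.val
    · rw [if_pos h1, if_neg (by omega)]
      have e := congrArg γ (Fin.ext h1 : x = u)
      omega
    · rw [if_neg h1]
      by_cases h2 : x.val = n
      · rw [if_pos h2]
        have e := congrArg γ (Fin.ext (by rw [Fin.val_last]; exact h2) : x = Fin.last n)
        omega
      · rw [if_neg h2]
        have e := hlo0 x ⟨by omega, by omega⟩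
        omega
  rcases gs_cases P hg with ⟨b, hb, rfl⟩ | ⟨i, hi1, hi2, rfl⟩
  · -- the generator `x_0 x_b`
    have hg'x : ∀ (b' x : Fin (n + 1)), sh (g1 u b') α x =
        (if x.val = u.val then 1 else 0) + (if x.val = b'.val then 1 else 0) + α x := by
      intro b' x
      rw [sh_apply, g1_apply]
      simp only [Fin.ext_iff]
      split_ifs <;> simp
    have hγ : ∀ x, γ x = (if x.val = u.val then 1 else 0) +
        (if x.val = b.val then 1 else 0) + α x := by
      intro x
      rw [hγdef]
      exact hg'x b x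
    have hαx : ∀ x, α x = γ x - (if x.val = u.val then 1 else 0) -
        (if x.val = b.val then 1 else 0) := by
      intro x
      have := hγ x
      linarith
    have hsum : ∑ x, γ x = 2 := by
      have e : ∀ x, γ x =
          ((Finsupp.single u 1 + Finsupp.single b 1 : Fin (n + 1) →₀ ℕ) x : ℤ) + α x := by
        intro x
        simp only [hγdef, sh_apply, g1]
      simp only [e, Finset.sum_add_distrib, hα, add_zero]
      simp only [Finsupp.add_apply, Finsupp.single_apply, Nat.cast_add, Nat.cast_ite, Nat.cast_one,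
        Nat.cast_zero, Finset.sum_add_distrib, Finset.sum_ite_eq, Finset.mem_univ, if_true]
      norm_num
    have hβ : ∀ (b' x : Fin (n + 1)), sh (g1 u b + Finsupp.single b' 1) α x =
        γ x + (if b'.val = x.val then 1 else 0) := by
      intro b' x
      rw [hγdef, sh_apply, sh_apply, Finsupp.add_apply, Finsupp.single_apply]
      simp only [Fin.ext_iff]
      split_ifs <;> push_cast <;> ring
    have kill : ∀ b' : Fin (n + 1), b'.val + 1 ≤ n →
        Ok (I47 n q r k) (sh (g1 u b + Finsupp.single b' 1) α) →
        ¬ NN (sh (g1 u b') α) → False := by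
      intro b' hb' hok hbad
      have hle : g1 u b' ≤ g1 u b + Finsupp.single b' 1 := by
        rw [Finsupp.le_def]
        intro x
        rw [Finsupp.add_apply, g1_apply, g1_apply, Finsupp.single_apply]
        simp only [Fin.ext_iff]
        split_ifs <;> omega
      exact hne (rf_kill hF (hGs47 hPr _ hg) (hGs47 hPr _ (g1_mem P hb')) le_self_add hle hok
        (fun h => hbad h.1))
    by_cases hU : 1 ≤ γ u
    · have hγall := hγall1 2 hU hsum
      have e : α = δ (Fin.last n) b := by
        funext x
        rw [hαx, hγall]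
        simp only [δ, Fin.ext_iff, Fin.val_last]
        split_ifs <;> omega
      rw [e]
      by_cases hbu : b = u
      · rw [hbu]
        exact mem_LA (ne_of_val_ne (by rw [Fin.val_last]; omega))
      · by_cases hbv : b = v
        · have hzv : Fin.last n ≠ v := ne_of_val_ne (by rw [Fin.val_last]; omega)
          have hzu : Fin.last n ≠ u := ne_of_val_ne (by rw [Fin.val_last]; omega)
          rw [hbv, ← αE_mO P hzv]
          exact mem_LB (mO_mem P hzu hzv)
        · have h1 : b.val ≠ u.val := fun e' => hbu (Fin.ext e')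
          have h2 : b.val ≠ v.val := fun e' => hbv (Fin.ext e')
          by_cases hbI : b.val + r + 1 ≤ n
          · exact mem_LD ⟨by omega, hbI⟩
          · exact mem_LE ⟨by omega, hb⟩
    · have hγu : γ u = 0 := by omega
      by_cases hbu : b = u
      · exfalso
        have hbuv : b.val = u.val := congrArg Fin.val hbu
        refine kill o₀ (by omega) ?_ ?_
        · apply ok_of P
          rintro (h | ⟨h, _⟩ | h | ⟨h, i, ⟨hi1, hi2⟩, hi⟩)
          · rw [hβ] at h; split_ifs at h <;> omega
          · rw [hβ] at h; split_ifs at h <;> omega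
          · rw [hβ] at h; split_ifs at h <;> omega
          · rw [hβ] at h hi
            apply hOk2
            refine Or.inr (Or.inr (Or.inr ⟨?_, i, ⟨hi1, hi2⟩, ?_⟩))
            · split_ifs at h <;> omega
            · split_ifs at hi <;> omega
        · intro h
          have h1 := h u
          rw [hg'x] at h1
          have h2 := hαx u
          split_ifs at h1 h2 <;> omega
      · have hbuv : b.val ≠ u.val := fun e' => hbu (Fin.ext e')
        by_cases hγb : 1 ≤ γ b
        · obtain ⟨c, hγ2⟩ := unit_diff hNN hsum hγb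
          have hcu : c.val ≠ u.val := by
            intro e'
            have := hγ2 u
            split_ifs at this <;> omega
          have e : α = δ c u := by
            funext x
            rw [hαx, hγ2]
            simp only [δ, Fin.ext_iff]
            split_ifs <;> omega
          rw [e]
          exact mem_LA (ne_of_val_ne hcu)
        · exfalso
          have hγb0 : γ b = 0 := by have := hNN b; omega
          have hγv2 : γ v ≤ 2 := by
            have := Finset.single_le_sum (f := γ) (fun i _ => hNN i) (Finset.mem_univ v)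
            omega
          have hex : ∃ b' : Fin (n + 1), b'.val + 1 ≤ n ∧ b'.val ≠ b.val ∧ 2 ≤ b'.val ∧
              (Out n r b' ∨ (b'.val + r + 1 ≤ n ∧ 3 ≤ q)) := by
            by_cases hbo : b.val + 1 = n
            · rcases hcase with h2 | ⟨h1, h3⟩
              · refine ⟨⟨n - 2, by omega⟩, ?_, ?_, ?_, Or.inl ⟨?_, ?_⟩⟩
                · show n - 2 + 1 ≤ n; omega
                · show n - 2 ≠ b.val; omega
                · show 2 ≤ n - 2; omega
                · show n ≤ n - 2 + r; omega
                · show n - 2 + 1 ≤ n; omega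
              · exact ⟨w, by omega, by omega, by omega, Or.inr ⟨by omega, h3⟩⟩
            · exact ⟨o₀, by omega, by omega, by omega, Or.inl ⟨by omega, by omega⟩⟩
          obtain ⟨b', hb'1, hb'2, hb'3, hb'4⟩ := hex
          refine kill b' hb'1 ?_ ?_
          · apply ok_of P
            rintro (h | ⟨h, _⟩ | h | ⟨h, i, ⟨hi1, hi2⟩, hi⟩)
            · rw [hβ] at h; split_ifs at h <;> omega
            · rw [hβ] at h; split_ifs at h <;> omega
            · rw [hβ] at h; split_ifs at h <;> omega
            · rw [hβ] at h hi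
              rcases hb'4 with ⟨ho1, ho2⟩ | ⟨hI, h3⟩
              · apply hOk2
                refine Or.inr (Or.inr (Or.inr ⟨?_, i, ⟨hi1, hi2⟩, ?_⟩))
                · split_ifs at h <;> omega
                · split_ifs at hi <;> omega
              · split_ifs at h <;> omega
          · intro h
            have h1 := h b
            rw [hg'x] at h1
            have h2 := hαx b
            split_ifs at h1 h2 <;> omega
  · -- the generator `x_1 ^ q x_i`
    have hg'x : ∀ (i' x : Fin (n + 1)), sh (g3 v i' q) α x =
        (if x.val = v.val then (q : ℤ) else 0) + (if x.val = i'.val then 1 else 0) + α x := by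
      intro i' x
      rw [sh_apply, g3_apply]
      simp only [Fin.ext_iff]
      split_ifs <;> simp
    have hγ : ∀ x, γ x = (if x.val = v.val then (q : ℤ) else 0) +
        (if x.val = i.val then 1 else 0) + α x := by
      intro x
      rw [hγdef]
      exact hg'x i x
    have hαx : ∀ x, α x = γ x - (if x.val = v.val then (q : ℤ) else 0) -
        (if x.val = i.val then 1 else 0) := by
      intro x
      have := hγ x
      linarith
    have hsum : ∑ x, γ x = (q : ℤ) + 1 := by
      have e : ∀ x, γ x =
          ((Finsupp.single v q + Finsupp.single i 1 : Fin (n + 1) →₀ ℕ) x : ℤ) + α x := by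
        intro x
        simp only [hγdef, sh_apply, g3]
      simp only [e, Finset.sum_add_distrib, hα, add_zero]
      simp only [Finsupp.add_apply, Finsupp.single_apply, Nat.cast_add, Nat.cast_ite, Nat.cast_one,
        Nat.cast_zero, Finset.sum_add_distrib, Finset.sum_ite_eq, Finset.mem_univ, if_true]
    have hβ : ∀ (i' x : Fin (n + 1)), sh (g3 v i q + Finsupp.single i' 1) α x =
        γ x + (if i'.val = x.val then 1 else 0) := by
      intro i' x
      rw [hγdef, sh_apply, sh_apply, Finsupp.add_apply, Finsupp.single_apply]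
      simp only [Fin.ext_iff]
      split_ifs <;> push_cast <;> ring
    have kill : ∀ i' : Fin (n + 1), 1 ≤ i'.val → i'.val + r + 1 ≤ n →
        Ok (I47 n q r k) (sh (g3 v i q + Finsupp.single i' 1) α) →
        ¬ NN (sh (g3 v i' q) α) → False := by
      intro i' hi'1 hi'2 hok hbad
      have hle : g3 v i' q ≤ g3 v i q + Finsupp.single i' 1 := by
        rw [Finsupp.le_def]
        intro x
        rw [Finsupp.add_apply, g3_apply, g3_apply, Finsupp.single_apply]
        simp only [Fin.ext_iff]
        split_ifs <;> omega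
      exact hne (rf_kill hF (hGs47 hPr _ hg) (hGs47 hPr _ (g3_mem P hi'1 hi'2)) le_self_add hle hok
        (fun h => hbad h.1))
    by_cases hU : 1 ≤ γ u
    · have hγall := hγall1 ((q : ℤ) + 1) hU hsum
      have e : α = αG u v i q := by
        funext x
        rw [hαx, hγall]
        simp only [αG, Fin.ext_iff, Fin.val_last]
        split_ifs <;> omega
      rw [e]
      exact mem_LG ⟨hi1, hi2⟩
    · have hγu : γ u = 0 := by omega
      have hiu : i.val ≠ u.val := by omega
      by_cases hγi : 1 ≤ γ i
      · obtain ⟨γ', hγ'⟩ : ∃ γ' : Fin (n + 1) → ℤ,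
            ∀ x, γ' x = γ x - (if x.val = i.val then 1 else 0) := ⟨_, fun _ => rfl⟩
        have hNN' : NN γ' := by
          intro x
          rw [hγ']
          have := hNN x
          split_ifs with h
          · have e' := congrArg γ (Fin.ext h : x = i)
            omega
          · omega
        have hγ'u : γ' u = 0 := by
          have := hγ' u
          split_ifs at this <;> omega
        have hsum' : ∑ x, γ' x = q := by
          have e1 : ∑ x, γ' x =
              ∑ x, γ x - ∑ x : Fin (n + 1), (if x = i then (1 : ℤ) else 0) := by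
            rw [← Finset.sum_sub_distrib]
            refine Finset.sum_congr rfl (fun x _ => ?_)
            rw [hγ']
            simp only [Fin.ext_iff]
          rw [e1, Finset.sum_ite_eq', if_pos (Finset.mem_univ i), hsum]
          ring
        have hm : toExp γ' ∈ M47 u v q := by
          apply mem_M47_of
          · simp [toExp_apply, hγ'u]
          · have h1 : ∑ x, ((toExp γ' x : ℕ) : ℤ) = q := by
              rw [← hsum']
              exact Finset.sum_congr rfl
                (fun x _ => by rw [toExp_apply]; exact Int.toNat_of_nonneg (hNN' x))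
            exact_mod_cast h1
          · intro e'
            have h1 := DFunLike.congr_fun e' v
            rw [toExp_apply, pw_apply, if_pos rfl] at h1
            have h2 := hγ' v
            have h3 := hNN' v
            by_cases hiv : i.val = v.val
            · rw [if_pos hiv.symm] at h2
              omega
            · rw [if_neg (fun e'' => hiv e''.symm)] at h2
              apply hOk2
              exact Or.inr (Or.inr (Or.inr ⟨by omega, i, ⟨by omega, hi2⟩, hγi⟩))
        have e : α = αE v q (toExp γ') := by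
          funext x
          rw [hαx]
          simp only [αE, toExp_apply, Fin.ext_iff]
          rw [Int.toNat_of_nonneg (hNN' x), hγ']
          split_ifs <;> ring
        rw [e]
        exact mem_LB hm
      · have hγi0 : γ i = 0 := by have := hNN i; omega
        by_cases hiv : i = v
        · exfalso
          have hivv : i.val = v.val := congrArg Fin.val hiv
          have hγv0 : γ v = 0 := by rw [← hiv]; exact hγi0
          refine kill w (by omega) (by omega) ?_ ?_
          · apply ok_of P
            rintro (h | ⟨h, _⟩ | h | ⟨h, _⟩)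
            · rw [hβ] at h; split_ifs at h <;> omega
            · rw [hβ] at h; split_ifs at h <;> omega
            · rw [hβ] at h; split_ifs at h <;> omega
            · rw [hβ] at h; split_ifs at h <;> omega
          · intro h
            have h1 := h v
            rw [hg'x] at h1
            have h2 := hαx v
            split_ifs at h1 h2 <;> omega
        · have hivv : i.val ≠ v.val := fun e' => hiv (Fin.ext e')
          have hiIM : IM n r i := ⟨by omega, hi2⟩
          by_cases hγvq : γ v = q
          · have hNN' : NN (γ - Pi.single v (q : ℤ)) := by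
              intro y'
              have := hNN y'
              rw [Pi.sub_apply, Pi.single_apply]
              split_ifs with h
              · rw [h]; omega
              · omega
            have hsum' : ∑ y', (γ - Pi.single v (q : ℤ) : Fin (n + 1) → ℤ) y' = 1 := by
              simp only [Pi.sub_apply, Finset.sum_sub_distrib, hsum]
              rw [Finset.sum_pi_single' v (q : ℤ) Finset.univ, if_pos (Finset.mem_univ v)]
              ring
            obtain ⟨c, hc⟩ := nn_sum_one hNN' hsum'
            have hγ2 : ∀ y' : Fin (n + 1), γ y' = (if y'.val = v.val then (q : ℤ) else 0) +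
                (if y'.val = c.val then 1 else 0) := by
              intro y'
              have := congrFun hc y'
              simp only [Pi.sub_apply, Pi.single_apply, Fin.ext_iff] at this
              linarith
            have hcu : c.val ≠ u.val := by
              intro e'
              have := hγ2 u
              split_ifs at this <;> omega
            have hcv : c.val ≠ v.val := by
              intro e'
              have := hγ2 v
              split_ifs at this <;> omega
            have hcI : ¬ IM n r c := by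
              intro hI
              apply hOk2
              refine Or.inr (Or.inr (Or.inr ⟨by omega, c, hI, ?_⟩))
              have := hγ2 c
              split_ifs at this <;> omega
            have e : α = δ c i := by
              funext x
              rw [hαx, hγ2]
              simp only [δ, Fin.ext_iff]
              split_ifs <;> omega
            rw [e]
            have hc' := c.isLt
            by_cases hcz : c.val = n
            · have hcl : c = Fin.last n := Fin.ext (by rw [Fin.val_last]; exact hcz)
              rw [hcl]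
              exact mem_LD hiIM
            · have hcO : Out n r c := by
                constructor
                · by_contra hh
                  exact hcI ⟨by omega, by omega⟩
                · omega
              exact mem_LC hiIM hcO
          · have hγvlt : γ v < q := by omega
            by_cases hex : ∃ j, IM n r j ∧ 1 ≤ γ j
            · obtain ⟨j, hj, hγj⟩ := hex
              have hj1 := hj.1
              have hj2 := hj.2
              have hji : j.val ≠ i.val := by
                intro e'
                have := congrArg γ (Fin.ext e' : j = i)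
                omega
              exfalso
              refine kill j (by omega) hj2 ?_ ?_
              · apply ok_of P
                rintro (h | ⟨h, _⟩ | h | ⟨h, _⟩)
                · rw [hβ] at h; split_ifs at h <;> omega
                · rw [hβ] at h; split_ifs at h <;> omega
                · rw [hβ] at h; split_ifs at h <;> omega
                · rw [hβ] at h; split_ifs at h <;> omega
              · intro h
                have h1 := h i
                rw [hg'x] at h1
                have h2 := hαx i
                split_ifs at h1 h2 <;> omega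
            · push Not at hex
              exfalso
              refine kill v (by omega) (by omega) ?_ ?_
              · apply ok_of P
                rintro (h | ⟨h, _⟩ | h | ⟨h, i', hi', hγi'⟩)
                · rw [hβ] at h; split_ifs at h <;> omega
                · rw [hβ] at h; split_ifs at h <;> omega
                · rw [hβ] at h; split_ifs at h <;> omega
                · rw [hβ] at hγi'
                  have := hex i' hi'
                  have := hi'.1
                  split_ifs at hγi' <;> omega
              · intro h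
                have h1 := h i
                rw [hg'x] at h1
                have h2 := hαx i
                split_ifs at h1 h2 <;> omega

/-! ### the count -/

theorem main47' (P : Pos47 n q r u v) (hcase : 2 ≤ r ∨ (r = 1 ∧ 3 ≤ q)) :
    Module.finrank k ↥(⨆ α : {α : Fin (n + 1) → ℤ // ∑ i, α i = 0},
      tPiece (I47 n q r k) α.1) =
      3 * n - 1 + (n - r - 2) * (r + 1) + Nat.choose (n + q - 1) (n - 1) := by
  have hPu := P.hu
  have hPv := P.hv
  have hPq := P.hq
  have hPr0 := P.hr0
  have hPr := P.hr
  have hI := isMonomial_I47 (k := k) (q := q) hPr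
  have hvz : v ≠ Fin.last n := ne_of_val_ne (by rw [Fin.val_last]; omega)
  have hvu : v ≠ u := ne_of_val_ne (by omega)
  have hzu : Fin.last n ≠ u := ne_of_val_ne (by rw [Fin.val_last]; omega)
  have hs : ∀ α : Fin (n + 1) → ℤ, (∑ i, α i = 0) → α ∉ L47 u v q r →
      tPiece (I47 n q r k) α = ⊥ := by
    intro α hα hnot
    apply tPiece_eq_bot_of_RF hI
    intro F hF
    apply rf_eq_zero (Gs47 n q r) (hG47 hPr) (hGs47 hPr) hF
    intro g hg
    by_contra hne
    exact hnot (mem_L_of_ne_zero P hcase hα hF hg hne)
  have hs' : ∀ α ∈ L47 u v q r, ∑ i, α i = 0 := by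
    intro α hα
    rcases mem_L47 hα with ⟨c, hc, rfl⟩ | ⟨m, hm, rfl⟩ | ⟨i, c, hi, hc, rfl⟩ | ⟨i, hi, rfl⟩ |
      ⟨o, ho, rfl⟩ | ⟨i, hi, rfl⟩
    · exact sum_δ _ _
    · exact sum_αE hm
    · exact sum_δ _ _
    · exact sum_δ _ _
    · exact sum_δ _ _
    · exact sum_αG _ _ _ _
  have dimA : ∀ c ∈ (Finset.univ.erase u : Finset (Fin (n + 1))),
      Module.Finite k ↥(tPiece (I47 n q r k) (δ c u)) ∧
      Module.finrank k ↥(tPiece (I47 n q r k) (δ c u)) =
        1 + (if c = Fin.last n then 1 else 0) := by
    intro c hc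
    have hc0 : c ≠ u := (Finset.mem_erase.mp hc).1
    by_cases hcz : c = Fin.last n
    · rw [hcz, if_pos rfl]
      exact famA47 P
    · rw [if_neg hcz]
      have h1 : c.val ≠ u.val := fun e => hc0 (Fin.ext e)
      have h2 : c.val ≠ n := fun e => hcz (Fin.ext (by rw [Fin.val_last]; exact e))
      have hc' := c.isLt
      exact famB47 P ⟨by omega, by omega⟩
  have dimB : ∀ m ∈ M47 u v q,
      Module.Finite k ↥(tPiece (I47 n q r k) (αE v q m)) ∧
      Module.finrank k ↥(tPiece (I47 n q r k) (αE v q m)) =
        1 + (if m ∈ DO47 v q r then 1 else 0) +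
          (if m = mO v (Fin.last n) q then 2 else 0) := by
    intro m hm
    obtain ⟨hmu, hsum, hmne⟩ := m_entries hm
    have hlt := mv_lt hm
    by_cases h2 : m v + 2 ≤ q
    · have hnD : m ∉ DO47 v q r := by
        intro h
        obtain ⟨o, ho, e⟩ := Finset.mem_image.mp h
        have e' : mO v o q = m := e
        have := DFunLike.congr_fun e' v
        rw [mO_apply, if_pos rfl] at this
        split_ifs at this <;> omega
      have hnz : m ≠ mO v (Fin.last n) q := by
        intro e
        have := DFunLike.congr_fun e v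
        rw [mO_apply, if_pos rfl] at this
        split_ifs at this <;> omega
      rw [if_neg hnD, if_neg hnz]
      exact famE47a P hmu h2
    · obtain ⟨j, hju, hjv, rfl⟩ := m_eq_mO P hm (by omega)
      rw [αE_mO P hjv]
      have hju' : j.val ≠ u.val := fun e => hju (Fin.ext e)
      have hjv' : j.val ≠ v.val := fun e => hjv (Fin.ext e)
      have hj' := j.isLt
      by_cases hjz : j = Fin.last n
      · have hnD : mO v j q ∉ DO47 v q r := by
          intro h
          obtain ⟨o, ho, e⟩ := Finset.mem_image.mp h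
          have e' : mO v o q = mO v j q := e
          have hoj := mO_inj e'
          have ho2 := (mem_outF.mp ho).2
          rw [hoj, hjz, Fin.val_last] at ho2
          omega
        rw [if_neg hnD, hjz, if_pos rfl]
        exact famVZ P
      · have hjzv : j.val ≠ n := fun e => hjz (Fin.ext (by rw [Fin.val_last]; exact e))
        have hnz : mO v j q ≠ mO v (Fin.last n) q := fun e => hjz (mO_inj e)
        by_cases hjO : Out n r j
        · have hD : mO v j q ∈ DO47 v q r := Finset.mem_image_of_mem _ (mem_outF.mpr hjO)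
          rw [if_pos hD, if_neg hnz]
          exact famVO P hjO
        · have hjI : IM n r j := by
            constructor
            · omega
            · by_contra hh
              exact hjO ⟨by omega, by omega⟩
          have hnD : mO v j q ∉ DO47 v q r := by
            intro h
            obtain ⟨o, ho, e⟩ := Finset.mem_image.mp h
            have e' : mO v o q = mO v j q := e
            have hoj := mO_inj e'
            exact hjO (by rw [← hoj]; exact mem_outF.mp ho)
          rw [if_neg hnD, if_neg hnz]
          exact famVI P hjI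
  have hfin : ∀ α ∈ L47 u v q r, Module.Finite k ↥(tPiece (I47 n q r k) α) := by
    intro α hα
    rcases mem_L47 hα with ⟨c, hc, rfl⟩ | ⟨m, hm, rfl⟩ | ⟨i, c, hi, hc, rfl⟩ | ⟨i, hi, rfl⟩ |
      ⟨o, ho, rfl⟩ | ⟨i, hi, rfl⟩
    · exact (dimA c (Finset.mem_erase.mpr ⟨hc, Finset.mem_univ c⟩)).1
    · exact (dimB m hm).1
    · exact (famI47o P hi hc).1
    · exact (famI47z P hi).1
    · exact (famO47 P ho).1
    · exact (famG47 P hi.1 hi.2).1
  rw [finrank_iSup_of_finset hI (fun α : Fin (n + 1) → ℤ => ∑ i, α i = 0) (L47 u v q r) hs hs'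
    hfin, sum_L47 P]
  have eA : ∑ c ∈ Finset.univ.erase u, Module.finrank k ↥(tPiece (I47 n q r k) (δ c u)) =
      ∑ c ∈ Finset.univ.erase u, (1 + (if c = Fin.last n then 1 else 0)) :=
    Finset.sum_congr rfl (fun c hc => (dimA c hc).2)
  have eB : ∑ m ∈ M47 u v q, Module.finrank k ↥(tPiece (I47 n q r k) (αE v q m)) =
      ∑ m ∈ M47 u v q, (1 + (if m ∈ DO47 v q r then 1 else 0) +
        (if m = mO v (Fin.last n) q then 2 else 0)) :=
    Finset.sum_congr rfl (fun m hm => (dimB m hm).2)
  have eC : ∑ p ∈ imF n r ×ˢ outF n r, Module.finrank k ↥(tPiece (I47 n q r k) (δ p.2 p.1)) =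
      ∑ p ∈ imF n r ×ˢ outF n r, 1 :=
    Finset.sum_congr rfl (fun p hp =>
      (famI47o P (mem_imF.mp (Finset.mem_product.mp hp).1)
        (mem_outF.mp (Finset.mem_product.mp hp).2)).2)
  have eD : ∑ i ∈ imF n r, Module.finrank k ↥(tPiece (I47 n q r k) (δ (Fin.last n) i)) =
      ∑ i ∈ imF n r, 2 :=
    Finset.sum_congr rfl (fun i hi => (famI47z P (mem_imF.mp hi)).2)
  have eE : ∑ o ∈ outF n r, Module.finrank k ↥(tPiece (I47 n q r k) (δ (Fin.last n) o)) =
      ∑ o ∈ outF n r, 1 :=
    Finset.sum_congr rfl (fun o ho => (famO47 P (mem_outF.mp ho)).2)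
  have eG : ∑ i ∈ innF n r, Module.finrank k ↥(tPiece (I47 n q r k) (αG u v i q)) =
      ∑ i ∈ innF n r, 1 :=
    Finset.sum_congr rfl (fun i hi => (famG47 P (mem_innF.mp hi).1 (mem_innF.mp hi).2).2)
  rw [eA, eB, eC, eD, eE, eG]
  have hzmem : Fin.last n ∈ (Finset.univ.erase u : Finset (Fin (n + 1))) :=
    Finset.mem_erase.mpr ⟨hzu, Finset.mem_univ _⟩
  have c5 : (Finset.univ.erase u : Finset (Fin (n + 1))).card = n := by
    rw [Finset.card_erase_of_mem (Finset.mem_univ u), Finset.card_univ, Fintype.card_fin]
    omega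
  have hDOsub : DO47 v q r ⊆ M47 u v q := by
    intro m hm
    obtain ⟨o, ho, rfl⟩ := Finset.mem_image.mp hm
    have ho' := mem_outF.mp ho
    have ho1 := ho'.1
    exact mO_mem P (ne_of_val_ne (by omega)) (ne_of_val_ne (by omega))
  have hDOcard : (DO47 v q r).card = r := by
    unfold DO47
    rw [Finset.card_image_of_injOn, card_outF hPr]
    intro o _ o' _ e
    exact mO_inj e
  have eDO : ∑ m ∈ M47 u v q, (if m ∈ DO47 v q r then (1 : ℕ) else 0) = r := by
    rw [Finset.sum_ite_mem, Finset.inter_eq_right.mpr hDOsub, Finset.sum_const, smul_eq_mul,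
      mul_one, hDOcard]
  have hmDmem : mO v (Fin.last n) q ∈ M47 u v q := mO_mem P hzu hvz.symm
  have sA : ∑ c ∈ Finset.univ.erase u, (1 + (if c = Fin.last n then 1 else 0)) = n + 1 := by
    rw [Finset.sum_add_distrib, Finset.sum_const, smul_eq_mul, mul_one, Finset.sum_ite_eq',
      if_pos hzmem, c5]
  have sB : ∑ m ∈ M47 u v q, (1 + (if m ∈ DO47 v q r then 1 else 0) +
      (if m = mO v (Fin.last n) q then 2 else 0)) = (M47 u v q).card + r + 2 := by
    rw [Finset.sum_add_distrib, Finset.sum_add_distrib, Finset.sum_const, smul_eq_mul, mul_one,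
      Finset.sum_ite_eq', if_pos hmDmem, eDO]
  have sC : ∑ p ∈ imF n r ×ˢ outF n r, (1 : ℕ) = (n - r - 2) * r := by
    rw [Finset.sum_const, smul_eq_mul, mul_one, Finset.card_product, card_imF hPr, card_outF hPr]
  have sD : ∑ i ∈ imF n r, (2 : ℕ) = (n - r - 2) * 2 := by
    rw [Finset.sum_const, smul_eq_mul, card_imF hPr]
  have sE : ∑ o ∈ outF n r, (1 : ℕ) = r := by
    rw [Finset.sum_const, smul_eq_mul, mul_one, card_outF hPr]
  have sG : ∑ i ∈ innF n r, (1 : ℕ) = n - r - 1 := by
    rw [Finset.sum_const, smul_eq_mul, mul_one, card_innF hPr]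
  rw [sA, sB, sC, sD, sE, sG]
  have hM := card_M47 (q := q) P
  have hsymm : (n + q - 1).choose q = (n + q - 1).choose (n - 1) :=
    Nat.choose_symm_of_eq_add (by omega)
  generalize hK : n - r - 2 = K
  have hmul : K * (r + 1) = K * r + K := by ring
  omega

theorem main47 (k : Type*) [Field k] (n q r : ℕ) (hn : 4 ≤ n) (hq : 1 ≤ q) (hr : r + 3 ≤ n)
    (hcase : 2 ≤ r ∨ (r = 1 ∧ 3 ≤ q)) :
    Module.finrank k ↥(⨆ α : {α : Fin (n + 1) → ℤ // ∑ i, α i = 0},
      tPiece (I47 n q r k) α.1) =
      3 * n - 1 + (n - r - 2) * (r + 1) + Nat.choose (n + q - 1) (n - 1) := by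
  have hr0 : 1 ≤ r := by omega
  exact main47' (u := 0) (v := 1) ⟨by simp, val_one (by omega), hq, hr0, hr⟩ hcase

end Groth.Agent.H43.HilbS47
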