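import Groth.Agent.H43.HilbS1

set_option linter.unusedVariables false
set_option linter.unusedSectionVars false
set_option linter.style.longLine false
set_option linter.unusedSimpArgs false
set_option linter.unusedTactic false
set_option linter.unreachableTactic false

/-! The ideal `x_0 (x_0, …, x_{n-1}) + x_1 (x_1, …, x_{n-1})` of `k[x_0, …, x_n]`: exponents, coarse
coordinates and the graded pieces of `T(I)` in the five families of nonzero multidegrees. -/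

noncomputable section

namespace Groth.Agent.H43.HilbS49

open W4c1hilbpn MvPolynomial
open Groth.Agent.H43.HilbT Groth.Agent.H43.HilbS

variable {n : ℕ} {k : Type*} [Field k]

/-- the ideal -/
abbrev I49 (n : ℕ) (k : Type*) [Field k] : Ideal (MvPolynomial (Fin (n + 1)) k) :=
  Ideal.span ({f : MvPolynomial (Fin (n + 1)) k | ∃ i : Fin (n + 1), i.val + 1 ≤ n ∧ f = MvPolynomial.X 0 * MvPolynomial.X i} ∪ {f : MvPolynomial (Fin (n + 1)) k | ∃ i : Fin (n + 1), 1 ≤ i.val ∧ i.val ≤ n - 1 ∧ f = MvPolynomial.X 1 * MvPolynomial.X i})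

/-- exponents of the generators -/
def Gs49 (n : ℕ) : Set (Fin (n + 1) →₀ ℕ) :=
  {g | ∃ x b : Fin (n + 1), x.val ≤ 1 ∧ b.val + 1 ≤ n ∧ g = Finsupp.single x 1 + Finsupp.single b 1}

lemma val_one (hn : 3 ≤ n) : ((1 : Fin (n + 1)) : ℕ) = 1 := by
  rw [Fin.val_one']; exact Nat.mod_eq_of_lt (by omega)

lemma gens_eq (hn : 3 ≤ n) :
    ({f : MvPolynomial (Fin (n + 1)) k | ∃ i : Fin (n + 1), i.val + 1 ≤ n ∧ f = MvPolynomial.X 0 * MvPolynomial.X i} ∪ {f : MvPolynomial (Fin (n + 1)) k | ∃ i : Fin (n + 1), 1 ≤ i.val ∧ i.val ≤ n - 1 ∧ f = MvPolynomial.X 1 * MvPolynomial.X i}) =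
      (fun s => monomial s (1:k)) '' Gs49 n := by
  have hXX : ∀ x b : Fin (n + 1), (X x * X b : MvPolynomial (Fin (n + 1)) k) =
      monomial (Finsupp.single x 1 + Finsupp.single b 1) 1 := by
    intro x b
    show monomial (Finsupp.single x 1) (1:k) * monomial (Finsupp.single b 1) 1 = _
    rw [monomial_mul, one_mul]
  ext f
  constructor
  · rintro (⟨i, hi, rfl⟩ | ⟨i, hi1, hi2, rfl⟩)
    · exact ⟨_, ⟨0, i, by simp, hi, rfl⟩, (hXX 0 i).symm⟩
    · exact ⟨_, ⟨1, i, by rw [val_one hn], by omega, rfl⟩, (hXX 1 i).symm⟩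
  · rintro ⟨g, ⟨x, b, hx, hb, rfl⟩, rfl⟩
    show monomial (Finsupp.single x 1 + Finsupp.single b 1) (1:k) ∈ _
    rw [← hXX]
    by_cases hx0 : x.val = 0
    · have hx' : x = 0 := Fin.ext hx0
      rw [hx']
      exact Or.inl ⟨b, hb, rfl⟩
    · have hx' : x = 1 := Fin.ext (by rw [val_one hn]; omega)
      rw [hx']
      by_cases hb0 : b.val = 0
      · have hb' : b = 0 := Fin.ext hb0
        rw [hb']
        exact Or.inl ⟨1, by rw [val_one hn]; omega, mul_comm _ _⟩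
      · exact Or.inr ⟨b, by omega, by omega, rfl⟩

lemma I49_eq (hn : 3 ≤ n) :
    I49 n k = Ideal.span ((fun s => monomial s (1:k)) '' Gs49 n) := by
  show Ideal.span _ = _
  rw [gens_eq hn]

lemma exps_I49 (hn : 3 ≤ n) (β : Fin (n + 1) →₀ ℕ) :
    β ∈ exps (I49 n k) ↔ ∃ g ∈ Gs49 n, g ≤ β := by
  rw [I49_eq hn]
  exact exps_span_monomials _ β

lemma isMonomial_I49 (hn : 3 ≤ n) : IsMonomial (I49 n k) := by
  rw [I49_eq hn]
  exact isMonomial_span_monomials _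

lemma hG49 (hn : 3 ≤ n) : ∀ β, β ∈ exps (I49 n k) → ∃ g ∈ Gs49 n, g ≤ β :=
  fun β h => (exps_I49 hn β).mp h

lemma hGs49 (hn : 3 ≤ n) : ∀ g ∈ Gs49 n, g ∈ exps (I49 n k) :=
  fun g hg => (exps_I49 hn g).mpr ⟨g, hg, le_rfl⟩

/-! ### roles of the variables -/

/-- `a`, `a'` are the two variables `x_0`, `x_1` in some order -/
structure Roles {n : ℕ} (a a' : Fin (n + 1)) : Prop where
  ha : a.val ≤ 1
  ha' : a'.val = 1 - a.val
  hn : 3 ≤ n

/-- the middle variables `x_2, …, x_{n-1}` -/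
def Mid (n : ℕ) (j : Fin (n + 1)) : Prop := 2 ≤ j.val ∧ j.val + 1 ≤ n

lemma ne_of_val_ne {x y : Fin (n + 1)} (h : x.val ≠ y.val) : x ≠ y :=
  fun e => h (congrArg Fin.val e)

variable {a a' j₀ : Fin (n + 1)}

lemma mem_exps_iff (R : Roles a a') (β : Fin (n + 1) →₀ ℕ) :
    β ∈ exps (I49 n k) ↔ 2 ≤ β a + β a' ∨ (1 ≤ β a + β a' ∧ ∃ j, Mid n j ∧ 1 ≤ β j) := by
  have hRa := R.ha
  have hRa' := R.ha'
  have hRn := R.hn
  rw [exps_I49 R.hn]
  constructor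
  · rintro ⟨g, ⟨x, b, hx, hb, rfl⟩, hle⟩
    obtain ⟨h1, h2, h3⟩ := le_of_two_single_le hle
    have hxa : x = a ∨ x = a' := by
      by_cases h : x.val = a.val
      · exact Or.inl (Fin.ext h)
      · exact Or.inr (Fin.ext (by omega))
    by_cases hb2 : 2 ≤ b.val
    · right
      refine ⟨?_, b, ⟨hb2, hb⟩, h2⟩
      rcases hxa with e | e <;> rw [e] at h1 <;> omega
    · left
      have hba : b = a ∨ b = a' := by
        by_cases h : b.val = a.val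
        · exact Or.inl (Fin.ext h)
        · exact Or.inr (Fin.ext (by omega))
      rcases hxa with e | e <;> rcases hba with e' | e'
      · have := h3 (e.trans e'.symm); rw [e] at this; omega
      · rw [e] at h1; rw [e'] at h2; omega
      · rw [e] at h1; rw [e'] at h2; omega
      · have := h3 (e.trans e'.symm); rw [e] at this; omega
  · rintro (h | ⟨h, j, ⟨hj1, hj2⟩, hj⟩)
    · by_cases h2a : 2 ≤ β a
      · exact ⟨_, ⟨a, a, hRa, by omega, rfl⟩, two_single_le (by omega) (by omega) (fun _ => h2a)⟩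
      · by_cases h2a' : 2 ≤ β a'
        · exact ⟨_, ⟨a', a', by omega, by omega, rfl⟩,
            two_single_le (by omega) (by omega) (fun _ => h2a')⟩
        · have hne : a ≠ a' := ne_of_val_ne (by omega)
          exact ⟨_, ⟨a, a', hRa, by omega, rfl⟩,
            two_single_le (by omega) (by omega) (fun h => absurd h hne)⟩
    · by_cases h1a : 1 ≤ β a
      · have hne : a ≠ j := ne_of_val_ne (by omega)
        exact ⟨_, ⟨a, j, hRa, hj2, rfl⟩, two_single_le h1a hj (fun h => absurd h hne)⟩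
      · have hne : a' ≠ j := ne_of_val_ne (by omega)
        exact ⟨_, ⟨a', j, by omega, hj2, rfl⟩,
          two_single_le (by omega) hj (fun h => absurd h hne)⟩

lemma ok_iff (R : Roles a a') (γ : Fin (n + 1) → ℤ) :
    Ok (I49 n k) γ ↔
      ¬ (NN γ ∧ (2 ≤ γ a + γ a' ∨ (1 ≤ γ a + γ a' ∧ ∃ j, Mid n j ∧ 1 ≤ γ j))) := by
  unfold Ok
  refine not_congr (and_congr_right fun hNN => ?_)
  rw [mem_exps_iff R]
  have ha := hNN a
  have ha' := hNN a'
  simp only [toExp_apply]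
  constructor
  · rintro (h | ⟨h, j, hm, hj⟩)
    · left; omega
    · right; exact ⟨by omega, j, hm, by omega⟩
  · rintro (h | ⟨h, j, hm, hj⟩)
    · left; omega
    · right; exact ⟨by omega, j, hm, by omega⟩

lemma ok_of_small (R : Roles a a') {γ : Fin (n + 1) → ℤ} (h1 : γ a + γ a' ≤ 1)
    (h2 : 1 ≤ γ a + γ a' → ∀ j, Mid n j → γ j ≤ 0) : Ok (I49 n k) γ := by
  rw [ok_iff R]
  rintro ⟨_, h | ⟨h, j, hm, hj⟩⟩
  · omega
  · have := h2 h j hm; omega

/-! ### coarse coordinates -/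

open Classical in
/-- indicator of a positive entry at a middle variable other than `j₀` -/
def muX (j₀ : Fin (n + 1)) (β : Fin (n + 1) →₀ ℕ) : ℕ :=
  if ∃ j, Mid n j ∧ j ≠ j₀ ∧ 1 ≤ β j then 1 else 0

lemma muX_pos {β : Fin (n + 1) →₀ ℕ} : 1 ≤ muX j₀ β ↔ ∃ j, Mid n j ∧ j ≠ j₀ ∧ 1 ≤ β j := by
  unfold muX
  split_ifs with h
  · simp [h]
  · simp [h]

lemma muX_le_one (j₀ : Fin (n + 1)) (β : Fin (n + 1) →₀ ℕ) : muX j₀ β ≤ 1 := by
  unfold muX
  split_ifs <;> omega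

lemma muX_mono {g β : Fin (n + 1) →₀ ℕ} (h : g ≤ β) : muX j₀ g ≤ muX j₀ β := by
  by_cases hg : 1 ≤ muX j₀ g
  · have : 1 ≤ muX j₀ β := by
      rw [muX_pos] at hg ⊢
      obtain ⟨j, hm, hne, h1⟩ := hg
      exact ⟨j, hm, hne, le_trans h1 (Finsupp.le_def.mp h j)⟩
    have := muX_le_one j₀ g
    omega
  · omega

lemma muX_sup (g r : Fin (n + 1) →₀ ℕ) :
    1 ≤ muX j₀ (g ⊔ r) ↔ 1 ≤ muX j₀ g ∨ 1 ≤ muX j₀ r := by
  simp only [muX_pos]
  constructor
  · rintro ⟨j, hm, hne, h1⟩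
    rw [Finsupp.sup_apply] at h1
    rcases le_sup_iff.mp h1 with h | h
    · exact Or.inl ⟨j, hm, hne, h⟩
    · exact Or.inr ⟨j, hm, hne, h⟩
  · rintro (⟨j, hm, hne, h1⟩ | ⟨j, hm, hne, h1⟩)
    · exact ⟨j, hm, hne, by rw [Finsupp.sup_apply]; exact le_sup_of_le_left h1⟩
    · exact ⟨j, hm, hne, by rw [Finsupp.sup_apply]; exact le_sup_of_le_right h1⟩

lemma mem_exps_coarse (R : Roles a a') (hj : Mid n j₀) (β : Fin (n + 1) →₀ ℕ) :
    β ∈ exps (I49 n k) ↔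
      2 ≤ β a + β a' ∨ (1 ≤ β a + β a' ∧ (1 ≤ β j₀ ∨ 1 ≤ muX j₀ β)) := by
  rw [mem_exps_iff R, muX_pos]
  constructor
  · rintro (h | ⟨h, j, hm, hj1⟩)
    · exact Or.inl h
    · refine Or.inr ⟨h, ?_⟩
      by_cases hjj : j = j₀
      · left; rw [← hjj]; exact hj1
      · right; exact ⟨j, hm, hjj, hj1⟩
  · rintro (h | ⟨h, h' | ⟨j, hm, _, hj1⟩⟩)
    · exact Or.inl h
    · exact Or.inr ⟨h, j₀, hj, h'⟩
    · exact Or.inr ⟨h, j, hm, hj1⟩

/-- multidegree with prescribed entries at `a`, `a'`, `j₀` and the last variable -/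
def mkα (a a' j₀ : Fin (n + 1)) (p p' q t : ℤ) : Fin (n + 1) → ℤ := fun x =>
  if x = a then p else if x = a' then p' else if x = j₀ then q else
    if x = Fin.last n then t else 0

section mk

variable {p p' q t : ℤ}

lemma mkα_a : mkα a a' j₀ p p' q t a = p := if_pos rfl

lemma mkα_a' (R : Roles a a') : mkα a a' j₀ p p' q t a' = p' := by
  have hRa := R.ha
  have hRa' := R.ha'
  have h : a' ≠ a := ne_of_val_ne (by omega)
  simp [mkα, h]

lemma mkα_j (R : Roles a a') (hj : Mid n j₀) : mkα a a' j₀ p p' q t j₀ = q := by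
  have hRa := R.ha
  have hRa' := R.ha'
  have hj1 := hj.1
  have h1 : j₀ ≠ a := ne_of_val_ne (by omega)
  have h2 : j₀ ≠ a' := ne_of_val_ne (by omega)
  simp [mkα, h1, h2]

lemma mkα_z (R : Roles a a') (hj : Mid n j₀) : mkα a a' j₀ p p' q t (Fin.last n) = t := by
  have hRa := R.ha
  have hRa' := R.ha'
  have hRn := R.hn
  have hj2 := hj.2
  have h1 : Fin.last n ≠ a := ne_of_val_ne (by rw [Fin.val_last]; omega)
  have h2 : Fin.last n ≠ a' := ne_of_val_ne (by rw [Fin.val_last]; omega)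
  have h3 : Fin.last n ≠ j₀ := ne_of_val_ne (by rw [Fin.val_last]; omega)
  simp [mkα, h1, h2, h3]

lemma mkα_mid (R : Roles a a') {x : Fin (n + 1)} (hm : Mid n x) (hne : x ≠ j₀) :
    mkα a a' j₀ p p' q t x = 0 := by
  have hRa := R.ha
  have hRa' := R.ha'
  have hm1 := hm.1
  have hm2 := hm.2
  have h1 : x ≠ a := ne_of_val_ne (by omega)
  have h2 : x ≠ a' := ne_of_val_ne (by omega)
  have h4 : x ≠ Fin.last n := ne_of_val_ne (by rw [Fin.val_last]; omega)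
  simp [mkα, h1, h2, hne, h4]

lemma eq_mkα (R : Roles a a') {α : Fin (n + 1) → ℤ} (h1 : α a = p) (h2 : α a' = p')
    (h3 : α j₀ = q) (h4 : α (Fin.last n) = t) (h5 : ∀ y, Mid n y → y ≠ j₀ → α y = 0) :
    α = mkα a a' j₀ p p' q t := by
  have hRa := R.ha
  have hRa' := R.ha'
  funext y
  simp only [mkα]
  split_ifs with e1 e2 e3 e4
  · rw [e1, h1]
  · rw [e2, h2]
  · rw [e3, h3]
  · rw [e4, h4]
  · apply h5 y ?_ e3
    have hy := y.isLt
    have n1 : y.val ≠ a.val := fun e => e1 (Fin.ext e)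
    have n2 : y.val ≠ a'.val := fun e => e2 (Fin.ext e)
    have n4 : y.val ≠ n := fun e => e4 (Fin.ext (by rw [Fin.val_last]; exact e))
    constructor <;> omega

lemma nn_sh_iff (R : Roles a a') (hj : Mid n j₀) (ht : 0 ≤ t) (β : Fin (n + 1) →₀ ℕ) :
    NN (sh β (mkα a a' j₀ p p' q t)) ↔
      0 ≤ (β a : ℤ) + p ∧ 0 ≤ (β a' : ℤ) + p' ∧ 0 ≤ (β j₀ : ℤ) + q := by
  constructor
  · intro h
    have h1 := h a
    have h2 := h a'
    have h3 := h j₀
    rw [sh_apply, mkα_a] at h1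
    rw [sh_apply, mkα_a' R] at h2
    rw [sh_apply, mkα_j R hj] at h3
    exact ⟨h1, h2, h3⟩
  · rintro ⟨h1, h2, h3⟩ x
    rw [sh_apply]
    simp only [mkα]
    split_ifs with e1 e2 e3 e4
    · rw [e1]; exact h1
    · rw [e2]; exact h2
    · rw [e3]; exact h3
    · omega
    · omega

lemma muX_toExp_sh (R : Roles a a') (β : Fin (n + 1) →₀ ℕ) :
    1 ≤ muX j₀ (toExp (sh β (mkα a a' j₀ p p' q t))) ↔ 1 ≤ muX j₀ β := by
  rw [muX_pos, muX_pos]
  refine exists_congr fun j => and_congr_right fun hm => and_congr_right fun hne => ?_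
  rw [toExp_apply, sh_apply, mkα_mid R hm hne]
  omega

lemma mem_exps_sh_iff (R : Roles a a') (hj : Mid n j₀) (β : Fin (n + 1) →₀ ℕ)
    (h1 : 0 ≤ (β a : ℤ) + p) (h2 : 0 ≤ (β a' : ℤ) + p') (h3 : 0 ≤ (β j₀ : ℤ) + q) :
    toExp (sh β (mkα a a' j₀ p p' q t)) ∈ exps (I49 n k) ↔
      (2 ≤ ((β a : ℤ) + p) + ((β a' : ℤ) + p') ∨
        (1 ≤ ((β a : ℤ) + p) + ((β a' : ℤ) + p') ∧ (1 ≤ (β j₀ : ℤ) + q ∨ 1 ≤ muX j₀ β))) := by
  rw [mem_exps_coarse R hj, muX_toExp_sh R]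
  simp only [toExp_apply, sh_apply, mkα_a, mkα_a' R, mkα_j R hj]
  omega

lemma ok_sh_iff (R : Roles a a') (hj : Mid n j₀) (ht : 0 ≤ t) (β : Fin (n + 1) →₀ ℕ) :
    Ok (I49 n k) (sh β (mkα a a' j₀ p p' q t)) ↔
      ¬ (0 ≤ (β a : ℤ) + p ∧ 0 ≤ (β a' : ℤ) + p' ∧ 0 ≤ (β j₀ : ℤ) + q ∧
        (2 ≤ ((β a : ℤ) + p) + ((β a' : ℤ) + p') ∨
          (1 ≤ ((β a : ℤ) + p) + ((β a' : ℤ) + p') ∧
            (1 ≤ (β j₀ : ℤ) + q ∨ 1 ≤ muX j₀ β)))) := by
  unfold Ok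
  rw [nn_sh_iff R hj ht]
  constructor
  · rintro h ⟨h1, h2, h3, h4⟩
    exact h ⟨⟨h1, h2, h3⟩, (mem_exps_sh_iff R hj β h1 h2 h3).mpr h4⟩
  · rintro h ⟨⟨h1, h2, h3⟩, h4⟩
    exact h ⟨h1, h2, h3, (mem_exps_sh_iff R hj β h1 h2 h3).mp h4⟩

end mk

/-- coarse coordinates of a generator -/
def GC (p0 p0' q0 x0 : ℕ) : Prop := p0 + p0' + q0 + x0 = 2 ∧ 1 ≤ p0 + p0' ∧ q0 + x0 ≤ 1

lemma GC_cases {p0 p0' q0 x0 : ℕ} (h : GC p0 p0' q0 x0) :
    (p0 = 2 ∧ p0' = 0 ∧ q0 = 0 ∧ x0 = 0) ∨ (p0 = 1 ∧ p0' = 1 ∧ q0 = 0 ∧ x0 = 0) ∨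
    (p0 = 0 ∧ p0' = 2 ∧ q0 = 0 ∧ x0 = 0) ∨ (p0 = 1 ∧ p0' = 0 ∧ q0 = 1 ∧ x0 = 0) ∨
    (p0 = 1 ∧ p0' = 0 ∧ q0 = 0 ∧ x0 = 1) ∨ (p0 = 0 ∧ p0' = 1 ∧ q0 = 1 ∧ x0 = 0) ∨
    (p0 = 0 ∧ p0' = 1 ∧ q0 = 0 ∧ x0 = 1) := by
  unfold GC at h; omega

lemma gen_coarse (R : Roles a a') (hj : Mid n j₀) {g : Fin (n + 1) →₀ ℕ} (hg : g ∈ Gs49 n) :
    GC (g a) (g a') (g j₀) (muX j₀ g) := by
  obtain ⟨x, b, hx, hb, rfl⟩ := hg
  have hRa := R.ha
  have hRa' := R.ha'
  have hRn := R.hn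
  have hj1 := hj.1
  have hj2 := hj.2
  have hmu : (1 ≤ muX j₀ (Finsupp.single x 1 + Finsupp.single b 1)) ↔
      (2 ≤ b.val ∧ b.val ≠ j₀.val) := by
    rw [muX_pos]
    constructor
    · rintro ⟨j, ⟨hm1, hm2⟩, hne, h1⟩
      rw [Finsupp.add_apply, Finsupp.single_apply, Finsupp.single_apply] at h1
      have hxj : x ≠ j := ne_of_val_ne (by omega)
      rw [if_neg hxj] at h1
      by_cases hbj : b = j
      · rw [hbj]; exact ⟨hm1, fun e => hne (Fin.ext e)⟩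
      · rw [if_neg hbj] at h1; omega
    · rintro ⟨h1, h2⟩
      refine ⟨b, ⟨h1, hb⟩, ne_of_val_ne h2, ?_⟩
      rw [Finsupp.add_apply, Finsupp.single_eq_same]; omega
  have hle := muX_le_one j₀ (Finsupp.single x 1 + Finsupp.single b 1)
  unfold GC
  simp only [Finsupp.add_apply, Finsupp.single_apply, Fin.ext_iff]
  by_cases hc : 2 ≤ b.val ∧ b.val ≠ j₀.val
  · have h1 := hmu.mpr hc
    obtain ⟨hc1, hc2⟩ := hc
    split_ifs <;> omega
  · have h1 : ¬ (1 ≤ muX j₀ (Finsupp.single x 1 + Finsupp.single b 1)) :=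
      fun h => hc (hmu.mp h)
    split_ifs <;> omega

/-! ### the master count -/

/-- arithmetic form of nonnegativity -/
def NNA (p p' q : ℤ) (A A' B : ℕ) : Prop :=
  0 ≤ (A : ℤ) + p ∧ 0 ≤ (A' : ℤ) + p' ∧ 0 ≤ (B : ℤ) + q

/-- arithmetic form of `Ok` -/
def OkA (p p' q : ℤ) (A A' B X : ℕ) : Prop :=
  ¬ (0 ≤ (A : ℤ) + p ∧ 0 ≤ (A' : ℤ) + p' ∧ 0 ≤ (B : ℤ) + q ∧
    (2 ≤ ((A : ℤ) + p) + ((A' : ℤ) + p') ∨
      (1 ≤ ((A : ℤ) + p) + ((A' : ℤ) + p') ∧ (1 ≤ (B : ℤ) + q ∨ 1 ≤ X))))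

instance (p p' q : ℤ) (A A' B : ℕ) : Decidable (NNA p p' q A A' B) := by
  unfold NNA; infer_instance

instance (p p' q : ℤ) (A A' B X : ℕ) : Decidable (OkA p p' q A A' B X) := by
  unfold OkA; infer_instance

theorem master (R : Roles a a') (hj : Mid n j₀) {p p' q t : ℤ} (ht : 0 ≤ t) {d : ℕ}
    (κ : ℤ → ℤ → ℤ → Option (Fin d)) (rg : Fin d → (Fin (n + 1) →₀ ℕ))
    (rc : Fin d → ℕ × ℕ × ℕ)
    (hrg : ∀ m, rg m ∈ Gs49 n ∧ rg m a = (rc m).1 ∧ rg m a' = (rc m).2.1 ∧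
      rg m j₀ = (rc m).2.2 ∧ muX j₀ (rg m) = 0)
    (M1 : ∀ p0 p0' q0 x0 : ℕ, GC p0 p0' q0 x0 → ∀ m,
      κ (p0 + p) (p0' + p') (q0 + q) = some m →
        NNA p p' q p0 p0' q0 ∧ OkA p p' q p0 p0' q0 x0)
    (M2 : ∀ p0 p0' q0 x0 : ℕ, GC p0 p0' q0 x0 →
      κ (p0 + p) (p0' + p') (q0 + q) = none →
        ¬ (NNA p p' q p0 p0' q0 ∧ OkA p p' q p0 p0' q0 x0))
    (M3 : ∀ p0 p0' q0 x0 : ℕ, GC p0 p0' q0 x0 → ∀ A A' B X : ℕ, p0 ≤ A → p0' ≤ A' →
      q0 ≤ B → x0 ≤ X → OkA p p' q A A' B X →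
        κ (p0 + p) (p0' + p') (q0 + q) = κ (A + p) (A' + p') (B + q))
    (M4 : ∀ p0 p0' q0 x0 : ℕ, GC p0 p0' q0 x0 → ∀ m,
      κ (p0 + p) (p0' + p') (q0 + q) = some m →
        OkA p p' q (max p0 (rc m).1) (max p0' (rc m).2.1) (max q0 (rc m).2.2) x0)
    (M5 : ∀ m, κ ((rc m).1 + p) ((rc m).2.1 + p') ((rc m).2.2 + q) = some m) :
    Module.Finite k ↥(tPiece (I49 n k) (mkα a a' j₀ p p' q t)) ∧
      Module.finrank k ↥(tPiece (I49 n k) (mkα a a' j₀ p p' q t)) = d := by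
  have hn := R.hn
  have ev : ∀ β : Fin (n + 1) →₀ ℕ,
      κ (sh β (mkα a a' j₀ p p' q t) a) (sh β (mkα a a' j₀ p p' q t) a')
        (sh β (mkα a a' j₀ p p' q t) j₀) = κ (β a + p) (β a' + p') (β j₀ + q) := by
    intro β
    rw [sh_apply, sh_apply, sh_apply, mkα_a, mkα_a' R, mkα_j R hj]
  refine finrank_of_classes (Gs49 n) (hG49 hn) (hGs49 hn) (isMonomial_I49 hn)
    (fun γ => κ (γ a) (γ a') (γ j₀)) rg ?_ ?_ ?_ ?_ ?_
  · intro g hg m hm
    have hm' : κ (g a + p) (g a' + p') (g j₀ + q) = some m := by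
      rw [← ev g]; exact hm
    obtain ⟨h1, h2⟩ := M1 _ _ _ _ (gen_coarse R hj hg) m hm'
    exact ⟨(nn_sh_iff R hj ht g).mpr h1, (ok_sh_iff R hj ht g).mpr h2⟩
  · intro g hg β hle hok
    show κ (sh g (mkα a a' j₀ p p' q t) a) (sh g (mkα a a' j₀ p p' q t) a')
        (sh g (mkα a a' j₀ p p' q t) j₀) =
      κ (sh β (mkα a a' j₀ p p' q t) a) (sh β (mkα a a' j₀ p p' q t) a')
        (sh β (mkα a a' j₀ p p' q t) j₀)
    rw [ev g, ev β]
    exact M3 _ _ _ _ (gen_coarse R hj hg) (β a) (β a') (β j₀) (muX j₀ β)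
      (Finsupp.le_def.mp hle a) (Finsupp.le_def.mp hle a') (Finsupp.le_def.mp hle j₀)
      (muX_mono hle) ((ok_sh_iff R hj ht β).mp hok)
  · intro F hF g hg hk
    apply rf_bad hF
    have hk' : κ (g a + p) (g a' + p') (g j₀ + q) = none := by
      rw [← ev g]; exact hk
    rintro ⟨h1, h2⟩
    exact M2 _ _ _ _ (gen_coarse R hj hg) hk'
      ⟨(nn_sh_iff R hj ht g).mp h1, (ok_sh_iff R hj ht g).mp h2⟩
  · intro F hF g hg m hk
    have hk' : κ (g a + p) (g a' + p') (g j₀ + q) = some m := by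
      rw [← ev g]; exact hk
    obtain ⟨hr1, hr2, hr3, hr4, hr5⟩ := hrg m
    have hok : Ok (I49 n k) (sh (g ⊔ rg m) (mkα a a' j₀ p p' q t)) := by
      rw [ok_sh_iff R hj ht]
      have e1 : (g ⊔ rg m) a = max (g a) (rc m).1 := by rw [Finsupp.sup_apply, hr2]
      have e2 : (g ⊔ rg m) a' = max (g a') (rc m).2.1 := by
        rw [Finsupp.sup_apply, hr3]
      have e3 : (g ⊔ rg m) j₀ = max (g j₀) (rc m).2.2 := by
        rw [Finsupp.sup_apply, hr4]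
      have e4 : 1 ≤ muX j₀ (g ⊔ rg m) ↔ 1 ≤ muX j₀ g := by
        rw [muX_sup, hr5]; omega
      rw [e1, e2, e3, e4]
      exact M4 _ _ _ _ (gen_coarse R hj hg) m hk'
    exact rf_pair hF (hGs49 hn g hg) (hGs49 hn _ hr1) le_sup_left le_sup_right hok
  · intro m
    obtain ⟨hr1, hr2, hr3, hr4, hr5⟩ := hrg m
    refine ⟨hr1, ?_⟩
    show κ (sh (rg m) (mkα a a' j₀ p p' q t) a) (sh (rg m) (mkα a a' j₀ p p' q t) a')
        (sh (rg m) (mkα a a' j₀ p p' q t) j₀) = some m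
    rw [ev (rg m), hr2, hr3, hr4]
    exact M5 m

/-! ### representatives -/

lemma rep_data (R : Roles a a') (hj : Mid n j₀) (x b : Fin (n + 1)) (hx : x.val ≤ 1)
    (hb : b.val + 1 ≤ n) (c1 c2 c3 : ℕ)
    (h1 : (Finsupp.single x 1 + Finsupp.single b 1 : Fin (n + 1) →₀ ℕ) a = c1)
    (h2 : (Finsupp.single x 1 + Finsupp.single b 1 : Fin (n + 1) →₀ ℕ) a' = c2)
    (h3 : (Finsupp.single x 1 + Finsupp.single b 1 : Fin (n + 1) →₀ ℕ) j₀ = c3)
    (hsum : c1 + c2 + c3 = 2) :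
    (Finsupp.single x 1 + Finsupp.single b 1 : Fin (n + 1) →₀ ℕ) ∈ Gs49 n ∧
      (Finsupp.single x 1 + Finsupp.single b 1 : Fin (n + 1) →₀ ℕ) a = c1 ∧
      (Finsupp.single x 1 + Finsupp.single b 1 : Fin (n + 1) →₀ ℕ) a' = c2 ∧
      (Finsupp.single x 1 + Finsupp.single b 1 : Fin (n + 1) →₀ ℕ) j₀ = c3 ∧
      muX j₀ (Finsupp.single x 1 + Finsupp.single b 1 : Fin (n + 1) →₀ ℕ) = 0 := by
  have hg : (Finsupp.single x 1 + Finsupp.single b 1 : Fin (n + 1) →₀ ℕ) ∈ Gs49 n :=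
    ⟨x, b, hx, hb, rfl⟩
  have := gen_coarse R hj hg
  unfold GC at this
  rw [h1, h2, h3] at this
  exact ⟨hg, h1, h2, h3, by omega⟩

/-- evaluation of a sum of two unit vectors -/
macro "coord" : tactic =>
  `(tactic| (simp only [Finsupp.add_apply, Finsupp.single_apply, Fin.ext_iff]; split_ifs <;> omega))

-- the seven generator types
set_option hygiene false in
macro "gc7" h:ident : tactic =>
  `(tactic| rcases GC_cases $h with ⟨rfl, rfl, rfl, rfl⟩ | ⟨rfl, rfl, rfl, rfl⟩ | ⟨rfl, rfl, rfl, rfl⟩ | ⟨rfl, rfl, rfl, rfl⟩ | ⟨rfl, rfl, rfl, rfl⟩ | ⟨rfl, rfl, rfl, rfl⟩ | ⟨rfl, rfl, rfl, rfl⟩)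

/-! ### the five families -/

def κI (x y w : ℤ) : Option (Fin 1) := if 0 ≤ x then some 0 else none

def κII (x y w : ℤ) : Option (Fin 3) :=
  if x < 0 then none else if 1 ≤ x then some 0 else if 1 ≤ y then some 1 else some 2

def κIII (x y w : ℤ) : Option (Fin 1) := if x = 0 ∧ y = 0 then some 0 else none

def κIV (x y w : ℤ) : Option (Fin 1) := if 0 ≤ x ∧ 0 ≤ w then some 0 else none

def κV (x y w : ℤ) : Option (Fin 2) :=
  if w < 0 then none else if 1 ≤ x then some 0 else some 1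

theorem famI (R : Roles a a') (hj : Mid n j₀) :
    Module.Finite k ↥(tPiece (I49 n k) (mkα a a' j₀ (-2) 1 0 1)) ∧
      Module.finrank k ↥(tPiece (I49 n k) (mkα a a' j₀ (-2) 1 0 1)) = 1 := by
  have hRa := R.ha
  have hRa' := R.ha'
  have hRn := R.hn
  have hj1 := hj.1
  have hj2 := hj.2
  refine master R hj (by norm_num) κI (fun _ => Finsupp.single a 1 + Finsupp.single a 1)
    (fun _ => (2, 0, 0)) ?_ ?_ ?_ ?_ ?_ ?_
  · intro m
    exact rep_data R hj a a hRa (by omega) 2 0 0 (by coord) (by coord) (by coord) rfl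
  · intro p0 p0' q0 x0 h
    gc7 h <;> decide
  · intro p0 p0' q0 x0 h
    gc7 h <;> decide
  · intro p0 p0' q0 x0 h
    gc7 h <;>
    · intro A A' B X h1 h2 h3 h4 hok
      unfold OkA at hok
      unfold κI
      split_ifs <;> first | rfl | (exfalso; omega)
  · intro p0 p0' q0 x0 h
    gc7 h <;> decide
  · decide

theorem famII (R : Roles a a') (hj : Mid n j₀) :
    Module.Finite k ↥(tPiece (I49 n k) (mkα a a' j₀ (-1) 0 0 1)) ∧
      Module.finrank k ↥(tPiece (I49 n k) (mkα a a' j₀ (-1) 0 0 1)) = 3 := by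
  have hRa := R.ha
  have hRa' := R.ha'
  have hRn := R.hn
  have hj1 := hj.1
  have hj2 := hj.2
  refine master R hj (by norm_num) κII
    ![Finsupp.single a 1 + Finsupp.single a 1, Finsupp.single a 1 + Finsupp.single a' 1,
      Finsupp.single a 1 + Finsupp.single j₀ 1]
    ![(2, 0, 0), (1, 1, 0), (1, 0, 1)] ?_ ?_ ?_ ?_ ?_ ?_
  · intro m
    fin_cases m
    · exact rep_data R hj a a hRa (by omega) 2 0 0 (by coord) (by coord) (by coord) rfl
    · exact rep_data R hj a a' hRa (by omega) 1 1 0 (by coord) (by coord) (by coord) rfl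
    · exact rep_data R hj a j₀ hRa (by omega) 1 0 1 (by coord) (by coord) (by coord) rfl
  · intro p0 p0' q0 x0 h
    gc7 h <;> decide
  · intro p0 p0' q0 x0 h
    gc7 h <;> decide
  · intro p0 p0' q0 x0 h
    gc7 h <;>
    · intro A A' B X h1 h2 h3 h4 hok
      unfold OkA at hok
      unfold κII
      split_ifs <;> first | rfl | (exfalso; omega)
  · intro p0 p0' q0 x0 h
    gc7 h <;> decide
  · decide

theorem famIII (R : Roles a a') (hj : Mid n j₀) :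
    Module.Finite k ↥(tPiece (I49 n k) (mkα a a' j₀ (-1) 0 1 0)) ∧
      Module.finrank k ↥(tPiece (I49 n k) (mkα a a' j₀ (-1) 0 1 0)) = 1 := by
  have hRa := R.ha
  have hRa' := R.ha'
  have hRn := R.hn
  have hj1 := hj.1
  have hj2 := hj.2
  refine master R hj (le_refl 0) κIII (fun _ => Finsupp.single a 1 + Finsupp.single j₀ 1)
    (fun _ => (1, 0, 1)) ?_ ?_ ?_ ?_ ?_ ?_
  · intro m
    exact rep_data R hj a j₀ hRa (by omega) 1 0 1 (by coord) (by coord) (by coord) rfl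
  · intro p0 p0' q0 x0 h
    gc7 h <;> decide
  · intro p0 p0' q0 x0 h
    gc7 h <;> decide
  · intro p0 p0' q0 x0 h
    gc7 h <;>
    · intro A A' B X h1 h2 h3 h4 hok
      unfold OkA at hok
      unfold κIII
      split_ifs <;> first | rfl | (exfalso; omega)
  · intro p0 p0' q0 x0 h
    gc7 h <;> decide
  · decide

theorem famIV (R : Roles a a') (hj : Mid n j₀) :
    Module.Finite k ↥(tPiece (I49 n k) (mkα a a' j₀ (-1) 1 (-1) 1)) ∧
      Module.finrank k ↥(tPiece (I49 n k) (mkα a a' j₀ (-1) 1 (-1) 1)) = 1 := by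
  have hRa := R.ha
  have hRa' := R.ha'
  have hRn := R.hn
  have hj1 := hj.1
  have hj2 := hj.2
  refine master R hj (by norm_num) κIV (fun _ => Finsupp.single a 1 + Finsupp.single j₀ 1)
    (fun _ => (1, 0, 1)) ?_ ?_ ?_ ?_ ?_ ?_
  · intro m
    exact rep_data R hj a j₀ hRa (by omega) 1 0 1 (by coord) (by coord) (by coord) rfl
  · intro p0 p0' q0 x0 h
    gc7 h <;> decide
  · intro p0 p0' q0 x0 h
    gc7 h <;> decide
  · intro p0 p0' q0 x0 h
    gc7 h <;>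
    · intro A A' B X h1 h2 h3 h4 hok
      unfold OkA at hok
      unfold κIV
      split_ifs <;> first | rfl | (exfalso; omega)
  · intro p0 p0' q0 x0 h
    gc7 h <;> decide
  · decide

theorem famV (R : Roles a a') (hj : Mid n j₀) :
    Module.Finite k ↥(tPiece (I49 n k) (mkα a a' j₀ 0 0 (-1) 1)) ∧
      Module.finrank k ↥(tPiece (I49 n k) (mkα a a' j₀ 0 0 (-1) 1)) = 2 := by
  have hRa := R.ha
  have hRa' := R.ha'
  have hRn := R.hn
  have hj1 := hj.1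
  have hj2 := hj.2
  refine master R hj (by norm_num) κV
    ![Finsupp.single a 1 + Finsupp.single j₀ 1, Finsupp.single a' 1 + Finsupp.single j₀ 1]
    ![(1, 0, 1), (0, 1, 1)] ?_ ?_ ?_ ?_ ?_ ?_
  · intro m
    fin_cases m
    · exact rep_data R hj a j₀ hRa (by omega) 1 0 1 (by coord) (by coord) (by coord) rfl
    · exact rep_data R hj a' j₀ (by omega) (by omega) 0 1 1 (by coord) (by coord) (by coord) rfl
  · intro p0 p0' q0 x0 h
    gc7 h <;> decide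
  · intro p0 p0' q0 x0 h
    gc7 h <;> decide
  · intro p0 p0' q0 x0 h
    gc7 h <;>
    · intro A A' B X h1 h2 h3 h4 hok
      unfold OkA at hok
      unfold κV
      split_ifs <;> first | rfl | (exfalso; omega)
  · intro p0 p0' q0 x0 h
    gc7 h <;> decide
  · decide

end Groth.Agent.H43.HilbS49
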