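import Groth.Agent.H43.HilbS2

set_option linter.unusedVariables false
set_option linter.unusedSectionVars false
set_option linter.style.longLine false
set_option linter.unusedSimpArgs false
set_option linter.unusedTactic false
set_option linter.unreachableTactic false

/-! The degree-zero part of `T(I)` for `I = x_0 (x_0, …, x_{n-1}) + x_1 (x_1, …, x_{n-1})`:
classification of the nonzero multidegrees and the dimension count `6 n - 4`. -/

noncomputable section

namespace Groth.Agent.H43.HilbS49

open W4c1hilbpn MvPolynomial
open Groth.Agent.H43.HilbT Groth.Agent.H43.HilbS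

variable {n : ℕ} {k : Type*} [Field k]

/-- a fixed middle variable -/
def w0 (hn : 3 ≤ n) : Fin (n + 1) := ⟨2, by omega⟩

lemma mid_w0 (hn : 3 ≤ n) : Mid n (w0 hn) := ⟨le_refl 2, by show 2 + 1 ≤ n; omega⟩

instance (n : ℕ) : DecidablePred (Mid n) := fun j => by unfold Mid; infer_instance

/-- the middle variables -/
def midF (n : ℕ) : Finset (Fin (n + 1)) := Finset.univ.filter (fun j => Mid n j)

lemma mem_midF {j : Fin (n + 1)} : j ∈ midF n ↔ Mid n j := by simp [midF]

lemma card_midF (hn : 3 ≤ n) : (midF n).card = n - 2 := by
  have : (midF n).map Fin.valEmbedding = Finset.Ico 2 n := by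
    ext m
    simp only [Finset.mem_map, mem_midF, Fin.valEmbedding_apply, Finset.mem_Ico]
    constructor
    · rintro ⟨j, ⟨h1, h2⟩, rfl⟩
      exact ⟨h1, by omega⟩
    · rintro ⟨h1, h2⟩
      exact ⟨⟨m, by omega⟩, ⟨h1, by show m + 1 ≤ n; omega⟩, rfl⟩
  rw [← Finset.card_map Fin.valEmbedding, this, Nat.card_Ico]

lemma roles01 (hn : 3 ≤ n) : Roles (0 : Fin (n + 1)) 1 :=
  ⟨by simp, by rw [val_one hn]; rfl, hn⟩

lemma roles10 (hn : 3 ≤ n) : Roles (1 : Fin (n + 1)) 0 :=
  ⟨le_of_eq (val_one hn), by rw [val_one hn]; rfl, hn⟩

variable {a a' : Fin (n + 1)}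

lemma roles_cases (hn : 3 ≤ n) (R : Roles a a') : (a = 0 ∧ a' = 1) ∨ (a = 1 ∧ a' = 0) := by
  have hRa := R.ha
  have hRa' := R.ha'
  by_cases h : a.val = 0
  · exact Or.inl ⟨Fin.ext h, Fin.ext (by rw [val_one hn]; omega)⟩
  · exact Or.inr ⟨Fin.ext (by rw [val_one hn]; omega), Fin.ext (by show a'.val = 0; omega)⟩

/-! ### the multidegrees -/

abbrev αI (hn : 3 ≤ n) (a a' : Fin (n + 1)) : Fin (n + 1) → ℤ := mkα a a' (w0 hn) (-2) 1 0 1

abbrev αII (hn : 3 ≤ n) (a a' : Fin (n + 1)) : Fin (n + 1) → ℤ := mkα a a' (w0 hn) (-1) 0 0 1

abbrev αIII (a a' j : Fin (n + 1)) : Fin (n + 1) → ℤ := mkα a a' j (-1) 0 1 0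

abbrev αIV (a a' j : Fin (n + 1)) : Fin (n + 1) → ℤ := mkα a a' j (-1) 1 (-1) 1

abbrev αV (n : ℕ) (j : Fin (n + 1)) : Fin (n + 1) → ℤ := mkα (0 : Fin (n + 1)) 1 j 0 0 (-1) 1

/-- the multidegrees attached to an ordering of `x_0`, `x_1` -/
def piece (hn : 3 ≤ n) (a a' : Fin (n + 1)) : Finset (Fin (n + 1) → ℤ) :=
  insert (αI hn a a') (insert (αII hn a a')
    ((midF n).image (αIII a a') ∪ (midF n).image (αIV a a')))

/-- all multidegrees of total degree zero with a nonzero graded piece -/
def L49 (hn : 3 ≤ n) : Finset (Fin (n + 1) → ℤ) :=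
  piece hn 0 1 ∪ piece hn 1 0 ∪ (midF n).image (αV n)

lemma piece_sub (hn : 3 ≤ n) (R : Roles a a') : piece hn a a' ⊆ L49 hn := by
  rcases roles_cases hn R with ⟨e1, e2⟩ | ⟨e1, e2⟩
  · rw [e1, e2]
    exact Finset.subset_union_left.trans Finset.subset_union_left
  · rw [e1, e2]
    exact Finset.subset_union_right.trans Finset.subset_union_left

lemma mkα_swap (hn : 3 ≤ n) (R : Roles a a') (j : Fin (n + 1)) (q t : ℤ) :
    mkα a a' j 0 0 q t = mkα (0 : Fin (n + 1)) 1 j 0 0 q t := by
  rcases roles_cases hn R with ⟨e1, e2⟩ | ⟨e1, e2⟩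
  · rw [e1, e2]
  · rw [e1, e2]
    funext y
    simp only [mkα]
    split_ifs <;> rfl

lemma sum_split (R : Roles a a') (γ : Fin (n + 1) → ℤ) :
    ∑ y, γ y = γ a + γ a' + γ (Fin.last n) + ∑ j ∈ midF n, γ j := by
  have hRa := R.ha
  have hRa' := R.ha'
  have hRn := R.hn
  have hu : (Finset.univ : Finset (Fin (n + 1))) =
      insert a (insert a' (insert (Fin.last n) (midF n))) := by
    ext y
    simp only [Finset.mem_univ, Finset.mem_insert, mem_midF, true_iff]
    have hy := y.isLt
    by_cases h1 : y.val = a.val
    · exact Or.inl (Fin.ext h1)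
    · by_cases h2 : y.val = a'.val
      · exact Or.inr (Or.inl (Fin.ext h2))
      · by_cases h3 : y.val = n
        · exact Or.inr (Or.inr (Or.inl (Fin.ext (by rw [Fin.val_last]; exact h3))))
        · exact Or.inr (Or.inr (Or.inr ⟨by omega, by omega⟩))
  have n1 : a ∉ insert a' (insert (Fin.last n) (midF n)) := by
    simp only [Finset.mem_insert, mem_midF, not_or]
    refine ⟨ne_of_val_ne (by omega), ne_of_val_ne (by rw [Fin.val_last]; omega), fun h => ?_⟩
    have := h.1
    omega
  have n2 : a' ∉ insert (Fin.last n) (midF n) := by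
    simp only [Finset.mem_insert, mem_midF, not_or]
    refine ⟨ne_of_val_ne (by rw [Fin.val_last]; omega), fun h => ?_⟩
    have := h.1
    omega
  have n3 : Fin.last n ∉ midF n := by
    rw [mem_midF]
    intro h
    have := h.2
    rw [Fin.val_last] at this
    omega
  rw [hu, Finset.sum_insert n1, Finset.sum_insert n2, Finset.sum_insert n3]
  ring

lemma sum_mkα (R : Roles a a') {j₀ : Fin (n + 1)} (hj : Mid n j₀) (p p' q t : ℤ) :
    ∑ y, mkα a a' j₀ p p' q t y = p + p' + q + t := by
  rw [sum_split R, mkα_a, mkα_a' R, mkα_z R hj]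
  have : ∑ j ∈ midF n, mkα a a' j₀ p p' q t j = q := by
    rw [Finset.sum_eq_single j₀]
    · exact mkα_j R hj
    · intro y hy hne
      exact mkα_mid R (mem_midF.mp hy) hne
    · intro h
      exact absurd (mem_midF.mpr hj) h
  rw [this]
  ring

/-! ### classification of the nonzero pieces -/

theorem mem_L_of_ne_zero (hn : 3 ≤ n) {α : Fin (n + 1) → ℤ} (hα : ∑ i, α i = 0)
    {F : (Fin (n + 1) → ℤ) → k} (hF : F ∈ RF (I49 n k) α) {g : Fin (n + 1) →₀ ℕ}
    (hg : g ∈ Gs49 n) (hne : F (sh g α) ≠ 0) : α ∈ L49 hn := by
  obtain ⟨x, b, hx, hb, rfl⟩ := hg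
  obtain ⟨a', ha'⟩ : ∃ a' : Fin (n + 1), a'.val = 1 - x.val := ⟨⟨1 - x.val, by omega⟩, rfl⟩
  have R : Roles x a' := ⟨hx, ha', hn⟩
  have R' : Roles a' x := ⟨by omega, by omega, hn⟩
  have hg : (Finsupp.single x 1 + Finsupp.single b 1 : Fin (n + 1) →₀ ℕ) ∈ Gs49 n :=
    ⟨x, b, hx, hb, rfl⟩
  have hl : (Fin.last n).val = n := Fin.val_last n
  have hw : (w0 hn).val = 2 := rfl
  have hgood : NN (sh (Finsupp.single x 1 + Finsupp.single b 1) α) ∧
      Ok (I49 n k) (sh (Finsupp.single x 1 + Finsupp.single b 1) α) := by
    by_contra h
    exact hne (rf_bad hF h)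
  obtain ⟨γ, hγdef⟩ : ∃ γ : Fin (n + 1) → ℤ,
      γ = sh (Finsupp.single x 1 + Finsupp.single b 1) α := ⟨_, rfl⟩
  rw [← hγdef] at hgood
  obtain ⟨hNN, hOk⟩ := hgood
  have hγ : ∀ y, γ y = (if x.val = y.val then 1 else 0) + (if b.val = y.val then 1 else 0) + α y := by
    intro y
    rw [hγdef, sh_apply, Finsupp.add_apply, Finsupp.single_apply, Finsupp.single_apply]
    simp only [Fin.ext_iff]
    split_ifs <;> simp
  have hαy : ∀ y, α y = γ y - (if x.val = y.val then 1 else 0) - (if b.val = y.val then 1 else 0) := by
    intro y
    have := hγ y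
    linarith
  have hOk2 : ¬ (2 ≤ γ x + γ a' ∨ (1 ≤ γ x + γ a' ∧ ∃ j, Mid n j ∧ 1 ≤ γ j)) :=
    fun h => (ok_iff R γ).mp hOk ⟨hNN, h⟩
  have hx0 := hNN x
  have ha0 := hNN a'
  have hs1 : γ x + γ a' ≤ 1 := by
    by_contra h
    exact hOk2 (Or.inl (by omega))
  have hsum : ∑ y, γ y = 2 := by
    have e : ∀ y, γ y = ((Finsupp.single x 1 + Finsupp.single b 1 : Fin (n + 1) →₀ ℕ) y : ℤ) + α y := by
      intro y
      rw [hγdef, sh_apply]
    simp only [e, Finset.sum_add_distrib, hα, add_zero]
    simp only [Finsupp.add_apply, Finsupp.single_apply, Nat.cast_add, Nat.cast_ite, Nat.cast_one,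
      Nat.cast_zero, Finset.sum_add_distrib, Finset.sum_ite_eq, Finset.mem_univ, if_true]
    norm_num
  have hsplit := sum_split R γ
  by_cases hs : γ x + γ a' = 1
  · -- the value has a variable among `x_0`, `x_1`
    have hmid : ∀ j, Mid n j → γ j = 0 := by
      intro j hj
      have := hNN j
      by_contra h
      exact hOk2 (Or.inr ⟨by omega, j, hj, by omega⟩)
    have hmsum : ∑ j ∈ midF n, γ j = 0 :=
      Finset.sum_eq_zero (fun j hj => hmid j (mem_midF.mp hj))
    have hz : γ (Fin.last n) = 1 := by omega
    have hw0 := hmid (w0 hn) (mid_w0 hn)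
    by_cases hb2 : 2 ≤ b.val
    · have hbm : Mid n b := ⟨hb2, hb⟩
      have hbb := hmid b hbm
      by_cases hx1 : γ x = 1
      · have e : α = mkα x a' b 0 0 (-1) 1 := eq_mkα R
          (by have h := hαy x; split_ifs at h <;> omega)
          (by have h := hαy a'; split_ifs at h <;> omega)
          (by have h := hαy b; split_ifs at h <;> omega)
          (by have h := hαy (Fin.last n); split_ifs at h <;> omega)
          (fun y hy hne => by
            have h := hαy y
            have := hmid y hy
            have : y.val ≠ b.val := fun e => hne (Fin.ext e)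
            have := hy.1
            split_ifs at h <;> omega)
        rw [e, mkα_swap hn R]
        exact Finset.mem_union_right _ (Finset.mem_image_of_mem _ (mem_midF.mpr hbm))
      · have e : α = αIV x a' b := eq_mkα R
          (by have h := hαy x; split_ifs at h <;> omega)
          (by have h := hαy a'; split_ifs at h <;> omega)
          (by have h := hαy b; split_ifs at h <;> omega)
          (by have h := hαy (Fin.last n); split_ifs at h <;> omega)
          (fun y hy hne => by
            have h := hαy y
            have := hmid y hy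
            have : y.val ≠ b.val := fun e => hne (Fin.ext e)
            have := hy.1
            split_ifs at h <;> omega)
        rw [e]
        exact piece_sub hn R (Finset.mem_insert_of_mem (Finset.mem_insert_of_mem
          (Finset.mem_union_right _ (Finset.mem_image_of_mem _ (mem_midF.mpr hbm)))))
    · by_cases hbx : b.val = x.val
      · by_cases hx1 : γ x = 1
        · have e : α = αII hn x a' := eq_mkα R
            (by have h := hαy x; split_ifs at h <;> omega)
            (by have h := hαy a'; split_ifs at h <;> omega)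
            (by have h := hαy (w0 hn); split_ifs at h <;> omega)
            (by have h := hαy (Fin.last n); split_ifs at h <;> omega)
            (fun y hy hne => by
              have h := hαy y
              have := hmid y hy
              have := hy.1
              split_ifs at h <;> omega)
          rw [e]
          exact piece_sub hn R (Finset.mem_insert_of_mem (Finset.mem_insert_self _ _))
        · have e : α = αI hn x a' := eq_mkα R
            (by have h := hαy x; split_ifs at h <;> omega)
            (by have h := hαy a'; split_ifs at h <;> omega)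
            (by have h := hαy (w0 hn); split_ifs at h <;> omega)
            (by have h := hαy (Fin.last n); split_ifs at h <;> omega)
            (fun y hy hne => by
              have h := hαy y
              have := hmid y hy
              have := hy.1
              split_ifs at h <;> omega)
          rw [e]
          exact piece_sub hn R (Finset.mem_insert_self _ _)
      · by_cases hx1 : γ x = 1
        · have e : α = αII hn a' x := eq_mkα R'
            (by have h := hαy a'; split_ifs at h <;> omega)
            (by have h := hαy x; split_ifs at h <;> omega)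
            (by have h := hαy (w0 hn); split_ifs at h <;> omega)
            (by have h := hαy (Fin.last n); split_ifs at h <;> omega)
            (fun y hy hne => by
              have h := hαy y
              have := hmid y hy
              have := hy.1
              split_ifs at h <;> omega)
          rw [e]
          exact piece_sub hn R' (Finset.mem_insert_of_mem (Finset.mem_insert_self _ _))
        · have e : α = αII hn x a' := eq_mkα R
            (by have h := hαy x; split_ifs at h <;> omega)
            (by have h := hαy a'; split_ifs at h <;> omega)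
            (by have h := hαy (w0 hn); split_ifs at h <;> omega)
            (by have h := hαy (Fin.last n); split_ifs at h <;> omega)
            (fun y hy hne => by
              have h := hαy y
              have := hmid y hy
              have := hy.1
              split_ifs at h <;> omega)
          rw [e]
          exact piece_sub hn R (Finset.mem_insert_of_mem (Finset.mem_insert_self _ _))
  · -- the value involves no variable among `x_0`, `x_1`
    have hγx : γ x = 0 := by omega
    have hγa' : γ a' = 0 := by omega
    have hβ : ∀ (b' y : Fin (n + 1)),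
        sh (Finsupp.single x 1 + Finsupp.single b 1 + Finsupp.single b' 1) α y =
          γ y + (if b'.val = y.val then 1 else 0) := by
      intro b' y
      rw [hγdef]
      simp only [sh_apply, Finsupp.add_apply, Finsupp.single_apply, Fin.ext_iff]
      split_ifs <;> simp <;> ring
    have hg'y : ∀ (b' y : Fin (n + 1)),
        sh (Finsupp.single x 1 + Finsupp.single b' 1) α y =
          (if x.val = y.val then 1 else 0) + (if b'.val = y.val then 1 else 0) + α y := by
      intro b' y
      simp only [sh_apply, Finsupp.add_apply, Finsupp.single_apply, Fin.ext_iff]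
      split_ifs <;> simp
    have kill : ∀ b' : Fin (n + 1), b'.val + 1 ≤ n →
        Ok (I49 n k) (sh (Finsupp.single x 1 + Finsupp.single b 1 + Finsupp.single b' 1) α) →
        ¬ NN (sh (Finsupp.single x 1 + Finsupp.single b' 1) α) → False := by
      intro b' hb' hok hbad
      have hg' : (Finsupp.single x 1 + Finsupp.single b' 1 : Fin (n + 1) →₀ ℕ) ∈ Gs49 n :=
        ⟨x, b', hx, hb', rfl⟩
      have hle : (Finsupp.single x 1 + Finsupp.single b' 1 : Fin (n + 1) →₀ ℕ) ≤
          Finsupp.single x 1 + Finsupp.single b 1 + Finsupp.single b' 1 := by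
        rw [Finsupp.le_def]
        intro y
        simp only [Finsupp.add_apply]
        omega
      exact hne (rf_kill hF (hGs49 hn _ hg) (hGs49 hn _ hg') le_self_add hle hok
        (fun h => hbad h.1))
    by_cases hb2 : 2 ≤ b.val
    · have hbm : Mid n b := ⟨hb2, hb⟩
      by_cases hγb : 1 ≤ γ b
      · -- the multidegree is a difference of two unit vectors
        have hNN' : NN (γ - Pi.single b 1) := by
          intro y
          have := hNN y
          rw [Pi.sub_apply, Pi.single_apply]
          split_ifs with h
          · rw [h]; omega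
          · omega
        have hsum' : ∑ y, (γ - Pi.single b 1 : Fin (n + 1) → ℤ) y = 1 := by
          simp only [Pi.sub_apply, Finset.sum_sub_distrib, hsum]
          rw [Finset.sum_pi_single' b (1:ℤ) Finset.univ, if_pos (Finset.mem_univ b)]
          norm_num
        obtain ⟨y0, hy0⟩ := nn_sum_one hNN' hsum'
        have hγ2 : ∀ y : Fin (n + 1), γ y = (if y.val = b.val then 1 else 0) +
            (if y.val = y0.val then 1 else 0) := by
          intro y
          have := congrFun hy0 y
          simp only [Pi.sub_apply, Pi.single_apply, Fin.ext_iff] at this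
          linarith
        have hy0x : y0.val ≠ x.val := by
          intro e
          have := hγ2 x
          split_ifs at this <;> omega
        have hy0a : y0.val ≠ a'.val := by
          intro e
          have := hγ2 a'
          split_ifs at this <;> omega
        have hy0lt := y0.isLt
        by_cases hy0z : y0.val = n
        · have e : α = αII hn x a' := eq_mkα R
            (by have h := hαy x; have h2 := hγ2 x; split_ifs at h h2 <;> omega)
            (by have h := hαy a'; have h2 := hγ2 a'; split_ifs at h h2 <;> omega)
            (by have h := hαy (w0 hn); have h2 := hγ2 (w0 hn); split_ifs at h h2 <;> omega)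
            (by have h := hαy (Fin.last n); have h2 := hγ2 (Fin.last n); split_ifs at h h2 <;> omega)
            (fun y hy hne => by
              have h := hαy y
              have h2 := hγ2 y
              have := hy.1
              have := hy.2
              split_ifs at h h2 <;> omega)
          rw [e]
          exact piece_sub hn R (Finset.mem_insert_of_mem (Finset.mem_insert_self _ _))
        · have hy0m : Mid n y0 := ⟨by omega, by omega⟩
          have e : α = αIII x a' y0 := eq_mkα R
            (by have h := hαy x; have h2 := hγ2 x; split_ifs at h h2 <;> omega)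
            (by have h := hαy a'; have h2 := hγ2 a'; split_ifs at h h2 <;> omega)
            (by have h := hαy y0; have h2 := hγ2 y0; split_ifs at h h2 <;> omega)
            (by have h := hαy (Fin.last n); have h2 := hγ2 (Fin.last n); split_ifs at h h2 <;> omega)
            (fun y hy hne => by
              have h := hαy y
              have h2 := hγ2 y
              have : y.val ≠ y0.val := fun e => hne (Fin.ext e)
              have := hy.1
              have := hy.2
              split_ifs at h h2 <;> omega)
          rw [e]
          exact piece_sub hn R (Finset.mem_insert_of_mem (Finset.mem_insert_of_mem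
            (Finset.mem_union_left _ (Finset.mem_image_of_mem _ (mem_midF.mpr hy0m)))))
      · -- the entry at `b` is negative: killed by a neighbouring generator
        exfalso
        have hγb0 : γ b = 0 := by have := hNN b; omega
        by_cases hm : ∃ y, Mid n y ∧ 1 ≤ γ y
        · obtain ⟨y, hy, hy1⟩ := hm
          have hyb : y.val ≠ b.val := by
            intro e
            have : y = b := Fin.ext e
            rw [this] at hy1
            omega
          have hy1' := hy.1
          refine kill y hy.2 ?_ ?_
          · apply ok_of_small R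
            · rw [hβ, hβ]
              split_ifs <;> omega
            · intro h
              rw [hβ, hβ] at h
              split_ifs at h <;> omega
          · intro h
            have h1 := h b
            rw [hg'y] at h1
            have h2 := hαy b
            split_ifs at h1 h2 <;> omega
        · push Not at hm
          refine kill a' (by omega) ?_ ?_
          · apply ok_of_small R
            · rw [hβ, hβ]
              split_ifs <;> omega
            · intro _ j hj
              have := hm j hj
              have := hj.1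
              rw [hβ]
              split_ifs <;> omega
          · intro h
            have h1 := h b
            rw [hg'y] at h1
            have h2 := hαy b
            split_ifs at h1 h2 <;> omega
    · exfalso
      by_cases hbx : b.val = x.val
      · refine kill (w0 hn) (by rw [hw]; omega) ?_ ?_
        · apply ok_of_small R
          · rw [hβ, hβ]
            split_ifs <;> omega
          · intro h
            rw [hβ, hβ] at h
            split_ifs at h <;> omega
        · intro h
          have h1 := h x
          rw [hg'y] at h1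
          have h2 := hαy x
          split_ifs at h1 h2 <;> omega
      · refine kill (w0 hn) (by rw [hw]; omega) ?_ ?_
        · apply ok_of_small R
          · rw [hβ, hβ]
            split_ifs <;> omega
          · intro h
            rw [hβ, hβ] at h
            split_ifs at h <;> omega
        · intro h
          have h1 := h a'
          rw [hg'y] at h1
          have h2 := hαy a'
          split_ifs at h1 h2 <;> omega

/-! ### the count -/

lemma piece_lt (hn : 3 ≤ n) (R : Roles a a') : ∀ α ∈ piece hn a a', α a < α a' := by
  intro α hα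
  simp only [piece, Finset.mem_insert, Finset.mem_union, Finset.mem_image] at hα
  rcases hα with rfl | rfl | ⟨j, hj, rfl⟩ | ⟨j, hj, rfl⟩
  · unfold αI; rw [mkα_a, mkα_a' R]; norm_num
  · unfold αII; rw [mkα_a, mkα_a' R]; norm_num
  · unfold αIII; rw [mkα_a, mkα_a' R]; norm_num
  · unfold αIV; rw [mkα_a, mkα_a' R]; norm_num

lemma sum_piece (hn : 3 ≤ n) (R : Roles a a') (f : (Fin (n + 1) → ℤ) → ℕ) :
    ∑ α ∈ piece hn a a', f α = f (αI hn a a') + (f (αII hn a a') +
      (∑ j ∈ midF n, f (αIII a a' j) + ∑ j ∈ midF n, f (αIV a a' j))) := by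
  have hw := mid_w0 hn
  unfold piece
  have n1 : αI hn a a' ∉ insert (αII hn a a')
      ((midF n).image (αIII a a') ∪ (midF n).image (αIV a a')) := by
    intro h
    simp only [Finset.mem_insert, Finset.mem_union, Finset.mem_image] at h
    have key : ∀ β : Fin (n + 1) → ℤ, (β = αII hn a a' ∨ (∃ j ∈ midF n, αIII a a' j = β) ∨
        (∃ j ∈ midF n, αIV a a' j = β)) → β a = -1 := by
      rintro β (rfl | ⟨j, _, rfl⟩ | ⟨j, _, rfl⟩)
      · exact mkα_a
      · exact mkα_a
      · exact mkα_a
    have h1 := key _ h
    unfold αI at h1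
    rw [mkα_a] at h1
    norm_num at h1
  have n2 : αII hn a a' ∉ (midF n).image (αIII a a') ∪ (midF n).image (αIV a a') := by
    intro h
    simp only [Finset.mem_union, Finset.mem_image] at h
    rcases h with ⟨j, hj, e⟩ | ⟨j, hj, e⟩
    · have := congrFun e (Fin.last n)
      unfold αIII αII at this
      rw [mkα_z R (mem_midF.mp hj), mkα_z R hw] at this
      norm_num at this
    · have := congrFun e a'
      unfold αIV αII at this
      rw [mkα_a' R, mkα_a' R] at this
      norm_num at this
  have d34 : Disjoint ((midF n).image (αIII a a')) ((midF n).image (αIV a a')) := by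
    rw [Finset.disjoint_left]
    intro α h3 h4
    simp only [Finset.mem_image] at h3 h4
    obtain ⟨j, hj, rfl⟩ := h3
    obtain ⟨j', hj', e⟩ := h4
    have := congrFun e (Fin.last n)
    unfold αIV αIII at this
    rw [mkα_z R (mem_midF.mp hj'), mkα_z R (mem_midF.mp hj)] at this
    norm_num at this
  have inj3 : Set.InjOn (αIII a a') ↑(midF n) := by
    intro j hj j' hj' e
    have hj : j ∈ midF n := hj
    by_contra hne
    have := congrFun e j
    unfold αIII at this
    rw [mkα_j R (mem_midF.mp hj), mkα_mid R (mem_midF.mp hj) hne] at this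
    norm_num at this
  have inj4 : Set.InjOn (αIV a a') ↑(midF n) := by
    intro j hj j' hj' e
    have hj : j ∈ midF n := hj
    by_contra hne
    have := congrFun e j
    unfold αIV at this
    rw [mkα_j R (mem_midF.mp hj), mkα_mid R (mem_midF.mp hj) hne] at this
    norm_num at this
  rw [Finset.sum_insert n1, Finset.sum_insert n2, Finset.sum_union d34, Finset.sum_image inj3,
    Finset.sum_image inj4]

lemma sum_L49 (hn : 3 ≤ n) (f : (Fin (n + 1) → ℤ) → ℕ) :
    ∑ α ∈ L49 hn, f α = (∑ α ∈ piece hn 0 1, f α) + (∑ α ∈ piece hn 1 0, f α) +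
      ∑ j ∈ midF n, f (αV n j) := by
  unfold L49
  have R01 := roles01 hn
  have R10 := roles10 hn
  have d1 : Disjoint (piece hn (0 : Fin (n + 1)) 1) (piece hn 1 0) := by
    rw [Finset.disjoint_left]
    intro α h1 h2
    have := piece_lt hn R01 α h1
    have := piece_lt hn R10 α h2
    omega
  have d2 : Disjoint (piece hn (0 : Fin (n + 1)) 1 ∪ piece hn 1 0) ((midF n).image (αV n)) := by
    rw [Finset.disjoint_left]
    intro α h1 h2
    simp only [Finset.mem_image] at h2
    obtain ⟨j, hj, rfl⟩ := h2
    have e0 : αV n j 0 = 0 := mkα_a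
    have e1 : αV n j 1 = 0 := mkα_a' R01
    rcases Finset.mem_union.mp h1 with h | h
    · have := piece_lt hn R01 _ h; omega
    · have := piece_lt hn R10 _ h; omega
  have injV : Set.InjOn (αV n) ↑(midF n) := by
    intro j hj j' hj' e
    have hj : j ∈ midF n := hj
    by_contra hne
    have := congrFun e j
    unfold αV at this
    rw [mkα_j R01 (mem_midF.mp hj), mkα_mid R01 (mem_midF.mp hj) hne] at this
    norm_num at this
  rw [Finset.sum_union d2, Finset.sum_union d1, Finset.sum_image injV]

theorem main49 (k : Type*) [Field k] (n : ℕ) (hn : 3 ≤ n) :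
    Module.finrank k ↥(⨆ α : {α : Fin (n + 1) → ℤ // ∑ i, α i = 0},
      tPiece (I49 n k) α.1) = 6 * n - 4 := by
  have hI := isMonomial_I49 (k := k) hn
  have R01 := roles01 hn
  have R10 := roles10 hn
  have hw := mid_w0 hn
  have hs : ∀ α : Fin (n + 1) → ℤ, (∑ i, α i = 0) → α ∉ L49 hn → tPiece (I49 n k) α = ⊥ := by
    intro α hα hnot
    apply tPiece_eq_bot_of_RF hI
    intro F hF
    apply rf_eq_zero (Gs49 n) (hG49 hn) (hGs49 hn) hF
    intro g hg
    by_contra hne
    exact hnot (mem_L_of_ne_zero hn hα hF hg hne)
  have hs' : ∀ α ∈ L49 hn, ∑ i, α i = 0 := by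
    intro α hα
    simp only [L49, piece, Finset.mem_union, Finset.mem_insert, Finset.mem_image] at hα
    rcases hα with ((rfl | rfl | ⟨j, hj, rfl⟩ | ⟨j, hj, rfl⟩) |
      (rfl | rfl | ⟨j, hj, rfl⟩ | ⟨j, hj, rfl⟩)) | ⟨j, hj, rfl⟩
    · rw [sum_mkα R01 hw]; norm_num
    · rw [sum_mkα R01 hw]; norm_num
    · rw [sum_mkα R01 (mem_midF.mp hj)]; norm_num
    · rw [sum_mkα R01 (mem_midF.mp hj)]; norm_num
    · rw [sum_mkα R10 hw]; norm_num
    · rw [sum_mkα R10 hw]; norm_num
    · rw [sum_mkα R10 (mem_midF.mp hj)]; norm_num
    · rw [sum_mkα R10 (mem_midF.mp hj)]; norm_num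
    · rw [sum_mkα R01 (mem_midF.mp hj)]; norm_num
  have hfin : ∀ α ∈ L49 hn, Module.Finite k ↥(tPiece (I49 n k) α) := by
    intro α hα
    simp only [L49, piece, Finset.mem_union, Finset.mem_insert, Finset.mem_image] at hα
    rcases hα with ((rfl | rfl | ⟨j, hj, rfl⟩ | ⟨j, hj, rfl⟩) |
      (rfl | rfl | ⟨j, hj, rfl⟩ | ⟨j, hj, rfl⟩)) | ⟨j, hj, rfl⟩
    · exact (famI R01 hw).1
    · exact (famII R01 hw).1
    · exact (famIII R01 (mem_midF.mp hj)).1
    · exact (famIV R01 (mem_midF.mp hj)).1
    · exact (famI R10 hw).1
    · exact (famII R10 hw).1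
    · exact (famIII R10 (mem_midF.mp hj)).1
    · exact (famIV R10 (mem_midF.mp hj)).1
    · exact (famV R01 (mem_midF.mp hj)).1
  rw [finrank_iSup_of_finset hI (fun α : Fin (n + 1) → ℤ => ∑ i, α i = 0) (L49 hn) hs hs' hfin,
    sum_L49, sum_piece hn R01, sum_piece hn R10]
  have s3 : ∑ j ∈ midF n, Module.finrank k ↥(tPiece (I49 n k) (αIII (0 : Fin (n + 1)) 1 j)) =
      ∑ j ∈ midF n, 1 :=
    Finset.sum_congr rfl (fun j hj => (famIII R01 (mem_midF.mp hj)).2)
  have s4 : ∑ j ∈ midF n, Module.finrank k ↥(tPiece (I49 n k) (αIV (0 : Fin (n + 1)) 1 j)) =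
      ∑ j ∈ midF n, 1 :=
    Finset.sum_congr rfl (fun j hj => (famIV R01 (mem_midF.mp hj)).2)
  have s3' : ∑ j ∈ midF n, Module.finrank k ↥(tPiece (I49 n k) (αIII (1 : Fin (n + 1)) 0 j)) =
      ∑ j ∈ midF n, 1 :=
    Finset.sum_congr rfl (fun j hj => (famIII R10 (mem_midF.mp hj)).2)
  have s4' : ∑ j ∈ midF n, Module.finrank k ↥(tPiece (I49 n k) (αIV (1 : Fin (n + 1)) 0 j)) =
      ∑ j ∈ midF n, 1 :=
    Finset.sum_congr rfl (fun j hj => (famIV R10 (mem_midF.mp hj)).2)
  have s5 : ∑ j ∈ midF n, Module.finrank k ↥(tPiece (I49 n k) (αV n j)) =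
      ∑ j ∈ midF n, 2 :=
    Finset.sum_congr rfl (fun j hj => (famV R01 (mem_midF.mp hj)).2)
  rw [s3, s4, s3', s4', s5, (famI R01 hw).2, (famII R01 hw).2, (famI R10 hw).2,
    (famII R10 hw).2]
  simp only [Finset.sum_const, card_midF hn, smul_eq_mul]
  omega

end Groth.Agent.H43.HilbS49
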