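import Groth.Agent.H43.HilbS1

set_option linter.unusedVariables false
set_option linter.unusedSectionVars false
set_option linter.style.longLine false
set_option linter.unusedSimpArgs false
set_option linter.unusedTactic false
set_option linter.unreachableTactic false

/-! The ideal `x_0 (x_0, …, x_{n-1}) + x_1 (x_1, …, x_{n-2})` of `k[x_0, …, x_n]`: exponents, coarse
coordinates and the graded pieces of `T(I)` in the thirteen families of nonzero multidegrees. -/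

noncomputable section

namespace Groth.Agent.H43.HilbS48

open W4c1hilbpn MvPolynomial
open Groth.Agent.H43.HilbT Groth.Agent.H43.HilbS

variable {n : ℕ} {k : Type*} [Field k]

/-- the ideal -/
abbrev I48 (n : ℕ) (k : Type*) [Field k] : Ideal (MvPolynomial (Fin (n + 1)) k) :=
  Ideal.span ({f : MvPolynomial (Fin (n + 1)) k | ∃ i : Fin (n + 1), i.val + 1 ≤ n ∧ f = MvPolynomial.X 0 * MvPolynomial.X i} ∪ {f : MvPolynomial (Fin (n + 1)) k | ∃ i : Fin (n + 1), 1 ≤ i.val ∧ i.val ≤ n - 2 ∧ f = MvPolynomial.X 1 * MvPolynomial.X i})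

/-- exponents of the generators -/
def Gs48 (n : ℕ) : Set (Fin (n + 1) →₀ ℕ) :=
  {g | ∃ x b : Fin (n + 1), ((x.val = 0 ∧ b.val + 1 ≤ n) ∨ (x.val = 1 ∧ 1 ≤ b.val ∧ b.val + 2 ≤ n)) ∧
    g = Finsupp.single x 1 + Finsupp.single b 1}

lemma val_one (hn : 4 ≤ n) : ((1 : Fin (n + 1)) : ℕ) = 1 := by
  rw [Fin.val_one']; exact Nat.mod_eq_of_lt (by omega)

lemma gens_eq (hn : 4 ≤ n) :
    ({f : MvPolynomial (Fin (n + 1)) k | ∃ i : Fin (n + 1), i.val + 1 ≤ n ∧ f = MvPolynomial.X 0 * MvPolynomial.X i} ∪ {f : MvPolynomial (Fin (n + 1)) k | ∃ i : Fin (n + 1), 1 ≤ i.val ∧ i.val ≤ n - 2 ∧ f = MvPolynomial.X 1 * MvPolynomial.X i}) =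
      (fun s => monomial s (1:k)) '' Gs48 n := by
  have hXX : ∀ x b : Fin (n + 1), (X x * X b : MvPolynomial (Fin (n + 1)) k) =
      monomial (Finsupp.single x 1 + Finsupp.single b 1) 1 := by
    intro x b
    show monomial (Finsupp.single x 1) (1:k) * monomial (Finsupp.single b 1) 1 = _
    rw [monomial_mul, one_mul]
  ext f
  constructor
  · rintro (⟨i, hi, rfl⟩ | ⟨i, hi1, hi2, rfl⟩)
    · exact ⟨_, ⟨0, i, Or.inl ⟨by simp, hi⟩, rfl⟩, (hXX 0 i).symm⟩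
    · exact ⟨_, ⟨1, i, Or.inr ⟨val_one hn, hi1, by omega⟩, rfl⟩, (hXX 1 i).symm⟩
  · rintro ⟨g, ⟨x, b, (⟨hx, hb⟩ | ⟨hx, hb1, hb2⟩), rfl⟩, rfl⟩
    · show monomial (Finsupp.single x 1 + Finsupp.single b 1) (1:k) ∈ _
      rw [← hXX]
      have hx' : x = 0 := Fin.ext hx
      rw [hx']
      exact Or.inl ⟨b, hb, rfl⟩
    · show monomial (Finsupp.single x 1 + Finsupp.single b 1) (1:k) ∈ _
      rw [← hXX]
      have hx' : x = 1 := Fin.ext (by rw [val_one hn]; exact hx)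
      rw [hx']
      exact Or.inr ⟨b, hb1, by omega, rfl⟩

lemma I48_eq (hn : 4 ≤ n) :
    I48 n k = Ideal.span ((fun s => monomial s (1:k)) '' Gs48 n) := by
  show Ideal.span _ = _
  rw [gens_eq hn]

lemma exps_I48 (hn : 4 ≤ n) (β : Fin (n + 1) →₀ ℕ) :
    β ∈ exps (I48 n k) ↔ ∃ g ∈ Gs48 n, g ≤ β := by
  rw [I48_eq hn]
  exact exps_span_monomials _ β

lemma isMonomial_I48 (hn : 4 ≤ n) : IsMonomial (I48 n k) := by
  rw [I48_eq hn]
  exact isMonomial_span_monomials _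

lemma hG48 (hn : 4 ≤ n) : ∀ β, β ∈ exps (I48 n k) → ∃ g ∈ Gs48 n, g ≤ β :=
  fun β h => (exps_I48 hn β).mp h

lemma hGs48 (hn : 4 ≤ n) : ∀ g ∈ Gs48 n, g ∈ exps (I48 n k) :=
  fun g hg => (exps_I48 hn g).mpr ⟨g, hg, le_rfl⟩

/-! ### positions of the variables -/

/-- `u = x_0`, `v = x_1`, `y = x_{n-1}` -/
structure Pos {n : ℕ} (u v y : Fin (n + 1)) : Prop where
  hu : u.val = 0
  hv : v.val = 1
  hy : y.val + 1 = n
  hn : 4 ≤ n

/-- the middle variables `x_2, …, x_{n-2}` -/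
def Mid48 (n : ℕ) (j : Fin (n + 1)) : Prop := 2 ≤ j.val ∧ j.val + 2 ≤ n

lemma ne_of_val_ne {x y : Fin (n + 1)} (h : x.val ≠ y.val) : x ≠ y :=
  fun e => h (congrArg Fin.val e)

variable {u v y j₀ : Fin (n + 1)}

lemma mem_exps_iff (P : Pos u v y) (β : Fin (n + 1) →₀ ℕ) :
    β ∈ exps (I48 n k) ↔
      2 ≤ β u ∨ (1 ≤ β u ∧ (1 ≤ β v ∨ 1 ≤ β y ∨ ∃ j, Mid48 n j ∧ 1 ≤ β j)) ∨
        2 ≤ β v ∨ (1 ≤ β v ∧ ∃ j, Mid48 n j ∧ 1 ≤ β j) := by
  have hPu := P.hu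
  have hPv := P.hv
  have hPy := P.hy
  have hPn := P.hn
  rw [exps_I48 P.hn]
  constructor
  · rintro ⟨g, ⟨x, b, hxb, rfl⟩, hle⟩
    obtain ⟨h1, h2, h3⟩ := le_of_two_single_le hle
    rcases hxb with ⟨hx, hb⟩ | ⟨hx, hb1, hb2⟩
    · have hxu : x = u := Fin.ext (by omega)
      rw [hxu] at h1 h3
      by_cases hb0 : b.val = 0
      · left
        exact h3 (Fin.ext (by omega))
      · right; left
        refine ⟨h1, ?_⟩
        by_cases hb1 : b.val = 1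
        · left
          have hbv : b = v := Fin.ext (by omega)
          rw [← hbv]; exact h2
        · by_cases hby : b.val + 1 = n
          · right; left
            have hbv : b = y := Fin.ext (by omega)
            rw [← hbv]; exact h2
          · right; right
            exact ⟨b, ⟨by omega, by omega⟩, h2⟩
    · have hxv : x = v := Fin.ext (by omega)
      rw [hxv] at h1 h3
      by_cases hb1' : b.val = 1
      · right; right; left
        exact h3 (Fin.ext (by omega))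
      · right; right; right
        exact ⟨h1, b, ⟨by omega, hb2⟩, h2⟩
  · rintro (h | ⟨h, h' | h' | ⟨j, hm, hj⟩⟩ | h | ⟨h, j, hm, hj⟩)
    · exact ⟨_, ⟨u, u, Or.inl ⟨hPu, by omega⟩, rfl⟩,
        two_single_le (by omega) (by omega) (fun _ => h)⟩
    · have hne : u ≠ v := ne_of_val_ne (by omega)
      exact ⟨_, ⟨u, v, Or.inl ⟨hPu, by omega⟩, rfl⟩,
        two_single_le h h' (fun e => absurd e hne)⟩
    · have hne : u ≠ y := ne_of_val_ne (by omega)
      exact ⟨_, ⟨u, y, Or.inl ⟨hPu, by omega⟩, rfl⟩,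
        two_single_le h h' (fun e => absurd e hne)⟩
    · have hm1 := hm.1
      have hm2 := hm.2
      have hne : u ≠ j := ne_of_val_ne (by omega)
      exact ⟨_, ⟨u, j, Or.inl ⟨hPu, by omega⟩, rfl⟩,
        two_single_le h hj (fun e => absurd e hne)⟩
    · exact ⟨_, ⟨v, v, Or.inr ⟨hPv, by omega, by omega⟩, rfl⟩,
        two_single_le (by omega) (by omega) (fun _ => h)⟩
    · have hm1 := hm.1
      have hm2 := hm.2
      have hne : v ≠ j := ne_of_val_ne (by omega)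
      exact ⟨_, ⟨v, j, Or.inr ⟨hPv, by omega, hm2⟩, rfl⟩,
        two_single_le h hj (fun e => absurd e hne)⟩

lemma ok_iff (P : Pos u v y) (γ : Fin (n + 1) → ℤ) :
    Ok (I48 n k) γ ↔
      ¬ (NN γ ∧ (2 ≤ γ u ∨ (1 ≤ γ u ∧ (1 ≤ γ v ∨ 1 ≤ γ y ∨ ∃ j, Mid48 n j ∧ 1 ≤ γ j)) ∨
        2 ≤ γ v ∨ (1 ≤ γ v ∧ ∃ j, Mid48 n j ∧ 1 ≤ γ j))) := by
  unfold Ok
  refine not_congr (and_congr_right fun hNN => ?_)
  rw [mem_exps_iff P]
  have hu := hNN u
  have hv := hNN v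
  have hy := hNN y
  simp only [toExp_apply]
  constructor
  · rintro (h | ⟨h, h' | h' | ⟨j, hm, hj⟩⟩ | h | ⟨h, j, hm, hj⟩)
    · left; omega
    · right; left; exact ⟨by omega, Or.inl (by omega)⟩
    · right; left; exact ⟨by omega, Or.inr (Or.inl (by omega))⟩
    · right; left; exact ⟨by omega, Or.inr (Or.inr ⟨j, hm, by omega⟩)⟩
    · right; right; left; omega
    · right; right; right; exact ⟨by omega, j, hm, by omega⟩
  · rintro (h | ⟨h, h' | h' | ⟨j, hm, hj⟩⟩ | h | ⟨h, j, hm, hj⟩)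
    · left; omega
    · right; left; exact ⟨by omega, Or.inl (by omega)⟩
    · right; left; exact ⟨by omega, Or.inr (Or.inl (by omega))⟩
    · right; left; exact ⟨by omega, Or.inr (Or.inr ⟨j, hm, by omega⟩)⟩
    · right; right; left; omega
    · right; right; right; exact ⟨by omega, j, hm, by omega⟩

lemma ok_of_noUV (P : Pos u v y) {γ : Fin (n + 1) → ℤ} (h1 : γ u ≤ 0) (h2 : γ v ≤ 0) :
    Ok (I48 n k) γ := by
  rw [ok_iff P]
  rintro ⟨_, h | ⟨h, _⟩ | h | ⟨h, _⟩⟩ <;> omega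

lemma ok_of_v1 (P : Pos u v y) {γ : Fin (n + 1) → ℤ} (h1 : γ u ≤ 0) (h2 : γ v ≤ 1)
    (h3 : ∀ j, Mid48 n j → γ j ≤ 0) : Ok (I48 n k) γ := by
  rw [ok_iff P]
  rintro ⟨_, h | ⟨h, _⟩ | h | ⟨h, j, hm, hj⟩⟩
  · omega
  · omega
  · omega
  · have := h3 j hm; omega

/-! ### coarse coordinates -/

open Classical in
/-- indicator of a positive entry at a middle variable other than `j₀` -/
def muX (j₀ : Fin (n + 1)) (β : Fin (n + 1) →₀ ℕ) : ℕ :=
  if ∃ j, Mid48 n j ∧ j ≠ j₀ ∧ 1 ≤ β j then 1 else 0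

lemma muX_pos {β : Fin (n + 1) →₀ ℕ} : 1 ≤ muX j₀ β ↔ ∃ j, Mid48 n j ∧ j ≠ j₀ ∧ 1 ≤ β j := by
  unfold muX
  split_ifs with h
  · simp [h]
  · simp [h]

lemma muX_le_one (j₀ : Fin (n + 1)) (β : Fin (n + 1) →₀ ℕ) : muX j₀ β ≤ 1 := by
  unfold muX
  split_ifs <;> omega

lemma muX_mono {g β : Fin (n + 1) →₀ ℕ} (h : g ≤ β) : muX j₀ g ≤ muX j₀ β := by
  by_cases hg : 1 ≤ muX j₀ g
  · have : 1 ≤ muX j₀ β := by
      rw [muX_pos] at hg ⊢
      obtain ⟨j, hm, hne, h1⟩ := hg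
      exact ⟨j, hm, hne, le_trans h1 (Finsupp.le_def.mp h j)⟩
    have := muX_le_one j₀ g
    omega
  · omega

lemma muX_sup (g r : Fin (n + 1) →₀ ℕ) :
    1 ≤ muX j₀ (g ⊔ r) ↔ 1 ≤ muX j₀ g ∨ 1 ≤ muX j₀ r := by
  simp only [muX_pos]
  constructor
  · rintro ⟨j, hm, hne, h1⟩
    rw [Finsupp.sup_apply] at h1
    rcases le_sup_iff.mp h1 with h | h
    · exact Or.inl ⟨j, hm, hne, h⟩
    · exact Or.inr ⟨j, hm, hne, h⟩
  · rintro (⟨j, hm, hne, h1⟩ | ⟨j, hm, hne, h1⟩)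
    · exact ⟨j, hm, hne, by rw [Finsupp.sup_apply]; exact le_sup_of_le_left h1⟩
    · exact ⟨j, hm, hne, by rw [Finsupp.sup_apply]; exact le_sup_of_le_right h1⟩

lemma mid_iff (hj : Mid48 n j₀) (β : Fin (n + 1) →₀ ℕ) :
    (∃ j, Mid48 n j ∧ 1 ≤ β j) ↔ (1 ≤ β j₀ ∨ 1 ≤ muX j₀ β) := by
  rw [muX_pos]
  constructor
  · rintro ⟨j, hm, hj1⟩
    by_cases hjj : j = j₀
    · left; rw [← hjj]; exact hj1
    · right; exact ⟨j, hm, hjj, hj1⟩
  · rintro (h' | ⟨j, hm, _, hj1⟩)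
    · exact ⟨j₀, hj, h'⟩
    · exact ⟨j, hm, hj1⟩

lemma mem_exps_coarse (P : Pos u v y) (hj : Mid48 n j₀) (β : Fin (n + 1) →₀ ℕ) :
    β ∈ exps (I48 n k) ↔
      2 ≤ β u ∨ (1 ≤ β u ∧ (1 ≤ β v ∨ 1 ≤ β y ∨ 1 ≤ β j₀ ∨ 1 ≤ muX j₀ β)) ∨
        2 ≤ β v ∨ (1 ≤ β v ∧ (1 ≤ β j₀ ∨ 1 ≤ muX j₀ β)) := by
  rw [mem_exps_iff P, mid_iff hj]

/-- multidegree with prescribed entries at `u`, `v`, `y`, `j₀` and the last variable -/
def mkα (u v y j₀ : Fin (n + 1)) (pu pv py q t : ℤ) : Fin (n + 1) → ℤ := fun x =>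
  if x = u then pu else if x = v then pv else if x = y then py else if x = j₀ then q else
    if x = Fin.last n then t else 0

section mk

variable {pu pv py q t : ℤ}

lemma mkα_u : mkα u v y j₀ pu pv py q t u = pu := if_pos rfl

lemma mkα_v (P : Pos u v y) : mkα u v y j₀ pu pv py q t v = pv := by
  have hPu := P.hu
  have hPv := P.hv
  have h : v ≠ u := ne_of_val_ne (by omega)
  simp [mkα, h]

lemma mkα_y (P : Pos u v y) : mkα u v y j₀ pu pv py q t y = py := by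
  have hPu := P.hu
  have hPv := P.hv
  have hPy := P.hy
  have hPn := P.hn
  have h1 : y ≠ u := ne_of_val_ne (by omega)
  have h2 : y ≠ v := ne_of_val_ne (by omega)
  simp [mkα, h1, h2]

lemma mkα_j (P : Pos u v y) (hj : Mid48 n j₀) : mkα u v y j₀ pu pv py q t j₀ = q := by
  have hPu := P.hu
  have hPv := P.hv
  have hPy := P.hy
  have hj1 := hj.1
  have hj2 := hj.2
  have h1 : j₀ ≠ u := ne_of_val_ne (by omega)
  have h2 : j₀ ≠ v := ne_of_val_ne (by omega)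
  have h3 : j₀ ≠ y := ne_of_val_ne (by omega)
  simp [mkα, h1, h2, h3]

lemma mkα_z (P : Pos u v y) (hj : Mid48 n j₀) :
    mkα u v y j₀ pu pv py q t (Fin.last n) = t := by
  have hPu := P.hu
  have hPv := P.hv
  have hPy := P.hy
  have hPn := P.hn
  have hj2 := hj.2
  have h1 : Fin.last n ≠ u := ne_of_val_ne (by rw [Fin.val_last]; omega)
  have h2 : Fin.last n ≠ v := ne_of_val_ne (by rw [Fin.val_last]; omega)
  have h3 : Fin.last n ≠ y := ne_of_val_ne (by rw [Fin.val_last]; omega)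
  have h4 : Fin.last n ≠ j₀ := ne_of_val_ne (by rw [Fin.val_last]; omega)
  simp [mkα, h1, h2, h3, h4]

lemma mkα_mid (P : Pos u v y) {x : Fin (n + 1)} (hm : Mid48 n x) (hne : x ≠ j₀) :
    mkα u v y j₀ pu pv py q t x = 0 := by
  have hPu := P.hu
  have hPv := P.hv
  have hPy := P.hy
  have hm1 := hm.1
  have hm2 := hm.2
  have h1 : x ≠ u := ne_of_val_ne (by omega)
  have h2 : x ≠ v := ne_of_val_ne (by omega)
  have h3 : x ≠ y := ne_of_val_ne (by omega)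
  have h5 : x ≠ Fin.last n := ne_of_val_ne (by rw [Fin.val_last]; omega)
  simp [mkα, h1, h2, h3, hne, h5]

lemma eq_mkα (P : Pos u v y) {α : Fin (n + 1) → ℤ} (h1 : α u = pu) (h2 : α v = pv)
    (h3 : α y = py) (h4 : α j₀ = q) (h5 : α (Fin.last n) = t)
    (h6 : ∀ x, Mid48 n x → x ≠ j₀ → α x = 0) :
    α = mkα u v y j₀ pu pv py q t := by
  have hPu := P.hu
  have hPv := P.hv
  have hPy := P.hy
  funext x
  simp only [mkα]
  split_ifs with e1 e2 e3 e4 e5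
  · rw [e1, h1]
  · rw [e2, h2]
  · rw [e3, h3]
  · rw [e4, h4]
  · rw [e5, h5]
  · apply h6 x ?_ e4
    have hx := x.isLt
    have n1 : x.val ≠ u.val := fun e => e1 (Fin.ext e)
    have n2 : x.val ≠ v.val := fun e => e2 (Fin.ext e)
    have n3 : x.val ≠ y.val := fun e => e3 (Fin.ext e)
    have n5 : x.val ≠ n := fun e => e5 (Fin.ext (by rw [Fin.val_last]; exact e))
    constructor <;> omega

lemma nn_sh_iff (P : Pos u v y) (hj : Mid48 n j₀) (ht : 0 ≤ t) (β : Fin (n + 1) →₀ ℕ) :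
    NN (sh β (mkα u v y j₀ pu pv py q t)) ↔
      0 ≤ (β u : ℤ) + pu ∧ 0 ≤ (β v : ℤ) + pv ∧ 0 ≤ (β y : ℤ) + py ∧ 0 ≤ (β j₀ : ℤ) + q := by
  constructor
  · intro h
    have h1 := h u
    have h2 := h v
    have h3 := h y
    have h4 := h j₀
    rw [sh_apply, mkα_u] at h1
    rw [sh_apply, mkα_v P] at h2
    rw [sh_apply, mkα_y P] at h3
    rw [sh_apply, mkα_j P hj] at h4
    exact ⟨h1, h2, h3, h4⟩
  · rintro ⟨h1, h2, h3, h4⟩ x
    rw [sh_apply]
    simp only [mkα]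
    split_ifs with e1 e2 e3 e4 e5
    · rw [e1]; exact h1
    · rw [e2]; exact h2
    · rw [e3]; exact h3
    · rw [e4]; exact h4
    · omega
    · omega

lemma muX_toExp_sh (P : Pos u v y) (β : Fin (n + 1) →₀ ℕ) :
    1 ≤ muX j₀ (toExp (sh β (mkα u v y j₀ pu pv py q t))) ↔ 1 ≤ muX j₀ β := by
  rw [muX_pos, muX_pos]
  refine exists_congr fun j => and_congr_right fun hm => and_congr_right fun hne => ?_
  rw [toExp_apply, sh_apply, mkα_mid P hm hne]
  omega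

lemma mem_exps_sh_iff (P : Pos u v y) (hj : Mid48 n j₀) (β : Fin (n + 1) →₀ ℕ)
    (h1 : 0 ≤ (β u : ℤ) + pu) (h2 : 0 ≤ (β v : ℤ) + pv) (h3 : 0 ≤ (β y : ℤ) + py)
    (h4 : 0 ≤ (β j₀ : ℤ) + q) :
    toExp (sh β (mkα u v y j₀ pu pv py q t)) ∈ exps (I48 n k) ↔
      (2 ≤ (β u : ℤ) + pu ∨
        (1 ≤ (β u : ℤ) + pu ∧ (1 ≤ (β v : ℤ) + pv ∨ 1 ≤ (β y : ℤ) + py ∨ 1 ≤ (β j₀ : ℤ) + q ∨
          1 ≤ muX j₀ β)) ∨
        2 ≤ (β v : ℤ) + pv ∨ (1 ≤ (β v : ℤ) + pv ∧ (1 ≤ (β j₀ : ℤ) + q ∨ 1 ≤ muX j₀ β))) := by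
  rw [mem_exps_coarse P hj, muX_toExp_sh P]
  simp only [toExp_apply, sh_apply, mkα_u, mkα_v P, mkα_y P, mkα_j P hj]
  omega

lemma ok_sh_iff (P : Pos u v y) (hj : Mid48 n j₀) (ht : 0 ≤ t) (β : Fin (n + 1) →₀ ℕ) :
    Ok (I48 n k) (sh β (mkα u v y j₀ pu pv py q t)) ↔
      ¬ (0 ≤ (β u : ℤ) + pu ∧ 0 ≤ (β v : ℤ) + pv ∧ 0 ≤ (β y : ℤ) + py ∧ 0 ≤ (β j₀ : ℤ) + q ∧
        (2 ≤ (β u : ℤ) + pu ∨
          (1 ≤ (β u : ℤ) + pu ∧ (1 ≤ (β v : ℤ) + pv ∨ 1 ≤ (β y : ℤ) + py ∨ 1 ≤ (β j₀ : ℤ) + q ∨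
            1 ≤ muX j₀ β)) ∨
          2 ≤ (β v : ℤ) + pv ∨ (1 ≤ (β v : ℤ) + pv ∧ (1 ≤ (β j₀ : ℤ) + q ∨ 1 ≤ muX j₀ β)))) := by
  unfold Ok
  rw [nn_sh_iff P hj ht]
  constructor
  · rintro h ⟨h1, h2, h3, h4, h5⟩
    exact h ⟨⟨h1, h2, h3, h4⟩, (mem_exps_sh_iff P hj β h1 h2 h3 h4).mpr h5⟩
  · rintro h ⟨⟨h1, h2, h3, h4⟩, h5⟩
    exact h ⟨h1, h2, h3, h4, (mem_exps_sh_iff P hj β h1 h2 h3 h4).mp h5⟩

end mk

/-- coarse coordinates of a generator -/
def GC48 (U V Y Q X : ℕ) : Prop :=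
  U + V + Y + Q + X = 2 ∧ 1 ≤ U + V ∧ Y + Q + X ≤ 1 ∧ ¬ (V = 1 ∧ Y = 1)

lemma GC48_cases {U V Y Q X : ℕ} (h : GC48 U V Y Q X) :
    (U = 2 ∧ V = 0 ∧ Y = 0 ∧ Q = 0 ∧ X = 0) ∨ (U = 1 ∧ V = 1 ∧ Y = 0 ∧ Q = 0 ∧ X = 0) ∨
    (U = 1 ∧ V = 0 ∧ Y = 1 ∧ Q = 0 ∧ X = 0) ∨ (U = 1 ∧ V = 0 ∧ Y = 0 ∧ Q = 1 ∧ X = 0) ∨
    (U = 1 ∧ V = 0 ∧ Y = 0 ∧ Q = 0 ∧ X = 1) ∨ (U = 0 ∧ V = 2 ∧ Y = 0 ∧ Q = 0 ∧ X = 0) ∨
    (U = 0 ∧ V = 1 ∧ Y = 0 ∧ Q = 1 ∧ X = 0) ∨ (U = 0 ∧ V = 1 ∧ Y = 0 ∧ Q = 0 ∧ X = 1) := by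
  unfold GC48 at h
  obtain ⟨h1, h2, h3, h4⟩ := h
  have hU : U = 0 ∨ U = 1 ∨ U = 2 := by omega
  have hV : V = 0 ∨ V = 1 ∨ V = 2 := by omega
  have hY : Y = 0 ∨ Y = 1 := by omega
  have hQ : Q = 0 ∨ Q = 1 := by omega
  have hX : X = 0 ∨ X = 1 := by omega
  rcases hU with rfl | rfl | rfl <;> rcases hV with rfl | rfl | rfl <;>
    rcases hY with rfl | rfl <;> rcases hQ with rfl | rfl <;> rcases hX with rfl | rfl <;>
    first | (exfalso; omega) | decide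

lemma gen_coarse48 (P : Pos u v y) (hj : Mid48 n j₀) {g : Fin (n + 1) →₀ ℕ} (hg : g ∈ Gs48 n) :
    GC48 (g u) (g v) (g y) (g j₀) (muX j₀ g) := by
  obtain ⟨x, b, hxb, rfl⟩ := hg
  have hPu := P.hu
  have hPv := P.hv
  have hPy := P.hy
  have hPn := P.hn
  have hj1 := hj.1
  have hj2 := hj.2
  have hmu : (1 ≤ muX j₀ (Finsupp.single x 1 + Finsupp.single b 1)) ↔
      (2 ≤ b.val ∧ b.val + 2 ≤ n ∧ b.val ≠ j₀.val) := by
    rw [muX_pos]
    constructor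
    · rintro ⟨j, ⟨hm1, hm2⟩, hne, h1⟩
      rw [Finsupp.add_apply, Finsupp.single_apply, Finsupp.single_apply] at h1
      have hxj : x ≠ j := ne_of_val_ne (by omega)
      rw [if_neg hxj] at h1
      by_cases hbj : b = j
      · rw [hbj]; exact ⟨hm1, hm2, fun e => hne (Fin.ext e)⟩
      · rw [if_neg hbj] at h1; omega
    · rintro ⟨h1, h2, h3⟩
      refine ⟨b, ⟨h1, h2⟩, ne_of_val_ne h3, ?_⟩
      rw [Finsupp.add_apply, Finsupp.single_eq_same]; omega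
  have hle := muX_le_one j₀ (Finsupp.single x 1 + Finsupp.single b 1)
  unfold GC48
  simp only [Finsupp.add_apply, Finsupp.single_apply, Fin.ext_iff]
  by_cases hc : 2 ≤ b.val ∧ b.val + 2 ≤ n ∧ b.val ≠ j₀.val
  · have h1 := hmu.mpr hc
    obtain ⟨hc1, hc2, hc3⟩ := hc
    split_ifs <;>
      (try simp only [and_false, false_and, not_false_eq_true, and_true, true_and,
        not_true_eq_false, and_self]) <;> omega
  · have h1 : ¬ (1 ≤ muX j₀ (Finsupp.single x 1 + Finsupp.single b 1)) :=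
      fun h => hc (hmu.mp h)
    split_ifs <;>
      (try simp only [and_false, false_and, not_false_eq_true, and_true, true_and,
        not_true_eq_false, and_self]) <;> omega

/-! ### the master count -/

/-- arithmetic form of nonnegativity -/
def NNA48 (pu pv py q : ℤ) (A B C D : ℕ) : Prop :=
  0 ≤ (A : ℤ) + pu ∧ 0 ≤ (B : ℤ) + pv ∧ 0 ≤ (C : ℤ) + py ∧ 0 ≤ (D : ℤ) + q

/-- arithmetic form of `Ok` -/
def OkA48 (pu pv py q : ℤ) (A B C D E : ℕ) : Prop :=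
  ¬ (0 ≤ (A : ℤ) + pu ∧ 0 ≤ (B : ℤ) + pv ∧ 0 ≤ (C : ℤ) + py ∧ 0 ≤ (D : ℤ) + q ∧
    (2 ≤ (A : ℤ) + pu ∨
      (1 ≤ (A : ℤ) + pu ∧ (1 ≤ (B : ℤ) + pv ∨ 1 ≤ (C : ℤ) + py ∨ 1 ≤ (D : ℤ) + q ∨
        1 ≤ E)) ∨
      2 ≤ (B : ℤ) + pv ∨ (1 ≤ (B : ℤ) + pv ∧ (1 ≤ (D : ℤ) + q ∨ 1 ≤ E))))

instance (pu pv py q : ℤ) (A B C D : ℕ) : Decidable (NNA48 pu pv py q A B C D) := by
  unfold NNA48; infer_instance

instance (pu pv py q : ℤ) (A B C D E : ℕ) : Decidable (OkA48 pu pv py q A B C D E) := by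
  unfold OkA48; infer_instance

theorem master48 (P : Pos u v y) (hj : Mid48 n j₀) {pu pv py q t : ℤ} (ht : 0 ≤ t) {d : ℕ}
    (κ : ℤ → ℤ → ℤ → ℤ → Option (Fin d)) (rg : Fin d → (Fin (n + 1) →₀ ℕ))
    (rc : Fin d → ℕ × ℕ × ℕ × ℕ)
    (hrg : ∀ m, rg m ∈ Gs48 n ∧ rg m u = (rc m).1 ∧ rg m v = (rc m).2.1 ∧
      rg m y = (rc m).2.2.1 ∧ rg m j₀ = (rc m).2.2.2 ∧ muX j₀ (rg m) = 0)
    (M1 : ∀ U V Y Q X : ℕ, GC48 U V Y Q X → ∀ m,
      κ (U + pu) (V + pv) (Y + py) (Q + q) = some m →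
        NNA48 pu pv py q U V Y Q ∧ OkA48 pu pv py q U V Y Q X)
    (M2 : ∀ U V Y Q X : ℕ, GC48 U V Y Q X →
      κ (U + pu) (V + pv) (Y + py) (Q + q) = none →
        ¬ (NNA48 pu pv py q U V Y Q ∧ OkA48 pu pv py q U V Y Q X))
    (M3 : ∀ U V Y Q X : ℕ, GC48 U V Y Q X → ∀ A B C D E : ℕ, U ≤ A → V ≤ B → Y ≤ C →
      Q ≤ D → X ≤ E → OkA48 pu pv py q A B C D E →
        κ (U + pu) (V + pv) (Y + py) (Q + q) = κ (A + pu) (B + pv) (C + py) (D + q))
    (M4 : ∀ U V Y Q X : ℕ, GC48 U V Y Q X → ∀ m,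
      κ (U + pu) (V + pv) (Y + py) (Q + q) = some m →
        OkA48 pu pv py q (max U (rc m).1) (max V (rc m).2.1) (max Y (rc m).2.2.1)
          (max Q (rc m).2.2.2) X)
    (M5 : ∀ m, κ ((rc m).1 + pu) ((rc m).2.1 + pv) ((rc m).2.2.1 + py) ((rc m).2.2.2 + q) =
      some m) :
    Module.Finite k ↥(tPiece (I48 n k) (mkα u v y j₀ pu pv py q t)) ∧
      Module.finrank k ↥(tPiece (I48 n k) (mkα u v y j₀ pu pv py q t)) = d := by
  have hn := P.hn
  have ev : ∀ β : Fin (n + 1) →₀ ℕ,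
      κ (sh β (mkα u v y j₀ pu pv py q t) u) (sh β (mkα u v y j₀ pu pv py q t) v)
        (sh β (mkα u v y j₀ pu pv py q t) y) (sh β (mkα u v y j₀ pu pv py q t) j₀) =
        κ (β u + pu) (β v + pv) (β y + py) (β j₀ + q) := by
    intro β
    rw [sh_apply, sh_apply, sh_apply, sh_apply, mkα_u, mkα_v P, mkα_y P, mkα_j P hj]
  refine finrank_of_classes (Gs48 n) (hG48 hn) (hGs48 hn) (isMonomial_I48 hn)
    (fun γ => κ (γ u) (γ v) (γ y) (γ j₀)) rg ?_ ?_ ?_ ?_ ?_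
  · intro g hg m hm
    have hm' : κ (g u + pu) (g v + pv) (g y + py) (g j₀ + q) = some m := by
      rw [← ev g]; exact hm
    obtain ⟨h1, h2⟩ := M1 _ _ _ _ _ (gen_coarse48 P hj hg) m hm'
    exact ⟨(nn_sh_iff P hj ht g).mpr h1, (ok_sh_iff P hj ht g).mpr h2⟩
  · intro g hg β hle hok
    show κ (sh g (mkα u v y j₀ pu pv py q t) u) (sh g (mkα u v y j₀ pu pv py q t) v)
        (sh g (mkα u v y j₀ pu pv py q t) y) (sh g (mkα u v y j₀ pu pv py q t) j₀) =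
      κ (sh β (mkα u v y j₀ pu pv py q t) u) (sh β (mkα u v y j₀ pu pv py q t) v)
        (sh β (mkα u v y j₀ pu pv py q t) y) (sh β (mkα u v y j₀ pu pv py q t) j₀)
    rw [ev g, ev β]
    exact M3 _ _ _ _ _ (gen_coarse48 P hj hg) (β u) (β v) (β y) (β j₀) (muX j₀ β)
      (Finsupp.le_def.mp hle u) (Finsupp.le_def.mp hle v) (Finsupp.le_def.mp hle y)
      (Finsupp.le_def.mp hle j₀) (muX_mono hle) ((ok_sh_iff P hj ht β).mp hok)
  · intro F hF g hg hk
    apply rf_bad hF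
    have hk' : κ (g u + pu) (g v + pv) (g y + py) (g j₀ + q) = none := by
      rw [← ev g]; exact hk
    rintro ⟨h1, h2⟩
    exact M2 _ _ _ _ _ (gen_coarse48 P hj hg) hk'
      ⟨(nn_sh_iff P hj ht g).mp h1, (ok_sh_iff P hj ht g).mp h2⟩
  · intro F hF g hg m hk
    have hk' : κ (g u + pu) (g v + pv) (g y + py) (g j₀ + q) = some m := by
      rw [← ev g]; exact hk
    obtain ⟨hr1, hr2, hr3, hr4, hr5, hr6⟩ := hrg m
    have hok : Ok (I48 n k) (sh (g ⊔ rg m) (mkα u v y j₀ pu pv py q t)) := by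
      rw [ok_sh_iff P hj ht]
      have e1 : (g ⊔ rg m) u = max (g u) (rc m).1 := by rw [Finsupp.sup_apply, hr2]
      have e2 : (g ⊔ rg m) v = max (g v) (rc m).2.1 := by rw [Finsupp.sup_apply, hr3]
      have e3 : (g ⊔ rg m) y = max (g y) (rc m).2.2.1 := by rw [Finsupp.sup_apply, hr4]
      have e4 : (g ⊔ rg m) j₀ = max (g j₀) (rc m).2.2.2 := by rw [Finsupp.sup_apply, hr5]
      have e5 : 1 ≤ muX j₀ (g ⊔ rg m) ↔ 1 ≤ muX j₀ g := by
        rw [muX_sup, hr6]; omega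
      rw [e1, e2, e3, e4, e5]
      exact M4 _ _ _ _ _ (gen_coarse48 P hj hg) m hk'
    exact rf_pair hF (hGs48 hn g hg) (hGs48 hn _ hr1) le_sup_left le_sup_right hok
  · intro m
    obtain ⟨hr1, hr2, hr3, hr4, hr5, hr6⟩ := hrg m
    refine ⟨hr1, ?_⟩
    show κ (sh (rg m) (mkα u v y j₀ pu pv py q t) u) (sh (rg m) (mkα u v y j₀ pu pv py q t) v)
        (sh (rg m) (mkα u v y j₀ pu pv py q t) y) (sh (rg m) (mkα u v y j₀ pu pv py q t) j₀) =
      some m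
    rw [ev (rg m), hr2, hr3, hr4, hr5]
    exact M5 m

/-! ### representatives -/

lemma rep_data48 (P : Pos u v y) (hj : Mid48 n j₀) (x b : Fin (n + 1))
    (hxb : (x.val = 0 ∧ b.val + 1 ≤ n) ∨ (x.val = 1 ∧ 1 ≤ b.val ∧ b.val + 2 ≤ n))
    (c1 c2 c3 c4 : ℕ)
    (h1 : (Finsupp.single x 1 + Finsupp.single b 1 : Fin (n + 1) →₀ ℕ) u = c1)
    (h2 : (Finsupp.single x 1 + Finsupp.single b 1 : Fin (n + 1) →₀ ℕ) v = c2)
    (h3 : (Finsupp.single x 1 + Finsupp.single b 1 : Fin (n + 1) →₀ ℕ) y = c3)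
    (h4 : (Finsupp.single x 1 + Finsupp.single b 1 : Fin (n + 1) →₀ ℕ) j₀ = c4)
    (hsum : c1 + c2 + c3 + c4 = 2) :
    (Finsupp.single x 1 + Finsupp.single b 1 : Fin (n + 1) →₀ ℕ) ∈ Gs48 n ∧
      (Finsupp.single x 1 + Finsupp.single b 1 : Fin (n + 1) →₀ ℕ) u = c1 ∧
      (Finsupp.single x 1 + Finsupp.single b 1 : Fin (n + 1) →₀ ℕ) v = c2 ∧
      (Finsupp.single x 1 + Finsupp.single b 1 : Fin (n + 1) →₀ ℕ) y = c3 ∧
      (Finsupp.single x 1 + Finsupp.single b 1 : Fin (n + 1) →₀ ℕ) j₀ = c4 ∧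
      muX j₀ (Finsupp.single x 1 + Finsupp.single b 1 : Fin (n + 1) →₀ ℕ) = 0 := by
  have hg : (Finsupp.single x 1 + Finsupp.single b 1 : Fin (n + 1) →₀ ℕ) ∈ Gs48 n :=
    ⟨x, b, hxb, rfl⟩
  have := gen_coarse48 P hj hg
  unfold GC48 at this
  rw [h1, h2, h3, h4] at this
  exact ⟨hg, h1, h2, h3, h4, by omega⟩

/-- evaluation of a sum of two unit vectors -/
macro "coord" : tactic =>
  `(tactic| (simp only [Finsupp.add_apply, Finsupp.single_apply, Fin.ext_iff]; split_ifs <;> omega))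

-- the eight generator types
set_option hygiene false in
macro "gc8" h:ident : tactic =>
  `(tactic| rcases GC48_cases $h with ⟨rfl, rfl, rfl, rfl, rfl⟩ | ⟨rfl, rfl, rfl, rfl, rfl⟩ | ⟨rfl, rfl, rfl, rfl, rfl⟩ | ⟨rfl, rfl, rfl, rfl, rfl⟩ | ⟨rfl, rfl, rfl, rfl, rfl⟩ | ⟨rfl, rfl, rfl, rfl, rfl⟩ | ⟨rfl, rfl, rfl, rfl, rfl⟩ | ⟨rfl, rfl, rfl, rfl, rfl⟩)

/-! ### the thirteen families -/

def κF1 (x v' w r : ℤ) : Option (Fin 2) :=
  if x < 0 then none else if 1 ≤ x then some 0 else some 1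

def κF2 (x v' w r : ℤ) : Option (Fin 1) :=
  if x = 0 then some 0 else none

def κF3 (x v' w r : ℤ) : Option (Fin 1) :=
  if x = 0 ∧ v' = 0 then some 0 else none

def κF4 (x v' w r : ℤ) : Option (Fin 1) :=
  if 0 ≤ x ∧ 0 ≤ w then some 0 else none

def κF5 (x v' w r : ℤ) : Option (Fin 1) :=
  if x = 0 ∧ v' = 1 ∧ 1 ≤ w then some 0 else none

def κF6 (x v' w r : ℤ) : Option (Fin 3) :=
  if v' < 0 then none else if 1 ≤ v' then some 0 else if 1 ≤ x then some 2 else some 1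

def κF7 (x v' w r : ℤ) : Option (Fin 2) :=
  if v' < 0 then none else if 1 ≤ x then none else if 1 ≤ v' then some 0 else some 1

def κF8 (x v' w r : ℤ) : Option (Fin 1) :=
  if x = 0 ∧ v' = 0 then some 0 else none

def κF9 (x v' w r : ℤ) : Option (Fin 2) :=
  if r < 0 then none else if 1 ≤ x then some 0 else some 1

def κF10 (x v' w r : ℤ) : Option (Fin 1) :=
  if 0 ≤ r ∧ x = 0 then some 0 else none

def κF11 (x v' w r : ℤ) : Option (Fin 1) :=
  if 0 ≤ w then some 0 else none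

def κF12 (x v' w r : ℤ) : Option (Fin 1) :=
  if 0 ≤ v' then some 0 else none

def κF13 (x v' w r : ℤ) : Option (Fin 1) :=
  if 0 ≤ v' ∧ 0 ≤ r then some 0 else none

theorem famF1 (P : Pos u v y) (hj : Mid48 n j₀) :
    Module.Finite k ↥(tPiece (I48 n k) (mkα u v y j₀ (-1) 0 0 0 1)) ∧
      Module.finrank k ↥(tPiece (I48 n k) (mkα u v y j₀ (-1) 0 0 0 1)) = 2 := by
  have hPu := P.hu
  have hPv := P.hv
  have hPy := P.hy
  have hPn := P.hn
  have hj1 := hj.1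
  have hj2 := hj.2
  refine master48 P hj (by norm_num) κF1
    ![Finsupp.single u 1 + Finsupp.single u 1, Finsupp.single u 1 + Finsupp.single y 1]
    ![(2, 0, 0, 0), (1, 0, 1, 0)] ?_ ?_ ?_ ?_ ?_ ?_
  · intro m
    fin_cases m
    · exact rep_data48 P hj u u (by omega) 2 0 0 0 (by coord) (by coord) (by coord) (by coord) rfl
    · exact rep_data48 P hj u y (by omega) 1 0 1 0 (by coord) (by coord) (by coord) (by coord) rfl
  · intro U V Y Q X h
    gc8 h <;> decide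
  · intro U V Y Q X h
    gc8 h <;> decide
  · intro U V Y Q X h
    gc8 h <;>
    · intro A B C D E h1 h2 h3 h4 h5 hok
      unfold OkA48 at hok
      unfold κF1
      split_ifs <;> first | rfl | (exfalso; omega)
  · intro U V Y Q X h
    gc8 h <;> decide
  · decide

theorem famF2 (P : Pos u v y) (hj : Mid48 n j₀) :
    Module.Finite k ↥(tPiece (I48 n k) (mkα u v y j₀ (-1) 0 1 0 0)) ∧
      Module.finrank k ↥(tPiece (I48 n k) (mkα u v y j₀ (-1) 0 1 0 0)) = 1 := by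
  have hPu := P.hu
  have hPv := P.hv
  have hPy := P.hy
  have hPn := P.hn
  have hj1 := hj.1
  have hj2 := hj.2
  refine master48 P hj (le_refl 0) κF2
    (fun _ => Finsupp.single u 1 + Finsupp.single y 1)
    (fun _ => (1, 0, 1, 0)) ?_ ?_ ?_ ?_ ?_ ?_
  · intro m
    exact rep_data48 P hj u y (by omega) 1 0 1 0 (by coord) (by coord) (by coord) (by coord) rfl
  · intro U V Y Q X h
    gc8 h <;> decide
  · intro U V Y Q X h
    gc8 h <;> decide
  · intro U V Y Q X h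
    gc8 h <;>
    · intro A B C D E h1 h2 h3 h4 h5 hok
      unfold OkA48 at hok
      unfold κF2
      split_ifs <;> first | rfl | (exfalso; omega)
  · intro U V Y Q X h
    gc8 h <;> decide
  · decide

theorem famF3 (P : Pos u v y) (hj : Mid48 n j₀) :
    Module.Finite k ↥(tPiece (I48 n k) (mkα u v y j₀ (-1) 0 0 1 0)) ∧
      Module.finrank k ↥(tPiece (I48 n k) (mkα u v y j₀ (-1) 0 0 1 0)) = 1 := by
  have hPu := P.hu
  have hPv := P.hv
  have hPy := P.hy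
  have hPn := P.hn
  have hj1 := hj.1
  have hj2 := hj.2
  refine master48 P hj (le_refl 0) κF3
    (fun _ => Finsupp.single u 1 + Finsupp.single j₀ 1)
    (fun _ => (1, 0, 0, 1)) ?_ ?_ ?_ ?_ ?_ ?_
  · intro m
    exact rep_data48 P hj u j₀ (by omega) 1 0 0 1 (by coord) (by coord) (by coord) (by coord) rfl
  · intro U V Y Q X h
    gc8 h <;> decide
  · intro U V Y Q X h
    gc8 h <;> decide
  · intro U V Y Q X h
    gc8 h <;>
    · intro A B C D E h1 h2 h3 h4 h5 hok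
      unfold OkA48 at hok
      unfold κF3
      split_ifs <;> first | rfl | (exfalso; omega)
  · intro U V Y Q X h
    gc8 h <;> decide
  · decide

theorem famF4 (P : Pos u v y) (hj : Mid48 n j₀) :
    Module.Finite k ↥(tPiece (I48 n k) (mkα u v y j₀ (-1) 1 (-1) 0 1)) ∧
      Module.finrank k ↥(tPiece (I48 n k) (mkα u v y j₀ (-1) 1 (-1) 0 1)) = 1 := by
  have hPu := P.hu
  have hPv := P.hv
  have hPy := P.hy
  have hPn := P.hn
  have hj1 := hj.1
  have hj2 := hj.2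
  refine master48 P hj (by norm_num) κF4
    (fun _ => Finsupp.single u 1 + Finsupp.single y 1)
    (fun _ => (1, 0, 1, 0)) ?_ ?_ ?_ ?_ ?_ ?_
  · intro m
    exact rep_data48 P hj u y (by omega) 1 0 1 0 (by coord) (by coord) (by coord) (by coord) rfl
  · intro U V Y Q X h
    gc8 h <;> decide
  · intro U V Y Q X h
    gc8 h <;> decide
  · intro U V Y Q X h
    gc8 h <;>
    · intro A B C D E h1 h2 h3 h4 h5 hok
      unfold OkA48 at hok
      unfold κF4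
      split_ifs <;> first | rfl | (exfalso; omega)
  · intro U V Y Q X h
    gc8 h <;> decide
  · decide

theorem famF5 (P : Pos u v y) (hj : Mid48 n j₀) :
    Module.Finite k ↥(tPiece (I48 n k) (mkα u v y j₀ (-1) 1 0 0 0)) ∧
      Module.finrank k ↥(tPiece (I48 n k) (mkα u v y j₀ (-1) 1 0 0 0)) = 1 := by
  have hPu := P.hu
  have hPv := P.hv
  have hPy := P.hy
  have hPn := P.hn
  have hj1 := hj.1
  have hj2 := hj.2
  refine master48 P hj (le_refl 0) κF5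
    (fun _ => Finsupp.single u 1 + Finsupp.single y 1)
    (fun _ => (1, 0, 1, 0)) ?_ ?_ ?_ ?_ ?_ ?_
  · intro m
    exact rep_data48 P hj u y (by omega) 1 0 1 0 (by coord) (by coord) (by coord) (by coord) rfl
  · intro U V Y Q X h
    gc8 h <;> decide
  · intro U V Y Q X h
    gc8 h <;> decide
  · intro U V Y Q X h
    gc8 h <;>
    · intro A B C D E h1 h2 h3 h4 h5 hok
      unfold OkA48 at hok
      unfold κF5
      split_ifs <;> first | rfl | (exfalso; omega)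
  · intro U V Y Q X h
    gc8 h <;> decide
  · decide

theorem famF6 (P : Pos u v y) (hj : Mid48 n j₀) :
    Module.Finite k ↥(tPiece (I48 n k) (mkα u v y j₀ 0 (-1) 0 0 1)) ∧
      Module.finrank k ↥(tPiece (I48 n k) (mkα u v y j₀ 0 (-1) 0 0 1)) = 3 := by
  have hPu := P.hu
  have hPv := P.hv
  have hPy := P.hy
  have hPn := P.hn
  have hj1 := hj.1
  have hj2 := hj.2
  refine master48 P hj (by norm_num) κF6
    ![Finsupp.single v 1 + Finsupp.single v 1, Finsupp.single v 1 + Finsupp.single j₀ 1, Finsupp.single u 1 + Finsupp.single v 1]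
    ![(0, 2, 0, 0), (0, 1, 0, 1), (1, 1, 0, 0)] ?_ ?_ ?_ ?_ ?_ ?_
  · intro m
    fin_cases m
    · exact rep_data48 P hj v v (by omega) 0 2 0 0 (by coord) (by coord) (by coord) (by coord) rfl
    · exact rep_data48 P hj v j₀ (by omega) 0 1 0 1 (by coord) (by coord) (by coord) (by coord) rfl
    · exact rep_data48 P hj u v (by omega) 1 1 0 0 (by coord) (by coord) (by coord) (by coord) rfl
  · intro U V Y Q X h
    gc8 h <;> decide
  · intro U V Y Q X h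
    gc8 h <;> decide
  · intro U V Y Q X h
    gc8 h <;>
    · intro A B C D E h1 h2 h3 h4 h5 hok
      unfold OkA48 at hok
      unfold κF6
      split_ifs <;> first | rfl | (exfalso; omega)
  · intro U V Y Q X h
    gc8 h <;> decide
  · decide

theorem famF7 (P : Pos u v y) (hj : Mid48 n j₀) :
    Module.Finite k ↥(tPiece (I48 n k) (mkα u v y j₀ 0 (-1) 1 0 0)) ∧
      Module.finrank k ↥(tPiece (I48 n k) (mkα u v y j₀ 0 (-1) 1 0 0)) = 2 := by
  have hPu := P.hu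
  have hPv := P.hv
  have hPy := P.hy
  have hPn := P.hn
  have hj1 := hj.1
  have hj2 := hj.2
  refine master48 P hj (le_refl 0) κF7
    ![Finsupp.single v 1 + Finsupp.single v 1, Finsupp.single v 1 + Finsupp.single j₀ 1]
    ![(0, 2, 0, 0), (0, 1, 0, 1)] ?_ ?_ ?_ ?_ ?_ ?_
  · intro m
    fin_cases m
    · exact rep_data48 P hj v v (by omega) 0 2 0 0 (by coord) (by coord) (by coord) (by coord) rfl
    · exact rep_data48 P hj v j₀ (by omega) 0 1 0 1 (by coord) (by coord) (by coord) (by coord) rfl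
  · intro U V Y Q X h
    gc8 h <;> decide
  · intro U V Y Q X h
    gc8 h <;> decide
  · intro U V Y Q X h
    gc8 h <;>
    · intro A B C D E h1 h2 h3 h4 h5 hok
      unfold OkA48 at hok
      unfold κF7
      split_ifs <;> first | rfl | (exfalso; omega)
  · intro U V Y Q X h
    gc8 h <;> decide
  · decide

theorem famF8 (P : Pos u v y) (hj : Mid48 n j₀) :
    Module.Finite k ↥(tPiece (I48 n k) (mkα u v y j₀ 0 (-1) 0 1 0)) ∧
      Module.finrank k ↥(tPiece (I48 n k) (mkα u v y j₀ 0 (-1) 0 1 0)) = 1 := by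
  have hPu := P.hu
  have hPv := P.hv
  have hPy := P.hy
  have hPn := P.hn
  have hj1 := hj.1
  have hj2 := hj.2
  refine master48 P hj (le_refl 0) κF8
    (fun _ => Finsupp.single v 1 + Finsupp.single j₀ 1)
    (fun _ => (0, 1, 0, 1)) ?_ ?_ ?_ ?_ ?_ ?_
  · intro m
    exact rep_data48 P hj v j₀ (by omega) 0 1 0 1 (by coord) (by coord) (by coord) (by coord) rfl
  · intro U V Y Q X h
    gc8 h <;> decide
  · intro U V Y Q X h
    gc8 h <;> decide
  · intro U V Y Q X h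
    gc8 h <;>
    · intro A B C D E h1 h2 h3 h4 h5 hok
      unfold OkA48 at hok
      unfold κF8
      split_ifs <;> first | rfl | (exfalso; omega)
  · intro U V Y Q X h
    gc8 h <;> decide
  · decide

theorem famF9 (P : Pos u v y) (hj : Mid48 n j₀) :
    Module.Finite k ↥(tPiece (I48 n k) (mkα u v y j₀ 0 0 0 (-1) 1)) ∧
      Module.finrank k ↥(tPiece (I48 n k) (mkα u v y j₀ 0 0 0 (-1) 1)) = 2 := by
  have hPu := P.hu
  have hPv := P.hv
  have hPy := P.hy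
  have hPn := P.hn
  have hj1 := hj.1
  have hj2 := hj.2
  refine master48 P hj (by norm_num) κF9
    ![Finsupp.single u 1 + Finsupp.single j₀ 1, Finsupp.single v 1 + Finsupp.single j₀ 1]
    ![(1, 0, 0, 1), (0, 1, 0, 1)] ?_ ?_ ?_ ?_ ?_ ?_
  · intro m
    fin_cases m
    · exact rep_data48 P hj u j₀ (by omega) 1 0 0 1 (by coord) (by coord) (by coord) (by coord) rfl
    · exact rep_data48 P hj v j₀ (by omega) 0 1 0 1 (by coord) (by coord) (by coord) (by coord) rfl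
  · intro U V Y Q X h
    gc8 h <;> decide
  · intro U V Y Q X h
    gc8 h <;> decide
  · intro U V Y Q X h
    gc8 h <;>
    · intro A B C D E h1 h2 h3 h4 h5 hok
      unfold OkA48 at hok
      unfold κF9
      split_ifs <;> first | rfl | (exfalso; omega)
  · intro U V Y Q X h
    gc8 h <;> decide
  · decide

theorem famF10 (P : Pos u v y) (hj : Mid48 n j₀) :
    Module.Finite k ↥(tPiece (I48 n k) (mkα u v y j₀ 0 0 1 (-1) 0)) ∧
      Module.finrank k ↥(tPiece (I48 n k) (mkα u v y j₀ 0 0 1 (-1) 0)) = 1 := by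
  have hPu := P.hu
  have hPv := P.hv
  have hPy := P.hy
  have hPn := P.hn
  have hj1 := hj.1
  have hj2 := hj.2
  refine master48 P hj (le_refl 0) κF10
    (fun _ => Finsupp.single v 1 + Finsupp.single j₀ 1)
    (fun _ => (0, 1, 0, 1)) ?_ ?_ ?_ ?_ ?_ ?_
  · intro m
    exact rep_data48 P hj v j₀ (by omega) 0 1 0 1 (by coord) (by coord) (by coord) (by coord) rfl
  · intro U V Y Q X h
    gc8 h <;> decide
  · intro U V Y Q X h
    gc8 h <;> decide
  · intro U V Y Q X h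
    gc8 h <;>
    · intro A B C D E h1 h2 h3 h4 h5 hok
      unfold OkA48 at hok
      unfold κF10
      split_ifs <;> first | rfl | (exfalso; omega)
  · intro U V Y Q X h
    gc8 h <;> decide
  · decide

theorem famF11 (P : Pos u v y) (hj : Mid48 n j₀) :
    Module.Finite k ↥(tPiece (I48 n k) (mkα u v y j₀ 0 0 (-1) 0 1)) ∧
      Module.finrank k ↥(tPiece (I48 n k) (mkα u v y j₀ 0 0 (-1) 0 1)) = 1 := by
  have hPu := P.hu
  have hPv := P.hv
  have hPy := P.hy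
  have hPn := P.hn
  have hj1 := hj.1
  have hj2 := hj.2
  refine master48 P hj (by norm_num) κF11
    (fun _ => Finsupp.single u 1 + Finsupp.single y 1)
    (fun _ => (1, 0, 1, 0)) ?_ ?_ ?_ ?_ ?_ ?_
  · intro m
    exact rep_data48 P hj u y (by omega) 1 0 1 0 (by coord) (by coord) (by coord) (by coord) rfl
  · intro U V Y Q X h
    gc8 h <;> decide
  · intro U V Y Q X h
    gc8 h <;> decide
  · intro U V Y Q X h
    gc8 h <;>
    · intro A B C D E h1 h2 h3 h4 h5 hok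
      unfold OkA48 at hok
      unfold κF11
      split_ifs <;> first | rfl | (exfalso; omega)
  · intro U V Y Q X h
    gc8 h <;> decide
  · decide

theorem famF12 (P : Pos u v y) (hj : Mid48 n j₀) :
    Module.Finite k ↥(tPiece (I48 n k) (mkα u v y j₀ 1 (-2) 0 0 1)) ∧
      Module.finrank k ↥(tPiece (I48 n k) (mkα u v y j₀ 1 (-2) 0 0 1)) = 1 := by
  have hPu := P.hu
  have hPv := P.hv
  have hPy := P.hy
  have hPn := P.hn
  have hj1 := hj.1
  have hj2 := hj.2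
  refine master48 P hj (by norm_num) κF12
    (fun _ => Finsupp.single v 1 + Finsupp.single v 1)
    (fun _ => (0, 2, 0, 0)) ?_ ?_ ?_ ?_ ?_ ?_
  · intro m
    exact rep_data48 P hj v v (by omega) 0 2 0 0 (by coord) (by coord) (by coord) (by coord) rfl
  · intro U V Y Q X h
    gc8 h <;> decide
  · intro U V Y Q X h
    gc8 h <;> decide
  · intro U V Y Q X h
    gc8 h <;>
    · intro A B C D E h1 h2 h3 h4 h5 hok
      unfold OkA48 at hok
      unfold κF12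
      split_ifs <;> first | rfl | (exfalso; omega)
  · intro U V Y Q X h
    gc8 h <;> decide
  · decide

theorem famF13 (P : Pos u v y) (hj : Mid48 n j₀) :
    Module.Finite k ↥(tPiece (I48 n k) (mkα u v y j₀ 1 (-1) 0 (-1) 1)) ∧
      Module.finrank k ↥(tPiece (I48 n k) (mkα u v y j₀ 1 (-1) 0 (-1) 1)) = 1 := by
  have hPu := P.hu
  have hPv := P.hv
  have hPy := P.hy
  have hPn := P.hn
  have hj1 := hj.1
  have hj2 := hj.2
  refine master48 P hj (by norm_num) κF13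
    (fun _ => Finsupp.single v 1 + Finsupp.single j₀ 1)
    (fun _ => (0, 1, 0, 1)) ?_ ?_ ?_ ?_ ?_ ?_
  · intro m
    exact rep_data48 P hj v j₀ (by omega) 0 1 0 1 (by coord) (by coord) (by coord) (by coord) rfl
  · intro U V Y Q X h
    gc8 h <;> decide
  · intro U V Y Q X h
    gc8 h <;> decide
  · intro U V Y Q X h
    gc8 h <;>
    · intro A B C D E h1 h2 h3 h4 h5 hok
      unfold OkA48 at hok
      unfold κF13
      split_ifs <;> first | rfl | (exfalso; omega)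
  · intro U V Y Q X h
    gc8 h <;> decide
  · decide

end Groth.Agent.H43.HilbS48
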