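import Groth.Agent.H43.HilbS4

set_option linter.unusedVariables false
set_option linter.unusedSectionVars false
set_option linter.style.longLine false
set_option linter.unusedSimpArgs false
set_option linter.unusedTactic false
set_option linter.unreachableTactic false

/-! The degree-zero part of `T(I)` for `I = x_0 (x_0, …, x_{n-1}) + x_1 (x_1, …, x_{n-2})`:
classification of the nonzero multidegrees and the dimension count `6 n - 6`. -/

noncomputable section

namespace Groth.Agent.H43.HilbS48

open W4c1hilbpn MvPolynomial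
open Groth.Agent.H43.HilbT Groth.Agent.H43.HilbS

variable {n : ℕ} {k : Type*} [Field k]

/-- a fixed middle variable -/
def w0 (hn : 4 ≤ n) : Fin (n + 1) := ⟨2, by omega⟩

lemma mid_w0 (hn : 4 ≤ n) : Mid48 n (w0 hn) := ⟨le_refl 2, by show 2 + 2 ≤ n; omega⟩

/-- the variable `x_{n-1}` -/
def y0 (hn : 4 ≤ n) : Fin (n + 1) := ⟨n - 1, by omega⟩

lemma pos0 (hn : 4 ≤ n) : Pos (0 : Fin (n + 1)) 1 (y0 hn) :=
  ⟨by simp, val_one hn, by show n - 1 + 1 = n; omega, hn⟩

instance (n : ℕ) : DecidablePred (Mid48 n) := fun j => by unfold Mid48; infer_instance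

/-- the middle variables -/
def midF48 (n : ℕ) : Finset (Fin (n + 1)) := Finset.univ.filter (fun j => Mid48 n j)

lemma mem_midF48 {j : Fin (n + 1)} : j ∈ midF48 n ↔ Mid48 n j := by simp [midF48]

lemma card_midF48 (hn : 4 ≤ n) : (midF48 n).card = n - 3 := by
  have : (midF48 n).map Fin.valEmbedding = Finset.Ico 2 (n - 1) := by
    ext m
    simp only [Finset.mem_map, mem_midF48, Fin.valEmbedding_apply, Finset.mem_Ico]
    constructor
    · rintro ⟨j, ⟨h1, h2⟩, rfl⟩
      exact ⟨h1, by omega⟩
    · rintro ⟨h1, h2⟩
      exact ⟨⟨m, by omega⟩, ⟨h1, by show m + 2 ≤ n; omega⟩, rfl⟩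
  have h1 := Nat.card_Ico 2 (n - 1)
  have h2 : (midF48 n).card = (Finset.Ico 2 (n - 1)).card := by
    rw [← this, Finset.card_map]
  omega

variable {u v y : Fin (n + 1)}

lemma sum_split (P : Pos u v y) (γ : Fin (n + 1) → ℤ) :
    ∑ x, γ x = γ u + γ v + γ y + γ (Fin.last n) + ∑ j ∈ midF48 n, γ j := by
  have hPu := P.hu
  have hPv := P.hv
  have hPy := P.hy
  have hPn := P.hn
  have hu : (Finset.univ : Finset (Fin (n + 1))) =
      insert u (insert v (insert y (insert (Fin.last n) (midF48 n)))) := by
    ext x
    simp only [Finset.mem_univ, Finset.mem_insert, mem_midF48, true_iff]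
    have hx := x.isLt
    by_cases h1 : x.val = u.val
    · exact Or.inl (Fin.ext h1)
    · by_cases h2 : x.val = v.val
      · exact Or.inr (Or.inl (Fin.ext h2))
      · by_cases h3 : x.val = y.val
        · exact Or.inr (Or.inr (Or.inl (Fin.ext h3)))
        · by_cases h4 : x.val = n
          · exact Or.inr (Or.inr (Or.inr (Or.inl (Fin.ext (by rw [Fin.val_last]; exact h4)))))
          · exact Or.inr (Or.inr (Or.inr (Or.inr ⟨by omega, by omega⟩)))
  have n1 : u ∉ insert v (insert y (insert (Fin.last n) (midF48 n))) := by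
    simp only [Finset.mem_insert, mem_midF48, not_or]
    refine ⟨ne_of_val_ne (by omega), ne_of_val_ne (by omega),
      ne_of_val_ne (by rw [Fin.val_last]; omega), fun h => ?_⟩
    have := h.1
    omega
  have n2 : v ∉ insert y (insert (Fin.last n) (midF48 n)) := by
    simp only [Finset.mem_insert, mem_midF48, not_or]
    refine ⟨ne_of_val_ne (by omega), ne_of_val_ne (by rw [Fin.val_last]; omega), fun h => ?_⟩
    have := h.1
    omega
  have n3 : y ∉ insert (Fin.last n) (midF48 n) := by
    simp only [Finset.mem_insert, mem_midF48, not_or]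
    refine ⟨ne_of_val_ne (by rw [Fin.val_last]; omega), fun h => ?_⟩
    have := h.2
    omega
  have n4 : Fin.last n ∉ midF48 n := by
    rw [mem_midF48]
    intro h
    have := h.2
    rw [Fin.val_last] at this
    omega
  rw [hu, Finset.sum_insert n1, Finset.sum_insert n2, Finset.sum_insert n3,
    Finset.sum_insert n4]
  ring

lemma sum_mkα (P : Pos u v y) {j₀ : Fin (n + 1)} (hj : Mid48 n j₀) (pu pv py q t : ℤ) :
    ∑ x, mkα u v y j₀ pu pv py q t x = pu + pv + py + q + t := by
  rw [sum_split P, mkα_u, mkα_v P, mkα_y P, mkα_z P hj]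
  have : ∑ j ∈ midF48 n, mkα u v y j₀ pu pv py q t j = q := by
    rw [Finset.sum_eq_single j₀]
    · exact mkα_j P hj
    · intro x hx hne
      exact mkα_mid P (mem_midF48.mp hx) hne
    · intro h
      exact absurd (mem_midF48.mpr hj) h
  rw [this]
  ring

/-! ### the list of multidegrees -/

/-- entries at `x_0`, `x_1`, `x_{n-1}`, a middle variable and `x_n` -/
abbrev T5 := ℤ × ℤ × ℤ × ℤ × ℤ

/-- the multidegree with the given entries -/
def mk5 (u v y : Fin (n + 1)) (p : T5) (j : Fin (n + 1)) : Fin (n + 1) → ℤ :=
  mkα u v y j p.1 p.2.1 p.2.2.1 p.2.2.2.1 p.2.2.2.2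

/-- the multidegrees not involving a middle variable -/
def TS : Finset T5 :=
  {(-1, 0, 0, 0, 1), (-1, 0, 1, 0, 0), (-1, 1, -1, 0, 1), (-1, 1, 0, 0, 0), (0, -1, 0, 0, 1),
    (0, -1, 1, 0, 0), (0, 0, -1, 0, 1), (1, -2, 0, 0, 1)}

/-- the multidegrees involving a middle variable -/
def TW : Finset T5 :=
  {(-1, 0, 0, 1, 0), (0, -1, 0, 1, 0), (0, 0, 0, -1, 1), (0, 0, 1, -1, 0), (1, -1, 0, -1, 1)}

/-- all multidegrees of total degree zero with a nonzero graded piece -/
def L48 (hn : 4 ≤ n) (u v y : Fin (n + 1)) : Finset (Fin (n + 1) → ℤ) :=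
  TS.image (fun p => mk5 u v y p (w0 hn)) ∪
    (TW ×ˢ midF48 n).image (fun pj => mk5 u v y pj.1 pj.2)

lemma mem_S (hn : 4 ≤ n) {p : T5} (hp : p ∈ TS) : mk5 u v y p (w0 hn) ∈ L48 hn u v y :=
  Finset.mem_union_left _ (Finset.mem_image_of_mem _ hp)

lemma mem_W (hn : 4 ≤ n) {p : T5} (hp : p ∈ TW) {j : Fin (n + 1)} (hj : Mid48 n j) :
    mk5 u v y p j ∈ L48 hn u v y :=
  Finset.mem_union_right _ (Finset.mem_image.mpr
    ⟨(p, j), Finset.mem_product.mpr ⟨hp, mem_midF48.mpr hj⟩, rfl⟩)

lemma mem_L48 (hn : 4 ≤ n) {α : Fin (n + 1) → ℤ} (h : α ∈ L48 hn u v y) :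
    (∃ p ∈ TS, α = mk5 u v y p (w0 hn)) ∨
      (∃ p ∈ TW, ∃ j, Mid48 n j ∧ α = mk5 u v y p j) := by
  unfold L48 at h
  rcases Finset.mem_union.mp h with h | h
  · obtain ⟨p, hp, e⟩ := Finset.mem_image.mp h
    exact Or.inl ⟨p, hp, e.symm⟩
  · obtain ⟨⟨p, j⟩, hpj, e⟩ := Finset.mem_image.mp h
    obtain ⟨hp, hj⟩ := Finset.mem_product.mp hpj
    exact Or.inr ⟨p, hp, j, mem_midF48.mp hj, e.symm⟩

/-- entries at `x_0`, `x_1`, `x_{n-1}`, `x_n` -/
def proj4 (p : T5) : ℤ × ℤ × ℤ × ℤ := (p.1, p.2.1, p.2.2.1, p.2.2.2.2)

lemma proj4_inj : ∀ p ∈ TS ∪ TW, ∀ p' ∈ TS ∪ TW, proj4 p = proj4 p' → p = p' := by decide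

lemma TS_TW_disj : ∀ p ∈ TS, p ∉ TW := by decide

lemma TW_q : ∀ p ∈ TW, p.2.2.2.1 ≠ 0 := by decide

lemma TS_sum : ∀ p ∈ TS, p.1 + p.2.1 + p.2.2.1 + p.2.2.2.1 + p.2.2.2.2 = 0 := by decide

lemma TW_sum : ∀ p ∈ TW, p.1 + p.2.1 + p.2.2.1 + p.2.2.2.1 + p.2.2.2.2 = 0 := by decide

lemma code_mk5 (P : Pos u v y) {j : Fin (n + 1)} (hj : Mid48 n j) (p : T5) :
    (mk5 u v y p j u, mk5 u v y p j v, mk5 u v y p j y, mk5 u v y p j (Fin.last n)) =
      proj4 p := by
  simp only [mk5, proj4, mkα_u, mkα_v P, mkα_y P, mkα_z P hj]

lemma mk5_inj (P : Pos u v y) {j j' : Fin (n + 1)} (hj : Mid48 n j) (hj' : Mid48 n j')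
    {p p' : T5} (hp : p ∈ TS ∪ TW) (hp' : p' ∈ TS ∪ TW)
    (e : mk5 u v y p j = mk5 u v y p' j') : p = p' := by
  apply proj4_inj p hp p' hp'
  rw [← code_mk5 P hj p, ← code_mk5 P hj' p', e]

lemma sum_L48 (hn : 4 ≤ n) (P : Pos u v y) (f : (Fin (n + 1) → ℤ) → ℕ) :
    ∑ α ∈ L48 hn u v y, f α = ∑ p ∈ TS, f (mk5 u v y p (w0 hn)) +
      ∑ p ∈ TW, ∑ j ∈ midF48 n, f (mk5 u v y p j) := by
  have hw := mid_w0 hn
  unfold L48
  have d : Disjoint (TS.image (fun p => mk5 u v y p (w0 hn)))
      ((TW ×ˢ midF48 n).image (fun pj => mk5 u v y pj.1 pj.2)) := by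
    rw [Finset.disjoint_left]
    intro α h1 h2
    simp only [Finset.mem_image, Finset.mem_product] at h1 h2
    obtain ⟨p, hp, rfl⟩ := h1
    obtain ⟨⟨p', j⟩, ⟨hp', hj⟩, e⟩ := h2
    have := mk5_inj P (mem_midF48.mp hj) hw (Finset.mem_union_right _ hp')
      (Finset.mem_union_left _ hp) e
    rw [this] at hp'
    exact TS_TW_disj p hp hp'
  have i1 : Set.InjOn (fun p => mk5 u v y p (w0 hn)) ↑TS := by
    intro p hp p' hp' e
    exact mk5_inj P hw hw (Finset.mem_union_left _ hp) (Finset.mem_union_left _ hp') e
  have i2 : Set.InjOn (fun pj : T5 × Fin (n + 1) => mk5 u v y pj.1 pj.2)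
      ↑(TW ×ˢ midF48 n) := by
    rintro ⟨p, j⟩ hpj ⟨p', j'⟩ hpj' e
    have hpj : (p, j) ∈ TW ×ˢ midF48 n := hpj
    have hpj' : (p', j') ∈ TW ×ˢ midF48 n := hpj'
    rw [Finset.mem_product] at hpj hpj'
    obtain ⟨hp, hj⟩ := hpj
    obtain ⟨hp', hj'⟩ := hpj'
    have e' : mk5 u v y p j = mk5 u v y p' j' := e
    have hpp := mk5_inj P (mem_midF48.mp hj) (mem_midF48.mp hj')
      (Finset.mem_union_right _ hp) (Finset.mem_union_right _ hp') e'
    subst hpp
    by_contra hne
    have hjj : j ≠ j' := fun h => hne (by rw [h])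
    have := congrFun e' j
    unfold mk5 at this
    rw [mkα_j P (mem_midF48.mp hj), mkα_mid P (mem_midF48.mp hj) hjj] at this
    exact TW_q p hp this
  rw [Finset.sum_union d, Finset.sum_image i1, Finset.sum_image i2]
  congr 1
  exact Finset.sum_product TW (midF48 n)
    (fun pj : T5 × Fin (n + 1) => f (mk5 u v y pj.1 pj.2))

/-! ### classification of the nonzero pieces -/

lemma unit_diff {γ : Fin (n + 1) → ℤ} (hNN : NN γ) (hsum : ∑ y', γ y' = 2) {b : Fin (n + 1)}
    (hγb : 1 ≤ γ b) :
    ∃ c : Fin (n + 1), ∀ y' : Fin (n + 1), γ y' = (if y'.val = b.val then 1 else 0) +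
      (if y'.val = c.val then 1 else 0) := by
  have hNN' : NN (γ - Pi.single b 1) := by
    intro y'
    have := hNN y'
    rw [Pi.sub_apply, Pi.single_apply]
    split_ifs with h
    · rw [h]; omega
    · omega
  have hsum' : ∑ y', (γ - Pi.single b 1 : Fin (n + 1) → ℤ) y' = 1 := by
    simp only [Pi.sub_apply, Finset.sum_sub_distrib, hsum]
    rw [Finset.sum_pi_single' b (1:ℤ) Finset.univ, if_pos (Finset.mem_univ b)]
    norm_num
  obtain ⟨c, hc⟩ := nn_sum_one hNN' hsum'
  refine ⟨c, fun y' => ?_⟩
  have := congrFun hc y'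
  simp only [Pi.sub_apply, Pi.single_apply, Fin.ext_iff] at this
  linarith

set_option hygiene false in
macro "obA" t:term : tactic =>
  `(tactic| (have h := hαy $t; split_ifs at h <;> omega))

set_option hygiene false in
macro "obMidA" : tactic =>
  `(tactic| (intro y' hy' hne'; have h := hαy y'; have hm0 := hmid y' hy'; have hy1 := hy'.1; have hy2 := hy'.2; have hne2 := Fin.val_ne_of_ne hne'; split_ifs at h <;> omega))

set_option hygiene false in
macro "obB" t:term : tactic =>
  `(tactic| (have h := hαy $t; have h2 := hγ2 $t; split_ifs at h h2 <;> omega))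

set_option hygiene false in
macro "obMidB" : tactic =>
  `(tactic| (intro y' hy' hne'; have h := hαy y'; have h2 := hγ2 y'; have hy1 := hy'.1; have hy2 := hy'.2; have hne2 := Fin.val_ne_of_ne hne'; split_ifs at h h2 <;> omega))

set_option maxHeartbeats 3200000 in
theorem mem_L_of_ne_zero (hn : 4 ≤ n) (P : Pos u v y) {α : Fin (n + 1) → ℤ}
    (hα : ∑ i, α i = 0) {F : (Fin (n + 1) → ℤ) → k} (hF : F ∈ RF (I48 n k) α)
    {g : Fin (n + 1) →₀ ℕ} (hg : g ∈ Gs48 n) (hne : F (sh g α) ≠ 0) : α ∈ L48 hn u v y := by
  obtain ⟨x, b, hxb, rfl⟩ := hg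
  have hPu := P.hu
  have hPv := P.hv
  have hPy := P.hy
  have hg : (Finsupp.single x 1 + Finsupp.single b 1 : Fin (n + 1) →₀ ℕ) ∈ Gs48 n :=
    ⟨x, b, hxb, rfl⟩
  have hl : (Fin.last n).val = n := Fin.val_last n
  have hw : (w0 hn).val = 2 := rfl
  have hwm := mid_w0 hn
  have hgood : NN (sh (Finsupp.single x 1 + Finsupp.single b 1) α) ∧
      Ok (I48 n k) (sh (Finsupp.single x 1 + Finsupp.single b 1) α) := by
    by_contra h
    exact hne (rf_bad hF h)
  obtain ⟨γ, hγdef⟩ : ∃ γ : Fin (n + 1) → ℤ,
      γ = sh (Finsupp.single x 1 + Finsupp.single b 1) α := ⟨_, rfl⟩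
  rw [← hγdef] at hgood
  obtain ⟨hNN, hOk⟩ := hgood
  have hγ : ∀ y', γ y' = (if x.val = y'.val then 1 else 0) +
      (if b.val = y'.val then 1 else 0) + α y' := by
    intro y'
    rw [hγdef, sh_apply, Finsupp.add_apply, Finsupp.single_apply, Finsupp.single_apply]
    simp only [Fin.ext_iff]
    split_ifs <;> simp
  have hαy : ∀ y', α y' = γ y' - (if x.val = y'.val then 1 else 0) -
      (if b.val = y'.val then 1 else 0) := by
    intro y'
    have := hγ y'
    linarith
  have hOk2 : ¬ (2 ≤ γ u ∨ (1 ≤ γ u ∧ (1 ≤ γ v ∨ 1 ≤ γ y ∨ ∃ j, Mid48 n j ∧ 1 ≤ γ j)) ∨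
      2 ≤ γ v ∨ (1 ≤ γ v ∧ ∃ j, Mid48 n j ∧ 1 ≤ γ j)) :=
    fun h => (ok_iff P γ).mp hOk ⟨hNN, h⟩
  have hNu := hNN u
  have hNv := hNN v
  have hNy := hNN y
  have hNz := hNN (Fin.last n)
  have hsum : ∑ y', γ y' = 2 := by
    have e : ∀ y', γ y' = ((Finsupp.single x 1 + Finsupp.single b 1 : Fin (n + 1) →₀ ℕ) y' : ℤ) +
        α y' := by
      intro y'
      rw [hγdef, sh_apply]
    simp only [e, Finset.sum_add_distrib, hα, add_zero]
    simp only [Finsupp.add_apply, Finsupp.single_apply, Nat.cast_add, Nat.cast_ite, Nat.cast_one,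
      Nat.cast_zero, Finset.sum_add_distrib, Finset.sum_ite_eq, Finset.mem_univ, if_true]
    norm_num
  have hsplit := sum_split P γ
  have hβ : ∀ (b' y' : Fin (n + 1)),
      sh (Finsupp.single x 1 + Finsupp.single b 1 + Finsupp.single b' 1) α y' =
        γ y' + (if b'.val = y'.val then 1 else 0) := by
    intro b' y'
    rw [hγdef]
    simp only [sh_apply, Finsupp.add_apply, Finsupp.single_apply, Fin.ext_iff]
    split_ifs <;> simp <;> ring
  have hg'y : ∀ (b' y' : Fin (n + 1)),
      sh (Finsupp.single x 1 + Finsupp.single b' 1) α y' =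
        (if x.val = y'.val then 1 else 0) + (if b'.val = y'.val then 1 else 0) + α y' := by
    intro b' y'
    simp only [sh_apply, Finsupp.add_apply, Finsupp.single_apply, Fin.ext_iff]
    split_ifs <;> simp
  have kill : ∀ b' : Fin (n + 1),
      ((x.val = 0 ∧ b'.val + 1 ≤ n) ∨ (x.val = 1 ∧ 1 ≤ b'.val ∧ b'.val + 2 ≤ n)) →
      Ok (I48 n k) (sh (Finsupp.single x 1 + Finsupp.single b 1 + Finsupp.single b' 1) α) →
      ¬ NN (sh (Finsupp.single x 1 + Finsupp.single b' 1) α) → False := by
    intro b' hb' hok hbad
    have hg' : (Finsupp.single x 1 + Finsupp.single b' 1 : Fin (n + 1) →₀ ℕ) ∈ Gs48 n :=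
      ⟨x, b', hb', rfl⟩
    have hle : (Finsupp.single x 1 + Finsupp.single b' 1 : Fin (n + 1) →₀ ℕ) ≤
        Finsupp.single x 1 + Finsupp.single b 1 + Finsupp.single b' 1 := by
      rw [Finsupp.le_def]
      intro y'
      simp only [Finsupp.add_apply]
      omega
    exact hne (rf_kill hF (hGs48 hn _ hg) (hGs48 hn _ hg') le_self_add hle hok
      (fun h => hbad h.1))
  by_cases hU : 1 ≤ γ u
  · -- the value involves `x_0`
    have hγu : γ u = 1 := by
      by_contra h
      exact hOk2 (Or.inl (by omega))
    have hγv : γ v = 0 := by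
      by_contra h
      exact hOk2 (Or.inr (Or.inl ⟨hU, Or.inl (by omega)⟩))
    have hγy : γ y = 0 := by
      by_contra h
      exact hOk2 (Or.inr (Or.inl ⟨hU, Or.inr (Or.inl (by omega))⟩))
    have hmid : ∀ j, Mid48 n j → γ j = 0 := by
      intro j hj
      have := hNN j
      by_contra h
      exact hOk2 (Or.inr (Or.inl ⟨hU, Or.inr (Or.inr ⟨j, hj, by omega⟩)⟩))
    have hmsum : ∑ j ∈ midF48 n, γ j = 0 :=
      Finset.sum_eq_zero (fun j hj => hmid j (mem_midF48.mp hj))
    have hγz : γ (Fin.last n) = 1 := by omega
    have hw0 := hmid (w0 hn) hwm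
    rcases hxb with ⟨hx, hb⟩ | ⟨hx, hb1, hb2⟩
    · by_cases hb0 : b.val = 0
      ·
        have e : α = mkα u v y (w0 hn) (-1) 0 0 0 1 := eq_mkα P
          (by obA u) (by obA v) (by obA y) (by obA (w0 hn)) (by obA (Fin.last n)) (by obMidA)
        rw [e]
        exact mem_S hn (p := (-1, 0, 0, 0, 1)) (by decide)
      · by_cases hb1 : b.val = 1
        ·
          have e : α = mkα u v y (w0 hn) 0 (-1) 0 0 1 := eq_mkα P
            (by obA u) (by obA v) (by obA y) (by obA (w0 hn)) (by obA (Fin.last n)) (by obMidA)
          rw [e]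
          exact mem_S hn (p := (0, -1, 0, 0, 1)) (by decide)
        · by_cases hby : b.val + 1 = n
          ·
            have e : α = mkα u v y (w0 hn) 0 0 (-1) 0 1 := eq_mkα P
              (by obA u) (by obA v) (by obA y) (by obA (w0 hn)) (by obA (Fin.last n)) (by obMidA)
            rw [e]
            exact mem_S hn (p := (0, 0, -1, 0, 1)) (by decide)
          · have hbm : Mid48 n b := ⟨by omega, by omega⟩
            have hbb := hmid b hbm
            have e : α = mkα u v y b 0 0 0 (-1) 1 := eq_mkα P
              (by obA u) (by obA v) (by obA y) (by obA b) (by obA (Fin.last n)) (by obMidA)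
            rw [e]
            exact mem_W hn (p := (0, 0, 0, -1, 1)) (by decide) hbm
    · by_cases hb1' : b.val = 1
      ·
        have e : α = mkα u v y (w0 hn) 1 (-2) 0 0 1 := eq_mkα P
          (by obA u) (by obA v) (by obA y) (by obA (w0 hn)) (by obA (Fin.last n)) (by obMidA)
        rw [e]
        exact mem_S hn (p := (1, -2, 0, 0, 1)) (by decide)
      · have hbm : Mid48 n b := ⟨by omega, hb2⟩
        have hbb := hmid b hbm
        have e : α = mkα u v y b 1 (-1) 0 (-1) 1 := eq_mkα P
          (by obA u) (by obA v) (by obA y) (by obA b) (by obA (Fin.last n)) (by obMidA)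
        rw [e]
        exact mem_W hn (p := (1, -1, 0, -1, 1)) (by decide) hbm
  · have hγu : γ u = 0 := by omega
    by_cases hV : 1 ≤ γ v
    · -- the value involves `x_1` but not `x_0`
      have hγv : γ v = 1 := by
        by_contra h
        exact hOk2 (Or.inr (Or.inr (Or.inl (by omega))))
      have hmid : ∀ j, Mid48 n j → γ j = 0 := by
        intro j hj
        have := hNN j
        by_contra h
        exact hOk2 (Or.inr (Or.inr (Or.inr ⟨hV, j, hj, by omega⟩)))
      have hmid' : ∀ j, Mid48 n j → γ j ≤ 0 := fun j hj => le_of_eq (hmid j hj)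
      have hmsum : ∑ j ∈ midF48 n, γ j = 0 :=
        Finset.sum_eq_zero (fun j hj => hmid j (mem_midF48.mp hj))
      have hyz : γ y + γ (Fin.last n) = 1 := by omega
      have hw0 := hmid (w0 hn) hwm
      rcases hxb with ⟨hx, hb⟩ | ⟨hx, hb1, hb2⟩
      · by_cases hb0 : b.val = 0
        · exfalso
          refine kill y (Or.inl ⟨hx, by omega⟩) ?_ ?_
          · apply ok_of_v1 P
            · rw [hβ]; split_ifs <;> omega
            · rw [hβ]; split_ifs <;> omega
            · intro j hj
              rw [hβ]
              have hmj := hmid' j hj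
              have hNj := hNN j
              have hj1 := hj.1
              have hj2 := hj.2
              split_ifs <;> omega
          · intro h
            have h1 := h u
            rw [hg'y] at h1
            have h2 := hαy u
            split_ifs at h1 h2 <;> omega
        · by_cases hb1 : b.val = 1
          · by_cases hγy : γ y = 1
            ·
              have e : α = mkα u v y (w0 hn) (-1) 0 1 0 0 := eq_mkα P
                (by obA u) (by obA v) (by obA y) (by obA (w0 hn)) (by obA (Fin.last n)) (by obMidA)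
              rw [e]
              exact mem_S hn (p := (-1, 0, 1, 0, 0)) (by decide)
            ·
              have e : α = mkα u v y (w0 hn) (-1) 0 0 0 1 := eq_mkα P
                (by obA u) (by obA v) (by obA y) (by obA (w0 hn)) (by obA (Fin.last n)) (by obMidA)
              rw [e]
              exact mem_S hn (p := (-1, 0, 0, 0, 1)) (by decide)
          · by_cases hby : b.val + 1 = n
            · by_cases hγy : γ y = 1
              ·
                have e : α = mkα u v y (w0 hn) (-1) 1 0 0 0 := eq_mkα P
                  (by obA u) (by obA v) (by obA y) (by obA (w0 hn)) (by obA (Fin.last n)) (by obMidA)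
                rw [e]
                exact mem_S hn (p := (-1, 1, 0, 0, 0)) (by decide)
              ·
                have e : α = mkα u v y (w0 hn) (-1) 1 (-1) 0 1 := eq_mkα P
                  (by obA u) (by obA v) (by obA y) (by obA (w0 hn)) (by obA (Fin.last n)) (by obMidA)
                rw [e]
                exact mem_S hn (p := (-1, 1, -1, 0, 1)) (by decide)
            · exfalso
              have hbb := hmid b ⟨by omega, by omega⟩
              refine kill y (Or.inl ⟨hx, by omega⟩) ?_ ?_
              · apply ok_of_v1 P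
                · rw [hβ]; split_ifs <;> omega
                · rw [hβ]; split_ifs <;> omega
                · intro j hj
                  rw [hβ]
                  have hmj := hmid' j hj
                  have hNj := hNN j
                  have hj1 := hj.1
                  have hj2 := hj.2
                  split_ifs <;> omega
              · intro h
                have h1 := h b
                rw [hg'y] at h1
                have h2 := hαy b
                split_ifs at h1 h2 <;> omega
      · by_cases hb1' : b.val = 1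
        · by_cases hγy : γ y = 1
          ·
            have e : α = mkα u v y (w0 hn) 0 (-1) 1 0 0 := eq_mkα P
              (by obA u) (by obA v) (by obA y) (by obA (w0 hn)) (by obA (Fin.last n)) (by obMidA)
            rw [e]
            exact mem_S hn (p := (0, -1, 1, 0, 0)) (by decide)
          ·
            have e : α = mkα u v y (w0 hn) 0 (-1) 0 0 1 := eq_mkα P
              (by obA u) (by obA v) (by obA y) (by obA (w0 hn)) (by obA (Fin.last n)) (by obMidA)
            rw [e]
            exact mem_S hn (p := (0, -1, 0, 0, 1)) (by decide)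
        · have hbm : Mid48 n b := ⟨by omega, hb2⟩
          have hbb := hmid b hbm
          by_cases hγy : γ y = 1
          ·
            have e : α = mkα u v y b 0 0 1 (-1) 0 := eq_mkα P
              (by obA u) (by obA v) (by obA y) (by obA b) (by obA (Fin.last n)) (by obMidA)
            rw [e]
            exact mem_W hn (p := (0, 0, 1, -1, 0)) (by decide) hbm
          ·
            have e : α = mkα u v y b 0 0 0 (-1) 1 := eq_mkα P
              (by obA u) (by obA v) (by obA y) (by obA b) (by obA (Fin.last n)) (by obMidA)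
            rw [e]
            exact mem_W hn (p := (0, 0, 0, -1, 1)) (by decide) hbm
    · -- the value involves neither `x_0` nor `x_1`
      have hγv : γ v = 0 := by omega
      rcases hxb with ⟨hx, hb⟩ | ⟨hx, hb1, hb2⟩
      · by_cases hb0 : b.val = 0
        · exfalso
          refine kill y (Or.inl ⟨hx, by omega⟩) ?_ ?_
          · apply ok_of_noUV P
            · rw [hβ]; split_ifs <;> omega
            · rw [hβ]; split_ifs <;> omega
          · intro h
            have h1 := h u
            rw [hg'y] at h1
            have h2 := hαy u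
            split_ifs at h1 h2 <;> omega
        · by_cases hb1 : b.val = 1
          · exfalso
            refine kill y (Or.inl ⟨hx, by omega⟩) ?_ ?_
            · apply ok_of_noUV P
              · rw [hβ]; split_ifs <;> omega
              · rw [hβ]; split_ifs <;> omega
            · intro h
              have h1 := h v
              rw [hg'y] at h1
              have h2 := hαy v
              split_ifs at h1 h2 <;> omega
          · by_cases hγb : 1 ≤ γ b
            ·
              obtain ⟨c, hγ2⟩ := unit_diff hNN hsum hγb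
              have hcu : c.val ≠ u.val := by
                intro e
                have := hγ2 u
                split_ifs at this <;> omega
              have hcv : c.val ≠ v.val := by
                intro e
                have := hγ2 v
                split_ifs at this <;> omega
              have hclt := c.isLt
              by_cases hcz : c.val = n
              ·
                have e : α = mkα u v y (w0 hn) (-1) 0 0 0 1 := eq_mkα P
                  (by obB u) (by obB v) (by obB y) (by obB (w0 hn)) (by obB (Fin.last n)) (by obMidB)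
                rw [e]
                exact mem_S hn (p := (-1, 0, 0, 0, 1)) (by decide)
              · by_cases hcy : c.val + 1 = n
                ·
                  have e : α = mkα u v y (w0 hn) (-1) 0 1 0 0 := eq_mkα P
                    (by obB u) (by obB v) (by obB y) (by obB (w0 hn)) (by obB (Fin.last n)) (by obMidB)
                  rw [e]
                  exact mem_S hn (p := (-1, 0, 1, 0, 0)) (by decide)
                · have hcm : Mid48 n c := ⟨by omega, by omega⟩
                  have e : α = mkα u v y c (-1) 0 0 1 0 := eq_mkα P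
                    (by obB u) (by obB v) (by obB y) (by obB c) (by obB (Fin.last n)) (by obMidB)
                  rw [e]
                  exact mem_W hn (p := (-1, 0, 0, 1, 0)) (by decide) hcm
            · exfalso
              have hγb0 : γ b = 0 := by have := hNN b; omega
              by_cases hby : b.val + 1 = n
              · refine kill (w0 hn) (Or.inl ⟨hx, by omega⟩) ?_ ?_
                · apply ok_of_noUV P
                  · rw [hβ]; split_ifs <;> omega
                  · rw [hβ]; split_ifs <;> omega
                · intro h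
                  have h1 := h b
                  rw [hg'y] at h1
                  have h2 := hαy b
                  split_ifs at h1 h2 <;> omega
              · refine kill y (Or.inl ⟨hx, by omega⟩) ?_ ?_
                · apply ok_of_noUV P
                  · rw [hβ]; split_ifs <;> omega
                  · rw [hβ]; split_ifs <;> omega
                · intro h
                  have h1 := h b
                  rw [hg'y] at h1
                  have h2 := hαy b
                  split_ifs at h1 h2 <;> omega
      · by_cases hb1' : b.val = 1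
        · exfalso
          refine kill (w0 hn) (Or.inr ⟨hx, by omega, by omega⟩) ?_ ?_
          · apply ok_of_noUV P
            · rw [hβ]; split_ifs <;> omega
            · rw [hβ]; split_ifs <;> omega
          · intro h
            have h1 := h v
            rw [hg'y] at h1
            have h2 := hαy v
            split_ifs at h1 h2 <;> omega
        · have hbm : Mid48 n b := ⟨by omega, hb2⟩
          by_cases hγb : 1 ≤ γ b
          ·
            obtain ⟨c, hγ2⟩ := unit_diff hNN hsum hγb
            have hcu : c.val ≠ u.val := by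
              intro e
              have := hγ2 u
              split_ifs at this <;> omega
            have hcv : c.val ≠ v.val := by
              intro e
              have := hγ2 v
              split_ifs at this <;> omega
            have hclt := c.isLt
            by_cases hcz : c.val = n
            ·
              have e : α = mkα u v y (w0 hn) 0 (-1) 0 0 1 := eq_mkα P
                (by obB u) (by obB v) (by obB y) (by obB (w0 hn)) (by obB (Fin.last n)) (by obMidB)
              rw [e]
              exact mem_S hn (p := (0, -1, 0, 0, 1)) (by decide)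
            · by_cases hcy : c.val + 1 = n
              ·
                have e : α = mkα u v y (w0 hn) 0 (-1) 1 0 0 := eq_mkα P
                  (by obB u) (by obB v) (by obB y) (by obB (w0 hn)) (by obB (Fin.last n)) (by obMidB)
                rw [e]
                exact mem_S hn (p := (0, -1, 1, 0, 0)) (by decide)
              · have hcm : Mid48 n c := ⟨by omega, by omega⟩
                have e : α = mkα u v y c 0 (-1) 0 1 0 := eq_mkα P
                  (by obB u) (by obB v) (by obB y) (by obB c) (by obB (Fin.last n)) (by obMidB)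
                rw [e]
                exact mem_W hn (p := (0, -1, 0, 1, 0)) (by decide) hcm
          · exfalso
            have hγb0 : γ b = 0 := by have := hNN b; omega
            by_cases hm : ∃ j, Mid48 n j ∧ 1 ≤ γ j
            · obtain ⟨j, hj, hj1⟩ := hm
              have hjb : j.val ≠ b.val := by
                intro e
                have : j = b := Fin.ext e
                rw [this] at hj1
                omega
              have hj1' := hj.1
              have hj2' := hj.2
              refine kill j (Or.inr ⟨hx, by omega, by omega⟩) ?_ ?_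
              · apply ok_of_noUV P
                · rw [hβ]; split_ifs <;> omega
                · rw [hβ]; split_ifs <;> omega
              · intro h
                have h1 := h b
                rw [hg'y] at h1
                have h2 := hαy b
                split_ifs at h1 h2 <;> omega
            · push Not at hm
              have hm' : ∀ j, Mid48 n j → γ j ≤ 0 := fun j hj => by have := hm j hj; omega
              refine kill v (Or.inr ⟨hx, by omega, by omega⟩) ?_ ?_
              · apply ok_of_v1 P
                · rw [hβ]; split_ifs <;> omega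
                · rw [hβ]; split_ifs <;> omega
                · intro j hj
                  rw [hβ]
                  have hmj := hm' j hj
                  have hNj := hNN j
                  have hj1 := hj.1
                  have hj2 := hj.2
                  split_ifs <;> omega
              · intro h
                have h1 := h b
                rw [hg'y] at h1
                have h2 := hαy b
                split_ifs at h1 h2 <;> omega

/-! ### the count -/

/-- dimensions of the pieces not involving a middle variable -/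
def dS (p : T5) : ℕ :=
  if p = (-1, 0, 0, 0, 1) then 2 else if p = (0, -1, 0, 0, 1) then 3 else
    if p = (0, -1, 1, 0, 0) then 2 else 1

/-- dimensions of the pieces involving a middle variable -/
def dW (p : T5) : ℕ := if p = (0, 0, 0, -1, 1) then 2 else 1

lemma fam_S (hn : 4 ≤ n) (P : Pos u v y) (p : T5) (hp : p ∈ TS) :
    Module.Finite k ↥(tPiece (I48 n k) (mk5 u v y p (w0 hn))) ∧
      Module.finrank k ↥(tPiece (I48 n k) (mk5 u v y p (w0 hn))) = dS p := by
  have hw := mid_w0 hn
  simp only [TS, Finset.mem_insert, Finset.mem_singleton] at hp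
  rcases hp with rfl | rfl | rfl | rfl | rfl | rfl | rfl | rfl
  · exact ⟨(famF1 P hw).1, (famF1 P hw).2.trans (by decide)⟩
  · exact ⟨(famF2 P hw).1, (famF2 P hw).2.trans (by decide)⟩
  · exact ⟨(famF4 P hw).1, (famF4 P hw).2.trans (by decide)⟩
  · exact ⟨(famF5 P hw).1, (famF5 P hw).2.trans (by decide)⟩
  · exact ⟨(famF6 P hw).1, (famF6 P hw).2.trans (by decide)⟩
  · exact ⟨(famF7 P hw).1, (famF7 P hw).2.trans (by decide)⟩
  · exact ⟨(famF11 P hw).1, (famF11 P hw).2.trans (by decide)⟩
  · exact ⟨(famF12 P hw).1, (famF12 P hw).2.trans (by decide)⟩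

lemma fam_W (P : Pos u v y) (p : T5) (hp : p ∈ TW) {j : Fin (n + 1)} (hj : Mid48 n j) :
    Module.Finite k ↥(tPiece (I48 n k) (mk5 u v y p j)) ∧
      Module.finrank k ↥(tPiece (I48 n k) (mk5 u v y p j)) = dW p := by
  simp only [TW, Finset.mem_insert, Finset.mem_singleton] at hp
  rcases hp with rfl | rfl | rfl | rfl | rfl
  · exact ⟨(famF3 P hj).1, (famF3 P hj).2.trans (by decide)⟩
  · exact ⟨(famF8 P hj).1, (famF8 P hj).2.trans (by decide)⟩
  · exact ⟨(famF9 P hj).1, (famF9 P hj).2.trans (by decide)⟩
  · exact ⟨(famF10 P hj).1, (famF10 P hj).2.trans (by decide)⟩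
  · exact ⟨(famF13 P hj).1, (famF13 P hj).2.trans (by decide)⟩

theorem main48 (k : Type*) [Field k] (n : ℕ) (hn : 4 ≤ n) :
    Module.finrank k ↥(⨆ α : {α : Fin (n + 1) → ℤ // ∑ i, α i = 0},
      tPiece (I48 n k) α.1) = 6 * n - 6 := by
  have hI := isMonomial_I48 (k := k) hn
  have P := pos0 hn
  have hw := mid_w0 hn
  have hs : ∀ α : Fin (n + 1) → ℤ, (∑ i, α i = 0) → α ∉ L48 hn 0 1 (y0 hn) →
      tPiece (I48 n k) α = ⊥ := by
    intro α hα hnot
    apply tPiece_eq_bot_of_RF hI
    intro F hF
    apply rf_eq_zero (Gs48 n) (hG48 hn) (hGs48 hn) hF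
    intro g hg
    by_contra hne
    exact hnot (mem_L_of_ne_zero hn P hα hF hg hne)
  have hs' : ∀ α ∈ L48 hn 0 1 (y0 hn), ∑ i, α i = 0 := by
    intro α hα
    rcases mem_L48 hn hα with ⟨p, hp, rfl⟩ | ⟨p, hp, j, hj, rfl⟩
    · unfold mk5
      rw [sum_mkα P hw]
      exact TS_sum p hp
    · unfold mk5
      rw [sum_mkα P hj]
      exact TW_sum p hp
  have hfin : ∀ α ∈ L48 hn 0 1 (y0 hn), Module.Finite k ↥(tPiece (I48 n k) α) := by
    intro α hα
    rcases mem_L48 hn hα with ⟨p, hp, rfl⟩ | ⟨p, hp, j, hj, rfl⟩
    · exact (fam_S hn P p hp).1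
    · exact (fam_W P p hp hj).1
  rw [finrank_iSup_of_finset hI (fun α : Fin (n + 1) → ℤ => ∑ i, α i = 0) (L48 hn 0 1 (y0 hn))
    hs hs' hfin, sum_L48 hn P]
  have eS : ∑ p ∈ TS, Module.finrank k ↥(tPiece (I48 n k) (mk5 0 1 (y0 hn) p (w0 hn))) =
      ∑ p ∈ TS, dS p :=
    Finset.sum_congr rfl (fun p hp => (fam_S hn P p hp).2)
  have eW : ∑ p ∈ TW, ∑ j ∈ midF48 n,
      Module.finrank k ↥(tPiece (I48 n k) (mk5 0 1 (y0 hn) p j)) =
      ∑ p ∈ TW, ∑ j ∈ midF48 n, dW p :=
    Finset.sum_congr rfl (fun p hp => Finset.sum_congr rfl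
      (fun j hj => (fam_W P p hp (mem_midF48.mp hj)).2))
  rw [eS, eW]
  simp only [Finset.sum_const, card_midF48 hn, smul_eq_mul]
  rw [← Finset.mul_sum]
  have h1 : ∑ p ∈ TS, dS p = 12 := by decide
  have h2 : ∑ p ∈ TW, dW p = 6 := by decide
  rw [h1, h2]
  omega

end Groth.Agent.H43.HilbS48
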