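import Groth.Agent.H43.HilbS1

set_option linter.unusedVariables false
set_option linter.unusedSectionVars false
set_option linter.style.longLine false
set_option linter.unusedSimpArgs false

/-! Dimension of a graded piece of `T(I)` of a monomial ideal from a labelling of the generators whose
value is admissible, linked through least common multiples. -/

noncomputable section

namespace Groth.Agent.H43.HilbS

open W4c1hilbpn MvPolynomial
open Groth.Agent.H43.HilbT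

variable {σ : Type*} [Fintype σ] [DecidableEq σ] {k : Type*} [Field k]
variable {I : Ideal (MvPolynomial σ k)} {α : σ → ℤ}

lemma nn_sh_of {β : σ →₀ ℕ} (h : ∀ x, α x < 0 → 0 ≤ (β x : ℤ) + α x) : NN (sh β α) := by
  intro x
  rw [sh_apply]
  by_cases hx : α x < 0
  · exact h x hx
  · have : (0:ℤ) ≤ (β x : ℤ) := Int.natCast_nonneg _
    omega

section gens2

variable (Gs : Set (σ →₀ ℕ)) (hG : ∀ β, β ∈ exps I → ∃ g ∈ Gs, g ≤ β)
  (hGs : ∀ g ∈ Gs, g ∈ exps I)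
include hG hGs

/-- label count of the dimension of a graded piece -/
theorem finrank_of_labels (hI : IsMonomial I) {d : ℕ} (lab : (σ →₀ ℕ) → Fin d)
    (r : Fin d → (σ →₀ ℕ))
    (hr : ∀ m, r m ∈ Gs ∧ (NN (sh (r m) α) ∧ Ok I (sh (r m) α)) ∧ lab (r m) = m)
    (hlink : ∀ g ∈ Gs, ∀ g' ∈ Gs, (NN (sh g α) ∧ Ok I (sh g α)) → Ok I (sh (g ⊔ g') α) →
      NN (sh g' α) ∧ lab g' = lab g)
    (hrep : ∀ g ∈ Gs, (NN (sh g α) ∧ Ok I (sh g α)) → Ok I (sh (g ⊔ r (lab g)) α)) :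
    Module.Finite k ↥(tPiece I α) ∧ Module.finrank k ↥(tPiece I α) = d := by
  classical
  let ev : ↥(RF I α) →ₗ[k] (Fin d → k) :=
    { toFun := fun F m => F.1 (sh (r m) α)
      map_add' := fun _ _ => rfl
      map_smul' := fun _ _ => rfl }
  have hinj : Function.Injective ev := by
    rw [← LinearMap.ker_eq_bot, Submodule.eq_bot_iff]
    intro F hF0
    have h0 : ∀ m, F.1 (sh (r m) α) = 0 := fun m => congrFun (LinearMap.mem_ker.mp hF0) m
    apply Subtype.ext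
    apply rf_eq_zero Gs hG hGs F.2
    intro g hg
    by_cases hc : NN (sh g α) ∧ Ok I (sh g α)
    · rw [rf_pair F.2 (hGs g hg) (hGs _ (hr (lab g)).1) le_sup_left le_sup_right
        (hrep g hg hc)]
      exact h0 _
    · exact rf_bad F.2 hc
  have hsurj : Function.Surjective ev := by
    intro f
    let c : (σ →₀ ℕ) → k := fun g => if NN (sh g α) ∧ Ok I (sh g α) then f (lab g) else 0
    have hcdef : ∀ g, c g = if NN (sh g α) ∧ Ok I (sh g α) then f (lab g) else 0 :=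
      fun g => rfl
    have hc1 : ∀ g ∈ Gs, ¬ (NN (sh g α) ∧ Ok I (sh g α)) → c g = 0 := by
      intro g hg hbad
      rw [hcdef, if_neg hbad]
    have hc2 : ∀ g ∈ Gs, ∀ g' ∈ Gs, ∀ β, g ≤ β → g' ≤ β → Ok I (sh β α) → c g = c g' := by
      intro g hg g' hg' β h1 h2 hok
      have hok' : Ok I (sh (g ⊔ g') α) :=
        ok_of_le (fun i => sh_mono (sup_le h1 h2) α i) hok
      have hok'' : Ok I (sh (g' ⊔ g) α) := by rw [sup_comm]; exact hok'
      by_cases hcg : NN (sh g α) ∧ Ok I (sh g α)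
      · obtain ⟨hn', hl⟩ := hlink g hg g' hg' hcg hok'
        have hcg' : NN (sh g' α) ∧ Ok I (sh g' α) :=
          ⟨hn', ok_of_le (fun i => sh_mono le_sup_right α i) hok'⟩
        rw [hcdef, hcdef, if_pos hcg, if_pos hcg', hl]
      · by_cases hcg' : NN (sh g' α) ∧ Ok I (sh g' α)
        · obtain ⟨hn', hl⟩ := hlink g' hg' g hg hcg' hok''
          exact absurd ⟨hn', ok_of_le (fun i => sh_mono le_sup_left α i) hok'⟩ hcg
        · rw [hcdef, hcdef, if_neg hcg, if_neg hcg']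
    obtain ⟨F, hF, hFc⟩ := rf_mk Gs hG hGs c hc1 hc2
    refine ⟨⟨F, hF⟩, funext fun m => ?_⟩
    show F (sh (r m) α) = f m
    rw [hFc (r m) (hr m).1, hcdef, if_pos (hr m).2.1, (hr m).2.2]
  let e : ↥(RF I α) ≃ₗ[k] (Fin d → k) := LinearEquiv.ofBijective ev ⟨hinj, hsurj⟩
  let e' : (Fin d → k) ≃ₗ[k] ↥(tPiece I α) := e.symm.trans (rfT hI α)
  refine ⟨Module.Finite.equiv e', ?_⟩
  rw [← e'.finrank_eq, Module.finrank_fin_fun]

/-- a single class of admissible generators -/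
theorem finrank_one_of_links (hI : IsMonomial I) (r : σ →₀ ℕ) (hr : r ∈ Gs)
    (hrc : NN (sh r α) ∧ Ok I (sh r α))
    (hlink : ∀ g ∈ Gs, ∀ g' ∈ Gs, (NN (sh g α) ∧ Ok I (sh g α)) → Ok I (sh (g ⊔ g') α) →
      NN (sh g' α))
    (hrep : ∀ g ∈ Gs, (NN (sh g α) ∧ Ok I (sh g α)) → Ok I (sh (g ⊔ r) α)) :
    Module.Finite k ↥(tPiece I α) ∧ Module.finrank k ↥(tPiece I α) = 1 :=
  finrank_of_labels Gs hG hGs hI (fun _ => (0 : Fin 1)) (fun _ => r)
    (fun m => ⟨hr, hrc, Subsingleton.elim _ _⟩)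
    (fun g hg g' hg' hc hok => ⟨hlink g hg g' hg' hc hok, rfl⟩)
    (fun g hg hc => hrep g hg hc)

/-- two classes of admissible generators, separated by a predicate -/
theorem finrank_two_of_links (hI : IsMonomial I) (p : (σ →₀ ℕ) → Prop) (r0 r1 : σ →₀ ℕ)
    (hr0 : r0 ∈ Gs ∧ (NN (sh r0 α) ∧ Ok I (sh r0 α)) ∧ p r0)
    (hr1 : r1 ∈ Gs ∧ (NN (sh r1 α) ∧ Ok I (sh r1 α)) ∧ ¬ p r1)
    (hlink : ∀ g ∈ Gs, ∀ g' ∈ Gs, (NN (sh g α) ∧ Ok I (sh g α)) → Ok I (sh (g ⊔ g') α) →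
      NN (sh g' α) ∧ (p g' ↔ p g))
    (hrep0 : ∀ g ∈ Gs, (NN (sh g α) ∧ Ok I (sh g α)) → p g → Ok I (sh (g ⊔ r0) α))
    (hrep1 : ∀ g ∈ Gs, (NN (sh g α) ∧ Ok I (sh g α)) → ¬ p g → Ok I (sh (g ⊔ r1) α)) :
    Module.Finite k ↥(tPiece I α) ∧ Module.finrank k ↥(tPiece I α) = 2 := by
  classical
  have h10 : (1 : Fin 2) ≠ 0 := by decide
  refine finrank_of_labels Gs hG hGs hI (fun g => if p g then (0 : Fin 2) else 1)
    (fun m => if m = 0 then r0 else r1) ?_ ?_ ?_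
  · refine Fin.forall_fin_two.mpr ⟨⟨?_, ?_, ?_⟩, ⟨?_, ?_, ?_⟩⟩
    · rw [if_pos rfl]; exact hr0.1
    · rw [if_pos rfl]; exact hr0.2.1
    · rw [if_pos rfl, if_pos hr0.2.2]
    · rw [if_neg h10]; exact hr1.1
    · rw [if_neg h10]; exact hr1.2.1
    · rw [if_neg h10, if_neg hr1.2.2]
  · intro g hg g' hg' hc hok
    obtain ⟨h1, h2⟩ := hlink g hg g' hg' hc hok
    refine ⟨h1, ?_⟩
    by_cases hp : p g
    · rw [if_pos hp, if_pos (h2.mpr hp)]
    · rw [if_neg hp, if_neg (fun h => hp (h2.mp h))]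
  · intro g hg hc
    by_cases hp : p g
    · rw [if_pos hp, if_pos rfl]
      exact hrep0 g hg hc hp
    · rw [if_neg hp, if_neg h10]
      exact hrep1 g hg hc hp

end gens2

end Groth.Agent.H43.HilbS
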