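import Groth.Agent.H43.HilbS6

set_option linter.unusedVariables false
set_option linter.unusedSectionVars false
set_option linter.style.longLine false
set_option linter.unusedSimpArgs false
set_option linter.unusedTactic false
set_option linter.unreachableTactic false

/-! The ideal `x_0 (x_0, …, x_{n-1}) + (x_1^q)` of `k[x_0, …, x_n]`: exponents and the graded pieces
of `T(I)` in the families of nonzero multidegrees. -/

noncomputable section

namespace Groth.Agent.H43.HilbS50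

open W4c1hilbpn MvPolynomial
open Groth.Agent.H43.HilbT Groth.Agent.H43.HilbS

variable {n q : ℕ} {k : Type*} [Field k]

/-- the ideal -/
abbrev I50 (n q : ℕ) (k : Type*) [Field k] : Ideal (MvPolynomial (Fin (n + 1)) k) :=
  Ideal.span ({f : MvPolynomial (Fin (n + 1)) k | ∃ i : Fin (n + 1), i.val + 1 ≤ n ∧ f = MvPolynomial.X 0 * MvPolynomial.X i} ∪ {MvPolynomial.X 1 ^ q})

/-- exponent of `x_u x_b` -/
def g1 (u b : Fin (n + 1)) : Fin (n + 1) →₀ ℕ := Finsupp.single u 1 + Finsupp.single b 1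

/-- exponent of `x_v ^ q` -/
def g2 (v : Fin (n + 1)) (q : ℕ) : Fin (n + 1) →₀ ℕ := Finsupp.single v q

lemma g1_apply (u b x : Fin (n + 1)) :
    g1 u b x = (if x = u then 1 else 0) + (if x = b then 1 else 0) := by
  have e : ∀ a : Fin (n + 1), (if a = x then (1:ℕ) else 0) = if x = a then 1 else 0 := by
    intro a
    by_cases h : a = x
    · rw [if_pos h, if_pos h.symm]
    · rw [if_neg h, if_neg (fun h' => h h'.symm)]
  unfold g1
  rw [Finsupp.add_apply, Finsupp.single_apply, Finsupp.single_apply, e, e]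

lemma g2_apply (v x : Fin (n + 1)) (q : ℕ) : g2 v q x = if x = v then q else 0 := by
  unfold g2
  rw [Finsupp.single_apply]
  by_cases h : v = x
  · rw [if_pos h, if_pos h.symm]
  · rw [if_neg h, if_neg (fun h' => h h'.symm)]

/-- exponents of the generators -/
def Gs50 (n q : ℕ) : Set (Fin (n + 1) →₀ ℕ) :=
  {g | (∃ x b : Fin (n + 1), x.val = 0 ∧ b.val + 1 ≤ n ∧ g = g1 x b) ∨
    (∃ x : Fin (n + 1), x.val = 1 ∧ g = g2 x q)}

lemma val_one (hn : 3 ≤ n) : ((1 : Fin (n + 1)) : ℕ) = 1 := by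
  rw [Fin.val_one']; exact Nat.mod_eq_of_lt (by omega)

lemma gens_eq (hn : 3 ≤ n) :
    ({f : MvPolynomial (Fin (n + 1)) k | ∃ i : Fin (n + 1), i.val + 1 ≤ n ∧ f = MvPolynomial.X 0 * MvPolynomial.X i} ∪ {MvPolynomial.X 1 ^ q}) =
      (fun s => monomial s (1:k)) '' Gs50 n q := by
  have hXX : ∀ x b : Fin (n + 1), (X x * X b : MvPolynomial (Fin (n + 1)) k) =
      monomial (g1 x b) 1 := by
    intro x b
    show monomial (Finsupp.single x 1) (1:k) * monomial (Finsupp.single b 1) 1 = _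
    rw [monomial_mul, one_mul]
    rfl
  have hXq : ∀ x : Fin (n + 1), (X x ^ q : MvPolynomial (Fin (n + 1)) k) = monomial (g2 x q) 1 := by
    intro x
    rw [X_pow_eq_monomial]
    rfl
  ext f
  constructor
  · rintro (⟨i, hi, rfl⟩ | h)
    · exact ⟨_, Or.inl ⟨0, i, by simp, hi, rfl⟩, (hXX 0 i).symm⟩
    · rw [Set.mem_singleton_iff] at h
      rw [h]
      exact ⟨_, Or.inr ⟨1, val_one hn, rfl⟩, (hXq 1).symm⟩
  · rintro ⟨g, (⟨x, b, hx, hb, rfl⟩ | ⟨x, hx, rfl⟩), rfl⟩
    · show monomial (g1 x b) (1:k) ∈ _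
      rw [← hXX]
      have hx' : x = 0 := Fin.ext hx
      rw [hx']
      exact Or.inl ⟨b, hb, rfl⟩
    · show monomial (g2 x q) (1:k) ∈ _
      rw [← hXq]
      have hx' : x = 1 := Fin.ext (by rw [val_one hn]; exact hx)
      rw [hx']
      exact Or.inr rfl

lemma I50_eq (hn : 3 ≤ n) :
    I50 n q k = Ideal.span ((fun s => monomial s (1:k)) '' Gs50 n q) := by
  show Ideal.span _ = _
  rw [gens_eq hn]

lemma exps_I50 (hn : 3 ≤ n) (β : Fin (n + 1) →₀ ℕ) :
    β ∈ exps (I50 n q k) ↔ ∃ g ∈ Gs50 n q, g ≤ β := by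
  rw [I50_eq hn]
  exact exps_span_monomials _ β

lemma isMonomial_I50 (hn : 3 ≤ n) : IsMonomial (I50 n q k) := by
  rw [I50_eq hn]
  exact isMonomial_span_monomials _

lemma hG50 (hn : 3 ≤ n) : ∀ β, β ∈ exps (I50 n q k) → ∃ g ∈ Gs50 n q, g ≤ β :=
  fun β h => (exps_I50 hn β).mp h

lemma hGs50 (hn : 3 ≤ n) : ∀ g ∈ Gs50 n q, g ∈ exps (I50 n q k) :=
  fun g hg => (exps_I50 hn g).mpr ⟨g, hg, le_rfl⟩

/-! ### positions of the variables -/

/-- `u = x_0`, `v = x_1` -/
structure Pos50 {n : ℕ} (u v : Fin (n + 1)) : Prop where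
  hu : u.val = 0
  hv : v.val = 1
  hn : 3 ≤ n

/-- the variables `x_1, …, x_{n-1}` -/
def Lo (n : ℕ) (j : Fin (n + 1)) : Prop := 1 ≤ j.val ∧ j.val + 1 ≤ n

/-- the variables `x_2, …, x_{n-1}` -/
def Mid50 (n : ℕ) (j : Fin (n + 1)) : Prop := 2 ≤ j.val ∧ j.val + 1 ≤ n

lemma ne_of_val_ne {x y : Fin (n + 1)} (h : x.val ≠ y.val) : x ≠ y :=
  fun e => h (congrArg Fin.val e)

variable {u v : Fin (n + 1)}

lemma gs_cases (P : Pos50 u v) {g : Fin (n + 1) →₀ ℕ} (hg : g ∈ Gs50 n q) :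
    (∃ b : Fin (n + 1), b.val + 1 ≤ n ∧ g = g1 u b) ∨ g = g2 v q := by
  have hPu := P.hu
  have hPv := P.hv
  rcases hg with ⟨x, b, hx, hb, rfl⟩ | ⟨x, hx, rfl⟩
  · have hxu : x = u := Fin.ext (by omega)
    rw [hxu]
    exact Or.inl ⟨b, hb, rfl⟩
  · have hxv : x = v := Fin.ext (by omega)
    rw [hxv]
    exact Or.inr rfl

lemma g1_mem (P : Pos50 u v) {b : Fin (n + 1)} (hb : b.val + 1 ≤ n) : g1 u b ∈ Gs50 n q :=
  Or.inl ⟨u, b, P.hu, hb, rfl⟩

lemma g2_mem (P : Pos50 u v) : g2 v q ∈ Gs50 n q := Or.inr ⟨v, P.hv, rfl⟩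

lemma mem_exps_iff (P : Pos50 u v) (β : Fin (n + 1) →₀ ℕ) :
    β ∈ exps (I50 n q k) ↔
      2 ≤ β u ∨ (1 ≤ β u ∧ ∃ j, Lo n j ∧ 1 ≤ β j) ∨ q ≤ β v := by
  have hPu := P.hu
  have hPv := P.hv
  have hPn := P.hn
  rw [exps_I50 P.hn]
  constructor
  · rintro ⟨g, hg, hle⟩
    rcases gs_cases P hg with ⟨b, hb, rfl⟩ | rfl
    · have hle' : Finsupp.single u 1 + Finsupp.single b 1 ≤ β := hle
      obtain ⟨h1, h2, h3⟩ := le_of_two_single_le hle'
      by_cases hbu : b = u
      · left; exact h3 hbu.symm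
      · right; left
        have hbv : b.val ≠ u.val := fun e => hbu (Fin.ext e)
        exact ⟨h1, b, ⟨by omega, hb⟩, h2⟩
    · right; right
      have := Finsupp.le_def.mp hle v
      rw [g2_apply, if_pos rfl] at this
      exact this
  · rintro (h | ⟨h, j, ⟨hj1, hj2⟩, hj⟩ | h)
    · exact ⟨g1 u u, g1_mem P (by omega), two_single_le (by omega) (by omega) (fun _ => h)⟩
    · have hne : u ≠ j := ne_of_val_ne (by omega)
      exact ⟨g1 u j, g1_mem P hj2, two_single_le h hj (fun e => absurd e hne)⟩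
    · refine ⟨g2 v q, g2_mem P, ?_⟩
      rw [Finsupp.le_def]
      intro x
      rw [g2_apply]
      split_ifs with hx
      · rw [hx]; exact h
      · exact Nat.zero_le _

lemma ok_iff (P : Pos50 u v) (γ : Fin (n + 1) → ℤ) :
    Ok (I50 n q k) γ ↔
      ¬ (NN γ ∧ (2 ≤ γ u ∨ (1 ≤ γ u ∧ ∃ j, Lo n j ∧ 1 ≤ γ j) ∨ (q : ℤ) ≤ γ v)) := by
  unfold Ok
  refine not_congr (and_congr_right fun hNN => ?_)
  rw [mem_exps_iff P]
  have hu := hNN u
  have hv := hNN v
  simp only [toExp_apply]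
  constructor
  · rintro (h | ⟨h, j, hm, hj⟩ | h)
    · left; omega
    · right; left; exact ⟨by omega, j, hm, by omega⟩
    · right; right; omega
  · rintro (h | ⟨h, j, hm, hj⟩ | h)
    · left; omega
    · right; left; exact ⟨by omega, j, hm, by omega⟩
    · right; right; omega

lemma not_ok_of (P : Pos50 u v) {γ : Fin (n + 1) → ℤ} (hNN : NN γ)
    (h : 2 ≤ γ u ∨ (1 ≤ γ u ∧ ∃ j, Lo n j ∧ 1 ≤ γ j) ∨ (q : ℤ) ≤ γ v) :
    ¬ Ok (I50 n q k) γ :=
  fun hok => (ok_iff P γ).mp hok ⟨hNN, h⟩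

lemma ok_of (P : Pos50 u v) {γ : Fin (n + 1) → ℤ}
    (h : ¬ (2 ≤ γ u ∨ (1 ≤ γ u ∧ ∃ j, Lo n j ∧ 1 ≤ γ j) ∨ (q : ℤ) ≤ γ v)) :
    Ok (I50 n q k) γ :=
  (ok_iff P γ).mpr (fun h' => h h'.2)

/-! ### the multidegrees -/

/-- `e_c - e_b` -/
def δ (c b : Fin (n + 1)) : Fin (n + 1) → ℤ := fun x =>
  (if x = c then 1 else 0) - (if x = b then 1 else 0)

/-- `e_u + (q - 1) e_n - q e_v` -/
def αF (u v : Fin (n + 1)) (q : ℕ) : Fin (n + 1) → ℤ := fun x =>
  (if x = u then 1 else 0) + (if x = Fin.last n then (q : ℤ) - 1 else 0) -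
    (if x = v then (q : ℤ) else 0)

/-- `m - q e_v` -/
def αE (v : Fin (n + 1)) (q : ℕ) (m : Fin (n + 1) →₀ ℕ) : Fin (n + 1) → ℤ := fun x =>
  (m x : ℤ) - (if x = v then (q : ℤ) else 0)

/-- evaluate an entry of a shifted least common multiple of generators -/
macro "ev50" : tactic =>
  `(tactic| (simp only [sh_apply, Finsupp.sup_apply, g1_apply, g2_apply, δ, αF, αE,
      Fin.ext_iff, Fin.val_last]; first | omega | (split_ifs <;> omega)))

/-- evaluate an entry of a shifted least common multiple of generators in a hypothesis -/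
macro "ev50h" h:ident : tactic =>
  `(tactic| (simp only [sh_apply, Finsupp.sup_apply, g1_apply, g2_apply, δ, αF, αE,
      Fin.ext_iff, Fin.val_last] at $h:ident; first | omega | (split_ifs at $h:ident <;> omega)))

/-! ### the families -/

theorem famA (P : Pos50 u v) (hq : 2 ≤ q) :
    Module.Finite k ↥(tPiece (I50 n q k) (δ (Fin.last n) u)) ∧
      Module.finrank k ↥(tPiece (I50 n q k) (δ (Fin.last n) u)) = 2 := by
  have hPu := P.hu
  have hPv := P.hv
  have hPn := P.hn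
  obtain ⟨w, hw⟩ : ∃ w : Fin (n + 1), w.val = 2 := ⟨⟨2, by omega⟩, rfl⟩
  have hNN1 : ∀ b : Fin (n + 1), NN (sh (g1 u b) (δ (Fin.last n) u)) := by
    intro b x
    ev50
  have hu1 : ∀ b : Fin (n + 1), (g1 u b) u = 2 ↔ b = u := by
    intro b
    rw [g1_apply, if_pos rfl]
    constructor
    · intro h
      by_contra hne
      rw [if_neg (fun e => hne e.symm)] at h
      omega
    · intro h
      rw [if_pos h.symm]
  refine finrank_two_of_links (Gs50 n q) (hG50 hPn) (hGs50 hPn) (isMonomial_I50 hPn)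
    (fun g => g u = 2) (g1 u u) (g1 u w) ?_ ?_ ?_ ?_ ?_
  · refine ⟨g1_mem P (by omega), ⟨hNN1 u, ?_⟩, (hu1 u).mpr rfl⟩
    apply ok_of P
    rintro (h | ⟨h, j, ⟨hj1, hj2⟩, hj⟩ | h)
    · ev50h h
    · ev50h hj
    · ev50h h
  · refine ⟨g1_mem P (by omega), ⟨hNN1 w, ?_⟩, fun h => ?_⟩
    · apply ok_of P
      rintro (h | ⟨h, j, ⟨hj1, hj2⟩, hj⟩ | h)
      · ev50h h
      · ev50h h
      · ev50h h
    · have h1 := (hu1 w).mp h
      have h2 := congrArg Fin.val h1
      omega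
  · intro g hg g' hg' hc hok
    rcases gs_cases P hg with ⟨b, hb, rfl⟩ | rfl
    · rcases gs_cases P hg' with ⟨b', hb', rfl⟩ | rfl
      · refine ⟨hNN1 b', ?_⟩
        show (g1 u b') u = 2 ↔ (g1 u b) u = 2
        rw [hu1, hu1]
        by_cases hbu : b = u
        · by_cases hb'u : b' = u
          · exact ⟨fun _ => hbu, fun _ => hb'u⟩
          · exfalso
            have hbv : b.val = u.val := congrArg Fin.val hbu
            have hb'v : b'.val ≠ u.val := fun e => hb'u (Fin.ext e)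
            refine not_ok_of P ?_ (Or.inr (Or.inl ⟨?_, b', ⟨by omega, hb'⟩, ?_⟩)) hok
            · intro x; ev50
            · ev50
            · ev50
        · by_cases hb'u : b' = u
          · exfalso
            have hb'v : b'.val = u.val := congrArg Fin.val hb'u
            have hbv : b.val ≠ u.val := fun e => hbu (Fin.ext e)
            refine not_ok_of P ?_ (Or.inr (Or.inl ⟨?_, b, ⟨by omega, hb⟩, ?_⟩)) hok
            · intro x; ev50
            · ev50
            · ev50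
          · exact ⟨fun h => absurd h hb'u, fun h => absurd h hbu⟩
      · exfalso
        refine not_ok_of P ?_ (Or.inr (Or.inr ?_)) hok
        · intro x; ev50
        · ev50
    · exfalso
      have h1 := hc.1 u
      ev50h h1
  · intro g hg hc hp
    rcases gs_cases P hg with ⟨b, hb, rfl⟩ | rfl
    · have hbu : b = u := (hu1 b).mp hp
      rw [hbu] at hc ⊢
      rw [sup_idem]
      exact hc.2
    · exfalso
      have h1 := hc.1 u
      ev50h h1
  · intro g hg hc hp
    rcases gs_cases P hg with ⟨b, hb, rfl⟩ | rfl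
    · have hbu : b ≠ u := fun e => hp ((hu1 b).mpr e)
      have hbv : b.val ≠ u.val := fun e => hbu (Fin.ext e)
      apply ok_of P
      rintro (h | ⟨h, j, ⟨hj1, hj2⟩, hj⟩ | h)
      · ev50h h
      · ev50h h
      · ev50h h
    · exfalso
      have h1 := hc.1 u
      ev50h h1

theorem famB (P : Pos50 u v) (hq : 2 ≤ q) {c : Fin (n + 1)} (hc : Lo n c) :
    Module.Finite k ↥(tPiece (I50 n q k) (δ c u)) ∧
      Module.finrank k ↥(tPiece (I50 n q k) (δ c u)) = 1 := by
  have hPu := P.hu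
  have hPv := P.hv
  have hPn := P.hn
  have hc1 := hc.1
  have hc2 := hc.2
  obtain ⟨w, hw⟩ : ∃ w : Fin (n + 1), w.val = 2 := ⟨⟨2, by omega⟩, rfl⟩
  have hNN1 : ∀ b : Fin (n + 1), NN (sh (g1 u b) (δ c u)) := by
    intro b x
    ev50
  refine finrank_one_of_links (Gs50 n q) (hG50 hPn) (hGs50 hPn) (isMonomial_I50 hPn) (g1 u w)
    (g1_mem P (by omega)) ⟨hNN1 w, ?_⟩ ?_ ?_
  · apply ok_of P
    rintro (h | ⟨h, j, ⟨hj1, hj2⟩, hj⟩ | h)
    · ev50h h
    · ev50h h
    · ev50h h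
  · intro g hg g' hg' hcd hok
    rcases gs_cases P hg' with ⟨b', hb', rfl⟩ | rfl
    · exact hNN1 b'
    · exfalso
      rcases gs_cases P hg with ⟨b, hb, rfl⟩ | rfl
      · refine not_ok_of P ?_ (Or.inr (Or.inr ?_)) hok
        · intro x; ev50
        · ev50
      · have h1 := hcd.1 u
        ev50h h1
  · intro g hg hcd
    rcases gs_cases P hg with ⟨b, hb, rfl⟩ | rfl
    · have hv : ¬ ((q : ℤ) ≤ sh (g1 u b) (δ c u) v) := fun h =>
        (ok_iff P _).mp hcd.2 ⟨hcd.1, Or.inr (Or.inr h)⟩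
      have hbv : b.val ≠ u.val := by
        intro e
        refine not_ok_of P hcd.1 (Or.inr (Or.inl ⟨?_, c, hc, ?_⟩)) hcd.2
        · ev50
        · ev50
      apply ok_of P
      rintro (h | ⟨h, j, ⟨hj1, hj2⟩, hj⟩ | h)
      · ev50h h
      · ev50h h
      · simp only [sh_apply, Finsupp.sup_apply, g1_apply, g2_apply, δ, Fin.ext_iff,
          Fin.val_last] at h hv
        split_ifs at h hv <;> omega
    · exfalso
      have h1 := hcd.1 u
      ev50h h1

theorem famC (P : Pos50 u v) (hq : 2 ≤ q) {b₀ : Fin (n + 1)} (hb₀ : Mid50 n b₀) :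
    Module.Finite k ↥(tPiece (I50 n q k) (δ (Fin.last n) b₀)) ∧
      Module.finrank k ↥(tPiece (I50 n q k) (δ (Fin.last n) b₀)) = 1 := by
  have hPu := P.hu
  have hPv := P.hv
  have hPn := P.hn
  have hb1 := hb₀.1
  have hb2 := hb₀.2
  have hcand : ∀ g ∈ Gs50 n q, NN (sh g (δ (Fin.last n) b₀)) → g = g1 u b₀ := by
    intro g hg hNN
    rcases gs_cases P hg with ⟨b, hb, rfl⟩ | rfl
    · have h1 := hNN b₀
      by_contra hne
      have hbb : b ≠ b₀ := fun e => hne (by rw [e])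
      have hbb' : b.val ≠ b₀.val := fun e => hbb (Fin.ext e)
      ev50h h1
    · exfalso
      have h1 := hNN b₀
      ev50h h1
  have hNNr : NN (sh (g1 u b₀) (δ (Fin.last n) b₀)) := by
    intro x
    ev50
  have hokr : Ok (I50 n q k) (sh (g1 u b₀) (δ (Fin.last n) b₀)) := by
    apply ok_of P
    rintro (h | ⟨h, j, ⟨hj1, hj2⟩, hj⟩ | h)
    · ev50h h
    · ev50h hj
    · ev50h h
  refine finrank_one_of_links (Gs50 n q) (hG50 hPn) (hGs50 hPn) (isMonomial_I50 hPn) (g1 u b₀)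
    (g1_mem P hb2) ⟨hNNr, hokr⟩ ?_ ?_
  · intro g hg g' hg' hcd hok
    have hg0 := hcand g hg hcd.1
    subst hg0
    rcases gs_cases P hg' with ⟨b', hb', rfl⟩ | rfl
    · by_cases hbb : b' = b₀
      · rw [hbb]; exact hNNr
      · exfalso
        have hbb' : b'.val ≠ b₀.val := fun e => hbb (Fin.ext e)
        by_cases hb'u : b' = u
        · have hb'uv : b'.val = u.val := congrArg Fin.val hb'u
          refine not_ok_of P ?_ (Or.inl ?_) hok
          · intro x; ev50
          · ev50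
        · have hb'uv : b'.val ≠ u.val := fun e => hb'u (Fin.ext e)
          refine not_ok_of P ?_ (Or.inr (Or.inl ⟨?_, b', ⟨by omega, hb'⟩, ?_⟩)) hok
          · intro x; ev50
          · ev50
          · ev50
    · exfalso
      refine not_ok_of P ?_ (Or.inr (Or.inr ?_)) hok
      · intro x; ev50
      · ev50
  · intro g hg hcd
    have hg0 := hcand g hg hcd.1
    rw [hg0, sup_idem]
    exact hokr

theorem famD (P : Pos50 u v) (hq : 2 ≤ q) :
    Module.Finite k ↥(tPiece (I50 n q k) (δ (Fin.last n) v)) ∧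
      Module.finrank k ↥(tPiece (I50 n q k) (δ (Fin.last n) v)) = 2 := by
  have hPu := P.hu
  have hPv := P.hv
  have hPn := P.hn
  have hlov : Lo n v := ⟨by omega, by omega⟩
  have hcand : ∀ b : Fin (n + 1), NN (sh (g1 u b) (δ (Fin.last n) v)) → b = v := by
    intro b hNN
    have h1 := hNN v
    by_contra hne
    have hbb' : b.val ≠ v.val := fun e => hne (Fin.ext e)
    ev50h h1
  have hNN0 : NN (sh (g2 v q) (δ (Fin.last n) v)) := by
    intro x
    ev50
  have hok0 : Ok (I50 n q k) (sh (g2 v q) (δ (Fin.last n) v)) := by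
    apply ok_of P
    rintro (h | ⟨h, j, ⟨hj1, hj2⟩, hj⟩ | h)
    · ev50h h
    · ev50h h
    · ev50h h
  have hNN1 : NN (sh (g1 u v) (δ (Fin.last n) v)) := by
    intro x
    ev50
  have hok1 : Ok (I50 n q k) (sh (g1 u v) (δ (Fin.last n) v)) := by
    apply ok_of P
    rintro (h | ⟨h, j, ⟨hj1, hj2⟩, hj⟩ | h)
    · ev50h h
    · ev50h hj
    · ev50h h
  have hp1 : ∀ b : Fin (n + 1), ¬ ((g1 u b) u = 0) := by
    intro b h
    rw [g1_apply, if_pos rfl] at h
    omega
  have hp2 : (g2 v q) u = 0 := by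
    rw [g2_apply, if_neg (ne_of_val_ne (by omega))]
  have hbad : ∀ b' : Fin (n + 1), ¬ Ok (I50 n q k) (sh (g2 v q ⊔ g1 u b') (δ (Fin.last n) v)) := by
    intro b'
    refine not_ok_of P ?_ (Or.inr (Or.inl ⟨?_, v, hlov, ?_⟩))
    · intro x; ev50
    · ev50
    · ev50
  refine finrank_two_of_links (Gs50 n q) (hG50 hPn) (hGs50 hPn) (isMonomial_I50 hPn)
    (fun g => g u = 0) (g2 v q) (g1 u v) ⟨g2_mem P, ⟨hNN0, hok0⟩, hp2⟩
    ⟨g1_mem P (by omega), ⟨hNN1, hok1⟩, hp1 v⟩ ?_ ?_ ?_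
  · intro g hg g' hg' hc hok
    rcases gs_cases P hg with ⟨b, hb, rfl⟩ | rfl
    · have hbv := hcand b hc.1
      subst hbv
      rcases gs_cases P hg' with ⟨b', hb', rfl⟩ | rfl
      · by_cases hbb : b' = b
        · rw [hbb]
          exact ⟨hNN1, Iff.rfl⟩
        · exfalso
          have hbb' : b'.val ≠ b.val := fun e => hbb (Fin.ext e)
          by_cases hb'u : b' = u
          · have hb'uv : b'.val = u.val := congrArg Fin.val hb'u
            refine not_ok_of P ?_ (Or.inl ?_) hok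
            · intro x; ev50
            · ev50
          · have hb'uv : b'.val ≠ u.val := fun e => hb'u (Fin.ext e)
            refine not_ok_of P ?_ (Or.inr (Or.inl ⟨?_, b', ⟨by omega, hb'⟩, ?_⟩)) hok
            · intro x; ev50
            · ev50
            · ev50
      · exfalso
        rw [sup_comm] at hok
        exact hbad b hok
    · rcases gs_cases P hg' with ⟨b', hb', rfl⟩ | rfl
      · exact absurd hok (hbad b')
      · exact ⟨hNN0, Iff.rfl⟩
  · intro g hg hc hp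
    rcases gs_cases P hg with ⟨b, hb, rfl⟩ | rfl
    · exact absurd hp (hp1 b)
    · rw [sup_idem]; exact hok0
  · intro g hg hc hp
    rcases gs_cases P hg with ⟨b, hb, rfl⟩ | rfl
    · have hbv := hcand b hc.1
      rw [hbv, sup_idem]; exact hok1
    · exact absurd hp2 hp

theorem famE (P : Pos50 u v) (hq : 2 ≤ q) {m : Fin (n + 1) →₀ ℕ} (hmu : m u = 0)
    (hmv : m v < q) (hlo : ∃ j, Lo n j ∧ 1 ≤ m j)
    (hx : ¬ (m v + 1 = q ∧ ∀ j, Mid50 n j → m j = 0)) :
    Module.Finite k ↥(tPiece (I50 n q k) (αE v q m)) ∧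
      Module.finrank k ↥(tPiece (I50 n q k) (αE v q m)) = 1 := by
  have hPu := P.hu
  have hPv := P.hv
  have hPn := P.hn
  have hNNr : NN (sh (g2 v q) (αE v q m)) := by
    intro x
    ev50
  have hokr : Ok (I50 n q k) (sh (g2 v q) (αE v q m)) := by
    apply ok_of P
    rintro (h | ⟨h, j, ⟨hj1, hj2⟩, hj⟩ | h)
    · ev50h h
    · ev50h h
    · ev50h h
  have hcand : ∀ g ∈ Gs50 n q, (NN (sh g (αE v q m)) ∧ Ok (I50 n q k) (sh g (αE v q m))) →
      g = g2 v q := by
    intro g hg hcd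
    rcases gs_cases P hg with ⟨b, hb, rfl⟩ | rfl
    · exfalso
      have hv := hcd.1 v
      have hbv : b.val = v.val ∧ m v + 1 = q := by
        simp only [sh_apply, g1_apply, αE, Fin.ext_iff] at hv
        split_ifs at hv <;> omega
      have hmid : ¬ ∀ j, Mid50 n j → m j = 0 := fun h => hx ⟨hbv.2, h⟩
      push Not at hmid
      obtain ⟨j, ⟨hj1, hj2⟩, hj0⟩ := hmid
      refine not_ok_of P hcd.1 (Or.inr (Or.inl ⟨?_, j, ⟨by omega, hj2⟩, ?_⟩)) hcd.2
      · ev50
      · ev50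
    · rfl
  refine finrank_one_of_links (Gs50 n q) (hG50 hPn) (hGs50 hPn) (isMonomial_I50 hPn) (g2 v q)
    (g2_mem P) ⟨hNNr, hokr⟩ ?_ ?_
  · intro g hg g' hg' hcd hok
    have hg0 := hcand g hg hcd
    subst hg0
    rcases gs_cases P hg' with ⟨b', hb', rfl⟩ | rfl
    · exfalso
      obtain ⟨j, ⟨hj1, hj2⟩, hj⟩ := hlo
      refine not_ok_of P ?_ (Or.inr (Or.inl ⟨?_, j, ⟨hj1, hj2⟩, ?_⟩)) hok
      · intro x; ev50
      · ev50
      · ev50
    · exact hNNr
  · intro g hg hcd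
    have hg0 := hcand g hg hcd
    rw [hg0, sup_idem]
    exact hokr

theorem famF (P : Pos50 u v) (hq : 2 ≤ q) :
    Module.Finite k ↥(tPiece (I50 n q k) (αF u v q)) ∧
      Module.finrank k ↥(tPiece (I50 n q k) (αF u v q)) = 1 := by
  have hPu := P.hu
  have hPv := P.hv
  have hPn := P.hn
  have hNNr : NN (sh (g2 v q) (αF u v q)) := by
    intro x
    ev50
  have hokr : Ok (I50 n q k) (sh (g2 v q) (αF u v q)) := by
    apply ok_of P
    rintro (h | ⟨h, j, ⟨hj1, hj2⟩, hj⟩ | h)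
    · ev50h h
    · ev50h hj
    · ev50h h
  have hcand : ∀ g ∈ Gs50 n q, NN (sh g (αF u v q)) → g = g2 v q := by
    intro g hg hNN
    rcases gs_cases P hg with ⟨b, hb, rfl⟩ | rfl
    · exfalso
      have h1 := hNN v
      ev50h h1
    · rfl
  refine finrank_one_of_links (Gs50 n q) (hG50 hPn) (hGs50 hPn) (isMonomial_I50 hPn) (g2 v q)
    (g2_mem P) ⟨hNNr, hokr⟩ ?_ ?_
  · intro g hg g' hg' hcd hok
    have hg0 := hcand g hg hcd.1
    subst hg0
    rcases gs_cases P hg' with ⟨b', hb', rfl⟩ | rfl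
    · exfalso
      refine not_ok_of P ?_ (Or.inl ?_) hok
      · intro x; ev50
      · ev50
    · exact hNNr
  · intro g hg hcd
    have hg0 := hcand g hg hcd.1
    rw [hg0, sup_idem]
    exact hokr

end Groth.Agent.H43.HilbS50
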