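import Groth.Agent.H43.HilbS7

set_option linter.unusedVariables false
set_option linter.unusedSectionVars false
set_option linter.style.longLine false
set_option linter.unusedSimpArgs false
set_option linter.unusedTactic false
set_option linter.unreachableTactic false

/-! The degree-zero part of `T(I)` for `I = x_0 (x_0, …, x_{n-1}) + (x_1^q)`: classification of the
nonzero multidegrees and the dimension count `2 n - 1 + C(n + q - 1, n - 1)`. -/

noncomputable section

namespace Groth.Agent.H43.HilbS50

open W4c1hilbpn MvPolynomial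
open Groth.Agent.H43.HilbT Groth.Agent.H43.HilbS

variable {n q : ℕ} {k : Type*} [Field k]

instance (n : ℕ) : DecidablePred (Mid50 n) := fun j => by unfold Mid50; infer_instance

/-- the middle variables -/
def midF50 (n : ℕ) : Finset (Fin (n + 1)) := Finset.univ.filter (fun j => Mid50 n j)

lemma mem_midF50 {j : Fin (n + 1)} : j ∈ midF50 n ↔ Mid50 n j := by simp [midF50]

lemma card_midF50 (hn : 3 ≤ n) : (midF50 n).card = n - 2 := by
  have : (midF50 n).map Fin.valEmbedding = Finset.Ico 2 n := by
    ext m
    simp only [Finset.mem_map, mem_midF50, Fin.valEmbedding_apply, Finset.mem_Ico]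
    constructor
    · rintro ⟨j, ⟨h1, h2⟩, rfl⟩
      exact ⟨h1, by omega⟩
    · rintro ⟨h1, h2⟩
      exact ⟨⟨m, by omega⟩, ⟨h1, by show m + 1 ≤ n; omega⟩, rfl⟩
  have h1 := Nat.card_Ico 2 n
  have h2 : (midF50 n).card = (Finset.Ico 2 n).card := by
    rw [← this, Finset.card_map]
  omega

variable {u v : Fin (n + 1)}

lemma cases4 (P : Pos50 u v) (x : Fin (n + 1)) :
    x = u ∨ x = v ∨ x = Fin.last n ∨ Mid50 n x := by
  have hPu := P.hu
  have hPv := P.hv
  have hx := x.isLt
  by_cases h1 : x.val = u.val
  · exact Or.inl (Fin.ext h1)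
  · by_cases h2 : x.val = v.val
    · exact Or.inr (Or.inl (Fin.ext h2))
    · by_cases h3 : x.val = n
      · exact Or.inr (Or.inr (Or.inl (Fin.ext (by rw [Fin.val_last]; exact h3))))
      · exact Or.inr (Or.inr (Or.inr ⟨by omega, by omega⟩))

lemma sum_split (P : Pos50 u v) (γ : Fin (n + 1) → ℤ) :
    ∑ x, γ x = γ u + γ v + γ (Fin.last n) + ∑ j ∈ midF50 n, γ j := by
  have hPu := P.hu
  have hPv := P.hv
  have hPn := P.hn
  have hu : (Finset.univ : Finset (Fin (n + 1))) =
      insert u (insert v (insert (Fin.last n) (midF50 n))) := by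
    ext x
    simp only [Finset.mem_univ, Finset.mem_insert, mem_midF50, true_iff]
    exact cases4 P x
  have n1 : u ∉ insert v (insert (Fin.last n) (midF50 n)) := by
    simp only [Finset.mem_insert, mem_midF50, not_or]
    refine ⟨ne_of_val_ne (by omega), ne_of_val_ne (by rw [Fin.val_last]; omega), fun h => ?_⟩
    have := h.1
    omega
  have n2 : v ∉ insert (Fin.last n) (midF50 n) := by
    simp only [Finset.mem_insert, mem_midF50, not_or]
    refine ⟨ne_of_val_ne (by rw [Fin.val_last]; omega), fun h => ?_⟩
    have := h.1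
    omega
  have n3 : Fin.last n ∉ midF50 n := by
    rw [mem_midF50]
    intro h
    have := h.2
    rw [Fin.val_last] at this
    omega
  rw [hu, Finset.sum_insert n1, Finset.sum_insert n2, Finset.sum_insert n3]
  ring

lemma fs_ext (P : Pos50 u v) {m m' : Fin (n + 1) →₀ ℕ} (hu : m u = m' u) (hv : m v = m' v)
    (hz : m (Fin.last n) = m' (Fin.last n)) (hmid : ∀ j, Mid50 n j → m j = m' j) : m = m' := by
  ext x
  rcases cases4 P x with h | h | h | h
  · rw [h]; exact hu
  · rw [h]; exact hv
  · rw [h]; exact hz
  · exact hmid x h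

/-! ### the list of multidegrees -/

/-- exponent vectors of degree `q` in `x_1, …, x_n`, other than those of `x_1^q` and `x_n^q` -/
def M50 (u v : Fin (n + 1)) (q : ℕ) : Finset (Fin (n + 1) →₀ ℕ) :=
  (((Finset.univ.erase u).finsuppAntidiag q).erase (g2 v q)).erase (g2 (Fin.last n) q)

/-- exponent of `x_1^{q-1} x_n` -/
def mD (v : Fin (n + 1)) (q : ℕ) : Fin (n + 1) →₀ ℕ :=
  Finsupp.single v (q - 1) + Finsupp.single (Fin.last n) 1

/-- all multidegrees of total degree zero with a nonzero graded piece -/
def L50 (u v : Fin (n + 1)) (q : ℕ) : Finset (Fin (n + 1) → ℤ) :=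
  (((Finset.univ.erase u).image (fun c => δ c u) ∪
    (midF50 n).image (fun b => δ (Fin.last n) b)) ∪ (M50 u v q).image (αE v q)) ∪ {αF u v q}

lemma mem_LA {c : Fin (n + 1)} (hc : c ≠ u) : δ c u ∈ L50 u v q := by
  unfold L50
  refine Finset.mem_union_left _ (Finset.mem_union_left _ (Finset.mem_union_left _ ?_))
  exact Finset.mem_image_of_mem _ (Finset.mem_erase.mpr ⟨hc, Finset.mem_univ c⟩)

lemma mem_LB {b : Fin (n + 1)} (hb : Mid50 n b) : δ (Fin.last n) b ∈ L50 u v q := by
  unfold L50
  refine Finset.mem_union_left _ (Finset.mem_union_left _ (Finset.mem_union_right _ ?_))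
  exact Finset.mem_image_of_mem _ (mem_midF50.mpr hb)

lemma mem_LC {m : Fin (n + 1) →₀ ℕ} (hm : m ∈ M50 u v q) : αE v q m ∈ L50 u v q := by
  unfold L50
  refine Finset.mem_union_left _ (Finset.mem_union_right _ ?_)
  exact Finset.mem_image_of_mem _ hm

lemma mem_LD : αF u v q ∈ L50 u v q := by
  unfold L50
  exact Finset.mem_union_right _ (Finset.mem_singleton_self _)

lemma mem_L50 {α : Fin (n + 1) → ℤ} (h : α ∈ L50 u v q) :
    (∃ c, c ≠ u ∧ α = δ c u) ∨ (∃ b, Mid50 n b ∧ α = δ (Fin.last n) b) ∨
      (∃ m ∈ M50 u v q, α = αE v q m) ∨ α = αF u v q := by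
  unfold L50 at h
  simp only [Finset.mem_union, Finset.mem_image, Finset.mem_erase, Finset.mem_univ, and_true,
    Finset.mem_singleton, mem_midF50] at h
  rcases h with ((⟨c, hc, e⟩ | ⟨b, hb, e⟩) | ⟨m, hm, e⟩) | e
  · exact Or.inl ⟨c, hc, e.symm⟩
  · exact Or.inr (Or.inl ⟨b, hb, e.symm⟩)
  · exact Or.inr (Or.inr (Or.inl ⟨m, hm, e.symm⟩))
  · exact Or.inr (Or.inr (Or.inr e))

lemma mem_M50_of (P : Pos50 u v) {m : Fin (n + 1) →₀ ℕ} (hmu : m u = 0) (hsum : ∑ x, m x = q)
    (h1 : m ≠ g2 v q) (h2 : m ≠ g2 (Fin.last n) q) : m ∈ M50 u v q := by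
  unfold M50
  refine Finset.mem_erase.mpr ⟨h2, Finset.mem_erase.mpr ⟨h1, ?_⟩⟩
  rw [Finset.mem_finsuppAntidiag]
  constructor
  · have := Finset.add_sum_erase Finset.univ (fun x => m x) (Finset.mem_univ u)
    simp only [hmu, zero_add] at this
    rw [← hsum]
    exact this
  · intro x hx
    rw [Finsupp.mem_support_iff] at hx
    rw [Finset.mem_erase]
    refine ⟨fun e => hx (by rw [e]; exact hmu), Finset.mem_univ x⟩

lemma m_entries (P : Pos50 u v) {m : Fin (n + 1) →₀ ℕ} (hm : m ∈ M50 u v q) :
    m u = 0 ∧ (m v : ℤ) + (m (Fin.last n) : ℤ) + ∑ j ∈ midF50 n, (m j : ℤ) = q ∧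
      m ≠ g2 v q ∧ m ≠ g2 (Fin.last n) q := by
  unfold M50 at hm
  obtain ⟨h2, hm⟩ := Finset.mem_erase.mp hm
  obtain ⟨h1, hm⟩ := Finset.mem_erase.mp hm
  rw [Finset.mem_finsuppAntidiag] at hm
  obtain ⟨hsum, hsupp⟩ := hm
  have hmu : m u = 0 := by
    by_contra h
    have := hsupp (Finsupp.mem_support_iff.mpr h)
    rw [Finset.mem_erase] at this
    exact this.1 rfl
  refine ⟨hmu, ?_, h1, h2⟩
  have h3 := Finset.add_sum_erase Finset.univ (fun x => m x) (Finset.mem_univ u)
  simp only [hmu, zero_add] at h3
  have h4 : ∑ x, (m x : ℤ) = q := by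
    rw [← Nat.cast_sum, ← h3]
    exact_mod_cast hsum
  have h5 := sum_split P (fun x => (m x : ℤ))
  simp only [hmu, Nat.cast_zero, zero_add] at h5
  rw [← h4, h5]

lemma αE_mD (P : Pos50 u v) (hq : 2 ≤ q) : αE v q (mD v q) = δ (Fin.last n) v := by
  have hPu := P.hu
  have hPv := P.hv
  have hPn := P.hn
  funext x
  simp only [αE, δ, mD, Finsupp.add_apply, Finsupp.single_apply, Fin.ext_iff, Fin.val_last]
  split_ifs <;> push_cast <;> omega

lemma mD_mem (P : Pos50 u v) (hq : 2 ≤ q) : mD v q ∈ M50 u v q := by
  have hPu := P.hu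
  have hPv := P.hv
  have hPn := P.hn
  have hvz : v ≠ Fin.last n := ne_of_val_ne (by rw [Fin.val_last]; omega)
  have hvu : v ≠ u := ne_of_val_ne (by omega)
  have hzu : Fin.last n ≠ u := ne_of_val_ne (by rw [Fin.val_last]; omega)
  apply mem_M50_of P
  · unfold mD
    simp [Finsupp.add_apply, Finsupp.single_apply, hvu, hzu]
  · unfold mD
    simp only [Finsupp.add_apply, Finsupp.single_apply, Finset.sum_add_distrib,
      Finset.sum_ite_eq, Finset.mem_univ, if_true]
    omega
  · intro e
    have := DFunLike.congr_fun e (Fin.last n)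
    unfold mD at this
    rw [Finsupp.add_apply, Finsupp.single_apply, Finsupp.single_apply, if_neg hvz, if_pos rfl,
      g2_apply, if_neg hvz.symm] at this
    omega
  · intro e
    have := DFunLike.congr_fun e v
    unfold mD at this
    rw [Finsupp.add_apply, Finsupp.single_apply, Finsupp.single_apply, if_pos rfl,
      if_neg hvz.symm, g2_apply, if_neg hvz] at this
    omega

lemma sum_δ (c b : Fin (n + 1)) : ∑ x, δ c b x = 0 := by
  unfold δ
  rw [Finset.sum_sub_distrib, Finset.sum_ite_eq', Finset.sum_ite_eq', if_pos (Finset.mem_univ c),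
    if_pos (Finset.mem_univ b)]
  norm_num

lemma sum_αF (u v : Fin (n + 1)) (q : ℕ) : ∑ x, αF u v q x = 0 := by
  unfold αF
  rw [Finset.sum_sub_distrib, Finset.sum_add_distrib, Finset.sum_ite_eq', Finset.sum_ite_eq',
    Finset.sum_ite_eq', if_pos (Finset.mem_univ u), if_pos (Finset.mem_univ _),
    if_pos (Finset.mem_univ v)]
  ring

lemma sum_αE (P : Pos50 u v) {m : Fin (n + 1) →₀ ℕ} (hm : m ∈ M50 u v q) :
    ∑ x, αE v q m x = 0 := by
  obtain ⟨hmu, hsum, _, _⟩ := m_entries P hm
  unfold αE
  rw [Finset.sum_sub_distrib, Finset.sum_ite_eq', if_pos (Finset.mem_univ v)]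
  have h5 := sum_split P (fun x => (m x : ℤ))
  simp only [hmu, Nat.cast_zero, zero_add] at h5
  rw [h5, hsum]
  ring

/-! ### the sum over the list -/

lemma sum_L50 (P : Pos50 u v) (hq : 2 ≤ q) (f : (Fin (n + 1) → ℤ) → ℕ) :
    ∑ α ∈ L50 u v q, f α = ∑ c ∈ Finset.univ.erase u, f (δ c u) +
      ∑ b ∈ midF50 n, f (δ (Fin.last n) b) + ∑ m ∈ M50 u v q, f (αE v q m) + f (αF u v q) := by
  have hPu := P.hu
  have hPv := P.hv
  have hPn := P.hn
  have eA : ∀ c : Fin (n + 1), c ≠ u → δ c u u = -1 := by
    intro c hc
    have hcv : c.val ≠ u.val := fun e => hc (Fin.ext e)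
    simp only [δ, Fin.ext_iff]
    split_ifs <;> omega
  have eB : ∀ b : Fin (n + 1), Mid50 n b → δ (Fin.last n) b u = 0 := by
    intro b hb
    have hb1 := hb.1
    simp only [δ, Fin.ext_iff, Fin.val_last]
    split_ifs <;> omega
  have eB' : ∀ b : Fin (n + 1), Mid50 n b → δ (Fin.last n) b b = -1 := by
    intro b hb
    have hb2 := hb.2
    simp only [δ, Fin.ext_iff, Fin.val_last]
    split_ifs <;> omega
  have eC : ∀ m ∈ M50 u v q, αE v q m u = 0 := by
    intro m hm
    obtain ⟨hmu, _, _, _⟩ := m_entries P hm
    have hne : u ≠ v := ne_of_val_ne (by omega)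
    simp only [αE, hmu, if_neg hne]
    norm_num
  have eC' : ∀ (m : Fin (n + 1) →₀ ℕ) (b : Fin (n + 1)), Mid50 n b → 0 ≤ αE v q m b := by
    intro m b hb
    have hb1 := hb.1
    have hne : b ≠ v := ne_of_val_ne (by omega)
    simp only [αE, if_neg hne]
    omega
  have eD : αF u v q u = 1 := by
    simp only [αF, Fin.ext_iff, Fin.val_last]
    split_ifs <;> omega
  unfold L50
  have d3 : Disjoint (((Finset.univ.erase u).image (fun c => δ c u) ∪
      (midF50 n).image (fun b => δ (Fin.last n) b)) ∪ (M50 u v q).image (αE v q))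
      {αF u v q} := by
    rw [Finset.disjoint_singleton_right]
    intro h
    simp only [Finset.mem_union, Finset.mem_image, Finset.mem_erase, Finset.mem_univ, and_true,
      mem_midF50] at h
    rcases h with (⟨c, hc, e⟩ | ⟨b, hb, e⟩) | ⟨m, hm, e⟩
    · have := congrFun e u
      rw [eA c hc, eD] at this
      omega
    · have := congrFun e u
      rw [eB b hb, eD] at this
      omega
    · have := congrFun e u
      rw [eC m hm, eD] at this
      omega
  have d2 : Disjoint ((Finset.univ.erase u).image (fun c => δ c u) ∪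
      (midF50 n).image (fun b => δ (Fin.last n) b)) ((M50 u v q).image (αE v q)) := by
    rw [Finset.disjoint_left]
    intro α h1 h2
    simp only [Finset.mem_union, Finset.mem_image, Finset.mem_erase, Finset.mem_univ, and_true,
      mem_midF50] at h1 h2
    obtain ⟨m, hm, rfl⟩ := h2
    rcases h1 with ⟨c, hc, e⟩ | ⟨b, hb, e⟩
    · have := congrFun e u
      rw [eA c hc, eC m hm] at this
      omega
    · have := congrFun e b
      rw [eB' b hb] at this
      have := eC' m b hb
      omega
  have d1 : Disjoint ((Finset.univ.erase u).image (fun c => δ c u))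
      ((midF50 n).image (fun b => δ (Fin.last n) b)) := by
    rw [Finset.disjoint_left]
    intro α h1 h2
    simp only [Finset.mem_image, Finset.mem_erase, Finset.mem_univ, and_true, mem_midF50] at h1 h2
    obtain ⟨c, hc, rfl⟩ := h1
    obtain ⟨b, hb, e⟩ := h2
    have := congrFun e u
    rw [eA c hc, eB b hb] at this
    omega
  have iA : Set.InjOn (fun c => δ c u) ↑(Finset.univ.erase u) := by
    intro c hc c' hc' e
    have hc : c ≠ u := (Finset.mem_erase.mp hc).1
    have hcv : c.val ≠ u.val := fun e' => hc (Fin.ext e')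
    by_contra hne
    have hv : c.val ≠ c'.val := fun e' => hne (Fin.ext e')
    have := congrFun e c
    simp only [δ, Fin.ext_iff] at this
    split_ifs at this <;> omega
  have iB : Set.InjOn (fun b => δ (Fin.last n) b) ↑(midF50 n) := by
    intro b hb b' hb' e
    have hb : Mid50 n b := mem_midF50.mp hb
    have hb2 := hb.2
    by_contra hne
    have hv : b.val ≠ b'.val := fun e' => hne (Fin.ext e')
    have := congrFun e b
    simp only [δ, Fin.ext_iff, Fin.val_last] at this
    split_ifs at this <;> omega
  have iC : Set.InjOn (αE v q) ↑(M50 u v q) := by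
    intro m hm m' hm' e
    ext x
    have := congrFun e x
    simp only [αE] at this
    omega
  rw [Finset.sum_union d3, Finset.sum_union d2, Finset.sum_union d1, Finset.sum_image iA,
    Finset.sum_image iB, Finset.sum_image iC, Finset.sum_singleton]

lemma card_M50 (P : Pos50 u v) (hq : 2 ≤ q) :
    (M50 u v q).card + 2 = (n + q - 1).choose q := by
  have hPu := P.hu
  have hPv := P.hv
  have hPn := P.hn
  have hvz : v ≠ Fin.last n := ne_of_val_ne (by rw [Fin.val_last]; omega)
  have hvu : v ≠ u := ne_of_val_ne (by omega)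
  have hzu : Fin.last n ≠ u := ne_of_val_ne (by rw [Fin.val_last]; omega)
  have hmem : ∀ a : Fin (n + 1), a ≠ u → g2 a q ∈ (Finset.univ.erase u).finsuppAntidiag q := by
    intro a ha
    rw [Finset.mem_finsuppAntidiag]
    constructor
    · rw [Finset.sum_congr rfl (fun x _ => g2_apply a x q), Finset.sum_ite_eq',
        if_pos (Finset.mem_erase.mpr ⟨ha, Finset.mem_univ a⟩)]
    · intro x hx
      rw [Finsupp.mem_support_iff, g2_apply] at hx
      rw [Finset.mem_erase]
      refine ⟨fun e => hx ?_, Finset.mem_univ x⟩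
      rw [e, if_neg (fun e' => ha e'.symm)]
  have hne : g2 (Fin.last n) q ≠ g2 v q := by
    intro e
    have := DFunLike.congr_fun e v
    rw [g2_apply, g2_apply, if_neg hvz, if_pos rfl] at this
    omega
  have h1 : g2 v q ∈ (Finset.univ.erase u).finsuppAntidiag q := hmem v hvu
  have h2 : g2 (Fin.last n) q ∈ ((Finset.univ.erase u).finsuppAntidiag q).erase (g2 v q) :=
    Finset.mem_erase.mpr ⟨hne, hmem _ hzu⟩
  have c1 := Finset.card_erase_of_mem h1
  have c2 := Finset.card_erase_of_mem h2
  have c3 : 0 < (((Finset.univ.erase u).finsuppAntidiag q).erase (g2 v q)).card :=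
    Finset.card_pos.mpr ⟨_, h2⟩
  have c4 := Finset.card_finsuppAntidiag_nat_eq_choose (s := (Finset.univ.erase u : Finset (Fin (n + 1)))) q
  have c5 : (Finset.univ.erase u : Finset (Fin (n + 1))).card = n := by
    rw [Finset.card_erase_of_mem (Finset.mem_univ u), Finset.card_univ, Fintype.card_fin]
    omega
  rw [c5] at c4
  unfold M50
  omega


/-! ### classification of the nonzero pieces -/

lemma unit_diff {γ : Fin (n + 1) → ℤ} (hNN : NN γ) (hsum : ∑ y', γ y' = 2) {b : Fin (n + 1)}
    (hγb : 1 ≤ γ b) :
    ∃ c : Fin (n + 1), ∀ y' : Fin (n + 1), γ y' = (if y'.val = b.val then 1 else 0) +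
      (if y'.val = c.val then 1 else 0) := by
  have hNN' : NN (γ - Pi.single b 1) := by
    intro y'
    have := hNN y'
    rw [Pi.sub_apply, Pi.single_apply]
    split_ifs with h
    · rw [h]; omega
    · omega
  have hsum' : ∑ y', (γ - Pi.single b 1 : Fin (n + 1) → ℤ) y' = 1 := by
    simp only [Pi.sub_apply, Finset.sum_sub_distrib, hsum]
    rw [Finset.sum_pi_single' b (1:ℤ) Finset.univ, if_pos (Finset.mem_univ b)]
    norm_num
  obtain ⟨c, hc⟩ := nn_sum_one hNN' hsum'
  refine ⟨c, fun y' => ?_⟩
  have := congrFun hc y'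
  simp only [Pi.sub_apply, Pi.single_apply, Fin.ext_iff] at this
  linarith

lemma mD_apply (v x : Fin (n + 1)) (q : ℕ) :
    mD v q x = (if x = v then q - 1 else 0) + (if x = Fin.last n then 1 else 0) := by
  have e : ∀ (a : Fin (n + 1)) (t : ℕ), (if a = x then t else 0) = if x = a then t else 0 := by
    intro a t
    by_cases h : a = x
    · rw [if_pos h, if_pos h.symm]
    · rw [if_neg h, if_neg (fun h' => h h'.symm)]
  unfold mD
  rw [Finsupp.add_apply, Finsupp.single_apply, Finsupp.single_apply, e, e]

set_option maxHeartbeats 1600000 in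
theorem mem_L_of_ne_zero (P : Pos50 u v) (hcase : (n = 3 ∧ 4 ≤ q) ∨ (4 ≤ n ∧ 2 ≤ q))
    {α : Fin (n + 1) → ℤ} (hα : ∑ i, α i = 0) {F : (Fin (n + 1) → ℤ) → k}
    (hF : F ∈ RF (I50 n q k) α) {g : Fin (n + 1) →₀ ℕ} (hg : g ∈ Gs50 n q)
    (hne : F (sh g α) ≠ 0) : α ∈ L50 u v q := by
  have hPu := P.hu
  have hPv := P.hv
  have hPn := P.hn
  have hq : 2 ≤ q := by omega
  have hl : (Fin.last n).val = n := Fin.val_last n
  have hgood : NN (sh g α) ∧ Ok (I50 n q k) (sh g α) := by
    by_contra h
    exact hne (rf_bad hF h)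
  obtain ⟨γ, hγdef⟩ : ∃ γ : Fin (n + 1) → ℤ, γ = sh g α := ⟨_, rfl⟩
  rw [← hγdef] at hgood
  obtain ⟨hNN, hOk⟩ := hgood
  have hOk2 : ¬ (2 ≤ γ u ∨ (1 ≤ γ u ∧ ∃ j, Lo n j ∧ 1 ≤ γ j) ∨ (q : ℤ) ≤ γ v) :=
    fun h => (ok_iff P γ).mp hOk ⟨hNN, h⟩
  have hNu := hNN u
  have hNv := hNN v
  have hNz := hNN (Fin.last n)
  have hsplit := sum_split P γ
  have hmnn : 0 ≤ ∑ j ∈ midF50 n, γ j := Finset.sum_nonneg (fun j _ => hNN j)
  have hlov : Lo n v := ⟨by omega, by omega⟩
  have hγvq : γ v < q := by
    by_contra h
    exact hOk2 (Or.inr (Or.inr (by omega)))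
  rcases gs_cases P hg with ⟨b, hb, rfl⟩ | rfl
  · -- the generator `x_0 x_b`
    have hg'x : ∀ (b' x : Fin (n + 1)), sh (g1 u b') α x =
        (if x.val = u.val then 1 else 0) + (if x.val = b'.val then 1 else 0) + α x := by
      intro b' x
      rw [sh_apply, g1_apply]
      simp only [Fin.ext_iff]
      split_ifs <;> simp
    have hγ : ∀ x, γ x = (if x.val = u.val then 1 else 0) +
        (if x.val = b.val then 1 else 0) + α x := by
      intro x
      rw [hγdef]
      exact hg'x b x
    have hαx : ∀ x, α x = γ x - (if x.val = u.val then 1 else 0) -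
        (if x.val = b.val then 1 else 0) := by
      intro x
      have := hγ x
      linarith
    have hsum : ∑ x, γ x = 2 := by
      have e : ∀ x, γ x =
          ((Finsupp.single u 1 + Finsupp.single b 1 : Fin (n + 1) →₀ ℕ) x : ℤ) + α x := by
        intro x
        simp only [hγdef, sh_apply, g1]
      simp only [e, Finset.sum_add_distrib, hα, add_zero]
      simp only [Finsupp.add_apply, Finsupp.single_apply, Nat.cast_add, Nat.cast_ite, Nat.cast_one,
        Nat.cast_zero, Finset.sum_add_distrib, Finset.sum_ite_eq, Finset.mem_univ, if_true]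
      norm_num
    have hβ : ∀ (b' x : Fin (n + 1)), sh (g1 u b + Finsupp.single b' 1) α x =
        γ x + (if b'.val = x.val then 1 else 0) := by
      intro b' x
      rw [hγdef, sh_apply, sh_apply, Finsupp.add_apply, Finsupp.single_apply]
      simp only [Fin.ext_iff]
      split_ifs <;> push_cast <;> ring
    have kill : ∀ b' : Fin (n + 1), b'.val + 1 ≤ n →
        Ok (I50 n q k) (sh (g1 u b + Finsupp.single b' 1) α) →
        ¬ NN (sh (g1 u b') α) → False := by
      intro b' hb' hok hbad
      have hle : g1 u b' ≤ g1 u b + Finsupp.single b' 1 := by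
        rw [Finsupp.le_def]
        intro x
        rw [Finsupp.add_apply, g1_apply, g1_apply, Finsupp.single_apply]
        simp only [Fin.ext_iff]
        split_ifs <;> omega
      exact hne (rf_kill hF (hGs50 hPn _ hg) (hGs50 hPn _ (g1_mem P hb')) le_self_add hle hok
        (fun h => hbad h.1))
    by_cases hU : 1 ≤ γ u
    · have hγu : γ u = 1 := by
        by_contra h
        exact hOk2 (Or.inl (by omega))
      have hlo0 : ∀ j, Lo n j → γ j = 0 := by
        intro j hj
        have := hNN j
        by_contra h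
        exact hOk2 (Or.inr (Or.inl ⟨hU, j, hj, by omega⟩))
      have hγv : γ v = 0 := hlo0 v hlov
      have hmsum : ∑ j ∈ midF50 n, γ j = 0 :=
        Finset.sum_eq_zero (fun j hj => hlo0 j
          ⟨by have := (mem_midF50.mp hj).1; omega, (mem_midF50.mp hj).2⟩)
      have hγz : γ (Fin.last n) = 1 := by omega
      have hγall : ∀ x : Fin (n + 1), γ x = (if x.val = u.val then 1 else 0) +
          (if x.val = n then 1 else 0) := by
        intro x
        have hx := x.isLt
        by_cases h1 : x.val = u.val
        · rw [if_pos h1, if_neg (by omega)]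
          have e := congrArg γ (Fin.ext h1 : x = u)
          omega
        · rw [if_neg h1]
          by_cases h2 : x.val = n
          · rw [if_pos h2]
            have e := congrArg γ (Fin.ext (by rw [Fin.val_last]; exact h2) : x = Fin.last n)
            omega
          · rw [if_neg h2]
            have e := hlo0 x ⟨by omega, by omega⟩
            omega
      have e : α = δ (Fin.last n) b := by
        funext x
        rw [hαx, hγall]
        simp only [δ, Fin.ext_iff, Fin.val_last]
        split_ifs <;> omega
      rw [e]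
      by_cases hbu : b = u
      · rw [hbu]
        exact mem_LA (ne_of_val_ne (by rw [Fin.val_last]; omega))
      · by_cases hbv : b = v
        · rw [hbv, ← αE_mD P hq]
          exact mem_LC (mD_mem P hq)
        · apply mem_LB
          have h1 : b.val ≠ u.val := fun e' => hbu (Fin.ext e')
          have h2 : b.val ≠ v.val := fun e' => hbv (Fin.ext e')
          exact ⟨by omega, hb⟩
    · have hγu : γ u = 0 := by omega
      by_cases hbu : b = u
      · exfalso
        obtain ⟨w, hw⟩ : ∃ w : Fin (n + 1), w.val = 2 := ⟨⟨2, by omega⟩, rfl⟩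
        have hbuv : b.val = u.val := congrArg Fin.val hbu
        refine kill w (by omega) ?_ ?_
        · apply ok_of P
          rintro (h | ⟨h, _⟩ | h)
          · rw [hβ] at h; split_ifs at h <;> omega
          · rw [hβ] at h; split_ifs at h <;> omega
          · rw [hβ] at h; split_ifs at h <;> omega
        · intro h
          have h1 := h u
          rw [hg'x] at h1
          have h2 := hαx u
          split_ifs at h1 h2 <;> omega
      · have hbuv : b.val ≠ u.val := fun e' => hbu (Fin.ext e')
        by_cases hγb : 1 ≤ γ b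
        · obtain ⟨c, hγ2⟩ := unit_diff hNN hsum hγb
          have hcu : c.val ≠ u.val := by
            intro e'
            have := hγ2 u
            split_ifs at this <;> omega
          have e : α = δ c u := by
            funext x
            rw [hαx, hγ2]
            simp only [δ, Fin.ext_iff]
            split_ifs <;> omega
          rw [e]
          exact mem_LA (ne_of_val_ne hcu)
        · exfalso
          have hγb0 : γ b = 0 := by have := hNN b; omega
          have hγv2 : γ v ≤ 2 := by omega
          have hex : ∃ b' : Fin (n + 1), b'.val + 1 ≤ n ∧ 1 ≤ b'.val ∧ b'.val ≠ b.val ∧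
              (b'.val = v.val → γ v + 1 < q) := by
            by_cases hb2 : b.val = 2
            · rcases hcase with ⟨h3, h4⟩ | ⟨h4, _⟩
              · exact ⟨v, by omega, by omega, by omega, fun _ => by omega⟩
              · refine ⟨⟨3, by omega⟩, ?_, ?_, ?_, ?_⟩
                · show 3 + 1 ≤ n; omega
                · show 1 ≤ 3; omega
                · show 3 ≠ b.val; omega
                · intro h
                  exfalso
                  have h' : (3:ℕ) = v.val := h
                  omega
            · refine ⟨⟨2, by omega⟩, ?_, ?_, ?_, ?_⟩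
              · show 2 + 1 ≤ n; omega
              · show 1 ≤ 2; omega
              · show 2 ≠ b.val; omega
              · intro h
                exfalso
                have h' : (2:ℕ) = v.val := h
                omega
          obtain ⟨b', hb'1, hb'2, hb'3, hb'4⟩ := hex
          refine kill b' hb'1 ?_ ?_
          · apply ok_of P
            rintro (h | ⟨h, _⟩ | h)
            · rw [hβ] at h; split_ifs at h <;> omega
            · rw [hβ] at h; split_ifs at h <;> omega
            · rw [hβ] at h
              split_ifs at h with h5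
              · have := hb'4 h5; omega
              · omega
          · intro h
            have h1 := h b
            rw [hg'x] at h1
            have h2 := hαx b
            split_ifs at h1 h2 <;> omega
  · -- the generator `x_1 ^ q`
    have hγ : ∀ x, γ x = (if x.val = v.val then (q : ℤ) else 0) + α x := by
      intro x
      rw [hγdef, sh_apply, g2_apply]
      simp only [Fin.ext_iff]
      split_ifs <;> simp
    have hαx : ∀ x, α x = γ x - (if x.val = v.val then (q : ℤ) else 0) := by
      intro x
      have := hγ x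
      linarith
    have hsum : ∑ x, γ x = q := by
      have e : ∀ x, γ x = ((Finsupp.single v q : Fin (n + 1) →₀ ℕ) x : ℤ) + α x := by
        intro x
        simp only [hγdef, sh_apply, g2]
      simp only [e, Finset.sum_add_distrib, hα, add_zero]
      simp only [Finsupp.single_apply, Nat.cast_ite, Nat.cast_zero, Finset.sum_ite_eq,
        Finset.mem_univ, if_true]
    by_cases hU : 1 ≤ γ u
    · have hγu : γ u = 1 := by
        by_contra h
        exact hOk2 (Or.inl (by omega))
      have hlo0 : ∀ j, Lo n j → γ j = 0 := by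
        intro j hj
        have := hNN j
        by_contra h
        exact hOk2 (Or.inr (Or.inl ⟨hU, j, hj, by omega⟩))
      have hγv : γ v = 0 := hlo0 v hlov
      have hmsum : ∑ j ∈ midF50 n, γ j = 0 :=
        Finset.sum_eq_zero (fun j hj => hlo0 j
          ⟨by have := (mem_midF50.mp hj).1; omega, (mem_midF50.mp hj).2⟩)
      have hγz : γ (Fin.last n) = q - 1 := by omega
      have hγall : ∀ x : Fin (n + 1), γ x = (if x.val = u.val then 1 else 0) +
          (if x.val = n then (q : ℤ) - 1 else 0) := by
        intro x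
        have hx := x.isLt
        by_cases h1 : x.val = u.val
        · rw [if_pos h1, if_neg (by omega)]
          have e := congrArg γ (Fin.ext h1 : x = u)
          omega
        · rw [if_neg h1]
          by_cases h2 : x.val = n
          · rw [if_pos h2]
            have e := congrArg γ (Fin.ext (by rw [Fin.val_last]; exact h2) : x = Fin.last n)
            omega
          · rw [if_neg h2]
            have e := hlo0 x ⟨by omega, by omega⟩
            omega
      have e : α = αF u v q := by
        funext x
        rw [hαx, hγall]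
        simp only [αF, Fin.ext_iff, Fin.val_last]
      rw [e]
      exact mem_LD
    · have hγu : γ u = 0 := by omega
      by_cases hlo : ∃ j, Lo n j ∧ 1 ≤ γ j
      · have hm : toExp γ ∈ M50 u v q := by
          apply mem_M50_of P
          · simp [toExp_apply, hγu]
          · have h1 : ∑ x, ((toExp γ x : ℕ) : ℤ) = q := by
              rw [← hsum]
              exact Finset.sum_congr rfl
                (fun x _ => by rw [toExp_apply]; exact Int.toNat_of_nonneg (hNN x))
            exact_mod_cast h1
          · intro e'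
            have := DFunLike.congr_fun e' v
            rw [toExp_apply, g2_apply, if_pos rfl] at this
            omega
          · intro e'
            obtain ⟨j, ⟨hj1, hj2⟩, hj⟩ := hlo
            have := DFunLike.congr_fun e' j
            rw [toExp_apply, g2_apply,
              if_neg (ne_of_val_ne (by rw [Fin.val_last]; omega))] at this
            omega
        have e : α = αE v q (toExp γ) := by
          funext x
          rw [hαx]
          simp only [αE, toExp_apply, Fin.ext_iff]
          rw [Int.toNat_of_nonneg (hNN x)]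
        rw [e]
        exact mem_LC hm
      · exfalso
        push Not at hlo
        have hlo0 : ∀ j, Lo n j → γ j = 0 := fun j hj => by
          have := hlo j hj
          have := hNN j
          omega
        have hle1 : g2 v q ≤ g2 v q + Finsupp.single u 1 := le_self_add
        have hle2 : g1 u v ≤ g2 v q + Finsupp.single u 1 := by
          rw [Finsupp.le_def]
          intro x
          rw [Finsupp.add_apply, g1_apply, g2_apply, Finsupp.single_apply]
          simp only [Fin.ext_iff]
          split_ifs <;> omega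
        have hβ : ∀ x, sh (g2 v q + Finsupp.single u 1) α x =
            γ x + (if u.val = x.val then 1 else 0) := by
          intro x
          rw [hγdef, sh_apply, sh_apply, Finsupp.add_apply, Finsupp.single_apply]
          simp only [Fin.ext_iff]
          split_ifs <;> push_cast <;> ring
        have hok : Ok (I50 n q k) (sh (g2 v q + Finsupp.single u 1) α) := by
          apply ok_of P
          rintro (h | ⟨h, j, hj, hj1⟩ | h)
          · rw [hβ] at h; split_ifs at h <;> omega
          · rw [hβ] at hj1
            have := hlo0 j hj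
            have := hj.1
            split_ifs at hj1 <;> omega
          · rw [hβ] at h
            have := hlo0 v hlov
            split_ifs at h <;> omega
        have hbad : ¬ (NN (sh (g1 u v) α) ∧ Ok (I50 n q k) (sh (g1 u v) α)) := by
          rintro ⟨h, _⟩
          have h1 := h v
          have h2 := hαx v
          have := hlo0 v hlov
          simp only [sh_apply, g1_apply, Fin.ext_iff] at h1
          split_ifs at h1 h2 <;> omega
        exact hne (rf_kill hF (hGs50 hPn _ hg) (hGs50 hPn _ (g1_mem P (by omega))) hle1 hle2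
          hok hbad)

/-! ### the count -/

theorem main50' (P : Pos50 u v) (hcase : (n = 3 ∧ 4 ≤ q) ∨ (4 ≤ n ∧ 2 ≤ q)) :
    Module.finrank k ↥(⨆ α : {α : Fin (n + 1) → ℤ // ∑ i, α i = 0},
      tPiece (I50 n q k) α.1) = 2 * n - 1 + Nat.choose (n + q - 1) (n - 1) := by
  have hn : 3 ≤ n := by omega
  have hq : 2 ≤ q := by omega
  have hPu := P.hu
  have hPv := P.hv
  have hI := isMonomial_I50 (k := k) (q := q) hn
  have hvz : v ≠ Fin.last n := ne_of_val_ne (by rw [Fin.val_last]; omega)
  have hvu : v ≠ u := ne_of_val_ne (by omega)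
  have hzu : Fin.last n ≠ u := ne_of_val_ne (by rw [Fin.val_last]; omega)
  have hs : ∀ α : Fin (n + 1) → ℤ, (∑ i, α i = 0) → α ∉ L50 u v q →
      tPiece (I50 n q k) α = ⊥ := by
    intro α hα hnot
    apply tPiece_eq_bot_of_RF hI
    intro F hF
    apply rf_eq_zero (Gs50 n q) (hG50 hn) (hGs50 hn) hF
    intro g hg
    by_contra hne
    exact hnot (mem_L_of_ne_zero P hcase hα hF hg hne)
  have hs' : ∀ α ∈ L50 u v q, ∑ i, α i = 0 := by
    intro α hα
    rcases mem_L50 hα with ⟨c, hc, rfl⟩ | ⟨b, hb, rfl⟩ | ⟨m, hm, rfl⟩ | rfl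
    · exact sum_δ _ _
    · exact sum_δ _ _
    · exact sum_αE P hm
    · exact sum_αF _ _ _
  have dimA : ∀ c ∈ (Finset.univ.erase u : Finset (Fin (n + 1))),
      Module.Finite k ↥(tPiece (I50 n q k) (δ c u)) ∧
      Module.finrank k ↥(tPiece (I50 n q k) (δ c u)) =
        1 + (if c = Fin.last n then 1 else 0) := by
    intro c hc
    have hc0 : c ≠ u := (Finset.mem_erase.mp hc).1
    by_cases hcz : c = Fin.last n
    · rw [hcz, if_pos rfl]
      exact famA P hq
    · rw [if_neg hcz]
      have h1 : c.val ≠ u.val := fun e => hc0 (Fin.ext e)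
      have h2 : c.val ≠ n := fun e => hcz (Fin.ext (by rw [Fin.val_last]; exact e))
      have hc' := c.isLt
      exact famB P hq ⟨by omega, by omega⟩
  have dimB : ∀ b ∈ midF50 n,
      Module.Finite k ↥(tPiece (I50 n q k) (δ (Fin.last n) b)) ∧
      Module.finrank k ↥(tPiece (I50 n q k) (δ (Fin.last n) b)) = 1 :=
    fun b hb => famC P hq (mem_midF50.mp hb)
  have dimC : ∀ m ∈ M50 u v q,
      Module.Finite k ↥(tPiece (I50 n q k) (αE v q m)) ∧
      Module.finrank k ↥(tPiece (I50 n q k) (αE v q m)) =
        1 + (if m = mD v q then 1 else 0) := by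
    intro m hm
    by_cases hmD : m = mD v q
    · rw [hmD, if_pos rfl, αE_mD P hq]
      exact famD P hq
    · rw [if_neg hmD]
      obtain ⟨hmu, hsum, h1, h2⟩ := m_entries P hm
      have hmidnn : ∀ j ∈ midF50 n, (0:ℤ) ≤ (m j : ℤ) := fun j _ => Int.natCast_nonneg _
      have hmnn : (0:ℤ) ≤ ∑ j ∈ midF50 n, (m j : ℤ) := Finset.sum_nonneg hmidnn
      have hzero : (∑ j ∈ midF50 n, (m j : ℤ)) = 0 → ∀ j, Mid50 n j → m j = 0 := by
        intro h0 j hj
        have := (Finset.sum_eq_zero_iff_of_nonneg hmidnn).mp h0 j (mem_midF50.mpr hj)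
        exact_mod_cast this
      have hzsum : (∀ j, Mid50 n j → m j = 0) → (∑ j ∈ midF50 n, (m j : ℤ)) = 0 := by
        intro h
        exact Finset.sum_eq_zero (fun j hj => by rw [h j (mem_midF50.mp hj)]; rfl)
      have hmidne : ∀ j, Mid50 n j → j ≠ v ∧ j ≠ Fin.last n ∧ j ≠ u := by
        intro j hj
        have := hj.1
        have := hj.2
        exact ⟨ne_of_val_ne (by omega), ne_of_val_ne (by rw [Fin.val_last]; omega),
          ne_of_val_ne (by omega)⟩
      refine famE P hq hmu ?_ ?_ ?_
      · by_contra hge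
        apply h1
        have hmid0 := hzero (by omega)
        apply fs_ext P
        · rw [hmu, g2_apply, if_neg hvu.symm]
        · rw [g2_apply, if_pos rfl]; omega
        · rw [g2_apply, if_neg hvz.symm]; omega
        · intro j hj
          rw [hmid0 j hj, g2_apply, if_neg (hmidne j hj).1]
      · by_contra hno
        push Not at hno
        apply h2
        have hmv : m v = 0 := by
          have := hno v ⟨by omega, by omega⟩
          omega
        have hmid0 : ∀ j, Mid50 n j → m j = 0 := fun j hj => by
          have := hno j ⟨by have := hj.1; omega, hj.2⟩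
          omega
        have hms := hzsum hmid0
        apply fs_ext P
        · rw [hmu, g2_apply, if_neg hzu.symm]
        · rw [hmv, g2_apply, if_neg hvz]
        · rw [g2_apply, if_pos rfl]; omega
        · intro j hj
          rw [hmid0 j hj, g2_apply, if_neg (hmidne j hj).2.1]
      · rintro ⟨hv1, hmid0⟩
        apply hmD
        have hms := hzsum hmid0
        apply fs_ext P
        · rw [hmu, mD_apply, if_neg hvu.symm, if_neg hzu.symm]
        · rw [mD_apply, if_pos rfl, if_neg hvz]; omega
        · rw [mD_apply, if_neg hvz.symm, if_pos rfl]; omega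
        · intro j hj
          rw [hmid0 j hj, mD_apply, if_neg (hmidne j hj).1, if_neg (hmidne j hj).2.1]
  have hfin : ∀ α ∈ L50 u v q, Module.Finite k ↥(tPiece (I50 n q k) α) := by
    intro α hα
    rcases mem_L50 hα with ⟨c, hc, rfl⟩ | ⟨b, hb, rfl⟩ | ⟨m, hm, rfl⟩ | rfl
    · exact (dimA c (Finset.mem_erase.mpr ⟨hc, Finset.mem_univ c⟩)).1
    · exact (dimB b (mem_midF50.mpr hb)).1
    · exact (dimC m hm).1
    · exact (famF P hq).1
  rw [finrank_iSup_of_finset hI (fun α : Fin (n + 1) → ℤ => ∑ i, α i = 0) (L50 u v q) hs hs'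
    hfin, sum_L50 P hq]
  have eA : ∑ c ∈ Finset.univ.erase u, Module.finrank k ↥(tPiece (I50 n q k) (δ c u)) =
      ∑ c ∈ Finset.univ.erase u, (1 + (if c = Fin.last n then 1 else 0)) :=
    Finset.sum_congr rfl (fun c hc => (dimA c hc).2)
  have eB : ∑ b ∈ midF50 n, Module.finrank k ↥(tPiece (I50 n q k) (δ (Fin.last n) b)) =
      ∑ b ∈ midF50 n, 1 :=
    Finset.sum_congr rfl (fun b hb => (dimB b hb).2)
  have eC : ∑ m ∈ M50 u v q, Module.finrank k ↥(tPiece (I50 n q k) (αE v q m)) =
      ∑ m ∈ M50 u v q, (1 + (if m = mD v q then 1 else 0)) :=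
    Finset.sum_congr rfl (fun m hm => (dimC m hm).2)
  rw [eA, eB, eC, (famF P hq).2]
  have hzmem : Fin.last n ∈ (Finset.univ.erase u : Finset (Fin (n + 1))) :=
    Finset.mem_erase.mpr ⟨hzu, Finset.mem_univ _⟩
  have c5 : (Finset.univ.erase u : Finset (Fin (n + 1))).card = n := by
    rw [Finset.card_erase_of_mem (Finset.mem_univ u), Finset.card_univ, Fintype.card_fin]
    omega
  simp only [Finset.sum_add_distrib, Finset.sum_const, smul_eq_mul, mul_one, Finset.sum_ite_eq']
  rw [if_pos hzmem, if_pos (mD_mem P hq), card_midF50 hn, c5]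
  have hM := card_M50 P hq
  have hsymm : (n + q - 1).choose q = (n + q - 1).choose (n - 1) :=
    Nat.choose_symm_of_eq_add (by omega)
  omega

theorem main50 (k : Type*) [Field k] (n q : ℕ) (hcase : (n = 3 ∧ 4 ≤ q) ∨ (4 ≤ n ∧ 2 ≤ q)) :
    Module.finrank k ↥(⨆ α : {α : Fin (n + 1) → ℤ // ∑ i, α i = 0},
      tPiece (I50 n q k) α.1) = 2 * n - 1 + Nat.choose (n + q - 1) (n - 1) := by
  have hn : 3 ≤ n := by omega
  exact main50' (u := 0) (v := 1) ⟨by simp, val_one hn, hn⟩ hcase

end Groth.Agent.H43.HilbS50
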