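import Groth.Agent.H43.HilbS6

set_option linter.unusedVariables false
set_option linter.unusedSectionVars false
set_option linter.style.longLine false
set_option linter.unusedSimpArgs false
set_option linter.unusedTactic false
set_option linter.unreachableTactic false

/-! The ideal `(x_0, …, x_{c-1}) (x_{n-d+1}, …, x_n)` of `k[x_0, …, x_n]` with `c + d ≤ n`: the graded
pieces of `T(I)` of total degree zero and the dimension count `c (n - c + 1) + d (n - d + 1)`. -/

noncomputable section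

namespace Groth.Agent.H43.HilbS51

open W4c1hilbpn MvPolynomial
open Groth.Agent.H43.HilbT Groth.Agent.H43.HilbS

variable {n c d : ℕ} {k : Type*} [Field k]

/-- the ideal -/
abbrev I51 (n c d : ℕ) (k : Type*) [Field k] : Ideal (MvPolynomial (Fin (n + 1)) k) :=
  Ideal.span {f : MvPolynomial (Fin (n + 1)) k | ∃ i j : Fin (n + 1), i.val + 1 ≤ c ∧ n + 1 ≤ j.val + d ∧
        f = MvPolynomial.X i * MvPolynomial.X j}

/-- exponent of `x_i x_j` -/
def gg (i j : Fin (n + 1)) : Fin (n + 1) →₀ ℕ := Finsupp.single i 1 + Finsupp.single j 1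

lemma gg_apply (i j x : Fin (n + 1)) :
    gg i j x = (if x = i then 1 else 0) + (if x = j then 1 else 0) := by
  have e : ∀ a : Fin (n + 1), (if a = x then (1:ℕ) else 0) = if x = a then 1 else 0 := by
    intro a
    by_cases h : a = x
    · rw [if_pos h, if_pos h.symm]
    · rw [if_neg h, if_neg (fun h' => h h'.symm)]
  unfold gg
  rw [Finsupp.add_apply, Finsupp.single_apply, Finsupp.single_apply, e, e]

/-- exponents of the generators -/
def Gs51 (n c d : ℕ) : Set (Fin (n + 1) →₀ ℕ) :=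
  {g | ∃ i j : Fin (n + 1), i.val + 1 ≤ c ∧ n + 1 ≤ j.val + d ∧ g = gg i j}

lemma gens_eq :
    {f : MvPolynomial (Fin (n + 1)) k | ∃ i j : Fin (n + 1), i.val + 1 ≤ c ∧ n + 1 ≤ j.val + d ∧
        f = MvPolynomial.X i * MvPolynomial.X j} = (fun s => monomial s (1:k)) '' Gs51 n c d := by
  have hXX : ∀ x b : Fin (n + 1), (X x * X b : MvPolynomial (Fin (n + 1)) k) =
      monomial (gg x b) 1 := by
    intro x b
    show monomial (Finsupp.single x 1) (1:k) * monomial (Finsupp.single b 1) 1 = _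
    rw [monomial_mul, one_mul]
    rfl
  ext f
  constructor
  · rintro ⟨i, j, hi, hj, rfl⟩
    exact ⟨gg i j, ⟨i, j, hi, hj, rfl⟩, (hXX i j).symm⟩
  · rintro ⟨g, ⟨i, j, hi, hj, rfl⟩, rfl⟩
    exact ⟨i, j, hi, hj, (hXX i j).symm⟩

lemma I51_eq : I51 n c d k = Ideal.span ((fun s => monomial s (1:k)) '' Gs51 n c d) := by
  show Ideal.span _ = _
  rw [gens_eq]

lemma exps_I51 (β : Fin (n + 1) →₀ ℕ) :
    β ∈ exps (I51 n c d k) ↔ ∃ g ∈ Gs51 n c d, g ≤ β := by
  rw [I51_eq]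
  exact exps_span_monomials _ β

lemma isMonomial_I51 : IsMonomial (I51 n c d k) := by
  rw [I51_eq]
  exact isMonomial_span_monomials _

lemma hG51 : ∀ β, β ∈ exps (I51 n c d k) → ∃ g ∈ Gs51 n c d, g ≤ β :=
  fun β h => (exps_I51 β).mp h

lemma hGs51 : ∀ g ∈ Gs51 n c d, g ∈ exps (I51 n c d k) :=
  fun g hg => (exps_I51 g).mpr ⟨g, hg, le_rfl⟩

lemma ne_of_val_ne {x y : Fin (n + 1)} (h : x.val ≠ y.val) : x ≠ y :=
  fun e => h (congrArg Fin.val e)

lemma mem_exps_iff (hn : c + d ≤ n) (β : Fin (n + 1) →₀ ℕ) :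
    β ∈ exps (I51 n c d k) ↔
      (∃ i : Fin (n + 1), i.val + 1 ≤ c ∧ 1 ≤ β i) ∧
        (∃ j : Fin (n + 1), n + 1 ≤ j.val + d ∧ 1 ≤ β j) := by
  rw [exps_I51]
  constructor
  · rintro ⟨g, ⟨i, j, hi, hj, rfl⟩, hle⟩
    have hle' : Finsupp.single i 1 + Finsupp.single j 1 ≤ β := hle
    obtain ⟨h1, h2, _⟩ := le_of_two_single_le hle'
    exact ⟨⟨i, hi, h1⟩, ⟨j, hj, h2⟩⟩
  · rintro ⟨⟨i, hi, h1⟩, ⟨j, hj, h2⟩⟩
    have hne : i ≠ j := ne_of_val_ne (by omega)
    exact ⟨gg i j, ⟨i, j, hi, hj, rfl⟩, two_single_le h1 h2 (fun e => absurd e hne)⟩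

lemma ok_iff (hn : c + d ≤ n) (γ : Fin (n + 1) → ℤ) :
    Ok (I51 n c d k) γ ↔
      ¬ (NN γ ∧ (∃ i : Fin (n + 1), i.val + 1 ≤ c ∧ 1 ≤ γ i) ∧
        (∃ j : Fin (n + 1), n + 1 ≤ j.val + d ∧ 1 ≤ γ j)) := by
  unfold Ok
  refine not_congr (and_congr_right fun hNN => ?_)
  rw [mem_exps_iff hn]
  simp only [toExp_apply]
  constructor
  · rintro ⟨⟨i, hi, h1⟩, ⟨j, hj, h2⟩⟩
    exact ⟨⟨i, hi, by omega⟩, ⟨j, hj, by omega⟩⟩
  · rintro ⟨⟨i, hi, h1⟩, ⟨j, hj, h2⟩⟩
    exact ⟨⟨i, hi, by omega⟩, ⟨j, hj, by omega⟩⟩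

lemma ok_of_noA (hn : c + d ≤ n) {γ : Fin (n + 1) → ℤ}
    (h : ∀ i : Fin (n + 1), i.val + 1 ≤ c → γ i ≤ 0) : Ok (I51 n c d k) γ := by
  rw [ok_iff hn]
  rintro ⟨_, ⟨i, hi, h1⟩, _⟩
  have := h i hi
  omega

lemma ok_of_noB (hn : c + d ≤ n) {γ : Fin (n + 1) → ℤ}
    (h : ∀ j : Fin (n + 1), n + 1 ≤ j.val + d → γ j ≤ 0) : Ok (I51 n c d k) γ := by
  rw [ok_iff hn]
  rintro ⟨_, _, ⟨j, hj, h1⟩⟩
  have := h j hj
  omega

lemma not_ok_of (hn : c + d ≤ n) {γ : Fin (n + 1) → ℤ} (hNN : NN γ)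
    (hA : ∃ i : Fin (n + 1), i.val + 1 ≤ c ∧ 1 ≤ γ i)
    (hB : ∃ j : Fin (n + 1), n + 1 ≤ j.val + d ∧ 1 ≤ γ j) : ¬ Ok (I51 n c d k) γ :=
  fun hok => (ok_iff hn γ).mp hok ⟨hNN, hA, hB⟩

/-- `e_c - e_b` -/
def δ (w b : Fin (n + 1)) : Fin (n + 1) → ℤ := fun x =>
  (if x = w then 1 else 0) - (if x = b then 1 else 0)

/-- evaluate an entry of a shifted least common multiple of generators -/
macro "ev51" : tactic =>
  `(tactic| (simp only [sh_apply, Finsupp.sup_apply, gg_apply, δ, Fin.ext_iff,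
      Fin.val_last]; first | omega | (split_ifs <;> omega)))

/-- evaluate an entry of a shifted least common multiple of generators in a hypothesis -/
macro "ev51h" h:ident : tactic =>
  `(tactic| (simp only [sh_apply, Finsupp.sup_apply, gg_apply, δ, Fin.ext_iff,
      Fin.val_last] at $h:ident; first | omega | (split_ifs at $h:ident <;> omega)))

/-! ### the two families -/

theorem famA51 (hc : 2 ≤ c) (hd : 2 ≤ d) (hn : c + d ≤ n) {v₀ w : Fin (n + 1)}
    (hv : v₀.val + 1 ≤ c) (hw : ¬ (w.val + 1 ≤ c)) :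
    Module.Finite k ↥(tPiece (I51 n c d k) (δ w v₀)) ∧
      Module.finrank k ↥(tPiece (I51 n c d k) (δ w v₀)) = 1 := by
  have hcand : ∀ g ∈ Gs51 n c d, NN (sh g (δ w v₀)) →
      ∃ j : Fin (n + 1), n + 1 ≤ j.val + d ∧ g = gg v₀ j := by
    rintro g ⟨i, j, hi, hj, rfl⟩ hNN
    refine ⟨j, hj, ?_⟩
    have h1 := hNN v₀
    by_contra hne
    have hiv : i ≠ v₀ := fun e => hne (by rw [e])
    have hiv' : i.val ≠ v₀.val := fun e => hiv (Fin.ext e)
    ev51h h1
  have hNN1 : ∀ j : Fin (n + 1), NN (sh (gg v₀ j) (δ w v₀)) := by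
    intro j x
    ev51
  have hlast : n + 1 ≤ (Fin.last n).val + d := by rw [Fin.val_last]; omega
  have hok1 : ∀ j j' : Fin (n + 1), n + 1 ≤ j.val + d → n + 1 ≤ j'.val + d →
      Ok (I51 n c d k) (sh (gg v₀ j ⊔ gg v₀ j') (δ w v₀)) := by
    intro j j' hj hj'
    apply ok_of_noA hn
    intro i hi
    ev51
  refine finrank_one_of_links (Gs51 n c d) hG51 hGs51 isMonomial_I51 (gg v₀ (Fin.last n))
    ⟨v₀, Fin.last n, hv, hlast, rfl⟩ ⟨hNN1 _, ?_⟩ ?_ ?_
  · have := hok1 (Fin.last n) (Fin.last n) hlast hlast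
    rw [sup_idem] at this
    exact this
  · intro g hg g' hg' hcd hok
    obtain ⟨j, hj, rfl⟩ := hcand g hg hcd.1
    obtain ⟨i', j', hi', hj', rfl⟩ := hg'
    by_cases hiv : i' = v₀
    · rw [hiv]; exact hNN1 j'
    · exfalso
      have hiv' : i'.val ≠ v₀.val := fun e => hiv (Fin.ext e)
      refine not_ok_of hn ?_ ⟨i', hi', ?_⟩ ⟨j, hj, ?_⟩ hok
      · intro x; ev51
      · ev51
      · ev51
  · intro g hg hcd
    obtain ⟨j, hj, rfl⟩ := hcand g hg hcd.1
    exact hok1 j (Fin.last n) hj hlast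

theorem famB51 (hc : 2 ≤ c) (hd : 2 ≤ d) (hn : c + d ≤ n) {v₀ w : Fin (n + 1)}
    (hv : n + 1 ≤ v₀.val + d) (hw : ¬ (n + 1 ≤ w.val + d)) :
    Module.Finite k ↥(tPiece (I51 n c d k) (δ w v₀)) ∧
      Module.finrank k ↥(tPiece (I51 n c d k) (δ w v₀)) = 1 := by
  have hcand : ∀ g ∈ Gs51 n c d, NN (sh g (δ w v₀)) →
      ∃ i : Fin (n + 1), i.val + 1 ≤ c ∧ g = gg i v₀ := by
    rintro g ⟨i, j, hi, hj, rfl⟩ hNN
    refine ⟨i, hi, ?_⟩
    have h1 := hNN v₀
    by_contra hne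
    have hjv : j ≠ v₀ := fun e => hne (by rw [e])
    have hjv' : j.val ≠ v₀.val := fun e => hjv (Fin.ext e)
    ev51h h1
  have hNN1 : ∀ i : Fin (n + 1), NN (sh (gg i v₀) (δ w v₀)) := by
    intro i x
    ev51
  obtain ⟨i₀, hi₀⟩ : ∃ i₀ : Fin (n + 1), i₀.val = 0 := ⟨⟨0, by omega⟩, rfl⟩
  have hi₀A : i₀.val + 1 ≤ c := by omega
  have hok1 : ∀ i i' : Fin (n + 1), i.val + 1 ≤ c → i'.val + 1 ≤ c →
      Ok (I51 n c d k) (sh (gg i v₀ ⊔ gg i' v₀) (δ w v₀)) := by
    intro i i' hi hi'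
    apply ok_of_noB hn
    intro j hj
    ev51
  refine finrank_one_of_links (Gs51 n c d) hG51 hGs51 isMonomial_I51 (gg i₀ v₀)
    ⟨i₀, v₀, hi₀A, hv, rfl⟩ ⟨hNN1 _, ?_⟩ ?_ ?_
  · have := hok1 i₀ i₀ hi₀A hi₀A
    rw [sup_idem] at this
    exact this
  · intro g hg g' hg' hcd hok
    obtain ⟨i, hi, rfl⟩ := hcand g hg hcd.1
    obtain ⟨i', j', hi', hj', rfl⟩ := hg'
    by_cases hjv : j' = v₀
    · rw [hjv]; exact hNN1 i'
    · exfalso
      have hjv' : j'.val ≠ v₀.val := fun e => hjv (Fin.ext e)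
      refine not_ok_of hn ?_ ⟨i, hi, ?_⟩ ⟨j', hj', ?_⟩ hok
      · intro x; ev51
      · ev51
      · ev51
  · intro g hg hcd
    obtain ⟨i, hi, rfl⟩ := hcand g hg hcd.1
    exact hok1 i i₀ hi hi₀A

/-! ### the list of multidegrees -/

/-- the variables of the first plane -/
def FA (n c : ℕ) : Finset (Fin (n + 1)) := Finset.univ.filter (fun x => x.val + 1 ≤ c)

/-- the other variables -/
def FA' (n c : ℕ) : Finset (Fin (n + 1)) := Finset.univ.filter (fun x => ¬ (x.val + 1 ≤ c))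

/-- the variables of the second plane -/
def FB (n d : ℕ) : Finset (Fin (n + 1)) := Finset.univ.filter (fun x => n + 1 ≤ x.val + d)

/-- the other variables -/
def FB' (n d : ℕ) : Finset (Fin (n + 1)) := Finset.univ.filter (fun x => ¬ (n + 1 ≤ x.val + d))

lemma card_FA (hcn : c ≤ n + 1) : (FA n c).card = c := by
  have : (FA n c).map Fin.valEmbedding = Finset.range c := by
    ext m
    simp only [FA, Finset.mem_map, Finset.mem_filter, Finset.mem_univ, true_and,
      Fin.valEmbedding_apply, Finset.mem_range]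
    constructor
    · rintro ⟨x, hx, rfl⟩
      omega
    · intro h
      exact ⟨⟨m, by omega⟩, by show m + 1 ≤ c; omega, rfl⟩
  rw [← Finset.card_map Fin.valEmbedding, this, Finset.card_range]

lemma card_FB (hdn : d ≤ n + 1) : (FB n d).card = d := by
  have : (FB n d).map Fin.valEmbedding = Finset.Ico (n + 1 - d) (n + 1) := by
    ext m
    simp only [FB, Finset.mem_map, Finset.mem_filter, Finset.mem_univ, true_and,
      Fin.valEmbedding_apply, Finset.mem_Ico]
    constructor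
    · rintro ⟨x, hx, rfl⟩
      have := x.isLt
      omega
    · rintro ⟨h1, h2⟩
      exact ⟨⟨m, h2⟩, by show n + 1 ≤ m + d; omega, rfl⟩
  have h1 := Nat.card_Ico (n + 1 - d) (n + 1)
  have h2 : (FB n d).card = (Finset.Ico (n + 1 - d) (n + 1)).card := by
    rw [← this, Finset.card_map]
  omega

lemma card_FA' (hcn : c ≤ n + 1) : (FA' n c).card = n + 1 - c := by
  have h := Finset.card_filter_add_card_filter_not (s := (Finset.univ : Finset (Fin (n + 1))))
    (fun x => x.val + 1 ≤ c)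
  have h1 := card_FA hcn
  unfold FA at h1
  unfold FA'
  rw [Finset.card_univ, Fintype.card_fin] at h
  omega

lemma card_FB' (hdn : d ≤ n + 1) : (FB' n d).card = n + 1 - d := by
  have h := Finset.card_filter_add_card_filter_not (s := (Finset.univ : Finset (Fin (n + 1))))
    (fun x => n + 1 ≤ x.val + d)
  have h1 := card_FB hdn
  unfold FB at h1
  unfold FB'
  rw [Finset.card_univ, Fintype.card_fin] at h
  omega

/-- all multidegrees of total degree zero with a nonzero graded piece -/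
def L51 (n c d : ℕ) : Finset (Fin (n + 1) → ℤ) :=
  (FA n c ×ˢ FA' n c).image (fun p => δ p.2 p.1) ∪ (FB n d ×ˢ FB' n d).image (fun p => δ p.2 p.1)

lemma mem_LA {v₀ w : Fin (n + 1)} (hv : v₀.val + 1 ≤ c) (hw : ¬ (w.val + 1 ≤ c)) :
    δ w v₀ ∈ L51 n c d := by
  unfold L51
  refine Finset.mem_union_left _ (Finset.mem_image.mpr ⟨(v₀, w), ?_, rfl⟩)
  simp only [Finset.mem_product, FA, FA', Finset.mem_filter, Finset.mem_univ, true_and]
  exact ⟨hv, hw⟩

lemma mem_LB {v₀ w : Fin (n + 1)} (hv : n + 1 ≤ v₀.val + d) (hw : ¬ (n + 1 ≤ w.val + d)) :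
    δ w v₀ ∈ L51 n c d := by
  unfold L51
  refine Finset.mem_union_right _ (Finset.mem_image.mpr ⟨(v₀, w), ?_, rfl⟩)
  simp only [Finset.mem_product, FB, FB', Finset.mem_filter, Finset.mem_univ, true_and]
  exact ⟨hv, hw⟩

lemma mem_L51 {α : Fin (n + 1) → ℤ} (h : α ∈ L51 n c d) :
    (∃ v₀ w : Fin (n + 1), v₀.val + 1 ≤ c ∧ ¬ (w.val + 1 ≤ c) ∧ α = δ w v₀) ∨
      (∃ v₀ w : Fin (n + 1), n + 1 ≤ v₀.val + d ∧ ¬ (n + 1 ≤ w.val + d) ∧ α = δ w v₀) := by
  unfold L51 at h
  simp only [Finset.mem_union, Finset.mem_image, Finset.mem_product, FA, FA', FB, FB',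
    Finset.mem_filter, Finset.mem_univ, true_and, Prod.exists] at h
  rcases h with ⟨v₀, w, ⟨h1, h2⟩, e⟩ | ⟨v₀, w, ⟨h1, h2⟩, e⟩
  · exact Or.inl ⟨v₀, w, h1, h2, e.symm⟩
  · exact Or.inr ⟨v₀, w, h1, h2, e.symm⟩

lemma sum_δ (w b : Fin (n + 1)) : ∑ x, δ w b x = 0 := by
  unfold δ
  rw [Finset.sum_sub_distrib, Finset.sum_ite_eq', Finset.sum_ite_eq', if_pos (Finset.mem_univ w),
    if_pos (Finset.mem_univ b)]
  norm_num

lemma δ_inj {w v₀ w' v₀' : Fin (n + 1)} (h : w.val ≠ v₀.val) (h' : w'.val ≠ v₀'.val)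
    (e : δ w v₀ = δ w' v₀') : w = w' ∧ v₀ = v₀' := by
  have e1 := congrFun e v₀
  have e2 := congrFun e w
  simp only [δ, Fin.ext_iff] at e1 e2
  constructor
  · apply Fin.ext
    split_ifs at e1 e2 <;> omega
  · apply Fin.ext
    split_ifs at e1 e2 <;> omega

lemma sum_L51 (hn : c + d ≤ n) (f : (Fin (n + 1) → ℤ) → ℕ) :
    ∑ α ∈ L51 n c d, f α = ∑ p ∈ FA n c ×ˢ FA' n c, f (δ p.2 p.1) +
      ∑ p ∈ FB n d ×ˢ FB' n d, f (δ p.2 p.1) := by
  unfold L51
  have mA : ∀ p ∈ FA n c ×ˢ FA' n c, p.1.val + 1 ≤ c ∧ ¬ (p.2.val + 1 ≤ c) := by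
    intro p hp
    simpa only [Finset.mem_product, FA, FA', Finset.mem_filter, Finset.mem_univ, true_and] using hp
  have mB : ∀ p ∈ FB n d ×ˢ FB' n d, n + 1 ≤ p.1.val + d ∧ ¬ (n + 1 ≤ p.2.val + d) := by
    intro p hp
    simpa only [Finset.mem_product, FB, FB', Finset.mem_filter, Finset.mem_univ, true_and] using hp
  have dAB : Disjoint ((FA n c ×ˢ FA' n c).image (fun p => δ p.2 p.1))
      ((FB n d ×ˢ FB' n d).image (fun p => δ p.2 p.1)) := by
    rw [Finset.disjoint_left]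
    intro α h1 h2
    obtain ⟨p, hp, rfl⟩ := Finset.mem_image.mp h1
    obtain ⟨p', hp', e⟩ := Finset.mem_image.mp h2
    obtain ⟨a1, a2⟩ := mA p hp
    obtain ⟨b1, b2⟩ := mB p' hp'
    have := (δ_inj (by omega) (by omega) e).2
    have := congrArg Fin.val this
    omega
  have iA : Set.InjOn (fun p : Fin (n + 1) × Fin (n + 1) => δ p.2 p.1) ↑(FA n c ×ˢ FA' n c) := by
    intro p hp p' hp' e
    obtain ⟨a1, a2⟩ := mA p hp
    obtain ⟨b1, b2⟩ := mA p' hp'
    obtain ⟨e1, e2⟩ := δ_inj (by omega) (by omega) e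
    exact Prod.ext e2 e1
  have iB : Set.InjOn (fun p : Fin (n + 1) × Fin (n + 1) => δ p.2 p.1) ↑(FB n d ×ˢ FB' n d) := by
    intro p hp p' hp' e
    obtain ⟨a1, a2⟩ := mB p hp
    obtain ⟨b1, b2⟩ := mB p' hp'
    obtain ⟨e1, e2⟩ := δ_inj (by omega) (by omega) e
    exact Prod.ext e2 e1
  rw [Finset.sum_union dAB, Finset.sum_image iA, Finset.sum_image iB]

/-! ### classification of the nonzero pieces -/

lemma unit_diff {γ : Fin (n + 1) → ℤ} (hNN : NN γ) (hsum : ∑ y', γ y' = 2) {b : Fin (n + 1)}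
    (hγb : 1 ≤ γ b) :
    ∃ c : Fin (n + 1), ∀ y' : Fin (n + 1), γ y' = (if y'.val = b.val then 1 else 0) +
      (if y'.val = c.val then 1 else 0) := by
  have hNN' : NN (γ - Pi.single b 1) := by
    intro y'
    have := hNN y'
    rw [Pi.sub_apply, Pi.single_apply]
    split_ifs with h
    · rw [h]; omega
    · omega
  have hsum' : ∑ y', (γ - Pi.single b 1 : Fin (n + 1) → ℤ) y' = 1 := by
    simp only [Pi.sub_apply, Finset.sum_sub_distrib, hsum]
    rw [Finset.sum_pi_single' b (1:ℤ) Finset.univ, if_pos (Finset.mem_univ b)]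
    norm_num
  obtain ⟨c, hc⟩ := nn_sum_one hNN' hsum'
  refine ⟨c, fun y' => ?_⟩
  have := congrFun hc y'
  simp only [Pi.sub_apply, Pi.single_apply, Fin.ext_iff] at this
  linarith

set_option maxHeartbeats 1600000 in
theorem mem_L_of_ne_zero (hc : 2 ≤ c) (hd : 2 ≤ d) (hn : c + d ≤ n) {α : Fin (n + 1) → ℤ}
    (hα : ∑ i, α i = 0) {F : (Fin (n + 1) → ℤ) → k} (hF : F ∈ RF (I51 n c d k) α)
    {g : Fin (n + 1) →₀ ℕ} (hg : g ∈ Gs51 n c d) (hne : F (sh g α) ≠ 0) : α ∈ L51 n c d := by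
  obtain ⟨i, j, hi, hj, rfl⟩ := hg
  have hg : gg i j ∈ Gs51 n c d := ⟨i, j, hi, hj, rfl⟩
  have hgood : NN (sh (gg i j) α) ∧ Ok (I51 n c d k) (sh (gg i j) α) := by
    by_contra h
    exact hne (rf_bad hF h)
  obtain ⟨γ, hγdef⟩ : ∃ γ : Fin (n + 1) → ℤ, γ = sh (gg i j) α := ⟨_, rfl⟩
  rw [← hγdef] at hgood
  obtain ⟨hNN, hOk⟩ := hgood
  have hOk2 : ¬ ((∃ a : Fin (n + 1), a.val + 1 ≤ c ∧ 1 ≤ γ a) ∧
      (∃ b : Fin (n + 1), n + 1 ≤ b.val + d ∧ 1 ≤ γ b)) :=
    fun h => (ok_iff hn γ).mp hOk ⟨hNN, h⟩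
  have hg'x : ∀ (i' j' x : Fin (n + 1)), sh (gg i' j') α x =
      (if x.val = i'.val then 1 else 0) + (if x.val = j'.val then 1 else 0) + α x := by
    intro i' j' x
    rw [sh_apply, gg_apply]
    simp only [Fin.ext_iff]
    split_ifs <;> simp
  have hγ : ∀ x, γ x = (if x.val = i.val then 1 else 0) +
      (if x.val = j.val then 1 else 0) + α x := by
    intro x
    rw [hγdef]
    exact hg'x i j x
  have hαx : ∀ x, α x = γ x - (if x.val = i.val then 1 else 0) -
      (if x.val = j.val then 1 else 0) := by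
    intro x
    have := hγ x
    linarith
  have hsum : ∑ x, γ x = 2 := by
    have e : ∀ x, γ x =
        ((Finsupp.single i 1 + Finsupp.single j 1 : Fin (n + 1) →₀ ℕ) x : ℤ) + α x := by
      intro x
      simp only [hγdef, sh_apply, gg]
    simp only [e, Finset.sum_add_distrib, hα, add_zero]
    simp only [Finsupp.add_apply, Finsupp.single_apply, Nat.cast_add, Nat.cast_ite, Nat.cast_one,
      Nat.cast_zero, Finset.sum_add_distrib, Finset.sum_ite_eq, Finset.mem_univ, if_true]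
    norm_num
  have hβ : ∀ (b' x : Fin (n + 1)), sh (gg i j + Finsupp.single b' 1) α x =
      γ x + (if b'.val = x.val then 1 else 0) := by
    intro b' x
    rw [hγdef, sh_apply, sh_apply, Finsupp.add_apply, Finsupp.single_apply]
    simp only [Fin.ext_iff]
    split_ifs <;> push_cast <;> ring
  have kill : ∀ i' j' b' : Fin (n + 1), i'.val + 1 ≤ c → n + 1 ≤ j'.val + d →
      gg i' j' ≤ gg i j + Finsupp.single b' 1 →
      Ok (I51 n c d k) (sh (gg i j + Finsupp.single b' 1) α) →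
      ¬ NN (sh (gg i' j') α) → False := by
    intro i' j' b' hi' hj' hle hok hbad
    exact hne (rf_kill hF (hGs51 _ hg) (hGs51 _ ⟨i', j', hi', hj', rfl⟩) le_self_add hle hok
      (fun h => hbad h.1))
  by_cases hA : ∃ a : Fin (n + 1), a.val + 1 ≤ c ∧ 1 ≤ γ a
  · -- the value involves a variable of the first plane, hence none of the second
    have hB0 : ∀ b : Fin (n + 1), n + 1 ≤ b.val + d → γ b = 0 := by
      intro b hb
      have := hNN b
      by_contra h
      exact hOk2 ⟨hA, b, hb, by omega⟩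
    by_cases hγi : 1 ≤ γ i
    · obtain ⟨c', hγ2⟩ := unit_diff hNN hsum hγi
      have hc'B : ¬ (n + 1 ≤ c'.val + d) := by
        intro h
        have h1 := hB0 c' h
        have h2 := hγ2 c'
        split_ifs at h2 <;> omega
      have e : α = δ c' j := by
        funext x
        rw [hαx, hγ2]
        simp only [δ, Fin.ext_iff]
        split_ifs <;> omega
      rw [e]
      exact mem_LB hj hc'B
    · exfalso
      have hγi0 : γ i = 0 := by have := hNN i; omega
      obtain ⟨i', hi'A, hi'ne⟩ : ∃ i' : Fin (n + 1), i'.val + 1 ≤ c ∧ i'.val ≠ i.val := by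
        by_cases h0 : i.val = 0
        · refine ⟨⟨1, by omega⟩, ?_, ?_⟩
          · show 1 + 1 ≤ c; omega
          · show 1 ≠ i.val; omega
        · refine ⟨⟨0, by omega⟩, ?_, ?_⟩
          · show 0 + 1 ≤ c; omega
          · show 0 ≠ i.val; omega
      refine kill i' j i' hi'A hj ?_ ?_ ?_
      · rw [Finsupp.le_def]
        intro x
        rw [Finsupp.add_apply, gg_apply, gg_apply, Finsupp.single_apply]
        simp only [Fin.ext_iff]
        split_ifs <;> omega
      · apply ok_of_noB hn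
        intro b hb
        rw [hβ]
        have := hB0 b hb
        split_ifs <;> omega
      · intro h
        have h1 := h i
        rw [hg'x] at h1
        have h2 := hαx i
        split_ifs at h1 h2 <;> omega
  · -- the value involves no variable of the first plane
    push Not at hA
    have hA0 : ∀ a : Fin (n + 1), a.val + 1 ≤ c → γ a = 0 := by
      intro a ha
      have := hNN a
      have := hA a ha
      omega
    by_cases hγj : 1 ≤ γ j
    · obtain ⟨c', hγ2⟩ := unit_diff hNN hsum hγj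
      have hc'A : ¬ (c'.val + 1 ≤ c) := by
        intro h
        have h1 := hA0 c' h
        have h2 := hγ2 c'
        split_ifs at h2 <;> omega
      have e : α = δ c' i := by
        funext x
        rw [hαx, hγ2]
        simp only [δ, Fin.ext_iff]
        split_ifs <;> omega
      rw [e]
      exact mem_LA hi hc'A
    · exfalso
      have hγj0 : γ j = 0 := by have := hNN j; omega
      obtain ⟨j', hj'B, hj'ne⟩ : ∃ j' : Fin (n + 1), n + 1 ≤ j'.val + d ∧ j'.val ≠ j.val := by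
        by_cases h0 : j.val = n
        · refine ⟨⟨n - 1, by omega⟩, ?_, ?_⟩
          · show n + 1 ≤ n - 1 + d; omega
          · show n - 1 ≠ j.val; omega
        · refine ⟨Fin.last n, ?_, ?_⟩
          · rw [Fin.val_last]; omega
          · rw [Fin.val_last]; omega
      refine kill i j' j' hi hj'B ?_ ?_ ?_
      · rw [Finsupp.le_def]
        intro x
        rw [Finsupp.add_apply, gg_apply, gg_apply, Finsupp.single_apply]
        simp only [Fin.ext_iff]
        split_ifs <;> omega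
      · apply ok_of_noA hn
        intro a ha
        rw [hβ]
        have := hA0 a ha
        split_ifs <;> omega
      · intro h
        have h1 := h j
        rw [hg'x] at h1
        have h2 := hαx j
        split_ifs at h1 h2 <;> omega

/-! ### the count -/

theorem main51 (k : Type*) [Field k] (n c d : ℕ) (hc : 2 ≤ c) (hcd : c ≤ d) (hn : c + d ≤ n) :
    Module.finrank k ↥(⨆ α : {α : Fin (n + 1) → ℤ // ∑ i, α i = 0},
      tPiece (I51 n c d k) α.1) = c * (n - c + 1) + d * (n - d + 1) := by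
  have hd : 2 ≤ d := by omega
  have hI := isMonomial_I51 (k := k) (n := n) (c := c) (d := d)
  have hs : ∀ α : Fin (n + 1) → ℤ, (∑ i, α i = 0) → α ∉ L51 n c d →
      tPiece (I51 n c d k) α = ⊥ := by
    intro α hα hnot
    apply tPiece_eq_bot_of_RF hI
    intro F hF
    apply rf_eq_zero (Gs51 n c d) hG51 hGs51 hF
    intro g hg
    by_contra hne
    exact hnot (mem_L_of_ne_zero hc hd hn hα hF hg hne)
  have hs' : ∀ α ∈ L51 n c d, ∑ i, α i = 0 := by
    intro α hα
    rcases mem_L51 hα with ⟨v₀, w, _, _, rfl⟩ | ⟨v₀, w, _, _, rfl⟩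
    · exact sum_δ _ _
    · exact sum_δ _ _
  have hfin : ∀ α ∈ L51 n c d, Module.Finite k ↥(tPiece (I51 n c d k) α) := by
    intro α hα
    rcases mem_L51 hα with ⟨v₀, w, h1, h2, rfl⟩ | ⟨v₀, w, h1, h2, rfl⟩
    · exact (famA51 hc hd hn h1 h2).1
    · exact (famB51 hc hd hn h1 h2).1
  rw [finrank_iSup_of_finset hI (fun α : Fin (n + 1) → ℤ => ∑ i, α i = 0) (L51 n c d) hs hs'
    hfin, sum_L51 hn]
  have eA : ∑ p ∈ FA n c ×ˢ FA' n c, Module.finrank k ↥(tPiece (I51 n c d k) (δ p.2 p.1)) =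
      ∑ p ∈ FA n c ×ˢ FA' n c, 1 := by
    refine Finset.sum_congr rfl (fun p hp => ?_)
    have hp' : p.1.val + 1 ≤ c ∧ ¬ (p.2.val + 1 ≤ c) := by
      simpa only [Finset.mem_product, FA, FA', Finset.mem_filter, Finset.mem_univ, true_and]
        using hp
    exact (famA51 hc hd hn hp'.1 hp'.2).2
  have eB : ∑ p ∈ FB n d ×ˢ FB' n d, Module.finrank k ↥(tPiece (I51 n c d k) (δ p.2 p.1)) =
      ∑ p ∈ FB n d ×ˢ FB' n d, 1 := by
    refine Finset.sum_congr rfl (fun p hp => ?_)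
    have hp' : n + 1 ≤ p.1.val + d ∧ ¬ (n + 1 ≤ p.2.val + d) := by
      simpa only [Finset.mem_product, FB, FB', Finset.mem_filter, Finset.mem_univ, true_and]
        using hp
    exact (famB51 hc hd hn hp'.1 hp'.2).2
  rw [eA, eB]
  simp only [Finset.sum_const, smul_eq_mul, mul_one, Finset.card_product]
  rw [card_FA (by omega), card_FA' (by omega), card_FB (by omega), card_FB' (by omega)]
  have e1 : n + 1 - c = n - c + 1 := by omega
  have e2 : n + 1 - d = n - d + 1 := by omega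
  rw [e1, e2]

end Groth.Agent.H43.HilbS51
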