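import Mathlib
import Groth.Prelude.Def_W4c1hilbpnTgt

set_option linter.unusedVariables false
set_option linter.unusedSectionVars false
set_option linter.style.longLine false

/-! Multigraded pieces of `T(I) = Hom_S(I, S/I)` for a monomial ideal `I`:
`tPiece I α` is linearly equivalent to the space of functions on the connected components of the
region `(Ĩ + α) \ Ĩ` all of whose points are nonnegative. -/

namespace Groth.Agent.H43.HilbT

open W4c1hilbpn MvPolynomial

variable {σ : Type*} [Fintype σ] [DecidableEq σ] {k : Type*} [Field k]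

/-- nonnegative integer vector -/
def NN (γ : σ → ℤ) : Prop := ∀ i, 0 ≤ γ i

/-- integer vector to exponent vector (truncating negative entries) -/
noncomputable def toExp (γ : σ → ℤ) : σ →₀ ℕ :=
  Finsupp.equivFunOnFinite.symm fun i => (γ i).toNat

/-- `β + α` as an integer vector -/
def sh (β : σ →₀ ℕ) (α : σ → ℤ) : σ → ℤ := fun i => (β i : ℤ) + α i

@[simp] lemma toExp_apply (γ : σ → ℤ) (i : σ) : toExp γ i = (γ i).toNat := rfl

@[simp] lemma sh_apply (β : σ →₀ ℕ) (α : σ → ℤ) (i : σ) : sh β α i = (β i : ℤ) + α i := rfl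

lemma shift_eq (β : σ →₀ ℕ) (α : σ → ℤ) : shift β α = toExp (sh β α) := rfl

lemma sh_injective (α : σ → ℤ) {β β' : σ →₀ ℕ} (h : sh β α = sh β' α) : β = β' := by
  ext i
  have := congrFun h i
  simp only [sh_apply] at this
  omega

lemma toExp_inj_of_NN {γ γ' : σ → ℤ} (h : NN γ) (h' : NN γ') (e : toExp γ = toExp γ') :
    γ = γ' := by
  funext i
  have := DFunLike.congr_fun e i
  simp only [toExp_apply] at this
  have := h i
  have := h' i
  omega

lemma NN_step {γ : σ → ℤ} (h : NN γ) (i : σ) : NN (γ + Pi.single i 1) := by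
  classical
  intro j
  have := h j
  by_cases hji : j = i
  · subst hji; simp; omega
  · simp [Pi.single_apply, hji]; omega

lemma not_NN_of_step {γ : σ → ℤ} (i : σ) (h : ¬ NN (γ + Pi.single i 1)) : ¬ NN γ :=
  fun hh => h (NN_step hh i)

lemma toExp_step {γ : σ → ℤ} (h : NN γ) (i : σ) :
    toExp (γ + Pi.single i 1) = toExp γ + Finsupp.single i 1 := by
  classical
  ext j
  have hj := h j
  by_cases hji : j = i
  · subst hji
    simp only [toExp_apply, Pi.add_apply, Pi.single_eq_same, Finsupp.add_apply,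
      Finsupp.single_eq_same]
    omega
  · have e1 : (Pi.single i (1:ℤ) : σ → ℤ) j = 0 := by simp [Pi.single_apply, hji]
    have e2 : (Finsupp.single i (1:ℕ)) j = 0 := by
      rw [Finsupp.single_apply, if_neg (fun h => hji h.symm)]
    simp only [toExp_apply, Pi.add_apply, Finsupp.add_apply, e1, e2, add_zero]

lemma sh_step (β : σ →₀ ℕ) (α : σ → ℤ) (i : σ) :
    sh (β + Finsupp.single i 1) α = sh β α + Pi.single i 1 := by
  classical
  funext j
  by_cases hji : j = i
  · subst hji
    simp only [sh_apply, Finsupp.add_apply, Finsupp.single_eq_same, Pi.add_apply,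
      Pi.single_eq_same]
    push_cast; ring
  · have e1 : (Pi.single i (1:ℤ) : σ → ℤ) j = 0 := by simp [Pi.single_apply, hji]
    have e2 : (Finsupp.single i (1:ℕ)) j = 0 := by
      rw [Finsupp.single_apply, if_neg (fun h => hji h.symm)]
    simp only [sh_apply, Finsupp.add_apply, Pi.add_apply, e1, e2, add_zero]

lemma stepGraph_adj_single (γ : σ → ℤ) (i : σ) :
    (stepGraph σ).Adj γ (γ + Pi.single i 1) := by
  classical
  rw [stepGraph, SimpleGraph.fromRel_adj]
  have hterm : ∀ j, |γ j - (γ + Pi.single i (1:ℤ) : σ → ℤ) j| = if j = i then 1 else 0 := by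
    intro j
    by_cases h : j = i
    · subst h; simp
    · simp [h, Pi.single_apply]
  refine ⟨?_, Or.inl ?_⟩
  · intro h
    have := congrFun h i
    simp at this
  · rw [Finset.sum_congr rfl (fun j _ => hterm j), Finset.sum_ite_eq' Finset.univ i]
    simp

/-- adjacency in the step graph means a unit step in one coordinate -/
lemma stepGraph_adj_cases {a b : σ → ℤ} (h : (stepGraph σ).Adj a b) :
    ∃ i, b = a + Pi.single i 1 ∨ a = b + Pi.single i 1 := by
  classical
  rw [stepGraph, SimpleGraph.fromRel_adj] at h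
  obtain ⟨hne, h1⟩ := h
  have h1' : ∑ i, |a i - b i| = 1 := by
    rcases h1 with h1 | h1
    · exact h1
    · rw [← h1]; exact Finset.sum_congr rfl fun i _ => abs_sub_comm _ _
  have hex : ∃ i, a i ≠ b i := by
    by_contra hcon
    push Not at hcon
    exact hne (funext hcon)
  obtain ⟨i, hi⟩ := hex
  have hsplit := Finset.add_sum_erase Finset.univ (fun i => |a i - b i|) (Finset.mem_univ i)
  rw [h1'] at hsplit
  have hpos : 1 ≤ |a i - b i| := by
    have : a i - b i ≠ 0 := sub_ne_zero.mpr hi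
    exact Int.one_le_abs this
  have hnonneg : 0 ≤ ∑ x ∈ Finset.univ.erase i, |a x - b x| :=
    Finset.sum_nonneg fun _ _ => abs_nonneg _
  have hzero : ∑ x ∈ Finset.univ.erase i, |a x - b x| = 0 := by omega
  have hi1 : |a i - b i| = 1 := by omega
  have hothers : ∀ j, j ≠ i → a j = b j := by
    intro j hj
    have := (Finset.sum_eq_zero_iff_of_nonneg (fun _ _ => abs_nonneg _)).mp hzero j
      (Finset.mem_erase.mpr ⟨hj, Finset.mem_univ j⟩)
    have := abs_eq_zero.mp this
    omega
  refine ⟨i, ?_⟩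
  rcases (abs_eq (by norm_num : (0:ℤ) ≤ 1)).mp hi1 with h | h
  · right
    funext j
    by_cases hj : j = i
    · subst hj; simp; omega
    · simp [Pi.single_apply, hj, hothers j hj]
  · left
    funext j
    by_cases hj : j = i
    · subst hj; simp; omega
    · simp [Pi.single_apply, hj, hothers j hj]

lemma const_of_reachable {V : Type*} {G : SimpleGraph V} {β : Type*} (f : V → β)
    (h : ∀ u v, G.Adj u v → f u = f v) {u v : V} (r : G.Reachable u v) : f u = f v := by
  obtain ⟨p⟩ := r
  induction p with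
  | nil => rfl
  | cons hadj _ ih => exact (h _ _ hadj).trans ih

section ideal

variable {I : Ideal (MvPolynomial σ k)} {α : σ → ℤ}

lemma exps_add {β : σ →₀ ℕ} (h : β ∈ exps I) (δ : σ →₀ ℕ) : β + δ ∈ exps I := by
  show monomial (β + δ) (1:k) ∈ I
  have : monomial (β + δ) (1:k) = monomial δ 1 * monomial β 1 := by
    rw [monomial_mul, add_comm, one_mul]
  rw [this]; exact I.mul_mem_left _ h

lemma exps_of_le {β β' : σ →₀ ℕ} (h : β ∈ exps I) (hle : β ≤ β') : β' ∈ exps I := by
  obtain ⟨δ, rfl⟩ := le_iff_exists_add.mp hle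
  exact exps_add h δ

lemma mem_of_support (p : MvPolynomial σ k) (h : ∀ β ∈ p.support, β ∈ exps I) : p ∈ I := by
  rw [← support_sum_monomial_coeff p]
  refine I.sum_mem fun β hβ => ?_
  have : monomial β (coeff β p) = C (coeff β p) * monomial β 1 := by
    rw [C_mul_monomial, mul_one]
  rw [this]; exact I.mul_mem_left _ (h β hβ)

lemma mk_monomial_ne_zero {β : σ →₀ ℕ} (h : β ∉ exps I) :
    Ideal.Quotient.mk I (monomial β (1:k)) ≠ 0 := by
  intro h0; exact h (Ideal.Quotient.eq_zero_iff_mem.mp h0)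

lemma mk_monomial_eq_zero {β : σ →₀ ℕ} (h : β ∈ exps I) :
    Ideal.Quotient.mk I (monomial β (1:k)) = 0 :=
  Ideal.Quotient.eq_zero_iff_mem.mpr h

lemma X_mul_monomial_eq (i : σ) (β : σ →₀ ℕ) :
    (X i : MvPolynomial σ k) * monomial β 1 = monomial (β + Finsupp.single i 1) 1 := by
  show monomial (Finsupp.single i 1) (1:k) * monomial β 1 = _
  rw [monomial_mul, one_mul, add_comm]

lemma smul_mk (s q : MvPolynomial σ k) :
    s • Ideal.Quotient.mk I q = Ideal.Quotient.mk I (s * q) := rfl

lemma smul_mk_monomial (i : σ) (b : σ →₀ ℕ) :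
    (X i : MvPolynomial σ k) • Ideal.Quotient.mk I (monomial b (1:k)) =
      Ideal.Quotient.mk I (monomial (b + Finsupp.single i 1) 1) := by
  rw [smul_mk, X_mul_monomial_eq]

lemma tgt_ext (hI : IsMonomial I) {φ ψ : Tgt I}
    (h : ∀ (β : σ →₀ ℕ) (hβ : monomial β (1:k) ∈ I),
      φ ⟨monomial β 1, hβ⟩ = ψ ⟨monomial β 1, hβ⟩) : φ = ψ := by
  apply LinearMap.ext
  rintro ⟨p, hp⟩
  have key : (⟨p, hp⟩ : I) = ∑ β ∈ p.support.attach,
      (C (coeff β.1 p) : MvPolynomial σ k) • (⟨monomial β.1 1, hI p hp β.1 β.2⟩ : I) := by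
    apply Subtype.ext
    rw [Submodule.coe_sum]
    simp only [Submodule.coe_smul, smul_eq_mul, C_mul_monomial, mul_one]
    rw [Finset.sum_attach p.support (fun β => monomial β (coeff β p))]
    exact (support_sum_monomial_coeff p).symm
  rw [key, map_sum, map_sum]
  refine Finset.sum_congr rfl fun β _ => ?_
  rw [map_smul, map_smul, h]

lemma mem_tPiece_iff {φ : Tgt I} :
    φ ∈ tPiece I α ↔ ∀ (β : σ →₀ ℕ) (hβ : monomial β (1 : k) ∈ I),
      (NN (sh β α) → φ ⟨monomial β 1, hβ⟩ ∈
          Submodule.span k {Ideal.Quotient.mk I (monomial (toExp (sh β α)) (1 : k))}) ∧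
        ((∃ i, sh β α i < 0) → φ ⟨monomial β 1, hβ⟩ = 0) := Iff.rfl

lemma mem_region_iff {γ : σ → ℤ} :
    γ ∈ region I α ↔ (∃ β ∈ exps I, γ = sh β α) ∧ ¬ (NN γ ∧ toExp γ ∈ exps I) := Iff.rfl

lemma region_of_step {γ : σ → ℤ} {i : σ} (hγ : ∃ β ∈ exps I, γ = sh β α)
    (h' : γ + Pi.single i 1 ∈ region I α) : γ ∈ region I α :=
  ⟨hγ, fun hh => h'.2 ⟨NN_step hh.1 i, by
    show toExp (γ + Pi.single i 1) ∈ exps I
    rw [toExp_step hh.1]; exact exps_add hh.2 _⟩⟩

variable (I α) in
/-- the induced step graph on the region -/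
abbrev RG : SimpleGraph ↥(region I α) := (stepGraph σ).induce (region I α)

variable (I α) in
/-- a component all of whose points are nonnegative -/
def Good (c : (RG I α).ConnectedComponent) : Prop :=
  ∀ v : ↥(region I α), (RG I α).connectedComponentMk v = c → NN v.1

open Classical in
/-- the coefficient function attached to a function on good components -/
noncomputable def cfun (f : {c : (RG I α).ConnectedComponent // Good I α c} → k) (γ : σ → ℤ) : k :=
  if h : γ ∈ region I α then
    if hg : Good I α ((RG I α).connectedComponentMk ⟨γ, h⟩) then f ⟨_, hg⟩ else 0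
  else 0

variable (f g : {c : (RG I α).ConnectedComponent // Good I α c} → k)

lemma cfun_of_good {γ : σ → ℤ} (h : γ ∈ region I α)
    (hg : Good I α ((RG I α).connectedComponentMk ⟨γ, h⟩)) : cfun f γ = f ⟨_, hg⟩ := by
  rw [cfun, dif_pos h, dif_pos hg]

lemma cfun_ne_zero {γ : σ → ℤ} (hc : cfun f γ ≠ 0) :
    ∃ h : γ ∈ region I α, Good I α ((RG I α).connectedComponentMk ⟨γ, h⟩) := by
  by_cases h : γ ∈ region I α
  · by_cases hg : Good I α ((RG I α).connectedComponentMk ⟨γ, h⟩)
    · exact ⟨h, hg⟩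
    · exact absurd (by rw [cfun, dif_pos h, dif_neg hg]) hc
  · exact absurd (by rw [cfun, dif_neg h]) hc

lemma cfun_NN {γ : σ → ℤ} (hc : cfun f γ ≠ 0) : NN γ := by
  obtain ⟨h, hg⟩ := cfun_ne_zero f hc
  exact hg ⟨γ, h⟩ rfl

lemma cfun_adj {γ γ' : σ → ℤ} (h : γ ∈ region I α) (h' : γ' ∈ region I α)
    (hadj : (stepGraph σ).Adj γ γ') : cfun f γ = cfun f γ' := by
  have e : (RG I α).connectedComponentMk ⟨γ, h⟩ = (RG I α).connectedComponentMk ⟨γ', h'⟩ :=
    SimpleGraph.ConnectedComponent.connectedComponentMk_eq_of_adj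
      (show (RG I α).Adj ⟨γ, h⟩ ⟨γ', h'⟩ from hadj)
  by_cases hg : Good I α ((RG I α).connectedComponentMk ⟨γ, h⟩)
  · have hg' : Good I α ((RG I α).connectedComponentMk ⟨γ', h'⟩) := e ▸ hg
    rw [cfun_of_good f h hg, cfun_of_good f h' hg']
    congr 1
    exact Subtype.ext e
  · have hg' : ¬ Good I α ((RG I α).connectedComponentMk ⟨γ', h'⟩) := fun hh => hg (e ▸ hh)
    rw [cfun, dif_pos h, dif_neg hg, cfun, dif_pos h', dif_neg hg']

lemma cfun_add (γ : σ → ℤ) : cfun (f + g) γ = cfun f γ + cfun g γ := by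
  unfold cfun
  split_ifs <;> simp

lemma cfun_smul (a : k) (γ : σ → ℤ) : cfun (a • f) γ = a * cfun f γ := by
  unfold cfun
  split_ifs <;> simp

open Classical in
/-- values on monomials -/
noncomputable def vfun (β : σ →₀ ℕ) : MvPolynomial σ k ⧸ I :=
  if β ∈ exps I then
    cfun f (sh β α) • Ideal.Quotient.mk I (monomial (toExp (sh β α)) (1:k))
  else 0

lemma vfun_add (β : σ →₀ ℕ) : vfun (f + g) β = vfun f β + vfun g β := by
  unfold vfun
  split_ifs
  · rw [cfun_add, add_smul]
  · simp

lemma vfun_smul (a : k) (β : σ →₀ ℕ) : vfun (a • f) β = a • vfun f β := by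
  unfold vfun
  split_ifs
  · rw [cfun_smul, mul_smul]
  · simp

lemma vfun_step {β : σ →₀ ℕ} (hβ : β ∈ exps I) (i : σ) :
    vfun f (β + Finsupp.single i 1) = (X i : MvPolynomial σ k) • vfun f β := by
  have hβ' : β + Finsupp.single i 1 ∈ exps I := exps_add hβ _
  rw [vfun, if_pos hβ', vfun, if_pos hβ, sh_step]
  by_cases hc' : cfun f (sh β α + Pi.single i 1) = 0
  · rw [hc', zero_smul]
    by_cases hc : cfun f (sh β α) = 0
    · rw [hc, zero_smul, smul_zero]
    · have hNN := cfun_NN f hc
      obtain ⟨h, hg⟩ := cfun_ne_zero f hc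
      have hnot : sh β α + Pi.single i 1 ∉ region I α := by
        intro h'
        exact hc ((cfun_adj f h h' (stepGraph_adj_single _ i)).trans hc')
      have hin : toExp (sh β α + Pi.single i 1) ∈ exps I := by
        by_contra hcon
        exact hnot ⟨⟨_, hβ', (sh_step β α i).symm⟩, fun hh => hcon hh.2⟩
      rw [toExp_step hNN] at hin
      rw [smul_comm, smul_mk_monomial, mk_monomial_eq_zero hin, smul_zero]
  · have hNN' := cfun_NN f hc'
    obtain ⟨h', hg'⟩ := cfun_ne_zero f hc'
    have h : sh β α ∈ region I α := region_of_step ⟨β, hβ, rfl⟩ h'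
    have e := cfun_adj f h h' (stepGraph_adj_single _ i)
    have hc : cfun f (sh β α) ≠ 0 := e ▸ hc'
    have hNN := cfun_NN f hc
    rw [← e, toExp_step hNN, smul_comm, smul_mk_monomial]

/-- the `k`-linear map on all polynomials -/
noncomputable def Lf : MvPolynomial σ k →ₗ[k] (MvPolynomial σ k ⧸ I) :=
  (basisMonomials σ k).constr k (vfun f)

lemma Lf_monomial (β : σ →₀ ℕ) : Lf f (monomial β 1) = vfun f β :=
  (basisMonomials σ k).constr_basis k (vfun f) β

lemma Lf_X_mul (hI : IsMonomial I) (i : σ) (p : MvPolynomial σ k) (hp : p ∈ I) :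
    Lf f (X i * p) = (X i : MvPolynomial σ k) • Lf f p := by
  have hp' := support_sum_monomial_coeff p
  have hterm : ∀ β ∈ p.support, Lf f (X i * monomial β (coeff β p)) =
      (X i : MvPolynomial σ k) • Lf f (monomial β (coeff β p)) := by
    intro β hβ
    have hβI : β ∈ exps I := hI p hp β hβ
    have e : monomial β (coeff β p) = (coeff β p) • monomial β (1:k) := by
      rw [smul_monomial, smul_eq_mul, mul_one]
    rw [e, mul_smul_comm, map_smul, map_smul, X_mul_monomial_eq, Lf_monomial, Lf_monomial,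
      vfun_step f hβI i, smul_comm]
  calc Lf f (X i * p) = Lf f (X i * ∑ β ∈ p.support, monomial β (coeff β p)) := by rw [hp']
    _ = ∑ β ∈ p.support, Lf f (X i * monomial β (coeff β p)) := by
        rw [Finset.mul_sum, map_sum]
    _ = ∑ β ∈ p.support, (X i : MvPolynomial σ k) • Lf f (monomial β (coeff β p)) :=
        Finset.sum_congr rfl hterm
    _ = (X i : MvPolynomial σ k) • Lf f (∑ β ∈ p.support, monomial β (coeff β p)) := by
        rw [map_sum, Finset.smul_sum]
    _ = (X i : MvPolynomial σ k) • Lf f p := by rw [hp']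

lemma Lf_mul (hI : IsMonomial I) (s : MvPolynomial σ k) :
    ∀ p ∈ I, Lf f (s * p) = s • Lf f p := by
  induction s using MvPolynomial.induction_on with
  | C a =>
    intro p hp
    have : (C a : MvPolynomial σ k) • Lf f p = a • Lf f p := by
      rw [← algebraMap_eq, algebraMap_smul]
    rw [C_mul', map_smul, this]
  | add s t hs ht =>
    intro p hp
    rw [add_mul, map_add, hs p hp, ht p hp, add_smul]
  | mul_X s i hs =>
    intro p hp
    rw [mul_assoc, hs _ (I.mul_mem_left _ hp), Lf_X_mul f hI i p hp, mul_smul]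

/-- the element of `T(I)` attached to a function on good components -/
noncomputable def phiOf (hI : IsMonomial I) : Tgt I where
  toFun p := Lf f p.1
  map_add' p q := by
    show Lf f ((p + q : I) : MvPolynomial σ k) = _
    rw [Submodule.coe_add, map_add]
  map_smul' s p := by
    show Lf f ((s • p : I) : MvPolynomial σ k) = s • Lf f p.1
    rw [Submodule.coe_smul, smul_eq_mul]
    exact Lf_mul f hI s p.1 p.2

lemma phiOf_monomial (hI : IsMonomial I) (β : σ →₀ ℕ) (hβ : monomial β (1:k) ∈ I) :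
    phiOf f hI ⟨monomial β 1, hβ⟩ = vfun f β := Lf_monomial f β

lemma phiOf_mem (hI : IsMonomial I) : phiOf f hI ∈ tPiece I α := by
  rw [mem_tPiece_iff]
  intro β hβ
  refine ⟨fun hnn => ?_, fun hneg => ?_⟩
  · rw [phiOf_monomial, vfun, if_pos (show β ∈ exps I from hβ)]
    exact Submodule.smul_mem _ _ (Submodule.mem_span_singleton_self _)
  · rw [phiOf_monomial, vfun, if_pos (show β ∈ exps I from hβ)]
    have : cfun f (sh β α) = 0 := by
      by_contra hc
      obtain ⟨i, hi⟩ := hneg
      exact absurd (cfun_NN f hc i) (not_le.mpr hi)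
    rw [this, zero_smul]

variable (α) in
/-- the linear map from functions on good components to the graded piece -/
noncomputable def PhiLin (hI : IsMonomial I) :
    ({c : (RG I α).ConnectedComponent // Good I α c} → k) →ₗ[k] tPiece I α where
  toFun f := ⟨phiOf f hI, phiOf_mem f hI⟩
  map_add' f g := by
    apply Subtype.ext
    apply tgt_ext hI
    intro β hβ
    show phiOf (f + g) hI ⟨monomial β 1, hβ⟩ =
      phiOf f hI ⟨monomial β 1, hβ⟩ + phiOf g hI ⟨monomial β 1, hβ⟩
    rw [phiOf_monomial, phiOf_monomial, phiOf_monomial, vfun_add]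
  map_smul' a f := by
    apply Subtype.ext
    apply tgt_ext hI
    intro β hβ
    show phiOf (a • f) hI ⟨monomial β 1, hβ⟩ = a • phiOf f hI ⟨monomial β 1, hβ⟩
    rw [phiOf_monomial, phiOf_monomial, vfun_smul]

lemma PhiLin_apply (hI : IsMonomial I) (β : σ →₀ ℕ) (hβ : monomial β (1:k) ∈ I) :
    (PhiLin α hI f).1 ⟨monomial β 1, hβ⟩ = vfun f β := phiOf_monomial f hI β hβ

lemma PhiLin_injective (hI : IsMonomial I) : Function.Injective (PhiLin α hI) := by
  rw [injective_iff_map_eq_zero]
  intro f hf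
  funext c
  obtain ⟨c, hc⟩ := c
  obtain ⟨v, rfl⟩ := Quot.exists_rep c
  obtain ⟨β, hβ, hv⟩ := v.2.1
  replace hv : v.1 = sh β α := hv
  have hβ' : monomial β (1:k) ∈ I := hβ
  have h1 : (PhiLin α hI f).1 ⟨monomial β 1, hβ'⟩ = 0 := by rw [hf]; rfl
  rw [PhiLin_apply, vfun, if_pos hβ] at h1
  have hreg : sh β α ∈ region I α := hv ▸ v.2
  have hNN : NN (sh β α) := hv ▸ hc v rfl
  have hne : Ideal.Quotient.mk I (monomial (toExp (sh β α)) (1:k)) ≠ 0 :=
    mk_monomial_ne_zero (fun hh => hreg.2 ⟨hNN, hh⟩)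
  have h2 : cfun f (sh β α) = 0 := (smul_eq_zero.mp h1).resolve_right hne
  have hv' : v = ⟨sh β α, hreg⟩ := Subtype.ext hv
  subst hv'
  rw [cfun_of_good f hreg hc] at h2
  exact h2

end ideal

end Groth.Agent.H43.HilbT
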