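import Groth.Agent.H43.HilbT1

set_option linter.unusedVariables false
set_option linter.unusedSectionVars false
set_option linter.style.longLine false

/-! `tPiece I α ≃ (good components → k)`, finiteness for finite colength, and the count of bounded
connected components. -/

namespace Groth.Agent.H43.HilbT

open W4c1hilbpn MvPolynomial

variable {σ : Type*} [Fintype σ] [DecidableEq σ] {k : Type*} [Field k]
variable {I : Ideal (MvPolynomial σ k)} {α : σ → ℤ}

section surj

variable {φ : Tgt I}

open Classical in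
/-- the coefficient of `φ(x^β)` along `x^(β+α)` -/
noncomputable def co (hφ : φ ∈ tPiece I α) (β : σ →₀ ℕ) : k :=
  if h : β ∈ exps I ∧ NN (sh β α) then
    Classical.choose (Submodule.mem_span_singleton.mp (((mem_tPiece_iff.mp hφ) β h.1).1 h.2))
  else 0

lemma co_spec (hφ : φ ∈ tPiece I α) {β : σ →₀ ℕ} (hβ : monomial β (1:k) ∈ I) :
    φ ⟨monomial β 1, hβ⟩ =
      co hφ β • Ideal.Quotient.mk I (monomial (toExp (sh β α)) (1:k)) := by
  by_cases hnn : NN (sh β α)
  · rw [co, dif_pos ⟨hβ, hnn⟩]
    exact (Classical.choose_spec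
      (Submodule.mem_span_singleton.mp (((mem_tPiece_iff.mp hφ) β hβ).1 hnn))).symm
  · rw [co, dif_neg (fun h => hnn h.2), zero_smul]
    have : ∃ i, sh β α i < 0 := by
      by_contra hcon
      push Not at hcon
      exact hnn hcon
    exact ((mem_tPiece_iff.mp hφ) β hβ).2 this

lemma co_of_not_NN (hφ : φ ∈ tPiece I α) {β : σ →₀ ℕ} (h : ¬ NN (sh β α)) : co hφ β = 0 := by
  rw [co, dif_neg (fun hh => h hh.2)]

lemma phi_step (φ : Tgt I) {β : σ →₀ ℕ} (hβ : monomial β (1:k) ∈ I) (i : σ)
    (hβ' : monomial (β + Finsupp.single i 1) (1:k) ∈ I) :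
    φ ⟨monomial (β + Finsupp.single i 1) 1, hβ'⟩ =
      (X i : MvPolynomial σ k) • φ ⟨monomial β 1, hβ⟩ := by
  rw [← map_smul]
  congr 1
  apply Subtype.ext
  rw [Submodule.coe_smul, smul_eq_mul, X_mul_monomial_eq]

lemma co_step (hφ : φ ∈ tPiece I α) {β : σ →₀ ℕ} (hβ : β ∈ exps I) (i : σ)
    (h' : sh β α + Pi.single i 1 ∈ region I α) :
    co hφ (β + Finsupp.single i 1) = co hφ β := by
  have hβ' : β + Finsupp.single i 1 ∈ exps I := exps_add hβ _
  have hβm : monomial β (1:k) ∈ I := hβ
  have hβm' : monomial (β + Finsupp.single i 1) (1:k) ∈ I := hβ'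
  have e := phi_step φ hβm i hβm'
  rw [co_spec hφ hβm', co_spec hφ hβm, sh_step] at e
  by_cases hnn' : NN (sh β α + Pi.single i 1)
  · have hne : Ideal.Quotient.mk I (monomial (toExp (sh β α + Pi.single i 1)) (1:k)) ≠ 0 :=
      mk_monomial_ne_zero (fun hh => h'.2 ⟨hnn', hh⟩)
    by_cases hnn : NN (sh β α)
    · rw [smul_comm, smul_mk_monomial, ← toExp_step hnn, ← sub_eq_zero, ← sub_smul] at e
      have := (smul_eq_zero.mp e).resolve_right hne
      exact sub_eq_zero.mp this
    · rw [co_of_not_NN hφ hnn, zero_smul, smul_zero] at e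
      rw [co_of_not_NN hφ hnn]
      exact (smul_eq_zero.mp e).resolve_right hne
  · have hnn : ¬ NN (sh β α) := not_NN_of_step i hnn'
    rw [co_of_not_NN hφ hnn, co_of_not_NN hφ (by rw [sh_step]; exact hnn')]

/-- the exponent `β` with `v = β + α` -/
noncomputable def bOf (v : ↥(region I α)) : σ →₀ ℕ := Classical.choose v.2.1

lemma bOf_mem (v : ↥(region I α)) : bOf v ∈ exps I := (Classical.choose_spec v.2.1).1

lemma bOf_spec (v : ↥(region I α)) : v.1 = sh (bOf v) α := (Classical.choose_spec v.2.1).2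

lemma bOf_eq (v : ↥(region I α)) {β : σ →₀ ℕ} (h : v.1 = sh β α) : bOf v = β :=
  sh_injective α ((bOf_spec v).symm.trans h)

/-- the coefficient function of `φ` on the region -/
noncomputable def gfun (hφ : φ ∈ tPiece I α) (v : ↥(region I α)) : k := co hφ (bOf v)

lemma gfun_step (hφ : φ ∈ tPiece I α) (v w : ↥(region I α)) (i : σ)
    (h : w.1 = v.1 + Pi.single i 1) : gfun hφ w = gfun hφ v := by
  have hw : bOf w = bOf v + Finsupp.single i 1 :=
    bOf_eq w (h.trans (by rw [sh_step, ← bOf_spec v]))
  unfold gfun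
  rw [hw]
  refine co_step hφ (bOf_mem v) i ?_
  rw [← bOf_spec v, ← h]
  exact w.2

lemma gfun_adj (hφ : φ ∈ tPiece I α) {v w : ↥(region I α)} (hadj : (RG I α).Adj v w) :
    gfun hφ v = gfun hφ w := by
  obtain ⟨i, h | h⟩ := stepGraph_adj_cases (show (stepGraph σ).Adj v.1 w.1 from hadj)
  · exact (gfun_step hφ v w i h).symm
  · exact gfun_step hφ w v i h

lemma gfun_reach (hφ : φ ∈ tPiece I α) {v w : ↥(region I α)} (h : (RG I α).Reachable v w) :
    gfun hφ v = gfun hφ w :=
  const_of_reachable (gfun hφ) (fun _ _ h => gfun_adj hφ h) h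

lemma gfun_zero (hφ : φ ∈ tPiece I α) {v : ↥(region I α)} (h : ¬ NN v.1) : gfun hφ v = 0 := by
  unfold gfun
  exact co_of_not_NN hφ (by rw [← bOf_spec v]; exact h)

end surj

lemma PhiLin_surjective (hI : IsMonomial I) : Function.Surjective (PhiLin α hI) := by
  rintro ⟨φ, hφ⟩
  refine ⟨fun c => gfun hφ (Quot.out c.1), ?_⟩
  apply Subtype.ext
  apply tgt_ext hI
  intro β hβ
  rw [PhiLin_apply]
  show vfun _ β = φ ⟨monomial β 1, hβ⟩
  rw [co_spec hφ hβ, vfun, if_pos (show β ∈ exps I from hβ)]
  by_cases hreg : sh β α ∈ region I α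
  · congr 1
    have hb : bOf (⟨sh β α, hreg⟩ : ↥(region I α)) = β := bOf_eq _ rfl
    by_cases hg : Good I α ((RG I α).connectedComponentMk ⟨sh β α, hreg⟩)
    · rw [cfun_of_good _ hreg hg]
      show gfun hφ (Quot.out ((RG I α).connectedComponentMk ⟨sh β α, hreg⟩)) = co hφ β
      have hr : (RG I α).Reachable (Quot.out ((RG I α).connectedComponentMk ⟨sh β α, hreg⟩))
          ⟨sh β α, hreg⟩ :=
        SimpleGraph.ConnectedComponent.exact (Quot.out_eq _)
      rw [gfun_reach hφ hr, gfun, hb]
    · rw [cfun, dif_pos hreg, dif_neg hg]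
      have : ∃ w : ↥(region I α), (RG I α).connectedComponentMk w =
          (RG I α).connectedComponentMk ⟨sh β α, hreg⟩ ∧ ¬ NN w.1 := by
        by_contra hcon
        push Not at hcon
        exact hg hcon
      obtain ⟨w, hw, hwn⟩ := this
      have hr : (RG I α).Reachable w ⟨sh β α, hreg⟩ := SimpleGraph.ConnectedComponent.exact hw
      have h3 := gfun_reach hφ hr
      rw [gfun_zero hφ hwn, gfun, hb] at h3
      exact h3
  · have hin : toExp (sh β α) ∈ exps I := by
      by_contra hcon
      exact hreg ⟨⟨β, hβ, rfl⟩, fun hh => hcon hh.2⟩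
    rw [mk_monomial_eq_zero hin, smul_zero, smul_zero]

/-- the graded piece of `T(I)` is the space of functions on the good components -/
noncomputable def tPieceEquiv (hI : IsMonomial I) (α : σ → ℤ) :
    ({c : (RG I α).ConnectedComponent // Good I α c} → k) ≃ₗ[k] tPiece I α :=
  LinearEquiv.ofBijective (PhiLin α hI) ⟨PhiLin_injective hI, PhiLin_surjective hI⟩

lemma finrank_tPiece (hI : IsMonomial I)
    [Finite {c : (RG I α).ConnectedComponent // Good I α c}] :
    Module.finrank k (tPiece I α) =
      Nat.card {c : (RG I α).ConnectedComponent // Good I α c} := by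
  haveI := Fintype.ofFinite {c : (RG I α).ConnectedComponent // Good I α c}
  rw [← (tPieceEquiv hI α).finrank_eq, Module.finrank_fintype_fun_eq_card,
    Nat.card_eq_fintype_card]

lemma tPiece_eq_bot_of_isEmpty (hI : IsMonomial I)
    [IsEmpty {c : (RG I α).ConnectedComponent // Good I α c}] : tPiece I α = ⊥ := by
  rw [Submodule.eq_bot_iff]
  intro φ hφ
  have h0 : (tPieceEquiv hI α).symm ⟨φ, hφ⟩ = 0 := Subsingleton.elim _ _
  have := congrArg (tPieceEquiv hI α) h0
  rw [LinearEquiv.apply_symm_apply, map_zero] at this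
  exact congrArg Subtype.val this

lemma good_of_finite (hσ : ∀ i : σ, ∃ j, j ≠ i) (c : (RG I α).ConnectedComponent)
    (hfin : c.supp.Finite) : Good I α c := by
  intro v hv
  by_contra hnn
  obtain ⟨i, hi⟩ : ∃ i, v.1 i < 0 := by
    by_contra hcon
    push Not at hcon
    exact hnn hcon
  obtain ⟨j, hj⟩ := hσ i
  have hb := bOf_spec v
  have hmem : ∀ t : ℕ, sh (bOf v + Finsupp.single j t) α ∈ region I α := by
    intro t
    refine ⟨⟨_, exps_add (bOf_mem v) _, rfl⟩, fun hh => ?_⟩
    have h1 := hh.1 i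
    rw [sh_apply, Finsupp.add_apply, Finsupp.single_apply, if_neg hj] at h1
    have h2 := congrFun hb i
    rw [sh_apply] at h2
    simp only [add_zero] at h1
    omega
  have hcomp : ∀ t : ℕ, (RG I α).connectedComponentMk ⟨_, hmem t⟩ = c := by
    intro t
    induction t with
    | zero =>
      rw [← hv]
      congr 1
      apply Subtype.ext
      show sh (bOf v + Finsupp.single j 0) α = v.1
      rw [Finsupp.single_zero, add_zero, ← hb]
    | succ t ih =>
      rw [← ih]
      symm
      apply SimpleGraph.ConnectedComponent.connectedComponentMk_eq_of_adj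
      show (stepGraph σ).Adj (sh (bOf v + Finsupp.single j t) α)
        (sh (bOf v + Finsupp.single j (t+1)) α)
      have : bOf v + Finsupp.single j (t+1) =
          (bOf v + Finsupp.single j t) + Finsupp.single j 1 := by
        rw [add_assoc, ← Finsupp.single_add]
      rw [this, sh_step]
      exact stepGraph_adj_single _ j
  have hinj : Function.Injective (fun t : ℕ => (⟨_, hmem t⟩ : ↥(region I α))) := by
    intro t t' e
    have := congrFun (congrArg Subtype.val e) j
    simp only [sh_apply, Finsupp.add_apply, Finsupp.single_eq_same] at this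
    omega
  exact (Set.infinite_of_injective_forall_mem hinj (fun t => hcomp t)) hfin

section finite

variable (hI : IsMonomial I) [Module.Finite k (MvPolynomial σ k ⧸ I)]
include hI

lemma coeff_eq_zero_of_mem {p : MvPolynomial σ k} (hp : p ∈ I) {β : σ →₀ ℕ}
    (hβ : β ∉ exps I) : coeff β p = 0 := by
  by_contra h
  exact hβ (hI p hp β (mem_support_iff.mpr h))

omit [Module.Finite k (MvPolynomial σ k ⧸ I)] in
lemma linInd_std :
    LinearIndependent k (fun β : {β : σ →₀ ℕ // β ∉ exps I} =>
      Ideal.Quotient.mk I (monomial β.1 (1:k))) := by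
  classical
  rw [linearIndependent_iff']
  intro s g hg i hi
  have h1 : ∑ j ∈ s, g j • Ideal.Quotient.mk I (monomial j.1 (1:k)) =
      Ideal.Quotient.mk I (∑ j ∈ s, monomial j.1 (g j)) := by
    rw [map_sum]
    refine Finset.sum_congr rfl fun j _ => ?_
    have : monomial j.1 (g j) = (g j) • monomial j.1 (1:k) := by
      rw [smul_monomial, smul_eq_mul, mul_one]
    rw [this]
    rfl
  rw [h1, Ideal.Quotient.eq_zero_iff_mem] at hg
  have h2 : coeff i.1 (∑ j ∈ s, monomial j.1 (g j)) = 0 := by
    by_contra h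
    exact i.2 (hI _ hg i.1 (mem_support_iff.mpr h))
  rw [coeff_sum] at h2
  simp only [coeff_monomial] at h2
  rw [Finset.sum_eq_single i] at h2
  · simpa using h2
  · intro j _ hji
    rw [if_neg]
    exact fun h => hji (Subtype.ext h)
  · intro h; exact absurd hi h

lemma std_finite : {β : σ →₀ ℕ | β ∉ exps I}.Finite :=
  Set.finite_coe_iff.mp ((linInd_std hI).finite)

lemma exists_single_mem (a : σ) : ∃ N, Finsupp.single a N ∈ exps I := by
  by_contra hcon
  push Not at hcon
  have hinj : Function.Injective (fun N : ℕ => Finsupp.single a N) := Finsupp.single_injective a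
  exact (Set.infinite_of_injective_forall_mem hinj hcon) (std_finite hI)

lemma good_supp_finite (c : (RG I α).ConnectedComponent) (hc : Good I α c) : c.supp.Finite := by
  refine Set.Finite.of_finite_image (f := fun v : ↥(region I α) => toExp v.1)
    ((std_finite hI).subset ?_) ?_
  · rintro _ ⟨v, hv, rfl⟩
    exact fun hh => v.2.2 ⟨hc v hv, hh⟩
  · intro v hv w hw e
    exact Subtype.ext (toExp_inj_of_NN (hc v hv) (hc w hw) e)

lemma finite_good : Finite {c : (RG I α).ConnectedComponent // Good I α c} := by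
  haveI : Finite {β : σ →₀ ℕ // β ∉ exps I} := (linInd_std hI).finite
  have hrep : ∀ c : {c : (RG I α).ConnectedComponent // Good I α c},
      toExp (Quot.out c.1).1 ∉ exps I := by
    intro c hh
    have hNN : NN (Quot.out c.1).1 := c.2 _ (Quot.out_eq c.1)
    exact (Quot.out c.1).2.2 ⟨hNN, hh⟩
  refine Finite.of_injective
    (fun c => (⟨toExp (Quot.out c.1).1, hrep c⟩ : {β : σ →₀ ℕ // β ∉ exps I})) ?_
  intro c c' e
  have e' : toExp (Quot.out c.1).1 = toExp (Quot.out c'.1).1 := congrArg Subtype.val e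
  have hNN : NN (Quot.out c.1).1 := c.2 _ (Quot.out_eq c.1)
  have hNN' : NN (Quot.out c'.1).1 := c'.2 _ (Quot.out_eq c'.1)
  have h3 : Quot.out c.1 = Quot.out c'.1 := Subtype.ext (toExp_inj_of_NN hNN hNN' e')
  apply Subtype.ext
  calc c.1 = (RG I α).connectedComponentMk (Quot.out c.1) := (Quot.out_eq c.1).symm
    _ = (RG I α).connectedComponentMk (Quot.out c'.1) := by rw [h3]
    _ = c'.1 := Quot.out_eq c'.1

theorem finrank_tPiece_eq_card_good (α : σ → ℤ) :
    Module.finrank k (tPiece I α) =
      Nat.card {c : (RG I α).ConnectedComponent // Good I α c} := by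
  haveI := finite_good hI (α := α)
  exact finrank_tPiece hI

theorem good_iff_finite (hσ : ∀ i : σ, ∃ j, j ≠ i) (c : (RG I α).ConnectedComponent) :
    Good I α c ↔ c.supp.Finite :=
  ⟨good_supp_finite hI c, good_of_finite hσ c⟩

theorem finrank_tPiece_eq_nBddComp (hσ : ∀ i : σ, ∃ j, j ≠ i) (α : σ → ℤ) :
    Module.finrank k (tPiece I α) = nBddComp I α := by
  rw [finrank_tPiece_eq_card_good hI α]
  unfold nBddComp
  exact Nat.card_congr (Equiv.subtypeEquivRight fun c => good_iff_finite hI hσ c)

end finite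

end Groth.Agent.H43.HilbT
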