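import Groth.Agent.H43.HilbT3

set_option linter.unusedVariables false
set_option linter.unusedSectionVars false
set_option linter.style.longLine false

/-! Bound for the span of the pieces `(a1, a2, c)`, `c < 0`, by counting corners. -/

namespace Groth.Agent.H43.HilbT

open W4c1hilbpn MvPolynomial

lemma finrank_finset_sup_le {k V ι : Type*} [Field k] [AddCommGroup V] [Module k V]
    [DecidableEq ι] (s : Finset ι) (p : ι → Submodule k V)
    (hp : ∀ i ∈ s, Module.Finite k (p i)) :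
    Module.Finite k ↥(s.sup p) ∧
      Module.finrank k ↥(s.sup p) ≤ ∑ i ∈ s, Module.finrank k (p i) := by
  induction s using Finset.induction_on with
  | empty =>
    rw [Finset.sup_empty]
    exact ⟨inferInstance, by simp⟩
  | insert a s ha ih =>
    have hfa : Module.Finite k (p a) := hp a (Finset.mem_insert_self a s)
    obtain ⟨hfs, hle⟩ := ih (fun i hi => hp i (Finset.mem_insert_of_mem hi))
    rw [Finset.sup_insert, Finset.sum_insert ha]
    refine ⟨inferInstance, ?_⟩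
    exact (Submodule.finrank_add_le_finrank_add_finrank (p a) (s.sup p)).trans
      (Nat.add_le_add_left hle _)

variable {k : Type*} [Field k] {I : Ideal (MvPolynomial (Fin 3) k)}

/-- the set of corners -/
noncomputable def Kset (I : Ideal (MvPolynomial (Fin 3) k)) (a1 a2 N : ℕ) :
    Finset (Σ _ : ℕ × ℕ, ℕ) :=
  ((Finset.range N ×ˢ Finset.range N).filter (fun p => a1 ≤ p.1 ∧ a2 ≤ p.2)).sigma
    (fun p => Finset.Ico (max (stairZ I (p.1+1) p.2) (stairZ I p.1 (p.2+1))) (stairZ I p.1 p.2))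

/-- the multidegree determined by a corner -/
noncomputable def alphaOf (I : Ideal (MvPolynomial (Fin 3) k)) (a1 a2 : ℕ)
    (κ : Σ _ : ℕ × ℕ, ℕ) : Fin 3 → ℤ :=
  ![(a1:ℤ), (a2:ℤ), (κ.2 : ℤ) - stairZ I (κ.1.1 - a1) (κ.1.2 - a2)]

section

variable (hI : IsMonomial I) [Module.Finite k (MvPolynomial (Fin 3) k ⧸ I)]
include hI

lemma exists_kappa {N : ℕ} (hN0 : Finsupp.single (0 : Fin 3) N ∈ exps I)
    (hN1 : Finsupp.single (1 : Fin 3) N ∈ exps I) {α : Fin 3 → ℤ} {a1 a2 : ℕ}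
    (h0 : α 0 = a1) (h1 : α 1 = a2)
    (c₀ : (RG I α).ConnectedComponent) (hc₀ : Good I α c₀) :
    ∃ κ ∈ Kset I a1 a2 N, alphaOf I a1 a2 κ = α ∧
      ∃ hm : pt κ.1.1 κ.1.2 (κ.2 : ℤ) ∈ region I α,
        (RG I α).connectedComponentMk ⟨_, hm⟩ = c₀ := by
  obtain ⟨a, b, n, ha, hb, hn1, hn2, hn3, hα2, hm, hcomp⟩ := exists_corner hI h0 h1 c₀ hc₀
  refine ⟨⟨(a,b), n⟩, ?_, ?_, hm, hcomp⟩
  · rw [Kset, Finset.mem_sigma]
    refine ⟨Finset.mem_filter.mpr ⟨Finset.mem_product.mpr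
      ⟨Finset.mem_range.mpr ?_, Finset.mem_range.mpr ?_⟩, ha, hb⟩,
      Finset.mem_Ico.mpr ⟨max_le hn1 hn2, hn3⟩⟩
    · by_contra hcon
      have hcon' : N ≤ a := not_lt.mp hcon
      have := stair_zero_of_ge0 hI hN0 hcon' b
      omega
    · by_contra hcon
      have hcon' : N ≤ b := not_lt.mp hcon
      have := stair_zero_of_ge1 hI hN1 a hcon'
      omega
  · funext i; fin_cases i
    · exact h0.symm
    · exact h1.symm
    · exact hα2.symm

lemma card_good_le {N : ℕ} (hN0 : Finsupp.single (0 : Fin 3) N ∈ exps I)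
    (hN1 : Finsupp.single (1 : Fin 3) N ∈ exps I) {α : Fin 3 → ℤ} {a1 a2 : ℕ}
    (h0 : α 0 = a1) (h1 : α 1 = a2) [DecidablePred fun κ => alphaOf I a1 a2 κ = α] :
    Nat.card {c : (RG I α).ConnectedComponent // Good I α c} ≤
      ((Kset I a1 a2 N).filter (fun κ => alphaOf I a1 a2 κ = α)).card := by
  have hex := fun c : {c : (RG I α).ConnectedComponent // Good I α c} =>
    exists_kappa hI hN0 hN1 h0 h1 c.1 c.2
  choose f hfK hfα hfm hfc using hex
  have hinj : Function.Injective (fun c => (⟨f c, Finset.mem_filter.mpr ⟨hfK c, hfα c⟩⟩ :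
      ↥((Kset I a1 a2 N).filter (fun κ => alphaOf I a1 a2 κ = α)))) := by
    intro c c' e
    have e' : f c = f c' := congrArg Subtype.val e
    apply Subtype.ext
    rw [← hfc c, ← hfc c']
    congr 1
    apply Subtype.ext
    show pt (f c).1.1 (f c).1.2 ((f c).2 : ℤ) = pt (f c').1.1 (f c').1.2 ((f c').2 : ℤ)
    rw [e']
  have := Nat.card_le_card_of_injective _ hinj
  rwa [Nat.card_eq_fintype_card
    (α := ↥((Kset I a1 a2 N).filter (fun κ => alphaOf I a1 a2 κ = α))), Fintype.card_coe] at this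

theorem finrank_iSup_tPiece_le (a1 a2 : ℕ) :
    Module.finrank k ↥(⨆ α : {α : Fin 3 → ℤ // α 0 = (a1 : ℤ) ∧ α 1 = (a2 : ℤ) ∧ α 2 < 0},
        tPiece I α.1) ≤
      ∑ᶠ p : ℕ × ℕ, (if a1 ≤ p.1 ∧ a2 ≤ p.2
        then stairZ I p.1 p.2 - max (stairZ I (p.1 + 1) p.2) (stairZ I p.1 (p.2 + 1)) else 0) := by
  classical
  obtain ⟨N0, hN0⟩ := exists_single_mem hI (0 : Fin 3)
  obtain ⟨N1, hN1⟩ := exists_single_mem hI (1 : Fin 3)
  obtain ⟨N, hN0', hN1'⟩ : ∃ N, Finsupp.single (0 : Fin 3) N ∈ exps I ∧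
      Finsupp.single (1 : Fin 3) N ∈ exps I := by
    refine ⟨max N0 N1, ?_, ?_⟩
    · have : max N0 N1 = N0 + (max N0 N1 - N0) := by omega
      rw [this, Finsupp.single_add]
      exact exps_add hN0 _
    · have : max N0 N1 = N1 + (max N0 N1 - N1) := by omega
      rw [this, Finsupp.single_add]
      exact exps_add hN1 _
  have hA₀01 : ∀ α ∈ (Kset I a1 a2 N).image (alphaOf I a1 a2), α 0 = (a1:ℤ) ∧ α 1 = (a2:ℤ) := by
    intro α hα
    obtain ⟨κ, _, rfl⟩ := Finset.mem_image.mp hα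
    exact ⟨rfl, rfl⟩
  have hfinT : ∀ α : Fin 3 → ℤ, Module.Finite k (tPiece I α) := by
    intro α
    haveI := finite_good hI (α := α)
    exact Module.Finite.equiv (tPieceEquiv hI α)
  obtain ⟨hfinsup, hsup_le⟩ := finrank_finset_sup_le ((Kset I a1 a2 N).image (alphaOf I a1 a2))
    (fun α => tPiece I α) (fun α _ => hfinT α)
  have hle : (⨆ α : {α : Fin 3 → ℤ // α 0 = (a1 : ℤ) ∧ α 1 = (a2 : ℤ) ∧ α 2 < 0},
      tPiece I α.1) ≤ ((Kset I a1 a2 N).image (alphaOf I a1 a2)).sup (fun α => tPiece I α) := by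
    refine iSup_le fun α => ?_
    by_cases hα : α.1 ∈ (Kset I a1 a2 N).image (alphaOf I a1 a2)
    · exact Finset.le_sup (f := fun α => tPiece I α) hα
    · haveI : IsEmpty {c : (RG I α.1).ConnectedComponent // Good I α.1 c} := ⟨fun c => by
        obtain ⟨κ, hκ, hκα, _⟩ := exists_kappa hI hN0' hN1' α.2.1 α.2.2.1 c.1 c.2
        exact hα (Finset.mem_image.mpr ⟨κ, hκ, hκα⟩)⟩
      rw [tPiece_eq_bot_of_isEmpty hI]
      exact bot_le
  have h1 := Submodule.finrank_mono hle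
  have h2 : ∑ α ∈ (Kset I a1 a2 N).image (alphaOf I a1 a2), Module.finrank k (tPiece I α) ≤
      ∑ α ∈ (Kset I a1 a2 N).image (alphaOf I a1 a2),
        ((Kset I a1 a2 N).filter (fun κ => alphaOf I a1 a2 κ = α)).card := by
    refine Finset.sum_le_sum fun α hα => ?_
    rw [finrank_tPiece_eq_card_good hI α]
    exact card_good_le hI hN0' hN1' (hA₀01 α hα).1 (hA₀01 α hα).2
  have h3 : (Kset I a1 a2 N).card = ∑ α ∈ (Kset I a1 a2 N).image (alphaOf I a1 a2),
      ((Kset I a1 a2 N).filter (fun κ => alphaOf I a1 a2 κ = α)).card :=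
    Finset.card_eq_sum_card_fiberwise (fun κ hκ => Finset.mem_image_of_mem _ hκ)
  have h4 : (Kset I a1 a2 N).card =
      ∑ p ∈ (Finset.range N ×ˢ Finset.range N).filter (fun p => a1 ≤ p.1 ∧ a2 ≤ p.2),
        (stairZ I p.1 p.2 - max (stairZ I (p.1 + 1) p.2) (stairZ I p.1 (p.2 + 1))) := by
    rw [Kset, Finset.card_sigma]
    refine Finset.sum_congr rfl fun p _ => ?_
    rw [Nat.card_Ico]
  have h5 : (∑ᶠ p : ℕ × ℕ, (if a1 ≤ p.1 ∧ a2 ≤ p.2
        then stairZ I p.1 p.2 - max (stairZ I (p.1 + 1) p.2) (stairZ I p.1 (p.2 + 1)) else 0)) =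
      ∑ p ∈ Finset.range N ×ˢ Finset.range N, (if a1 ≤ p.1 ∧ a2 ≤ p.2
        then stairZ I p.1 p.2 - max (stairZ I (p.1 + 1) p.2) (stairZ I p.1 (p.2 + 1)) else 0) := by
    apply finsum_eq_sum_of_support_subset
    intro p hp
    rw [Function.mem_support] at hp
    rw [Finset.mem_coe, Finset.mem_product, Finset.mem_range, Finset.mem_range]
    by_contra hcon
    apply hp
    have hz : stairZ I p.1 p.2 = 0 := by
      by_cases h : p.1 < N
      · have h' : ¬ p.2 < N := fun h' => hcon ⟨h, h'⟩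
        exact stair_zero_of_ge1 hI hN1' p.1 (not_lt.mp h')
      · exact stair_zero_of_ge0 hI hN0' (not_lt.mp h) p.2
    rw [hz]
    split_ifs <;> simp
  rw [h5, ← Finset.sum_filter, ← h4, h3]
  exact h1.trans (hsup_le.trans h2)

end

end Groth.Agent.H43.HilbT
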