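import Groth.Agent.H43.SymmExist
import Mathlib.RingTheory.MvPolynomial.Ideal

/-!
# Elementary symmetric functions of several families of variables

Variables are indexed by `κ × ℕ`; the family `l : κ` consists of the variables `(l, a)` with
`a < ν l`.  `iotaF R ν` substitutes for the variable `(l, i)` the `(i+1)`-st elementary symmetric
function of the family `l`.  It is injective on polynomials that only involve variables `(l, i)` with
`i < ν l`, and carries weights (`(l, i)` of weight `i + 1`) to degrees.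
-/

set_option autoImplicit false

namespace Groth.Agent.H43

open Finset MvPolynomial

section IotaLR

variable (R : Type*) [CommRing R]

/-- `iotaL` over a general coefficient ring. -/
noncomputable def iotaLR (N : ℕ) (κ : Type*) :
    MvPolynomial (Fin N ⊕ κ) R →ₐ[R] MvPolynomial (Fin N ⊕ κ) R :=
  aeval (Sum.elim
    (fun k : Fin N => rename (Sum.inl : Fin N → Fin N ⊕ κ) (esymm (Fin N) R ((k : ℕ) + 1)))
    (fun b : κ => X (Sum.inr b)))

theorem sumAlgEquiv_iotaLR (N : ℕ) (κ : Type*) (p : MvPolynomial (Fin N ⊕ κ) R) :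
    sumAlgEquiv R (Fin N) κ (iotaLR R N κ p) =
      aeval (R := MvPolynomial κ R)
        (fun k : Fin N => esymm (Fin N) (MvPolynomial κ R) ((k : ℕ) + 1))
        (sumAlgEquiv R (Fin N) κ p) := by
  have key : ((RingHomClass.toRingHom (sumAlgEquiv R (Fin N) κ)).comp
        (RingHomClass.toRingHom (iotaLR R N κ))) =
      ((RingHomClass.toRingHom (aeval (R := MvPolynomial κ R)
        (fun k : Fin N => esymm (Fin N) (MvPolynomial κ R) ((k : ℕ) + 1)))).comp
      (RingHomClass.toRingHom (sumAlgEquiv R (Fin N) κ))) := by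
    apply MvPolynomial.ringHom_ext
    · intro r
      simp [iotaLR]
    · intro s
      cases s with
      | inl k => simp [iotaLR, rename_esymm_eq_sum, esymm_eq_sum, map_sum, map_prod]
      | inr b => simp [iotaLR]
  exact RingHom.congr_fun key p

theorem iotaLR_injective (N : ℕ) (κ : Type*) : Function.Injective (iotaLR R N κ) := by
  intro p q h
  have h2 := congrArg (sumAlgEquiv R (Fin N) κ) h
  rw [sumAlgEquiv_iotaLR, sumAlgEquiv_iotaLR] at h2
  exact (sumAlgEquiv R (Fin N) κ).injective
    (iota1_injective N N le_rfl (MvPolynomial κ R) h2)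

end IotaLR

section SymmAt

variable (R : Type*) [CommRing R] {σ : Type*}

/-- the equivalence `Fin n ⊕ (complement of the range) ≃ σ` attached to an injection. -/
noncomputable def embEquiv {n : ℕ} (emb : Fin n → σ) (hemb : Function.Injective emb) :
    Fin n ⊕ ↥(Set.range emb)ᶜ ≃ σ := by
  classical
  exact (Equiv.sumCongr (Equiv.ofInjective emb hemb) (Equiv.refl _)).trans
    (Equiv.Set.sumCompl (Set.range emb))

theorem embEquiv_inl {n : ℕ} (emb : Fin n → σ) (hemb : Function.Injective emb) (i : Fin n) :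
    embEquiv emb hemb (Sum.inl i) = emb i := by
  classical
  simp [embEquiv]

theorem embEquiv_inr {n : ℕ} (emb : Fin n → σ) (hemb : Function.Injective emb)
    (s : ↥(Set.range emb)ᶜ) : embEquiv emb hemb (Sum.inr s) = s.1 := by
  classical
  simp [embEquiv]

/-- replace the variables `emb i` by the elementary symmetric functions of the `emb i`. -/
noncomputable def symmAt {n : ℕ} (emb : Fin n → σ) (hemb : Function.Injective emb) :
    MvPolynomial σ R →ₐ[R] MvPolynomial σ R :=
  ((rename (embEquiv emb hemb)).comp (iotaLR R n _)).comp (rename (embEquiv emb hemb).symm)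

theorem symmAt_injective {n : ℕ} (emb : Fin n → σ) (hemb : Function.Injective emb) :
    Function.Injective (symmAt R emb hemb) := by
  unfold symmAt
  intro p q h
  simp only [AlgHom.comp_apply] at h
  have h1 := rename_injective _ (embEquiv emb hemb).injective h
  have h2 := iotaLR_injective R n _ h1
  exact rename_injective _ (embEquiv emb hemb).symm.injective h2

theorem symmAt_X_emb {n : ℕ} (emb : Fin n → σ) (hemb : Function.Injective emb) (i : Fin n) :
    symmAt R emb hemb (X (emb i)) = rename emb (esymm (Fin n) R ((i : ℕ) + 1)) := by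
  have e1 : (embEquiv emb hemb).symm (emb i) = Sum.inl i := by
    rw [Equiv.symm_apply_eq, embEquiv_inl]
  unfold symmAt
  simp only [AlgHom.comp_apply, rename_X, e1]
  unfold iotaLR
  rw [aeval_X, Sum.elim_inl, rename_rename]
  have e2 : (⇑(embEquiv emb hemb) ∘ Sum.inl) = emb := by
    funext a
    exact embEquiv_inl emb hemb a
  rw [e2]

theorem symmAt_X_of_notMem {n : ℕ} (emb : Fin n → σ) (hemb : Function.Injective emb) (s : σ)
    (hs : s ∉ Set.range emb) : symmAt R emb hemb (X s) = X s := by
  have e1 : (embEquiv emb hemb).symm s = Sum.inr ⟨s, hs⟩ := by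
    rw [Equiv.symm_apply_eq, embEquiv_inr]
  unfold symmAt
  simp only [AlgHom.comp_apply, rename_X, e1]
  unfold iotaLR
  rw [aeval_X, Sum.elim_inr, rename_X, embEquiv_inr]

end SymmAt

section Families

variable (R : Type*) [CommRing R] {κ : Type*} (ν : κ → ℕ)

/-- the variables of the family `l`. -/
def embF (l : κ) : Fin (ν l) → κ × ℕ := fun a => (l, (a : ℕ))

theorem embF_injective (l : κ) : Function.Injective (embF ν l) := by
  intro a b h
  have := congrArg Prod.snd h
  exact Fin.ext this

/-- the `k`-th elementary symmetric function of the family `l`. -/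
noncomputable def esF (l : κ) (k : ℕ) : MvPolynomial (κ × ℕ) R :=
  rename (embF ν l) (esymm (Fin (ν l)) R k)

/-- substitution of the elementary symmetric functions of all families. -/
noncomputable def iotaF : MvPolynomial (κ × ℕ) R →ₐ[R] MvPolynomial (κ × ℕ) R :=
  aeval (fun p : κ × ℕ => esF R ν p.1 (p.2 + 1))

open Classical in
/-- substitution of the elementary symmetric functions of the families in `S` only. -/
noncomputable def phiF (S : Finset κ) : MvPolynomial (κ × ℕ) R →ₐ[R] MvPolynomial (κ × ℕ) R :=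
  aeval (fun p : κ × ℕ => if p.1 ∈ S ∧ p.2 < ν p.1 then esF R ν p.1 (p.2 + 1) else X p)

theorem phiF_empty : phiF R ν (∅ : Finset κ) = AlgHom.id R _ := by
  apply MvPolynomial.algHom_ext
  intro p
  simp [phiF]

theorem symmAt_esF_of_ne (l l₀ : κ) (h : l ≠ l₀) (k : ℕ) :
    symmAt R (embF ν l₀) (embF_injective ν l₀) (esF R ν l k) = esF R ν l k := by
  unfold esF
  have key : ((symmAt R (embF ν l₀) (embF_injective ν l₀)).comp (rename (embF ν l))) =
      rename (embF ν l) := by
    apply MvPolynomial.algHom_ext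
    intro a
    rw [AlgHom.comp_apply, rename_X]
    apply symmAt_X_of_notMem
    rintro ⟨b, hb⟩
    exact h (congrArg Prod.fst hb).symm
  exact AlgHom.congr_fun key _

open Classical in
theorem phiF_insert (S : Finset κ) (l₀ : κ) (hl : l₀ ∉ S) :
    phiF R ν (insert l₀ S) =
      (symmAt R (embF ν l₀) (embF_injective ν l₀)).comp (phiF R ν S) := by
  classical
  apply MvPolynomial.algHom_ext
  rintro ⟨l, i⟩
  rw [AlgHom.comp_apply]
  unfold phiF
  rw [aeval_X, aeval_X]
  by_cases hA : l ∈ S ∧ i < ν l
  · have hne : l ≠ l₀ := fun h => hl (h ▸ hA.1)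
    rw [if_pos (show (l, i).1 ∈ insert l₀ S ∧ (l, i).2 < ν (l, i).1 from
      ⟨Finset.mem_insert_of_mem hA.1, hA.2⟩), if_pos (show (l, i).1 ∈ S ∧ (l, i).2 < ν (l, i).1 from hA)]
    exact (symmAt_esF_of_ne R ν l l₀ hne (i + 1)).symm
  · rw [if_neg (show ¬ ((l, i).1 ∈ S ∧ (l, i).2 < ν (l, i).1) from hA)]
    by_cases hB : l = l₀ ∧ i < ν l
    · obtain ⟨rfl, hi⟩ := hB
      rw [if_pos (show (l, i).1 ∈ insert l S ∧ (l, i).2 < ν (l, i).1 from
        ⟨Finset.mem_insert_self _ _, hi⟩)]
      have e : ((l, i) : κ × ℕ) = embF ν l ⟨i, hi⟩ := rfl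
      rw [e, symmAt_X_emb]
      rfl
    · have hC : ¬ ((l, i).1 ∈ insert l₀ S ∧ (l, i).2 < ν (l, i).1) := by
        rintro ⟨h1, h2⟩
        rcases Finset.mem_insert.mp h1 with h1 | h1
        · exact hB ⟨h1, h2⟩
        · exact hA ⟨h1, h2⟩
      rw [if_neg hC]
      symm
      apply symmAt_X_of_notMem
      rintro ⟨b, hb⟩
      apply hB
      have h1 : l₀ = l := congrArg Prod.fst hb
      have h2 : (b : ℕ) = i := congrArg Prod.snd hb
      refine ⟨h1.symm, ?_⟩
      rw [← h2, ← h1]
      exact b.2

theorem phiF_injective (S : Finset κ) : Function.Injective (phiF R ν S) := by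
  classical
  induction S using Finset.induction_on with
  | empty =>
    rw [phiF_empty]
    exact fun _ _ h => h
  | insert l₀ S hl ih =>
    rw [phiF_insert R ν S l₀ hl]
    intro p q h
    rw [AlgHom.comp_apply, AlgHom.comp_apply] at h
    exact ih (symmAt_injective R _ _ h)

theorem iotaF_eq_phiF (q : MvPolynomial (κ × ℕ) R) (hq : ∀ p ∈ q.vars, p.2 < ν p.1) :
    iotaF R ν q = phiF R ν (by classical exact q.vars.image Prod.fst) q := by
  classical
  unfold iotaF phiF
  rw [aeval_eq_eval₂Hom, aeval_eq_eval₂Hom]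
  apply eval₂Hom_congr' rfl _ rfl
  intro p hp _
  rw [if_pos ⟨Finset.mem_image_of_mem _ hp, hq p hp⟩]

/-- `iotaF` is injective on polynomials in the variables `(l, i)`, `i < ν l`. -/
theorem iotaF_eq_zero (q : MvPolynomial (κ × ℕ) R) (hq : ∀ p ∈ q.vars, p.2 < ν p.1)
    (h : iotaF R ν q = 0) : q = 0 := by
  rw [iotaF_eq_phiF R ν q hq] at h
  apply phiF_injective R ν _
  rw [h, map_zero]

/-- the weight of the variable `(l, i)` is `i + 1`. -/
def wtF : κ × ℕ → ℕ := fun p => p.2 + 1

theorem esF_isWH (l : κ) (k : ℕ) :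
    IsWeightedHomogeneous (fun _ : κ × ℕ => (1 : ℕ)) (esF R ν l k) k := by
  have h := rename_esymm_isWH (R := R) (embF ν l) (fun _ : κ × ℕ => (1 : ℕ)) 1 (fun _ => rfl) k
  unfold esF
  simpa using h

theorem iotaF_isWH {q : MvPolynomial (κ × ℕ) R} {d : ℕ}
    (hq : IsWeightedHomogeneous (wtF (κ := κ)) q d) :
    IsWeightedHomogeneous (fun _ : κ × ℕ => (1 : ℕ)) (iotaF R ν q) d :=
  isWH_aeval (wtF (κ := κ)) (fun _ : κ × ℕ => (1 : ℕ)) _ (fun s => esF_isWH R ν s.1 (s.2 + 1)) hq

theorem isWH_one_mem_pow {q : MvPolynomial (κ × ℕ) R} {d : ℕ}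
    (hq : IsWeightedHomogeneous (fun _ : κ × ℕ => (1 : ℕ)) q d) :
    q ∈ idealOfVars (κ × ℕ) R ^ d := by
  rw [mem_pow_idealOfVars_iff]
  intro x hx
  have := hq (mem_support_iff.mp hx)
  rw [Finsupp.degree_eq_weight_one]
  exact le_of_eq this.symm

/-- polynomials all of whose monomials have weight at least `s` go to the `s`-th power of the
ideal of the variables. -/
theorem iotaF_mem_pow (q : MvPolynomial (κ × ℕ) R) (s : ℕ)
    (hq : ∀ m ∈ q.support, s ≤ Finsupp.weight (wtF (κ := κ)) m) :
    iotaF R ν q ∈ idealOfVars (κ × ℕ) R ^ s := by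
  rw [q.as_sum, map_sum]
  apply Ideal.sum_mem
  intro m hm
  have h1 : IsWeightedHomogeneous (wtF (κ := κ)) (monomial m (coeff m q))
      (Finsupp.weight (wtF (κ := κ)) m) := isWeightedHomogeneous_monomial _ m _ rfl
  exact Ideal.pow_le_pow_right (hq m hm) (isWH_one_mem_pow R (iotaF_isWH R ν h1))

/-- graded injectivity of `iotaF`. -/
theorem wtGe_of_iotaF_mem (q : MvPolynomial (κ × ℕ) R) (hq : ∀ p ∈ q.vars, p.2 < ν p.1) (d : ℕ)
    (h : iotaF R ν q ∈ idealOfVars (κ × ℕ) R ^ d) :
    ∀ m ∈ q.support, d ≤ Finsupp.weight (wtF (κ := κ)) m := by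
  classical
  intro m hm
  by_contra hlt
  rw [not_le] at hlt
  set s := Finsupp.weight (wtF (κ := κ)) m with hs
  set qs := weightedHomogeneousComponent (wtF (κ := κ)) s q with hqs
  have hne : qs ≠ 0 := by
    intro h0
    have := congrArg (coeff m) h0
    rw [hqs, coeff_weightedHomogeneousComponent, if_pos hs.symm, coeff_zero] at this
    exact (mem_support_iff.mp hm) this
  have hvars : ∀ p ∈ qs.vars, p.2 < ν p.1 := by
    intro p hp
    apply hq
    rw [mem_vars_iff_mem_support] at hp ⊢
    obtain ⟨d', hd', hpd⟩ := hp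
    refine ⟨d', ?_, hpd⟩
    rw [mem_support_iff] at hd' ⊢
    intro h0
    apply hd'
    rw [hqs, coeff_weightedHomogeneousComponent, h0]
    simp
  apply hne
  apply iotaF_eq_zero R ν qs hvars
  have hcomp : iotaF R ν qs =
      weightedHomogeneousComponent (fun _ : κ × ℕ => (1 : ℕ)) s (iotaF R ν q) :=
    (whComponent_aeval (wtF (κ := κ)) (fun _ : κ × ℕ => (1 : ℕ)) _
      (fun p => esF_isWH R ν p.1 (p.2 + 1)) s q).symm
  rw [hcomp]
  ext x
  rw [coeff_weightedHomogeneousComponent, coeff_zero]
  split_ifs with hx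
  · rw [mem_pow_idealOfVars_iff'] at h
    apply h
    rw [Finsupp.degree_eq_weight_one, hx]
    exact hlt
  · rfl

theorem map_esF {R' : Type*} [CommRing R'] (φ : R →+* R') (l : κ) (k : ℕ) :
    MvPolynomial.map φ (esF R ν l k) = esF R' ν l k := by
  unfold esF
  rw [map_rename, map_esymm]

theorem map_iotaF {R' : Type*} [CommRing R'] (φ : R →+* R') (q : MvPolynomial (κ × ℕ) R) :
    MvPolynomial.map φ (iotaF R ν q) = iotaF R' ν (MvPolynomial.map φ q) := by
  unfold iotaF
  induction q using MvPolynomial.induction_on with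
  | C a => simp
  | add p q hp hq => simp only [map_add, hp, hq]
  | mul_X p i hp => simp only [map_mul, hp, aeval_X, map_X, map_esF]

end Families

end Groth.Agent.H43
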