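import Groth.Agent.H43.KGRees
import Groth.Agent.H43.SeriesAdams
import Groth.Agent.H19.Adams
import Groth.Agent.H19.Det
import Groth.Agent.S3289
import Groth.Agent.S3292

/-!
# Newton classes and the Chern character with values in `KGr.Gr P` (helper library, seat helper43)

* `psiS_rec`: Newton's recursion for the power sums `psiS F k` of a series `F`.
* `nu k y = psiS (gamSeries y) k`: the `(k+1)`-st Newton polynomial in the γ-operations of `y`,
  additive in `y`, equal (under the splitting property) to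
  `Σ_i (-1)^(k-i) C(k+1,i+1) ψ^(i+1)(y)` (`nu_eq_nuRhs`).
* `psiS_gr`: power sums commute with passing to classes in the graded ring.
* `chPoly_eq`: the polynomial `KGr.chPoly d` in terms of power sums.
* `chK_formula`, `chK_add`, `chK_tri`: the Chern character is additive and unitriangular with
  respect to the γ-filtration.
-/

set_option autoImplicit false
universe v

namespace Groth.Agent.H43.KG

open LambdaRing KGr PowerSeries Finset
open scoped TensorProduct

section Newton

theorem psiS_rec {R : Type*} [CommRing R] {F : PowerSeries R} (hF : constantCoeff F = 1) (k : ℕ) :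
    psiS F k = (-1) ^ k * (((k : R) + 1) * coeff (k + 1) F -
      ∑ i ∈ range k, (-1) ^ i * psiS F i * coeff (k - i) F) := by
  have h := congrArg (coeff k) (ld_mul_self hF)
  rw [coeff_derivative, coeff_mul, Finset.Nat.sum_antidiagonal_eq_sum_range_succ_mk,
    Finset.sum_range_succ, Nat.sub_self, coeff_zero_eq_constantCoeff_apply, hF, mul_one] at h
  simp_rw [coeff_ld] at h
  linear_combination ((-1 : R) ^ k) * h - (psiS F k) * (neg_one_pow_mul_self (R := R) k)

theorem psiS_line {R : Type*} [CommRing R] (w : R) (k : ℕ) :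
    psiS (1 + C w * X : PowerSeries R) k = w ^ (k + 1) :=
  psiS_of_ld (g := fun k => w ^ (k + 1)) (ld_line w) k

end Newton

variable {K : Type v} [CommRing K] [LambdaOps K]

/-! ### the γ-series and its Newton classes -/

/-- `γ_t(y) = Σ γ^i(y) t^i`. -/
noncomputable def gamSeries (y : K) : PowerSeries K := PowerSeries.mk fun i => gamma i y

theorem coeff_gamSeries (i : ℕ) (y : K) : coeff i (gamSeries y) = gamma i y := by
  simp [gamSeries]

theorem constantCoeff_gamSeries (y : K) : constantCoeff (gamSeries y) = 1 := by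
  rw [← coeff_zero_eq_constantCoeff_apply, coeff_gamSeries]
  exact Groth.Agent.H19.AdamsGamma.gamma_zero' y

theorem gamSeries_add (x y : K) : gamSeries (x + y) = gamSeries x * gamSeries y := by
  ext k
  simp only [gamSeries, coeff_mk, coeff_mul, Groth.Agent.S3289.result]
  rw [Finset.Nat.sum_antidiagonal_eq_sum_range_succ_mk]

theorem map_gamSeries {K' : Type v} [CommRing K'] [LambdaOps K'] (f : K →+* K')
    (hf : IsLambdaHom f) (y : K) : PowerSeries.map f (gamSeries y) = gamSeries (f y) := by
  ext i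
  rw [coeff_map, coeff_gamSeries, coeff_gamSeries, Groth.Agent.H19.AdamsGamma.map_gamma f hf]

/-- the `(k+1)`-st Newton polynomial in the γ-operations. -/
noncomputable def nu (k : ℕ) (y : K) : K := psiS (gamSeries y) k

theorem nu_add (k : ℕ) (x y : K) : nu k (x + y) = nu k x + nu k y := by
  unfold nu
  rw [gamSeries_add, psiS_mul (constantCoeff_gamSeries x) (constantCoeff_gamSeries y)]

theorem nu_zero (k : ℕ) : nu k (0 : K) = 0 := by
  have h := nu_add k (0 : K) 0
  rw [add_zero] at h
  linear_combination -h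

theorem nu_neg (k : ℕ) (x : K) : nu k (-x) = -nu k x := by
  have h := nu_add k x (-x)
  rw [add_neg_cancel, nu_zero] at h
  linear_combination -h

theorem nu_sub (k : ℕ) (x y : K) : nu k (x - y) = nu k x - nu k y := by
  rw [sub_eq_add_neg, nu_add, nu_neg, ← sub_eq_add_neg]

theorem nu_sum (k : ℕ) {ι : Type*} (s : Finset ι) (a : ι → K) :
    nu k (∑ i ∈ s, a i) = ∑ i ∈ s, nu k (a i) := by
  classical
  induction s using Finset.induction_on with
  | empty => simp [nu_zero]
  | insert b s hb ih => rw [Finset.sum_insert hb, Finset.sum_insert hb, nu_add, ih]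

theorem nu_map {K' : Type v} [CommRing K'] [LambdaOps K'] (f : K →+* K')
    (hf : IsLambdaHom f) (k : ℕ) (y : K) : f (nu k y) = nu k (f y) := by
  unfold nu
  rw [← map_gamSeries f hf, psiS_map f (constantCoeff_gamSeries y)]

theorem gamma_line (P : PosStructure K) {u : K} (hu : P.IsLine u) {k : ℕ} (hk : 1 ≤ k) :
    gamma k u = u := by
  unfold gamma
  rw [if_neg (by omega), Finset.sum_eq_single 1]
  · simp [LambdaOps.lam_one]
  · intro j _ hj1
    by_cases hj0 : j = 0
    · rw [if_pos hj0, mul_zero]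
    · rw [if_neg hj0, P.lam_eq_zero u hu.1 j (by rw [hu.2]; exact_mod_cast (by omega : 1 < j)),
        mul_zero]
  · intro h
    exact absurd (Finset.mem_range.2 (by omega)) h

theorem gamSeries_line (P : PosStructure K) {u : K} (hu : P.IsLine u) :
    gamSeries u * (1 + C (-1 : K) * X) = 1 + C (u - 1) * X := by
  ext n
  rw [mul_add, mul_one, ← mul_assoc, map_add, map_add]
  cases n with
  | zero =>
    rw [coeff_zero_mul_X, coeff_zero_mul_X, coeff_gamSeries,
      Groth.Agent.H19.AdamsGamma.gamma_zero', coeff_one, if_pos rfl]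
  | succ n =>
    rw [coeff_succ_mul_X, coeff_succ_mul_X, coeff_mul_C, coeff_gamSeries, coeff_gamSeries,
      coeff_one, if_neg (Nat.succ_ne_zero n), coeff_C, gamma_line P hu (Nat.succ_pos n)]
    cases n with
    | zero => rw [Groth.Agent.H19.AdamsGamma.gamma_zero', if_pos rfl]; ring
    | succ n => rw [gamma_line P hu (Nat.succ_pos n), if_neg (Nat.succ_ne_zero n)]; ring

theorem nu_line (P : PosStructure K) {u : K} (hu : P.IsLine u) (k : ℕ) :
    nu k u = (u - 1) ^ (k + 1) - (-1) ^ (k + 1) := by
  have h := psiS_mul (constantCoeff_gamSeries u) (constantCoeff_line (-1 : K)) k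
  rw [gamSeries_line P hu, psiS_line, psiS_line] at h
  unfold nu
  linear_combination -h

/-- the expression of `nu` through Adams operations. -/
noncomputable def nuRhs (P : PosStructure K) (k : ℕ) (y : K) : K :=
  ∑ i ∈ range (k + 1), ((-1 : K) ^ (k - i) * ((k + 1).choose (i + 1) : K)) * adams P (i + 1) y

theorem nuRhs_add (P : PosStructure K) (k : ℕ) (x y : K) :
    nuRhs P k (x + y) = nuRhs P k x + nuRhs P k y := by
  unfold nuRhs
  rw [← Finset.sum_add_distrib]
  apply Finset.sum_congr rfl
  intro i _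
  rw [Groth.Agent.H19.Adams.adams_add, mul_add]

theorem nuRhs_sub (P : PosStructure K) (k : ℕ) (x y : K) :
    nuRhs P k (x - y) = nuRhs P k x - nuRhs P k y := by
  unfold nuRhs
  rw [← Finset.sum_sub_distrib]
  apply Finset.sum_congr rfl
  intro i _
  rw [Groth.Agent.H19.Adams.adams_sub, mul_sub]

theorem nuRhs_sum (P : PosStructure K) (k : ℕ) {ι : Type*} (s : Finset ι) (a : ι → K) :
    nuRhs P k (∑ i ∈ s, a i) = ∑ i ∈ s, nuRhs P k (a i) := by
  unfold nuRhs
  rw [Finset.sum_comm]
  apply Finset.sum_congr rfl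
  intro i _
  rw [Groth.Agent.H19.Adams.adams_sum, Finset.mul_sum]

theorem nuRhs_map {K' : Type v} [CommRing K'] [LambdaOps K'] (P : PosStructure K)
    (P' : PosStructure K') (f : K →+* K') (hf : IsExtension P P' f) (k : ℕ) (y : K) :
    f (nuRhs P k y) = nuRhs P' k (f y) := by
  unfold nuRhs
  rw [map_sum]
  apply Finset.sum_congr rfl
  intro i _
  rw [map_mul, map_mul, map_pow, map_neg, map_one, map_natCast,
    Groth.Agent.H19.Adams.adams_map P P' f hf]

theorem nuRhs_line (P : PosStructure K) {u : K} (hu : P.IsLine u) (k : ℕ) :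
    nuRhs P k u = (u - 1) ^ (k + 1) - (-1) ^ (k + 1) := by
  unfold nuRhs
  have hb : (u - 1) ^ (k + 1) =
      ∑ m ∈ range (k + 1 + 1), u ^ m * (-1 : K) ^ (k + 1 - m) * ((k + 1).choose m : K) := by
    rw [sub_eq_add_neg, add_pow]
  rw [Finset.sum_range_succ'] at hb
  simp only [pow_zero, Nat.sub_zero, Nat.choose_zero_right, Nat.cast_one, mul_one, one_mul,
    Nat.add_sub_add_right] at hb
  rw [hb, add_sub_cancel_right]
  apply Finset.sum_congr rfl
  intro i _
  rw [Groth.Agent.H19.Adams.adams_line P hu]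
  ring

theorem nu_eq_nuRhs_pos (P : PosStructure K) (hK : HasSplitting K P) (k : ℕ) (e : K)
    (he : e ∈ P.pos) : nu k e = nuRhs P k e := by
  obtain ⟨L, _, f, hf, n, y, hy, hsum⟩ := Groth.Agent.H19.Adams.exists_split P hK e he
  apply hf.injective
  rw [nu_map f hf.isLambdaHom, nuRhs_map P L.posStr f hf, ← hsum, nu_sum, nuRhs_sum]
  exact Finset.sum_congr rfl fun i _ => by
    rw [nu_line L.posStr (hy i), nuRhs_line L.posStr (hy i)]

theorem nu_eq_nuRhs (P : PosStructure K) (hK : HasSplitting K P) (k : ℕ) (y : K) :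
    nu k y = nuRhs P k y := by
  obtain ⟨e, f, he, hf, rfl⟩ := P.exists_sub y
  rw [nu_sub, nuRhs_sub, nu_eq_nuRhs_pos P hK k e he, nu_eq_nuRhs_pos P hK k f hf]

/-! ### finite difference identities -/

theorem stirling_top (m : ℕ) :
    ∑ i ∈ range (m + 1), ((-1 : ℤ) ^ (m - i) * ((m + 1).choose (i + 1) : ℤ)) *
      ((i : ℤ) + 1) ^ (m + 1) = ((m + 1).factorial : ℤ) := by
  have h := fwdDiff_iter_eq_sum_shift (1 : ℤ) (fun r : ℤ => r ^ (m + 1)) (m + 1) 0
  rw [fwdDiff_iter_eq_factorial, Finset.sum_range_succ'] at h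
  simp only [Pi.natCast_apply, zero_add, nsmul_eq_mul, mul_one, smul_eq_mul,
    Nat.add_sub_add_right, Nat.cast_zero, ne_eq, Nat.succ_ne_zero, not_false_eq_true, zero_pow,
    mul_zero, add_zero, Nat.cast_add, Nat.cast_one] at h
  rw [h]

theorem stirling_low (m n : ℕ) (hn : 1 ≤ n) (hnm : n ≤ m) :
    ∑ i ∈ range (m + 1), ((-1 : ℤ) ^ (m - i) * ((m + 1).choose (i + 1) : ℤ)) *
      ((i : ℤ) + 1) ^ n = 0 := by
  have h := fwdDiff_iter_eq_sum_shift (1 : ℤ) (fun r : ℤ => r ^ n) (m + 1) 0
  rw [fwdDiff_iter_pow_eq_zero_of_lt (by omega : n < m + 1), Finset.sum_range_succ'] at h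
  have hn0 : n ≠ 0 := by omega
  simp only [Pi.zero_apply, zero_add, nsmul_eq_mul, mul_one, smul_eq_mul,
    Nat.add_sub_add_right, Nat.cast_zero, ne_eq, hn0, not_false_eq_true, zero_pow,
    mul_zero, add_zero, Nat.cast_add, Nat.cast_one] at h
  rw [← h]

/-! ### Newton classes and the γ-filtration -/

theorem adams_mem (P : PosStructure K) (hK : HasSplitting K P) {n : ℕ} {y : K}
    (hy : y ∈ gammaFiltration P n) (j : ℕ) (hj : 1 ≤ j) : adams P j y ∈ gammaFiltration P n := by
  have h := Groth.Agent.S3292.result K P hK j hj n y hy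
  have h2 : adams P j y = (adams P j y - (j : K) ^ n * y) + (j : K) ^ n * y := by ring
  rw [h2]
  exact add_mem (fil_anti P (Nat.le_succ n) h) (fil_smul P n _ _ hy)

theorem nu_mem (P : PosStructure K) (hK : HasSplitting K P) {n : ℕ} {y : K}
    (hy : y ∈ gammaFiltration P n) (k : ℕ) : nu k y ∈ gammaFiltration P n := by
  rw [nu_eq_nuRhs P hK]
  unfold nuRhs
  apply sum_mem
  intro i _
  exact fil_smul P n _ _ (adams_mem P hK hy (i + 1) (by omega))

theorem nu_top (P : PosStructure K) (hK : HasSplitting K P) {m : ℕ} {y : K}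
    (hy : y ∈ gammaFiltration P (m + 1)) :
    nu m y - ((m + 1).factorial : K) * y ∈ gammaFiltration P (m + 2) := by
  rw [nu_eq_nuRhs P hK]
  unfold nuRhs
  have hst : ((m + 1).factorial : K) =
      ∑ i ∈ range (m + 1), ((-1 : K) ^ (m - i) * ((m + 1).choose (i + 1) : K)) *
        ((i : K) + 1) ^ (m + 1) := by
    have := congrArg (Int.cast : ℤ → K) (stirling_top m)
    push_cast at this
    exact this.symm
  rw [hst, Finset.sum_mul, ← Finset.sum_sub_distrib]
  apply sum_mem
  intro i _
  have h := Groth.Agent.S3292.result K P hK (i + 1) (by omega) (m + 1) y hy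
  have e : ((-1 : K) ^ (m - i) * ((m + 1).choose (i + 1) : K)) * adams P (i + 1) y -
      ((-1 : K) ^ (m - i) * ((m + 1).choose (i + 1) : K)) * ((i : K) + 1) ^ (m + 1) * y =
      ((-1 : K) ^ (m - i) * ((m + 1).choose (i + 1) : K)) *
        (adams P (i + 1) y - ((i + 1 : ℕ) : K) ^ (m + 1) * y) := by
    push_cast; ring
  rw [e]
  exact fil_smul P _ _ _ h

/-- power sums commute with passing to classes (abstract form). -/
theorem psiS_gr_abs {B : Type*} [CommRing B] (P : PosStructure K) (g0 : K →+* B)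
    (g : ℕ → K → B)
    (hsmul : ∀ (n : ℕ) (a x : K), x ∈ gammaFiltration P n → g n (a * x) = g0 a * g n x)
    (hmul : ∀ (a b n : ℕ), a + b = n → ∀ x y : K, x ∈ gammaFiltration P a →
      y ∈ gammaFiltration P b → g n (x * y) = g a x * g b y)
    (hsub : ∀ (n : ℕ) (x y : K), x ∈ gammaFiltration P n → y ∈ gammaFiltration P n →
      g n (x - y) = g n x - g n y)
    (hsum : ∀ (n : ℕ) (s : Finset ℕ) (a : ℕ → K), (∀ i ∈ s, a i ∈ gammaFiltration P n) →
      g n (∑ i ∈ s, a i) = ∑ i ∈ s, g n (a i))
    (h00 : ∀ x : K, g 0 x = g0 x)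
    (F : PowerSeries K) (h0 : constantCoeff F = 1)
    (hF : ∀ i, coeff i F ∈ gammaFiltration P i) (k : ℕ) :
    psiS F k ∈ gammaFiltration P (k + 1) ∧
      g (k + 1) (psiS F k) = psiS (PowerSeries.mk fun i => g i (coeff i F)) k := by
  induction k using Nat.strong_induction_on with
  | _ k ih =>
    obtain ⟨G, hG⟩ : ∃ G : PowerSeries B, G = PowerSeries.mk fun i => g i (coeff i F) :=
      ⟨_, rfl⟩
    rw [← hG]
    have hGc : ∀ i, coeff i G = g i (coeff i F) := by
      intro i; rw [hG, coeff_mk]
    have hG0 : constantCoeff G = 1 := by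
      rw [← coeff_zero_eq_constantCoeff_apply, hGc, coeff_zero_eq_constantCoeff_apply, h0,
        h00, map_one]
    have ih1 : ∀ i, i < k → psiS F i ∈ gammaFiltration P (i + 1) := fun i hi => (ih i hi).1
    have ih2 : ∀ i, i < k → g (i + 1) (psiS F i) = psiS G i := by
      intro i hi
      rw [hG]; exact (ih i hi).2
    have hprod : ∀ i ∈ range k, psiS F i * coeff (k - i) F ∈ gammaFiltration P (k + 1) := by
      intro i hi
      have hi' := Finset.mem_range.mp hi
      exact fil_mul P (by omega) (ih1 i hi') (hF (k - i))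
    have hterm : ∀ i ∈ range k,
        (-1 : K) ^ i * psiS F i * coeff (k - i) F ∈ gammaFiltration P (k + 1) := by
      intro i hi
      rw [mul_assoc]
      exact fil_smul P _ _ _ (hprod i hi)
    have hA : ((k : K) + 1) * coeff (k + 1) F ∈ gammaFiltration P (k + 1) :=
      fil_smul P _ _ _ (hF (k + 1))
    have hS : ∑ i ∈ range k, (-1 : K) ^ i * psiS F i * coeff (k - i) F ∈
        gammaFiltration P (k + 1) := sum_mem hterm
    rw [psiS_rec h0 k]
    refine ⟨fil_smul P _ _ _ (sub_mem hA hS), ?_⟩
    have e2 : ∑ i ∈ range k, g (k + 1) ((-1 : K) ^ i * psiS F i * coeff (k - i) F) =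
        ∑ i ∈ range k, (-1 : B) ^ i * psiS G i * coeff (k - i) G := by
      apply Finset.sum_congr rfl
      intro i hi
      have hi' := Finset.mem_range.mp hi
      rw [mul_assoc, hsmul _ _ _ (hprod i hi),
        hmul (i + 1) (k - i) (k + 1) (by omega) _ _ (ih1 i hi') (hF (k - i)), ih2 i hi',
        map_pow, map_neg, map_one, hGc, mul_assoc]
    rw [psiS_rec hG0 k, hsmul _ _ _ (sub_mem hA hS), hsub _ _ _ hA hS, hsmul _ _ _ (hF (k + 1)),
      hsum _ _ _ hterm, e2, hGc, map_pow, map_neg, map_one, map_add, map_natCast, map_one]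

/-- power sums commute with passing to classes. -/
theorem psiS_gr (P : PosStructure K) (F : PowerSeries K) (h0 : constantCoeff F = 1)
    (hF : ∀ i, coeff i F ∈ gammaFiltration P i) (k : ℕ) :
    psiS F k ∈ gammaFiltration P (k + 1) ∧
      gr P (k + 1) (psiS F k) = psiS (PowerSeries.mk fun i => gr P i (coeff i F)) k :=
  psiS_gr_abs (B := Gr P) P (gr0Hom P) (gr P)
    (fun _ a _ hx => gr_smul P a hx)
    (fun _ _ _ h _ _ hx hy => gr_mul P h hx hy)
    (fun _ _ _ hx hy => gr_sub P hx hy)
    (fun n s a h => gr_sum P s a n h)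
    (fun x => gr_zero_eq P x) F h0 hF k

/-! ### Chern classes -/

/-- `x - ε(x)`. -/
def yy (P : PosStructure K) (x : K) : K := x - ((P.aug x : ℤ) : K)

theorem aug_yy (P : PosStructure K) (x : K) : P.aug (yy P x) = 0 := by
  unfold yy
  rw [map_sub, map_intCast, Int.cast_id, sub_self]

theorem yy_add (P : PosStructure K) (x y : K) : yy P (x + y) = yy P x + yy P y := by
  unfold yy
  rw [map_add, Int.cast_add]; ring

theorem gamma_yy_mem (P : PosStructure K) (x : K) (i : ℕ) :
    gamma i (yy P x) ∈ gammaFiltration P i :=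
  Groth.Agent.H19.AdamsGamma.gamma_mem P (aug_yy P x) (le_refl i)

theorem yy_mem (P : PosStructure K) (x : K) : yy P x ∈ gammaFiltration P 1 := by
  have h := gamma_yy_mem P x 1
  rwa [Groth.Agent.H19.AdamsGamma.gamma_one'] at h

theorem chern_eq (P : PosStructure K) (i : ℕ) (x : K) :
    chern P i x = gr P i (gamma i (yy P x)) := by
  unfold chern
  exact grK_eq P (gamma_yy_mem P x i)

/-- the Newton class `s_k` (the `(k+1)`-st power sum of the Chern roots). -/
noncomputable def sK (P : PosStructure K) (k : ℕ) (x : K) : Gr P := gr P (k + 1) (nu k (yy P x))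

theorem nu_yy_mem (P : PosStructure K) (k : ℕ) (x : K) :
    nu k (yy P x) ∈ gammaFiltration P (k + 1) :=
  (psiS_gr P (gamSeries (yy P x)) (constantCoeff_gamSeries _)
    (fun i => by rw [coeff_gamSeries]; exact gamma_yy_mem P x i) k).1

theorem psiS_chernSeries (P : PosStructure K) (k : ℕ) (x : K) :
    psiS (PowerSeries.mk fun i => chern P i x) k = sK P k x := by
  have h := (psiS_gr P (gamSeries (yy P x)) (constantCoeff_gamSeries _)
    (fun i => by rw [coeff_gamSeries]; exact gamma_yy_mem P x i) k).2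
  unfold sK nu
  rw [h]
  congr 2
  funext i
  rw [chern_eq, coeff_gamSeries]

theorem sK_add (P : PosStructure K) (k : ℕ) (x y : K) : sK P k (x + y) = sK P k x + sK P k y := by
  unfold sK
  rw [yy_add, nu_add, gr_add P (nu_yy_mem P k x) (nu_yy_mem P k y)]

theorem sK_mem_Hi (P : PosStructure K) {n k : ℕ} (h : n ≤ k + 1) (x : K) : sK P k x ∈ Hi P n :=
  gr_mem_Hi P h (nu_yy_mem P k x)

/-! ### the polynomial `chPoly` -/

section ChPoly

open MvPolynomial in
/-- the generic series `1 + X_0 t + ⋯ + X_{d-1} t^d`. -/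
noncomputable def Ed (d : ℕ) : PowerSeries (MvPolynomial (Fin d) ℚ) :=
  PowerSeries.mk fun i => if h0 : i = 0 then 1 else
    if h : i ≤ d then MvPolynomial.X (⟨i - 1, by omega⟩ : Fin d) else 0

theorem constantCoeff_Ed (d : ℕ) : constantCoeff (Ed d) = 1 := by
  rw [← coeff_zero_eq_constantCoeff_apply, Ed, coeff_mk, dif_pos rfl]

/-- the Chern character polynomial in terms of power sums. -/
noncomputable def Qd (d : ℕ) : MvPolynomial (Fin d) ℚ :=
  MvPolynomial.C (d : ℚ) +
    ∑ k ∈ range d, MvPolynomial.C (1 / ((k + 1).factorial : ℚ)) * psiS (Ed d) k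

theorem map_Ed {B : Type*} [CommRing B] [Algebra ℚ B] (d : ℕ) (c : Fin d → B) :
    PowerSeries.map (MvPolynomial.aeval c : MvPolynomial (Fin d) ℚ →ₐ[ℚ] B).toRingHom (Ed d) =
      PowerSeries.mk fun i => if h0 : i = 0 then 1 else
        if h : i ≤ d then c (⟨i - 1, by omega⟩ : Fin d) else 0 := by
  ext i
  rw [coeff_map, Ed, coeff_mk, coeff_mk]
  by_cases h0 : i = 0
  · rw [dif_pos h0, dif_pos h0, map_one]
  · rw [dif_neg h0, dif_neg h0]
    by_cases h : i ≤ d
    · rw [dif_pos h, dif_pos h]
      exact MvPolynomial.aeval_X c _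
    · rw [dif_neg h, dif_neg h, map_zero]

theorem aeval_Qd {B : Type*} [CommRing B] [Algebra ℚ B] (d : ℕ) (c : Fin d → B) :
    MvPolynomial.aeval c (Qd d) = algebraMap ℚ B (d : ℚ) +
      ∑ k ∈ range d, algebraMap ℚ B (1 / ((k + 1).factorial : ℚ)) *
        psiS (PowerSeries.mk fun i => if h0 : i = 0 then (1 : B) else
          if h : i ≤ d then c (⟨i - 1, by omega⟩ : Fin d) else 0) k := by
  unfold Qd
  rw [map_add, MvPolynomial.aeval_C, map_sum]
  congr 1
  apply Finset.sum_congr rfl
  intro k _
  rw [map_mul, MvPolynomial.aeval_C, ← map_Ed d c]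
  congr 1
  exact (psiS_map (MvPolynomial.aeval c : MvPolynomial (Fin d) ℚ →ₐ[ℚ] B).toRingHom
    (constantCoeff_Ed d) k).symm

theorem lineProd_X_eq (d : ℕ) :
    (PowerSeries.mk fun i => if h0 : i = 0 then (1 : MvPolynomial (Fin d) ℚ) else
      if h : i ≤ d then MvPolynomial.esymm (Fin d) ℚ ((⟨i - 1, by omega⟩ : Fin d).1 + 1) else 0) =
      lineProd Finset.univ (MvPolynomial.X : Fin d → MvPolynomial (Fin d) ℚ) := by
  classical
  ext i
  rw [coeff_mk, coeff_lineProd]
  by_cases h0 : i = 0
  · subst h0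
    rw [dif_pos rfl]
    simp
  · rw [dif_neg h0]
    by_cases h : i ≤ d
    · rw [dif_pos h]
      have : i - 1 + 1 = i := by omega
      simp only [this]
      rfl
    · rw [dif_neg h, Finset.powersetCard_eq_empty.2 (by simp; omega), Finset.sum_empty]

theorem chPoly_eq (d : ℕ) : chPoly d = Qd d := by
  unfold chPoly
  rw [AlgEquiv.symm_apply_eq]
  apply Subtype.ext
  rw [MvPolynomial.esymmAlgEquiv_apply, MvPolynomial.esymmAlgHom_apply, aeval_Qd, lineProd_X_eq]
  simp only [psiS_lineProd]
  show ∑ i : Fin d, Polynomial.aeval (MvPolynomial.X i) (expTrunc d) = _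
  unfold expTrunc
  simp only [map_sum, map_mul, map_pow, Polynomial.aeval_C, Polynomial.aeval_X,
    MvPolynomial.algebraMap_eq]
  rw [Finset.sum_comm]
  rw [Finset.sum_range_succ']
  simp only [Nat.factorial_zero, Nat.cast_one, ne_eq, one_ne_zero, not_false_eq_true, div_self,
    map_one, pow_zero, mul_one, Finset.sum_const, Finset.card_univ, Fintype.card_fin,
    nsmul_eq_mul, map_natCast]
  rw [add_comm]
  congr 1
  apply Finset.sum_congr rfl
  intro k _
  rw [Finset.mul_sum]

end ChPoly

/-! ### the Chern character -/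

theorem chern_zero (P : PosStructure K) (x : K) : chern P 0 x = 1 := by
  rw [chern_eq, Groth.Agent.H19.AdamsGamma.gamma_zero', gr_zero_eq, map_one]

theorem chern_eq_zero (P : PosStructure K) (d : ℕ) (hd : gammaFiltration P (d + 1) = ⊥) (x : K)
    {i : ℕ} (hi : d < i) : chern P i x = 0 := by
  rw [chern_eq]
  have h := fil_anti P (by omega : d + 1 ≤ i) (gamma_yy_mem P x i)
  rw [hd, AddSubgroup.mem_bot] at h
  rw [h, gr_zero]

theorem chK_formula (P : PosStructure K) (d : ℕ) (hd : gammaFiltration P (d + 1) = ⊥) (x : K) :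
    chK P d x = algebraMap ℚ (Gr P) ((P.aug x : ℤ) : ℚ) +
      ∑ k ∈ range d, algebraMap ℚ (Gr P) (1 / ((k + 1).factorial : ℚ)) * sK P k x := by
  have hser : (PowerSeries.mk fun i => if h0 : i = 0 then (1 : Gr P) else
      if h : i ≤ d then chern P ((⟨i - 1, by omega⟩ : Fin d).1 + 1) x else 0) =
      PowerSeries.mk fun i => chern P i x := by
    ext i
    rw [coeff_mk, coeff_mk]
    by_cases h0 : i = 0
    · subst h0; rw [dif_pos rfl, chern_zero]
    · rw [dif_neg h0]
      by_cases h : i ≤ d
      · rw [dif_pos h]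
        have : i - 1 + 1 = i := by omega
        simp only [this]
      · rw [dif_neg h, chern_eq_zero P d hd x (by omega)]
  have h1 := aeval_Qd (B := Gr P) d (fun i : Fin d => chern P (i.1 + 1) x)
  rw [hser] at h1
  simp only [psiS_chernSeries] at h1
  have h2 : chK P d x = algebraMap ℚ (Gr P) (((P.aug x : ℤ) : ℚ) - d) +
      MvPolynomial.aeval (fun i : Fin d => chern P (i.1 + 1) x) (Qd d) := by
    unfold chK
    rw [chPoly_eq]
  rw [h2]
  refine (congrArg (fun z => algebraMap ℚ (Gr P) (((P.aug x : ℤ) : ℚ) - d) + z) h1).trans ?_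
  rw [map_sub]
  ring

theorem chK_add (P : PosStructure K) (d : ℕ) (hd : gammaFiltration P (d + 1) = ⊥) (x y : K) :
    chK P d (x + y) = chK P d x + chK P d y := by
  rw [chK_formula P d hd, chK_formula P d hd, chK_formula P d hd, map_add, Int.cast_add, map_add]
  simp only [sK_add, mul_add, Finset.sum_add_distrib]
  ring

theorem algebraMap_mul_mem_Hi (P : PosStructure K) {n : ℕ} (q : ℚ) {g : Gr P} (hg : g ∈ Hi P n) :
    algebraMap ℚ (Gr P) q * g ∈ Hi P n := by
  rw [← Algebra.smul_def]
  exact Submodule.smul_mem _ q hg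

/-- the Chern character is unitriangular with respect to the γ-filtration. -/
theorem chK_tri (P : PosStructure K) (hK : HasSplitting K P) (d : ℕ)
    (hd : gammaFiltration P (d + 1) = ⊥) {m : ℕ} {x : K} (hx : x ∈ gammaFiltration P m) :
    chK P d x - gr P m x ∈ Hi P (m + 1) := by
  rw [chK_formula P d hd]
  rcases Nat.eq_zero_or_pos m with hm | hm
  · subst hm
    have hx0 : gr P 0 x = algebraMap ℚ (Gr P) ((P.aug x : ℤ) : ℚ) := by
      have hxe : x = ((P.aug x : ℤ) : K) + yy P x := by unfold yy; ring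
      rw [gr_zero_eq]
      conv_lhs => rw [hxe]
      rw [map_add, ← gr_zero_eq P (yy P x), gr_eq_zero P (yy_mem P x), add_zero, map_intCast,
        map_intCast]
    rw [hx0, add_sub_cancel_left]
    apply sum_mem
    intro k _
    exact algebraMap_mul_mem_Hi P _ (sK_mem_Hi P (by omega) x)
  · have haug : P.aug x = 0 :=
      Groth.Agent.H19.Det.aug_F1 P hK (fil_anti P hm hx)
    have hyy : yy P x = x := by unfold yy; rw [haug, Int.cast_zero, sub_zero]
    rw [haug, Int.cast_zero, map_zero, zero_add]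
    by_cases hmd : m ≤ d
    · have hmem : m - 1 ∈ range d := Finset.mem_range.2 (by omega)
      rw [← Finset.add_sum_erase _ _ hmem]
      have htop : algebraMap ℚ (Gr P) (1 / ((m - 1 + 1).factorial : ℚ)) * sK P (m - 1) x =
          gr P m x := by
        unfold sK
        rw [hyy]
        have hm1 : m - 1 + 1 = m := by omega
        have hx' : x ∈ gammaFiltration P (m - 1 + 1) := by rw [hm1]; exact hx
        have h2 := nu_top P hK hx'
        have hfx : ((m - 1 + 1).factorial : K) * x ∈ gammaFiltration P (m - 1 + 1) :=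
          fil_smul P _ _ _ hx'
        have hdecomp : nu (m - 1) x =
            (nu (m - 1) x - ((m - 1 + 1).factorial : K) * x) + ((m - 1 + 1).factorial : K) * x := by
          ring
        rw [hdecomp, gr_add P (fil_anti P (Nat.le_succ _) h2) hfx, gr_eq_zero P h2, zero_add,
          gr_smul P _ hx', map_natCast, hm1, ← mul_assoc]
        have hfac : algebraMap ℚ (Gr P) (1 / ((m.factorial : ℚ))) * ((m.factorial : ℕ) : Gr P) = 1 := by
          rw [← map_natCast (algebraMap ℚ (Gr P)), ← map_mul,
            one_div_mul_cancel (by positivity), map_one]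
        rw [hfac, one_mul]
      rw [htop, add_sub_cancel_left]
      apply sum_mem
      intro k hk
      have hk1 : k ≠ m - 1 := (Finset.mem_erase.1 hk).1
      by_cases hkm : k < m - 1
      · have hz : sK P k x = 0 := by
          unfold sK
          rw [hyy]
          exact gr_eq_zero P (fil_anti P (by omega) (nu_mem P hK hx k))
        rw [hz, mul_zero]; exact zero_mem _
      · exact algebraMap_mul_mem_Hi P _ (sK_mem_Hi P (by omega) x)
    · have hx0 : x = 0 := by
        have h := fil_anti P (by omega : d + 1 ≤ m) hx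
        rwa [hd, AddSubgroup.mem_bot] at h
      rw [hx0, gr_zero, sub_zero]
      apply sum_mem
      intro k _
      have hz : sK P k (0 : K) = 0 := by
        unfold sK yy
        rw [map_zero, Int.cast_zero, sub_zero, nu_zero, gr_zero]
      rw [hz, mul_zero]; exact zero_mem _

end Groth.Agent.H43.KG
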