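import Groth.Agent.H43.KGChern
import Groth.Agent.S3296

/-!
# Adams eigenvectors and multiplicativity of the Chern character (helper library, seat helper43)

* `IsTors z`: `z` is killed by a nonzero integer.
* `Eig P m x`: `x ∈ F^m` and `ψ^l x - l^m x` is torsion for all `l ≥ 1`.
* `chK_eig`: on such an element the Chern character is the class `gr P m x`.
* `exists_eig_decomp`: `1 ⊗ x` is a rational combination of such elements (from the eigenspace
  decomposition S3296).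
* `chK_mul_eig`, `chK_one`: the Chern character is multiplicative.
-/

set_option autoImplicit false
universe v

namespace Groth.Agent.H43.KG

open LambdaRing KGr PowerSeries Finset
open scoped TensorProduct

section Tors

variable {R : Type*} [CommRing R]

/-- `z` is killed by a nonzero integer. -/
def IsTors (z : R) : Prop := ∃ t : ℤ, t ≠ 0 ∧ (t : R) * z = 0

theorem IsTors.zero : IsTors (0 : R) := ⟨1, one_ne_zero, by rw [mul_zero]⟩

theorem IsTors.add {a b : R} (ha : IsTors a) (hb : IsTors b) : IsTors (a + b) := by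
  obtain ⟨s, hs0, hs⟩ := ha
  obtain ⟨t, ht0, ht⟩ := hb
  refine ⟨s * t, mul_ne_zero hs0 ht0, ?_⟩
  push_cast
  linear_combination (t : R) * hs + (s : R) * ht

theorem IsTors.mul_left {a : R} (c : R) (ha : IsTors a) : IsTors (c * a) := by
  obtain ⟨s, hs0, hs⟩ := ha
  exact ⟨s, hs0, by linear_combination c * hs⟩

theorem IsTors.neg {a : R} (ha : IsTors a) : IsTors (-a) := by
  obtain ⟨s, hs0, hs⟩ := ha
  exact ⟨s, hs0, by linear_combination (-1 : R) * hs⟩

theorem IsTors.sub {a b : R} (ha : IsTors a) (hb : IsTors b) : IsTors (a - b) := by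
  rw [sub_eq_add_neg]; exact ha.add hb.neg

theorem IsTors.sum {ι : Type*} (s : Finset ι) (f : ι → R) (h : ∀ i ∈ s, IsTors (f i)) :
    IsTors (∑ i ∈ s, f i) := by
  classical
  induction s using Finset.induction_on with
  | empty => rw [Finset.sum_empty]; exact IsTors.zero
  | insert a s ha ih =>
    rw [Finset.sum_insert ha]
    exact (h a (Finset.mem_insert_self a s)).add
      (ih fun i hi => h i (Finset.mem_insert_of_mem hi))

theorem tors_of_tmul {q : ℚ} (hq : q ≠ 0) {z : R} (h : q ⊗ₜ[ℤ] z = 0) : IsTors z := by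
  have h1 : (1 : ℚ) ⊗ₜ[ℤ] z = 0 := by
    have e : q ⊗ₜ[ℤ] z = q • ((1 : ℚ) ⊗ₜ[ℤ] z) := by
      rw [TensorProduct.smul_tmul', smul_eq_mul, mul_one]
    rw [e] at h
    exact (smul_eq_zero.1 h).resolve_left hq
  obtain ⟨s, hs0, hs⟩ := tmul_eq_zero_imp z h1
  exact ⟨s, hs0, by rw [← zsmul_eq_mul]; exact hs⟩

theorem tmul_natpow_mul (q : ℚ) (l m : ℕ) (x : R) :
    q ⊗ₜ[ℤ] ((l : R) ^ m * x) = ((l : ℚ) ^ m) • (q ⊗ₜ[ℤ] x) := by
  have e : ((l : R) ^ m * x) = ((l ^ m : ℕ) : ℤ) • x := by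
    rw [zsmul_eq_mul, Int.cast_natCast, Nat.cast_pow]
  rw [e, ← TensorProduct.smul_tmul, TensorProduct.smul_tmul', zsmul_eq_mul, smul_eq_mul,
    Int.cast_natCast, Nat.cast_pow]

end Tors

variable {K : Type v} [CommRing K] [LambdaOps K]

theorem gr_tors (P : PosStructure K) {n : ℕ} {z : K} (hz : z ∈ gammaFiltration P n)
    (ht : IsTors z) : gr P n z = 0 := by
  obtain ⟨t, ht0, htz⟩ := ht
  have h1 := gr_intCast_mul P t hz
  rw [htz, gr_zero] at h1
  have htq : (t : ℚ) ≠ 0 := Int.cast_ne_zero.2 ht0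
  have h3 : gr P n z = algebraMap ℚ (Gr P) ((t : ℚ)⁻¹) * ((t : Gr P) * gr P n z) := by
    rw [← mul_assoc, ← map_intCast (algebraMap ℚ (Gr P)) t, ← map_mul, inv_mul_cancel₀ htq,
      map_one, one_mul]
  rw [h3, ← h1, mul_zero]

theorem gr_zero_eq_aug (P : PosStructure K) (x : K) :
    gr P 0 x = algebraMap ℚ (Gr P) ((P.aug x : ℤ) : ℚ) := by
  have hxe : x = ((P.aug x : ℤ) : K) + yy P x := by unfold yy; ring
  rw [gr_zero_eq]
  conv_lhs => rw [hxe]
  rw [map_add, ← gr_zero_eq P (yy P x), gr_eq_zero P (yy_mem P x), add_zero, map_intCast,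
    map_intCast]

/-! ### Adams operations -/

theorem adams_one_arg (P : PosStructure K) (hK : HasSplitting K P) (x : K) :
    adams P 1 x = x := by
  have key : ∀ e ∈ P.pos, adams P 1 e = e := by
    intro e he
    obtain ⟨L, _, f, hf, n, y, hy, hsum⟩ := Groth.Agent.H19.Adams.exists_split P hK e he
    apply hf.injective
    rw [Groth.Agent.H19.Adams.adams_map P L.posStr f hf, ← hsum,
      Groth.Agent.H19.Adams.adams_sum]
    exact Finset.sum_congr rfl fun i _ => by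
      rw [Groth.Agent.H19.Adams.adams_line L.posStr (hy i), pow_one]
  obtain ⟨e, f, he, hf, rfl⟩ := P.exists_sub x
  rw [Groth.Agent.H19.Adams.adams_sub, key e he, key f hf]

theorem adams_intCast (P : PosStructure K) (hK : HasSplitting K P) (l : ℕ) (t : ℤ) :
    adams P l ((t : ℤ) : K) = (t : K) :=
  map_intCast (Groth.Agent.H19.Adams.adamsRingHom P hK l) t

theorem adams_intCast_mul (P : PosStructure K) (hK : HasSplitting K P) (l : ℕ) (t : ℤ) (x : K) :
    adams P l ((t : K) * x) = (t : K) * adams P l x := by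
  rw [Groth.Agent.H19.Adams.adams_mul P hK, adams_intCast P hK]

theorem IsTors.map_adams (P : PosStructure K) (hK : HasSplitting K P) (l : ℕ) {z : K}
    (hz : IsTors z) : IsTors (LambdaRing.adams P l z) := by
  obtain ⟨t, ht0, ht⟩ := hz
  refine ⟨t, ht0, ?_⟩
  rw [← adams_intCast_mul P hK, ht, Groth.Agent.H19.Adams.adams_zero]

/-- `x ∈ F^m` is, up to torsion, an eigenvector of every Adams operation `ψ^l` with
eigenvalue `l^m`. -/
def Eig (P : PosStructure K) (m : ℕ) (x : K) : Prop :=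
  x ∈ gammaFiltration P m ∧ ∀ l : ℕ, 1 ≤ l → IsTors (adams P l x - (l : K) ^ m * x)

theorem Eig.mul (P : PosStructure K) (hK : HasSplitting K P) {a b : ℕ} {x y : K}
    (hx : Eig P a x) (hy : Eig P b y) : Eig P (a + b) (x * y) := by
  refine ⟨fil_mul P rfl hx.1 hy.1, fun l hl => ?_⟩
  have e : adams P l (x * y) - (l : K) ^ (a + b) * (x * y) =
      adams P l y * (adams P l x - (l : K) ^ a * x) +
        ((l : K) ^ a * x) * (adams P l y - (l : K) ^ b * y) := by
    rw [Groth.Agent.H19.Adams.adams_mul P hK, pow_add]; ring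
  rw [e]
  exact ((hx.2 l hl).mul_left _).add ((hy.2 l hl).mul_left _)

/-! ### Newton classes of eigenvectors -/

theorem nu_of_tors (P : PosStructure K) (hK : HasSplitting K P) (k : ℕ) {z : K}
    (hz : IsTors z) : IsTors (nu k z) := by
  rw [nu_eq_nuRhs P hK]
  unfold nuRhs
  apply IsTors.sum
  intro i _
  exact (hz.map_adams P hK (i + 1)).mul_left _

theorem nu_tors (P : PosStructure K) (hK : HasSplitting K P) {m k : ℕ} (hm : 1 ≤ m)
    (hmk : m ≤ k) {x : K}
    (h : ∀ l : ℕ, 1 ≤ l → IsTors (adams P l x - (l : K) ^ m * x)) : IsTors (nu k x) := by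
  rw [nu_eq_nuRhs P hK]
  unfold nuRhs
  have hst : ∑ i ∈ range (k + 1), ((-1 : K) ^ (k - i) * ((k + 1).choose (i + 1) : K)) *
        ((i : K) + 1) ^ m = 0 := by
    have := congrArg (Int.cast : ℤ → K) (stirling_low k m hm hmk)
    push_cast at this
    exact this
  have e : ∑ i ∈ range (k + 1),
        ((-1 : K) ^ (k - i) * ((k + 1).choose (i + 1) : K)) * adams P (i + 1) x =
      ∑ i ∈ range (k + 1), ((-1 : K) ^ (k - i) * ((k + 1).choose (i + 1) : K)) *
        (adams P (i + 1) x - ((i + 1 : ℕ) : K) ^ m * x) := by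
    have h1 : ∑ i ∈ range (k + 1), ((-1 : K) ^ (k - i) * ((k + 1).choose (i + 1) : K)) *
          (adams P (i + 1) x - ((i + 1 : ℕ) : K) ^ m * x) =
        ∑ i ∈ range (k + 1),
          ((-1 : K) ^ (k - i) * ((k + 1).choose (i + 1) : K)) * adams P (i + 1) x -
        (∑ i ∈ range (k + 1), ((-1 : K) ^ (k - i) * ((k + 1).choose (i + 1) : K)) *
          ((i : K) + 1) ^ m) * x := by
      rw [Finset.sum_mul, ← Finset.sum_sub_distrib]
      apply Finset.sum_congr rfl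
      intro i _
      push_cast; ring
    rw [h1, hst, zero_mul, sub_zero]
  rw [e]
  apply IsTors.sum
  intro i _
  exact (h (i + 1) (by omega)).mul_left _

theorem sK_top (P : PosStructure K) (hK : HasSplitting K P) {m : ℕ} (hm : 1 ≤ m) {x : K}
    (hx : x ∈ gammaFiltration P m) (hyy : yy P x = x) :
    algebraMap ℚ (Gr P) (1 / ((m - 1 + 1).factorial : ℚ)) * sK P (m - 1) x = gr P m x := by
  unfold sK
  rw [hyy]
  have hm1 : m - 1 + 1 = m := by omega
  have hx' : x ∈ gammaFiltration P (m - 1 + 1) := by rw [hm1]; exact hx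
  have h2 := nu_top P hK hx'
  have hfx : ((m - 1 + 1).factorial : K) * x ∈ gammaFiltration P (m - 1 + 1) :=
    fil_smul P _ _ _ hx'
  have hdecomp : nu (m - 1) x =
      (nu (m - 1) x - ((m - 1 + 1).factorial : K) * x) + ((m - 1 + 1).factorial : K) * x := by
    ring
  rw [hdecomp, gr_add P (fil_anti P (Nat.le_succ _) h2) hfx, gr_eq_zero P h2, zero_add,
    gr_smul P _ hx', map_natCast, hm1, ← mul_assoc]
  have hfac : algebraMap ℚ (Gr P) (1 / ((m.factorial : ℚ))) * ((m.factorial : ℕ) : Gr P) = 1 := by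
    rw [← map_natCast (algebraMap ℚ (Gr P)), ← map_mul,
      one_div_mul_cancel (by positivity), map_one]
  rw [hfac, one_mul]

theorem chK_zero (P : PosStructure K) (d : ℕ) (hd : gammaFiltration P (d + 1) = ⊥) :
    chK P d (0 : K) = 0 := by
  have h := chK_add P d hd (0 : K) 0
  rw [add_zero] at h
  have h2 : chK P d (0 : K) + 0 = chK P d (0 : K) + chK P d (0 : K) := by
    rw [add_zero]; exact h
  exact (add_left_cancel h2).symm

theorem chK_eig_pos (P : PosStructure K) (hK : HasSplitting K P) (d : ℕ)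
    (hd : gammaFiltration P (d + 1) = ⊥) {m : ℕ} (hm : 1 ≤ m) {x : K} (hx : Eig P m x) :
    chK P d x = gr P m x := by
  obtain ⟨hxm, hxe⟩ := hx
  by_cases hmd : m ≤ d
  · rw [chK_formula P d hd]
    have haug : P.aug x = 0 := Groth.Agent.H19.Det.aug_F1 P hK (fil_anti P hm hxm)
    have hyy : yy P x = x := by unfold yy; rw [haug, Int.cast_zero, sub_zero]
    rw [haug, Int.cast_zero, map_zero, zero_add]
    have hmem : m - 1 ∈ range d := Finset.mem_range.2 (by omega)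
    have hsum : ∑ k ∈ range d, algebraMap ℚ (Gr P) (1 / ((k + 1).factorial : ℚ)) * sK P k x =
        algebraMap ℚ (Gr P) (1 / ((m - 1 + 1).factorial : ℚ)) * sK P (m - 1) x := by
      apply Finset.sum_eq_single_of_mem (m - 1) hmem
      intro k _ hkne
      have hz : sK P k x = 0 := by
        unfold sK
        rw [hyy]
        by_cases hkm : k < m - 1
        · exact gr_eq_zero P (fil_anti P (by omega) (nu_mem P hK hxm k))
        · have hmem' : nu k x ∈ gammaFiltration P (k + 1) := by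
            have := nu_yy_mem P k x
            rwa [hyy] at this
          exact gr_tors P hmem' (nu_tors P hK hm (by omega) hxe)
      rw [hz, mul_zero]
    rw [hsum, sK_top P hK hm hxm hyy]
  · have hx0 : x = 0 := by
      have h := fil_anti P (by omega : d + 1 ≤ m) hxm
      rwa [hd, AddSubgroup.mem_bot] at h
    rw [hx0, gr_zero, chK_zero P d hd]

theorem yy_tors (P : PosStructure K) (hK : HasSplitting K P) (d : ℕ)
    (hd : gammaFiltration P (d + 1) = ⊥) {x : K} (hx : Eig P 0 x) : IsTors (yy P x) := by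
  have hψ : ∀ l : ℕ, 1 ≤ l → IsTors (adams P l (yy P x) - yy P x) := by
    intro l hl
    have h := hx.2 l hl
    have e : adams P l (yy P x) - yy P x = adams P l x - (l : K) ^ 0 * x := by
      unfold yy
      rw [Groth.Agent.H19.Adams.adams_sub, adams_intCast P hK]
      ring
    rw [e]; exact h
  obtain ⟨t, ht0, ht⟩ := hψ 2 (by norm_num)
  have claim : ∀ n : ℕ, ∃ s : ℤ, s ≠ 0 ∧ (s : K) * yy P x ∈ gammaFiltration P (n + 1) := by
    intro n
    induction n with
    | zero => exact ⟨1, one_ne_zero, by rw [Int.cast_one, one_mul]; exact yy_mem P x⟩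
    | succ n ih =>
      obtain ⟨s, hs0, hs⟩ := ih
      have h1 := Groth.Agent.S3292.result K P hK 2 (by norm_num) (n + 1) _ hs
      have h12 : (1 - 2 ^ (n + 1) : ℤ) ≠ 0 := by
        have h2 : (1 : ℤ) < 2 ^ (n + 1) := one_lt_pow₀ (by norm_num) (by omega)
        intro h; linarith
      refine ⟨t * s * (1 - 2 ^ (n + 1)), mul_ne_zero (mul_ne_zero ht0 hs0) h12, ?_⟩
      have hu : ((t * s * (1 - 2 ^ (n + 1)) : ℤ) : K) * yy P x =
          (t : K) * (adams P 2 ((s : K) * yy P x) -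
            ((2 : ℕ) : K) ^ (n + 1) * ((s : K) * yy P x)) := by
        rw [adams_intCast_mul P hK]
        push_cast
        linear_combination (-(s : K)) * ht
      rw [hu]
      exact fil_smul P _ _ _ h1
  obtain ⟨s, hs0, hs⟩ := claim d
  rw [hd, AddSubgroup.mem_bot] at hs
  exact ⟨s, hs0, hs⟩

theorem chK_eig_zero (P : PosStructure K) (hK : HasSplitting K P) (d : ℕ)
    (hd : gammaFiltration P (d + 1) = ⊥) {x : K} (hx : Eig P 0 x) :
    chK P d x = gr P 0 x := by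
  have hz : IsTors (yy P x) := yy_tors P hK d hd hx
  rw [chK_formula P d hd, gr_zero_eq_aug]
  have hsum : ∑ k ∈ range d, algebraMap ℚ (Gr P) (1 / ((k + 1).factorial : ℚ)) * sK P k x = 0 := by
    apply Finset.sum_eq_zero
    intro k _
    have h0 : sK P k x = 0 := by
      unfold sK
      exact gr_tors P (nu_yy_mem P k x) (nu_of_tors P hK k hz)
    rw [h0, mul_zero]
  rw [hsum, add_zero]

theorem chK_eig (P : PosStructure K) (hK : HasSplitting K P) (d : ℕ)
    (hd : gammaFiltration P (d + 1) = ⊥) {m : ℕ} {x : K} (hx : Eig P m x) :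
    chK P d x = gr P m x := by
  rcases Nat.eq_zero_or_pos m with rfl | hm
  · exact chK_eig_zero P hK d hd hx
  · exact chK_eig_pos P hK d hd hm hx

/-! ### the eigen-decomposition -/

theorem exists_rep_W (P : PosStructure K) (m : ℕ) (v : ℚ ⊗[ℤ] K)
    (hv : v ∈ Groth.Agent.S3296.W P m) :
    ∃ (N : ℕ) (x : K), 0 < N ∧ x ∈ gammaFiltration P m ∧
      v = ((1 : ℚ) / (N : ℚ)) ⊗ₜ[ℤ] x := by
  unfold Groth.Agent.S3296.W at hv
  induction hv using Submodule.span_induction with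
  | mem v hv =>
    obtain ⟨x, hx, rfl⟩ := hv
    refine ⟨1, x, one_pos, hx, ?_⟩
    show (1 : ℚ) ⊗ₜ[ℤ] x = _
    rw [Nat.cast_one, div_one]
  | zero => exact ⟨1, 0, one_pos, zero_mem _, (TensorProduct.tmul_zero _ _).symm⟩
  | add a b _ _ ha hb =>
    obtain ⟨N, x, hN, hx, rfl⟩ := ha
    obtain ⟨M, y, hM, hy, rfl⟩ := hb
    refine ⟨N * M, (M : ℤ) • x + (N : ℤ) • y, Nat.mul_pos hN hM,
      add_mem (zsmul_mem hx _) (zsmul_mem hy _), ?_⟩
    have hN0 : (N : ℚ) ≠ 0 := by positivity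
    have hM0 : (M : ℚ) ≠ 0 := by positivity
    rw [TensorProduct.tmul_add, ← TensorProduct.smul_tmul, ← TensorProduct.smul_tmul]
    congr 2
    · rw [zsmul_eq_mul]; push_cast; field_simp
    · rw [zsmul_eq_mul]; push_cast; field_simp
  | smul q a _ ha =>
    obtain ⟨N, x, hN, hx, rfl⟩ := ha
    refine ⟨q.den * N, q.num • x, Nat.mul_pos q.pos hN, zsmul_mem hx _, ?_⟩
    have hN0 : (N : ℚ) ≠ 0 := by positivity
    have hd0 : (q.den : ℚ) ≠ 0 := Nat.cast_ne_zero.2 q.den_nz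
    rw [TensorProduct.smul_tmul', ← TensorProduct.smul_tmul]
    congr 1
    rw [smul_eq_mul, zsmul_eq_mul]
    conv_lhs => rw [← Rat.num_div_den q]
    push_cast
    field_simp

/-- the endomorphism of `ℚ ⊗ K` induced by `ψ^l`. -/
noncomputable def PsiQ (P : PosStructure K) (l : ℕ) : ℚ ⊗[ℤ] K →ₗ[ℚ] ℚ ⊗[ℤ] K :=
  TensorProduct.AlgebraTensorModule.map (LinearMap.id : ℚ →ₗ[ℚ] ℚ)
    (Groth.Agent.H19.Adams.adamsAddHom P l).toIntLinearMap

theorem PsiQ_tmul (P : PosStructure K) (l : ℕ) (q : ℚ) (x : K) :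
    PsiQ P l (q ⊗ₜ[ℤ] x) = q ⊗ₜ[ℤ] adams P l x := by
  unfold PsiQ
  rw [TensorProduct.AlgebraTensorModule.map_tmul]
  rfl

theorem eig_of_eigenvector (P : PosStructure K) (hK : HasSplitting K P) (d : ℕ)
    (hd : gammaFiltration P (d + 1) = ⊥) (m : ℕ) (v : ℚ ⊗[ℤ] K)
    (hv : v ∈ Module.End.eigenspace (PsiQ P 2) (((2 : ℕ) : ℚ) ^ m)) :
    ∃ (N : ℕ) (x : K), 0 < N ∧ Eig P m x ∧ v = ((1 : ℚ) / (N : ℚ)) ⊗ₜ[ℤ] x := by
  have hΨ : ∀ (l : ℕ) (y : K), PsiQ P l ((1 : ℚ) ⊗ₜ[ℤ] y) = (1 : ℚ) ⊗ₜ[ℤ] adams P l y :=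
    fun l y => PsiQ_tmul P l 1 y
  have hv2 : PsiQ P 2 v = (((2 : ℕ) : ℚ) ^ m) • v := Module.End.mem_eigenspace_iff.1 hv
  have hW : v ∈ Groth.Agent.S3296.W P m :=
    Groth.Agent.S3296.mem_W_of_eigen P 2 (Groth.Agent.S3296.pow_sub_ne 2 le_rfl) (PsiQ P 2)
      (fun n w hw => Groth.Agent.S3296.sub_smul_mem_W P hK 2 (PsiQ P 2) (hΨ 2) n w hw)
      m v hv2 m le_rfl
  obtain ⟨N, x, hN, hx, rfl⟩ := exists_rep_W P m v hW
  refine ⟨N, x, hN, ⟨hx, fun l hl => ?_⟩, rfl⟩
  have hN0 : ((1 : ℚ) / (N : ℚ)) ≠ 0 := by positivity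
  rcases Nat.lt_or_ge l 2 with h2 | h2
  · have hl1 : l = 1 := by omega
    subst hl1
    rw [adams_one_arg P hK, Nat.cast_one, one_pow, one_mul, sub_self]
    exact IsTors.zero
  · have heq := (Groth.Agent.S3296.result K P hK d hd 2 l le_rfl h2 (PsiQ P 2) (PsiQ P l)
      (hΨ 2) (hΨ l)).2 m
    rw [heq] at hv
    have hvl := Module.End.mem_eigenspace_iff.1 hv
    apply tors_of_tmul hN0
    rw [TensorProduct.tmul_sub, sub_eq_zero, tmul_natpow_mul]
    rw [PsiQ_tmul] at hvl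
    exact hvl

theorem exists_eig_decomp (P : PosStructure K) (hK : HasSplitting K P) (d : ℕ)
    (hd : gammaFiltration P (d + 1) = ⊥) (x : K) :
    ∃ (N : ℕ → ℕ) (xs : ℕ → K), (∀ m, 0 < N m) ∧ (∀ m, Eig P m (xs m)) ∧
      (1 : ℚ) ⊗ₜ[ℤ] x = ∑ m ∈ range (d + 1), ((1 : ℚ) / (N m : ℚ)) ⊗ₜ[ℤ] xs m := by
  classical
  have hΨ : ∀ (l : ℕ) (y : K), PsiQ P l ((1 : ℚ) ⊗ₜ[ℤ] y) = (1 : ℚ) ⊗ₜ[ℤ] adams P l y :=
    fun l y => PsiQ_tmul P l 1 y
  have htop := (Groth.Agent.S3296.result K P hK d hd 2 2 le_rfl le_rfl (PsiQ P 2) (PsiQ P 2)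
      (hΨ 2) (hΨ 2)).1
  have hmem : (1 : ℚ) ⊗ₜ[ℤ] x ∈ (⊤ : Submodule ℚ (ℚ ⊗[ℤ] K)) := Submodule.mem_top
  rw [← htop] at hmem
  obtain ⟨μ, hμ⟩ := (Submodule.mem_iSup_finset_iff_exists_sum _ _).1 hmem
  have hex : ∀ m, ∃ (N : ℕ) (y : K), 0 < N ∧ Eig P m y ∧
      ((μ m : ℚ ⊗[ℤ] K)) = ((1 : ℚ) / (N : ℚ)) ⊗ₜ[ℤ] y :=
    fun m => eig_of_eigenvector P hK d hd m (μ m) (μ m).2
  choose N xs hN hE hrep using hex
  refine ⟨N, xs, hN, hE, ?_⟩
  rw [← hμ]
  exact Finset.sum_congr rfl fun m _ => hrep m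

/-! ### multiplicativity -/

/-- the Chern character as an additive map. -/
noncomputable def chAdd (P : PosStructure K) (d : ℕ) (hd : gammaFiltration P (d + 1) = ⊥) :
    K →+ Gr P := AddMonoidHom.mk' (chK P d) (chK_add P d hd)

/-- the ℚ-linear extension of the Chern character to `ℚ ⊗ K`. -/
noncomputable def PhiCh (P : PosStructure K) (d : ℕ) (hd : gammaFiltration P (d + 1) = ⊥) :
    ℚ ⊗[ℤ] K →ₗ[ℚ] Gr P :=
  TensorProduct.AlgebraTensorModule.lift
    (LinearMap.toSpanSingleton ℚ (K →ₗ[ℤ] Gr P) (chAdd P d hd).toIntLinearMap)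

theorem PhiCh_tmul (P : PosStructure K) (d : ℕ) (hd : gammaFiltration P (d + 1) = ⊥) (q : ℚ)
    (x : K) : PhiCh P d hd (q ⊗ₜ[ℤ] x) = q • chK P d x := by
  unfold PhiCh
  rw [TensorProduct.AlgebraTensorModule.lift_tmul, LinearMap.toSpanSingleton_apply,
    LinearMap.smul_apply]
  rfl

theorem chK_of_decomp (P : PosStructure K) (hK : HasSplitting K P) (d : ℕ)
    (hd : gammaFiltration P (d + 1) = ⊥) (x : K) (s : Finset ℕ) (N : ℕ → ℕ) (xs : ℕ → K)
    (hE : ∀ m, Eig P m (xs m))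
    (h : (1 : ℚ) ⊗ₜ[ℤ] x = ∑ m ∈ s, ((1 : ℚ) / (N m : ℚ)) ⊗ₜ[ℤ] xs m) :
    chK P d x = ∑ m ∈ s, ((1 : ℚ) / (N m : ℚ)) • gr P m (xs m) := by
  have h1 : chK P d x = PhiCh P d hd ((1 : ℚ) ⊗ₜ[ℤ] x) := by rw [PhiCh_tmul, one_smul]
  rw [h1, h, map_sum]
  exact Finset.sum_congr rfl fun m _ => by rw [PhiCh_tmul, chK_eig P hK d hd (hE m)]

theorem chK_mul_eig (P : PosStructure K) (hK : HasSplitting K P) (d : ℕ)
    (hd : gammaFiltration P (d + 1) = ⊥) (x y : K) :
    chK P d (x * y) = chK P d x * chK P d y := by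
  obtain ⟨N, xs, hN, hxE, hx⟩ := exists_eig_decomp P hK d hd x
  obtain ⟨M, ys, hM, hyE, hy⟩ := exists_eig_decomp P hK d hd y
  have hcx := chK_of_decomp P hK d hd x _ N xs hxE hx
  have hcy := chK_of_decomp P hK d hd y _ M ys hyE hy
  have h1 : chK P d (x * y) = PhiCh P d hd ((1 : ℚ) ⊗ₜ[ℤ] (x * y)) := by
    rw [PhiCh_tmul, one_smul]
  have h2 : (1 : ℚ) ⊗ₜ[ℤ] (x * y) = ((1 : ℚ) ⊗ₜ[ℤ] x) * ((1 : ℚ) ⊗ₜ[ℤ] y) := by
    rw [Algebra.TensorProduct.tmul_mul_tmul, one_mul]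
  rw [h1, h2, hx, hy, hcx, hcy, Finset.sum_mul_sum, Finset.sum_mul_sum, map_sum]
  apply Finset.sum_congr rfl
  intro a _
  rw [map_sum]
  apply Finset.sum_congr rfl
  intro b _
  rw [Algebra.TensorProduct.tmul_mul_tmul, PhiCh_tmul,
    chK_eig P hK d hd ((hxE a).mul P hK (hyE b)), gr_mul P rfl (hxE a).1 (hyE b).1,
    smul_mul_smul_comm]

theorem chK_one (P : PosStructure K) (d : ℕ) (hd : gammaFiltration P (d + 1) = ⊥) :
    chK P d (1 : K) = 1 := by
  rw [chK_formula P d hd]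
  have hy : yy P (1 : K) = 0 := by unfold yy; rw [map_one, Int.cast_one, sub_self]
  have hsum : ∑ k ∈ range d,
      algebraMap ℚ (Gr P) (1 / ((k + 1).factorial : ℚ)) * sK P k (1 : K) = 0 := by
    apply Finset.sum_eq_zero
    intro k _
    have h0 : sK P k (1 : K) = 0 := by unfold sK; rw [hy, nu_zero, gr_zero]
    rw [h0, mul_zero]
  rw [hsum, add_zero, map_one, Int.cast_one, map_one]

end Groth.Agent.H43.KG
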