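import Mathlib
import Groth.Prelude.Def_KGr
import Groth.Agent.H19.AdamsGamma

/-!
# Structure of the associated graded ring `KGr.Gr P` (helper library, seat helper43)

`KGr.Gr P = ℚ ⊗ (rees P / (t))`.  We show that the Rees ring lies in the ring of Laurent polynomials
whose coefficient of `t^{-n}` lies in `F^n`, define the classes `gr P n x` of `x ∈ F^n` in degree
`n`, prove their additivity and multiplicativity, that they span, and construct the projections
`piN P n : Gr P → ℚ ⊗ (K / F^{n+1})` which detect the class of degree `n`.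
-/

set_option autoImplicit false
universe v

namespace Groth.Agent.H43.KG

open LambdaRing LaurentPolynomial KGr
open scoped TensorProduct

variable {K : Type v} [CommRing K] [LambdaOps K] (P : PosStructure K)

theorem fil_zero : gammaFiltration P 0 = ⊤ := Groth.Agent.H19.AdamsGamma.filtration_zero P

theorem mem_fil_zero (x : K) : x ∈ gammaFiltration P 0 := by
  rw [fil_zero]; exact AddSubgroup.mem_top _

theorem fil_anti {n N : ℕ} (h : n ≤ N) : gammaFiltration P N ≤ gammaFiltration P n :=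
  Groth.Agent.H19.AdamsGamma.filtration_antitone P h

theorem fil_smul (n : ℕ) (a x : K) (hx : x ∈ gammaFiltration P n) :
    a * x ∈ gammaFiltration P n :=
  Groth.Agent.H19.AdamsGamma.smul_mem P n a x hx

theorem fil_mul {a b n : ℕ} (h : a + b = n) {x y : K} (hx : x ∈ gammaFiltration P a)
    (hy : y ∈ gammaFiltration P b) : x * y ∈ gammaFiltration P n := by
  subst h
  exact Groth.Agent.H19.AdamsGamma.mul_mem P a b x y hx hy

/-- The ring of Laurent polynomials whose coefficient of `t^{-n}` lies in `F^n`. -/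
def reesBig : Subring (LaurentPolynomial K) where
  carrier := {p | ∀ n : ℕ, p.coeff (-(n : ℤ)) ∈ gammaFiltration P n}
  zero_mem' := fun n => by
    rw [AddMonoidAlgebra.coeff_zero, Finsupp.zero_apply]; exact zero_mem _
  one_mem' := fun n => by
    rw [AddMonoidAlgebra.one_def, AddMonoidAlgebra.coeff_single, Finsupp.single_apply]
    split_ifs with h
    · have hn : n = 0 := by omega
      subst hn
      exact mem_fil_zero P _
    · exact zero_mem _
  add_mem' := fun {p q} hp hq n => by
    rw [AddMonoidAlgebra.coeff_add, Finsupp.add_apply]; exact add_mem (hp n) (hq n)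
  neg_mem' := fun {p} hp n => by
    rw [AddMonoidAlgebra.coeff_neg, Finsupp.neg_apply]; exact neg_mem (hp n)
  mul_mem' := fun {p q} hp hq n => by
    rw [AddMonoidAlgebra.coeff_mul_apply_left, Finsupp.sum]
    apply sum_mem
    intro h _
    rcases Int.eq_nat_or_neg h with ⟨i, rfl | rfl⟩
    · have e : (-(i : ℤ) + -(n : ℤ)) = -((i + n : ℕ) : ℤ) := by push_cast; ring
      rw [e]
      exact fil_smul P n _ _ (fil_anti P (by omega) (hq (i + n)))
    · rw [neg_neg]
      by_cases hin : i ≤ n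
      · have e : ((i : ℤ) + -(n : ℤ)) = -((n - i : ℕ) : ℤ) := by
          rw [Nat.cast_sub hin]; ring
        rw [e]
        exact fil_mul P (by omega) (hp i) (hq (n - i))
      · rw [mul_comm]
        exact fil_smul P n _ _ (fil_anti P (by omega) (hp i))

theorem rees_le : rees P ≤ reesBig P := by
  apply Subring.closure_le.2
  rintro p (rfl | ⟨m, x, hx, rfl⟩)
  · intro n
    rw [T_apply, if_neg (by omega)]
    exact zero_mem _
  · intro n
    rw [← single_eq_C_mul_T, AddMonoidAlgebra.coeff_single, Finsupp.single_apply]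
    split_ifs with h
    · have hmn : m = n := by omega
      subst hmn; exact hx
    · exact zero_mem _

theorem coeff_mem_of_mem_rees {p : LaurentPolynomial K} (hp : p ∈ rees P) (n : ℕ) :
    p.coeff (-(n : ℤ)) ∈ gammaFiltration P n := rees_le P hp n

theorem mono_mem {n : ℕ} {x : K} (hx : x ∈ gammaFiltration P n) :
    (C x * T (-(n : ℤ)) : LaurentPolynomial K) ∈ rees P :=
  Subring.subset_closure (Set.mem_insert_of_mem _ ⟨n, x, hx, rfl⟩)

open Classical in
/-- The monomial `x t^{-n}` of the Rees ring (`0` if `x ∉ F^n`). -/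
noncomputable def mono (n : ℕ) (x : K) : rees P :=
  if hx : x ∈ gammaFiltration P n then ⟨C x * T (-(n : ℤ)), mono_mem P hx⟩ else 0

theorem mono_val {n : ℕ} {x : K} (hx : x ∈ gammaFiltration P n) :
    ((mono P n x : rees P) : LaurentPolynomial K) = C x * T (-(n : ℤ)) := by
  unfold mono; rw [dif_pos hx]

theorem mono_add {n : ℕ} {x y : K} (hx : x ∈ gammaFiltration P n)
    (hy : y ∈ gammaFiltration P n) : mono P n (x + y) = mono P n x + mono P n y := by
  apply Subtype.ext
  rw [Subring.coe_add, mono_val P (add_mem hx hy), mono_val P hx, mono_val P hy, map_add, add_mul]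

theorem mono_zero (n : ℕ) : mono P n 0 = 0 := by
  apply Subtype.ext
  rw [mono_val P (zero_mem _), map_zero, zero_mul]; rfl

theorem mono_neg {n : ℕ} {x : K} (hx : x ∈ gammaFiltration P n) :
    mono P n (-x) = -mono P n x := by
  apply Subtype.ext
  rw [Subring.coe_neg, mono_val P (neg_mem hx), mono_val P hx, map_neg, neg_mul]

theorem mono_mul {a b n : ℕ} (h : a + b = n) {x y : K} (hx : x ∈ gammaFiltration P a)
    (hy : y ∈ gammaFiltration P b) : mono P n (x * y) = mono P a x * mono P b y := by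
  apply Subtype.ext
  rw [Subring.coe_mul, mono_val P (fil_mul P h hx hy), mono_val P hx, mono_val P hy, map_mul]
  have e : (-(n : ℤ)) = -(a : ℤ) + -(b : ℤ) := by subst h; push_cast; ring
  rw [e, T_add]
  ring

theorem tGen_val : ((tGen P : rees P) : LaurentPolynomial K) = T 1 := rfl

theorem mono_succ {n : ℕ} {x : K} (hx : x ∈ gammaFiltration P (n + 1)) :
    mono P n x = tGen P * mono P (n + 1) x := by
  apply Subtype.ext
  rw [Subring.coe_mul, mono_val P (fil_anti P (Nat.le_succ n) hx), mono_val P hx, tGen_val]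
  have e : (-(n : ℤ)) = 1 + -((n + 1 : ℕ) : ℤ) := by push_cast; ring
  rw [e, T_add]
  ring

/-- constants in the Rees ring. -/
noncomputable def c0 : K →+* rees P :=
  (C : K →+* LaurentPolynomial K).codRestrict (rees P) (fun x => by
    have h := mono_mem P (mem_fil_zero P x)
    simpa using h)

theorem c0_val (x : K) : ((c0 P x : rees P) : LaurentPolynomial K) = C x := rfl

theorem mono_zero_eq (x : K) : mono P 0 x = c0 P x := by
  apply Subtype.ext
  rw [mono_val P (mem_fil_zero P x), c0_val]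
  simp

/-- the class of `x t^{-n}` in `GrZ`. -/
noncomputable def gz (n : ℕ) (x : K) : GrZ P :=
  Ideal.Quotient.mk (Ideal.span {tGen P}) (mono P n x)

/-- the class of `x ∈ F^n` in degree `n` of `Gr`. -/
noncomputable def gr (n : ℕ) (x : K) : Gr P := (1 : ℚ) ⊗ₜ[ℤ] gz P n x

theorem mk_tGen : Ideal.Quotient.mk (Ideal.span {tGen P}) (tGen P) = 0 :=
  Ideal.Quotient.eq_zero_iff_mem.2 (Ideal.subset_span rfl)

theorem gz_add {n : ℕ} {x y : K} (hx : x ∈ gammaFiltration P n)
    (hy : y ∈ gammaFiltration P n) : gz P n (x + y) = gz P n x + gz P n y := by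
  unfold gz; rw [mono_add P hx hy, map_add]

theorem gz_zero (n : ℕ) : gz P n 0 = 0 := by
  unfold gz; rw [mono_zero, map_zero]

theorem gz_neg {n : ℕ} {x : K} (hx : x ∈ gammaFiltration P n) : gz P n (-x) = -gz P n x := by
  unfold gz; rw [mono_neg P hx, map_neg]

theorem gz_mul {a b n : ℕ} (h : a + b = n) {x y : K} (hx : x ∈ gammaFiltration P a)
    (hy : y ∈ gammaFiltration P b) : gz P n (x * y) = gz P a x * gz P b y := by
  unfold gz; rw [mono_mul P h hx hy, map_mul]

theorem gz_eq_zero {n : ℕ} {x : K} (hx : x ∈ gammaFiltration P (n + 1)) : gz P n x = 0 := by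
  unfold gz; rw [mono_succ P hx, map_mul, mk_tGen, zero_mul]

theorem gr_add {n : ℕ} {x y : K} (hx : x ∈ gammaFiltration P n)
    (hy : y ∈ gammaFiltration P n) : gr P n (x + y) = gr P n x + gr P n y := by
  unfold gr; rw [gz_add P hx hy, TensorProduct.tmul_add]

theorem gr_zero (n : ℕ) : gr P n 0 = 0 := by
  unfold gr; rw [gz_zero, TensorProduct.tmul_zero]

theorem gr_neg {n : ℕ} {x : K} (hx : x ∈ gammaFiltration P n) : gr P n (-x) = -gr P n x := by
  unfold gr; rw [gz_neg P hx, TensorProduct.tmul_neg]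

theorem gr_sub {n : ℕ} {x y : K} (hx : x ∈ gammaFiltration P n)
    (hy : y ∈ gammaFiltration P n) : gr P n (x - y) = gr P n x - gr P n y := by
  rw [sub_eq_add_neg, gr_add P hx (neg_mem hy), gr_neg P hy, ← sub_eq_add_neg]

theorem gr_sum {ι : Type*} (s : Finset ι) (a : ι → K) (n : ℕ)
    (h : ∀ i ∈ s, a i ∈ gammaFiltration P n) :
    gr P n (∑ i ∈ s, a i) = ∑ i ∈ s, gr P n (a i) := by
  classical
  induction s using Finset.induction_on with
  | empty => simp [gr_zero]
  | insert b s hb ih =>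
    rw [Finset.sum_insert hb, Finset.sum_insert hb,
      gr_add P (h b (Finset.mem_insert_self b s))
        (sum_mem fun i hi => h i (Finset.mem_insert_of_mem hi)),
      ih (fun i hi => h i (Finset.mem_insert_of_mem hi))]

theorem gr_mul {a b n : ℕ} (h : a + b = n) {x y : K} (hx : x ∈ gammaFiltration P a)
    (hy : y ∈ gammaFiltration P b) : gr P n (x * y) = gr P a x * gr P b y := by
  unfold gr
  rw [gz_mul P h hx hy, Algebra.TensorProduct.tmul_mul_tmul, mul_one]

theorem gr_eq_zero {n : ℕ} {x : K} (hx : x ∈ gammaFiltration P (n + 1)) : gr P n x = 0 := by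
  unfold gr; rw [gz_eq_zero P hx, TensorProduct.tmul_zero]

/-- the degree zero classes form a ring homomorphism. -/
noncomputable def gr0Hom : K →+* Gr P :=
  (Algebra.TensorProduct.includeRight : GrZ P →ₐ[ℤ] ℚ ⊗[ℤ] GrZ P).toRingHom.comp
    ((Ideal.Quotient.mk (Ideal.span {tGen P})).comp (c0 P))

theorem gr_zero_eq (x : K) : gr P 0 x = gr0Hom P x := by
  unfold gr gz
  rw [mono_zero_eq]
  rfl

theorem gr_smul {n : ℕ} (a : K) {x : K} (hx : x ∈ gammaFiltration P n) :
    gr P n (a * x) = gr0Hom P a * gr P n x := by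
  rw [gr_mul P (zero_add n) (mem_fil_zero P a) hx, gr_zero_eq]

theorem gr_intCast_mul {n : ℕ} (z : ℤ) {x : K} (hx : x ∈ gammaFiltration P n) :
    gr P n ((z : K) * x) = (z : Gr P) * gr P n x := by
  rw [gr_smul P _ hx, map_intCast]

/-- the value of `KGr.grK` on an element of `F^n`. -/
theorem grK_aux {n : ℕ} {x : K} (hx : x ∈ gammaFiltration P n) (N : ℕ) (hN : 1 ≤ N)
    (hmem : (C ((N : K) * x) * T (-(n : ℤ)) : LaurentPolynomial K) ∈ rees P) :
    ((1 : ℚ) / (N : ℚ)) ⊗ₜ[ℤ]
      Ideal.Quotient.mk (Ideal.span {tGen P})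
        (⟨C ((N : K) * x) * T (-(n : ℤ)), hmem⟩ : rees P) = gr P n x := by
  have e : (⟨C ((N : K) * x) * T (-(n : ℤ)), hmem⟩ : rees P) = ((N : ℤ) : rees P) * mono P n x := by
    apply Subtype.ext
    show (C ((N : K) * x) * T (-(n : ℤ)) : LaurentPolynomial K) =
      ((((N : ℤ) : rees P) * mono P n x : rees P) : LaurentPolynomial K)
    rw [Subring.coe_mul, mono_val P hx, Subring.coe_intCast, Int.cast_natCast, map_mul,
      map_natCast, mul_assoc]
  rw [e, map_mul, map_intCast, ← zsmul_eq_mul, ← TensorProduct.smul_tmul]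
  unfold gr gz
  congr 1
  have hN0 : (N : ℚ) ≠ 0 := by
    have : 0 < N := hN
    positivity
  rw [zsmul_eq_mul, Int.cast_natCast, mul_one_div_cancel hN0]

theorem grK_eq {n : ℕ} {x : K} (hx : x ∈ gammaFiltration P n) :
    grK P (n : ℤ) x = gr P n x := by
  have h : ∃ N : ℕ, 1 ≤ N ∧ (C ((N : K) * x) * T (-(n : ℤ)) : LaurentPolynomial K) ∈ rees P :=
    ⟨1, le_refl 1, by simpa using mono_mem P hx⟩
  unfold grK
  rw [dif_pos h]
  exact grK_aux P hx _ h.choose_spec.1 h.choose_spec.2

/-! ### spanning -/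

theorem closure_mul_mem' {R : Type*} [Ring R] {S T : Set R} {U : AddSubgroup R}
    (h : ∀ s ∈ S, ∀ t ∈ T, s * t ∈ U) {a b : R} (ha : a ∈ AddSubgroup.closure S)
    (hb : b ∈ AddSubgroup.closure T) : a * b ∈ U := by
  induction ha using AddSubgroup.closure_induction with
  | mem s hs =>
    induction hb using AddSubgroup.closure_induction with
    | mem t ht => exact h s hs t ht
    | zero => rw [mul_zero]; exact zero_mem _
    | add x y _ _ hx hy => rw [mul_add]; exact add_mem hx hy
    | neg x _ hx => rw [mul_neg]; exact neg_mem hx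
  | zero => rw [zero_mul]; exact zero_mem _
  | add x y _ _ hx hy => rw [add_mul]; exact add_mem hx hy
  | neg x _ hx => rw [neg_mul]; exact neg_mem hx

/-- the classes of monomials. -/
def gzSet : Set (GrZ P) := {z | ∃ (n : ℕ) (x : K), x ∈ gammaFiltration P n ∧ z = gz P n x}

theorem gz_zero_one : gz P 0 1 = 1 := by
  unfold gz
  rw [mono_zero_eq, map_one, map_one]

theorem mk_mem_closure (r : rees P) :
    Ideal.Quotient.mk (Ideal.span {tGen P}) r ∈ AddSubgroup.closure (gzSet P) := by
  obtain ⟨p, hp⟩ := r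
  induction hp using Subring.closure_induction with
  | mem p hp =>
    rcases hp with rfl | ⟨n, x, hx, rfl⟩
    · have : Ideal.Quotient.mk (Ideal.span {tGen P})
          (⟨T 1, Subring.subset_closure (Set.mem_insert _ _)⟩ : rees P) = 0 := mk_tGen P
      rw [this]; exact zero_mem _
    · apply AddSubgroup.subset_closure
      refine ⟨n, x, hx, ?_⟩
      unfold gz
      congr 1
      exact Subtype.ext (mono_val P hx).symm
  | zero =>
    have : (⟨0, Subring.zero_mem _⟩ : rees P) = 0 := rfl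
    rw [this, map_zero]; exact zero_mem _
  | one =>
    have : (⟨1, Subring.one_mem _⟩ : rees P) = 1 := rfl
    rw [this, map_one, ← gz_zero_one P]
    exact AddSubgroup.subset_closure ⟨0, 1, mem_fil_zero P 1, rfl⟩
  | add x y hx hy ihx ihy =>
    have : (⟨x + y, Subring.add_mem _ hx hy⟩ : rees P) = ⟨x, hx⟩ + ⟨y, hy⟩ := rfl
    rw [this, map_add]; exact add_mem ihx ihy
  | neg x hx ihx =>
    have : (⟨-x, Subring.neg_mem _ hx⟩ : rees P) = -⟨x, hx⟩ := rfl
    rw [this, map_neg]; exact neg_mem ihx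
  | mul x y hx hy ihx ihy =>
    have : (⟨x * y, Subring.mul_mem _ hx hy⟩ : rees P) = ⟨x, hx⟩ * ⟨y, hy⟩ := rfl
    rw [this, map_mul]
    refine closure_mul_mem' ?_ ihx ihy
    rintro _ ⟨a, u, hu, rfl⟩ _ ⟨b, w, hw, rfl⟩
    exact AddSubgroup.subset_closure ⟨a + b, u * w, fil_mul P rfl hu hw, (gz_mul P rfl hu hw).symm⟩

/-- the set of homogeneous classes of degree `≥ n`. -/
def grSet (n : ℕ) : Set (Gr P) :=
  {g | ∃ (m : ℕ) (x : K), n ≤ m ∧ x ∈ gammaFiltration P m ∧ g = gr P m x}

/-- the span of the classes of degree `≥ n`. -/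
noncomputable def Hi (n : ℕ) : Submodule ℚ (Gr P) := Submodule.span ℚ (grSet P n)

theorem gr_mem_Hi {n m : ℕ} (h : n ≤ m) {x : K} (hx : x ∈ gammaFiltration P m) :
    gr P m x ∈ Hi P n := Submodule.subset_span ⟨m, x, h, hx, rfl⟩

theorem Hi_anti {n N : ℕ} (h : n ≤ N) : Hi P N ≤ Hi P n := by
  apply Submodule.span_mono
  rintro g ⟨m, x, hm, hx, rfl⟩
  exact ⟨m, x, h.trans hm, hx, rfl⟩

theorem Hi_zero : Hi P 0 = ⊤ := by
  rw [eq_top_iff]
  rintro g -
  induction g using TensorProduct.induction_on with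
  | zero => exact zero_mem _
  | tmul q z =>
    have e : q ⊗ₜ[ℤ] z = q • ((1 : ℚ) ⊗ₜ[ℤ] z) := by
      rw [TensorProduct.smul_tmul', smul_eq_mul, mul_one]
    rw [e]
    apply Submodule.smul_mem
    obtain ⟨r, rfl⟩ := Ideal.Quotient.mk_surjective z
    have hz := mk_mem_closure P r
    generalize Ideal.Quotient.mk (Ideal.span {tGen P}) r = w at hz
    induction hz using AddSubgroup.closure_induction with
    | mem w hw =>
      obtain ⟨n, x, hx, rfl⟩ := hw
      exact gr_mem_Hi P (Nat.zero_le n) hx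
    | zero => rw [TensorProduct.tmul_zero]; exact zero_mem _
    | add a b _ _ ha hb => rw [TensorProduct.tmul_add]; exact add_mem ha hb
    | neg a _ ha => rw [TensorProduct.tmul_neg]; exact neg_mem ha
  | add a b ha hb => exact add_mem ha hb

/-! ### projections -/

/-- the coefficient of `t^{-n}` modulo `F^{n+1}`. -/
noncomputable def coefHom (n : ℕ) : rees P →+ K ⧸ gammaFiltration P (n + 1) where
  toFun r := QuotientAddGroup.mk ((r : LaurentPolynomial K).coeff (-(n : ℤ)))
  map_zero' := by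
    show QuotientAddGroup.mk ((0 : LaurentPolynomial K).coeff (-(n : ℤ))) = _
    rw [AddMonoidAlgebra.coeff_zero, Finsupp.zero_apply]; rfl
  map_add' r s := by
    show QuotientAddGroup.mk (((r : LaurentPolynomial K) + (s : LaurentPolynomial K)).coeff
      (-(n : ℤ))) = _
    rw [AddMonoidAlgebra.coeff_add, Finsupp.add_apply]; rfl

theorem coefHom_apply (n : ℕ) (r : rees P) :
    coefHom P n r = QuotientAddGroup.mk ((r : LaurentPolynomial K).coeff (-(n : ℤ))) := rfl

theorem coefHom_mul_tGen (n : ℕ) (r : rees P) : coefHom P n (r * tGen P) = 0 := by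
  rw [coefHom_apply, Subring.coe_mul, tGen_val]
  unfold T
  rw [AddMonoidAlgebra.coeff_mul_single_apply, mul_one]
  have e : (-(n : ℤ) + -1) = -((n + 1 : ℕ) : ℤ) := by push_cast; ring
  rw [e]
  exact (QuotientAddGroup.eq_zero_iff _).2 (coeff_mem_of_mem_rees P r.2 (n + 1))

theorem ker_le (n : ℕ) :
    ((Ideal.Quotient.mk (Ideal.span {tGen P})) : rees P →+* GrZ P).toAddMonoidHom.ker ≤
      (coefHom P n).ker := by
  intro r hr
  rw [AddMonoidHom.mem_ker] at hr ⊢
  have hr' : Ideal.Quotient.mk (Ideal.span {tGen P}) r = 0 := hr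
  rw [Ideal.Quotient.eq_zero_iff_mem, Ideal.mem_span_singleton'] at hr'
  obtain ⟨a, rfl⟩ := hr'
  exact coefHom_mul_tGen P n a

/-- the induced map on `GrZ`. -/
noncomputable def coefBar (n : ℕ) : GrZ P →+ K ⧸ gammaFiltration P (n + 1) :=
  AddMonoidHom.liftOfRightInverse
    ((Ideal.Quotient.mk (Ideal.span {tGen P})) : rees P →+* GrZ P).toAddMonoidHom
    (Function.surjInv Ideal.Quotient.mk_surjective)
    (Function.rightInverse_surjInv Ideal.Quotient.mk_surjective)
    ⟨coefHom P n, ker_le P n⟩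

theorem coefBar_mk (n : ℕ) (r : rees P) :
    coefBar P n (Ideal.Quotient.mk (Ideal.span {tGen P}) r) = coefHom P n r :=
  AddMonoidHom.liftOfRightInverse_comp_apply
    ((Ideal.Quotient.mk (Ideal.span {tGen P})) : rees P →+* GrZ P).toAddMonoidHom
    (Function.surjInv Ideal.Quotient.mk_surjective)
    (Function.rightInverse_surjInv Ideal.Quotient.mk_surjective)
    ⟨coefHom P n, ker_le P n⟩ r

theorem coefBar_gz (n m : ℕ) {x : K} (hx : x ∈ gammaFiltration P m) :
    coefBar P n (gz P m x) = if m = n then QuotientAddGroup.mk x else 0 := by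
  unfold gz
  rw [coefBar_mk, coefHom_apply, mono_val P hx, ← single_eq_C_mul_T, AddMonoidAlgebra.coeff_single,
    Finsupp.single_apply]
  by_cases h : m = n
  · subst h; rw [if_pos rfl, if_pos rfl]
  · rw [if_neg (by omega), if_neg h]; rfl

/-- the projection onto degree `n`. -/
noncomputable def piN (n : ℕ) : Gr P →ₗ[ℚ] ℚ ⊗[ℤ] (K ⧸ gammaFiltration P (n + 1)) :=
  TensorProduct.AlgebraTensorModule.map (LinearMap.id : ℚ →ₗ[ℚ] ℚ) (coefBar P n).toIntLinearMap

theorem piN_gr (n m : ℕ) {x : K} (hx : x ∈ gammaFiltration P m) :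
    piN P n (gr P m x) =
      if m = n then (1 : ℚ) ⊗ₜ[ℤ] (QuotientAddGroup.mk x : K ⧸ gammaFiltration P (n + 1))
      else 0 := by
  unfold piN gr
  rw [TensorProduct.AlgebraTensorModule.map_tmul, LinearMap.id_apply,
    AddMonoidHom.coe_toIntLinearMap, coefBar_gz P n m hx]
  split_ifs
  · rfl
  · rw [TensorProduct.tmul_zero]

theorem piN_Hi (n : ℕ) {h : Gr P} (hh : h ∈ Hi P (n + 1)) : piN P n h = 0 := by
  have : Hi P (n + 1) ≤ LinearMap.ker (piN P n) := by
    apply Submodule.span_le.2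
    rintro g ⟨m, x, hm, hx, rfl⟩
    rw [SetLike.mem_coe, LinearMap.mem_ker, piN_gr P n m hx, if_neg (by omega)]
  exact LinearMap.mem_ker.1 (this hh)

/-- detection of torsion in `ℚ ⊗ A`. -/
theorem tmul_eq_zero_imp {A : Type*} [AddCommGroup A] (a : A) (h : (1 : ℚ) ⊗ₜ[ℤ] a = 0) :
    ∃ s : ℤ, s ≠ 0 ∧ s • a = 0 := by
  haveI : IsLocalizedModule (nonZeroDivisors ℤ) (TensorProduct.mk ℤ ℚ A 1) :=
    (isLocalizedModule_iff_isBaseChange (nonZeroDivisors ℤ) ℚ _).2
      (TensorProduct.isBaseChange ℤ A ℚ)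
  have h' : TensorProduct.mk ℤ ℚ A 1 a = 0 := h
  obtain ⟨s, hs⟩ :=
    (IsLocalizedModule.eq_zero_iff (nonZeroDivisors ℤ) (TensorProduct.mk ℤ ℚ A 1)).1 h'
  exact ⟨s.1, nonZeroDivisors.ne_zero s.2, hs⟩

/-- if the class of `x ∈ F^n` lies in the span of the classes of higher degree, then a nonzero
multiple of `x` lies in `F^{n+1}`. -/
theorem exists_smul_mem_of_gr_mem_Hi {n : ℕ} {x : K} (hx : x ∈ gammaFiltration P n)
    (h : gr P n x ∈ Hi P (n + 1)) : ∃ s : ℤ, s ≠ 0 ∧ s • x ∈ gammaFiltration P (n + 1) := by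
  have h1 := piN_Hi P n h
  rw [piN_gr P n n hx, if_pos rfl] at h1
  obtain ⟨s, hs0, hs⟩ := tmul_eq_zero_imp _ h1
  refine ⟨s, hs0, ?_⟩
  have : (QuotientAddGroup.mk (s • x) : K ⧸ gammaFiltration P (n + 1)) = 0 := by
    rw [← hs]; rfl
  exact (QuotientAddGroup.eq_zero_iff _).1 this

end Groth.Agent.H43.KG
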