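import Groth.Agent.H43.TQ2Defs
import Groth.Agent.H1.SplitTori.Main

/-!
# The characters killed by a homomorphism to `D(A)` after base change form a subgroup (helper43)
-/

set_option autoImplicit false
universe u
open CategoryTheory Limits MonoidalCategory CartesianMonoidalCategory MonObj GrpObj AlgebraicGeometry

namespace Groth.Agent.H43.TQ2

open Groth.Agent.H1.SplitTori

/-- base change preserves the trivial homomorphism. -/
theorem bc_map_one {X Y : Scheme.{u}} (g : Y ⟶ X) {H B : Over X} [GrpObj B] :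
    (Over.pullback g).map (1 : H ⟶ B) = 1 := by
  rw [Hom.one_def, Hom.one_def, Functor.map_comp, Functor.obj.η_def, ← Category.assoc]
  congr 1
  have : IsIso (Functor.LaxMonoidal.ε (Over.pullback g)) := inferInstance
  rw [← cancel_mono (inv (Functor.LaxMonoidal.ε (Over.pullback g))), Category.assoc,
    IsIso.hom_inv_id, Category.comp_id]
  exact toUnit_unique _ _

/-- transfer of triviality through a group isomorphism on the right. -/
theorem eq_one_of_comp_iso {X : Scheme.{u}} {G B B' : Over X} [GrpObj B] [GrpObj B'] (c : G ⟶ B)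
    (β : B ≅ B') [IsMonHom β.hom] (h : c ≫ β.hom = 1) : c = 1 := by
  have hi : IsMonHom β.inv := inferInstance
  have h1 : c = (c ≫ β.hom) ≫ β.inv := by rw [Category.assoc, Iso.hom_inv_id, Category.comp_id]
  rw [h1, h, MonObj.one_comp]

theorem gmFn_one {S : Scheme.{u}} {T : Over S} : Red.gmFn (1 : T ⟶ Red.Gm S) = 1 := by
  have h : (1 : T ⟶ Red.Gm S) = (1 : T ⟶ Red.Gm S) ≫ Red.chi S (0 : ℤ) := by
    rw [chi_zero, MonObj.comp_one]
  rw [h, gmFn_comp_chi, ev_zero]

theorem eq_one_iff_gmFn {S : Scheme.{u}} {T : Over S} (c : T ⟶ Red.Gm S) :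
    c = 1 ↔ Red.gmFn c = 1 := by
  constructor
  · rintro rfl
    exact gmFn_one
  · intro h
    apply gm_ext
    rw [h, gmFn_one]

theorem comp_chi_eq_one_iff {S : Scheme.{u}} {T : Over S} {A : Type} [AddCommGroup A]
    (m : T ⟶ Red.DS S A) (a : A) : m ≫ Red.chi S a = 1 ↔ ev m a = 1 := by
  rw [eq_one_iff_gmFn, gmFn_comp_chi]

/-- (T2-CK) -/
theorem exists_charKer {X Y : Scheme.{u}} (g : Y ⟶ X) {H : Over X} [GrpObj H] {A : Type}
    [AddCommGroup A] (i' : H ⟶ Red.DS X A) [IsMonHom i'] :
    ∃ N : AddSubgroup A, ∀ a : A, a ∈ N ↔ (Over.pullback g).map (i' ≫ Red.chi X a) = 1 := by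
  obtain ⟨m, hm⟩ : ∃ m : Red.bc g H ⟶ Red.DS Y A,
      m = (Over.pullback g).map i' ≫ (JD g A).hom := ⟨_, rfl⟩
  have key : ∀ a : A, (Over.pullback g).map (i' ≫ Red.chi X a) = 1 ↔ ev m a = 1 := by
    intro a
    rw [← comp_chi_eq_one_iff]
    have e : (Over.pullback g).map (i' ≫ Red.chi X a) ≫ (JD g ℤ).hom = m ≫ Red.chi Y a := by
      rw [hm, Functor.map_comp, Category.assoc, JD_chi, Category.assoc]
    constructor
    · intro h
      rw [← e, h, MonObj.one_comp]
    · intro h
      rw [← e] at h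
      have hi : IsMonHom (JD g ℤ).inv := inferInstance
      have h1 : (Over.pullback g).map (i' ≫ Red.chi X a) =
          ((Over.pullback g).map (i' ≫ Red.chi X a) ≫ (JD g ℤ).hom) ≫ (JD g ℤ).inv := by
        rw [Category.assoc, Iso.hom_inv_id, Category.comp_id]
      rw [h1, h, MonObj.one_comp]
  refine ⟨{ carrier := {a | ev m a = 1}
            add_mem' := ?_
            zero_mem' := ?_
            neg_mem' := ?_ }, ?_⟩
  · intro a b ha hb
    simp only [Set.mem_ofPred_eq] at ha hb ⊢
    rw [ev_add, ha, hb, _root_.one_mul]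
  · simp only [Set.mem_ofPred_eq]
    exact ev_zero m
  · intro a ha
    simp only [Set.mem_ofPred_eq] at ha ⊢
    have h := ev_add m a (-a)
    rw [add_neg_cancel, ev_zero, ha, _root_.one_mul] at h
    exact h.symm
  · intro a
    rw [key a]
    rfl

end Groth.Agent.H43.TQ2
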