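import Groth.Agent.H43.TQ2Rigid
import Groth.Agent.H1.HomDiag.Crit

/-!
# Subgroups of multiplicative type of a diagonalisable group over a connected base (helper43)
-/

set_option autoImplicit false
universe u
open CategoryTheory Limits MonoidalCategory CartesianMonoidalCategory MonObj GrpObj AlgebraicGeometry

namespace Groth.Agent.H43.TQ2

open Groth.Agent.H43.TQ Groth.Agent.H43.MT

theorem isMonHom_of_comp_mono' {S : Scheme.{u}} {T T' G : Over S} [GrpObj T] [GrpObj T'] [GrpObj G]
    (g : T ⟶ T') (j' : T' ⟶ G) [IsMonHom j'] [Mono j'] (h : IsMonHom (g ≫ j')) : IsMonHom g where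
  one_hom := by
    rw [← cancel_mono j', Category.assoc, h.one_hom, IsMonHom.one_hom]
  mul_hom := by
    rw [← cancel_mono j', Category.assoc, h.mul_hom, Category.assoc, IsMonHom.mul_hom,
      ← Category.assoc, ← tensorHom_comp_tensorHom, Category.assoc]

theorem fg_int : AddGroup.FG ℤ := by
  have : Module.Finite ℤ ℤ := inferInstance
  exact Module.Finite.iff_addGroup_fg.mp this

/-- a homomorphism into `D(N)` all of whose characters are trivial is trivial. -/
theorem eq_one_of_chi {X : Scheme.{u}} {G : Over X} [GrpObj G] {N : Type} [AddCommGroup N]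
    (u : G ⟶ Red.DS X N) (h : ∀ n : N, u ≫ Red.chi X n = 1) : u = 1 := by
  apply Groth.Agent.H1.SplitTori.hom_ext_chi
  intro n
  have hc : IsMonHom (Red.chi X n) := Groth.Agent.H91.KummerKer.chi_isMonHom X n
  rw [h n, MonObj.one_comp]

/-- over an open subscheme which is everything, triviality descends. -/
theorem isIso_top_ι (S : Scheme.{u}) : IsIso (⊤ : S.Opens).ι := by
  rw [← Scheme.topIso_hom]; infer_instance

theorem eq_one_of_bc_top {S : Scheme.{u}} {H B : Over S} [GrpObj B] (c : H ⟶ B)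
    (h : (Over.pullback (⊤ : S.Opens).ι).map c = 1) : c = 1 := by
  have := isIso_top_ι S
  have : Surjective (⊤ : S.Opens).ι := inferInstance
  have : QuasiCompact (⊤ : S.Opens).ι := inferInstance
  apply (Over.pullback (⊤ : S.Opens).ι).map_injective
  rw [h, bc_map_one]

/-- Over a connected base, a subgroup of multiplicative type of `D_S(A)` is `D_S(A/N)`. -/
theorem exists_diag_of_connected {S : Scheme.{u}} [ConnectedSpace S] {H : Over S} [GrpObj H]
    (hH : SGA3x.IsMultTypeFT H) {A : Type} [AddCommGroup A] (hA : AddGroup.FG A)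
    (i' : H ⟶ Red.DS S A) [IsMonHom i'] [Mono i'] :
    ∃ (N : AddSubgroup A) (α : H ≅ Red.DS S (A ⧸ N)),
      i' = α.hom ≫ Red.DSmap S (QuotientAddGroup.mk' N) := by
  obtain ⟨s₀⟩ := (inferInstance : Nonempty S)
  obtain ⟨x₀, hx₀⟩ : ∃ x₀ : Spec (S.residueField s₀) ⟶ S, x₀ = S.fromSpecResidueField s₀ :=
    ⟨_, rfl⟩
  obtain ⟨N, hN⟩ := exists_charKer (S.fromSpecResidueField s₀) i'
  have hclopen_top : ∀ U : S.Opens, IsClosed (U : Set S) → s₀ ∈ U → U = ⊤ := by
    intro U hU hs
    have hc : IsClopen (U : Set S) := ⟨hU, U.2⟩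
    have h1 : (U : Set S) = Set.univ := hc.eq_univ ⟨s₀, hs⟩
    ext x
    simp [h1]
  -- step 2
  have h2 : ∀ a ∈ N, i' ≫ Red.chi S a = 1 := by
    intro a ha
    have hc : IsMonHom (Red.chi S a) := Groth.Agent.H91.KummerKer.chi_isMonHom S a
    obtain ⟨U, hUc, hUiff, hU1⟩ :=
      rigid_trivial hH (isMultTypeFT_DS S ℤ fg_int) (i' ≫ Red.chi S a)
    have hs₀ : s₀ ∈ U := (hUiff s₀).2 ((hN a).1 ha)
    have hU : U = ⊤ := hclopen_top U hUc hs₀
    rw [hU] at hU1
    exact eq_one_of_bc_top _ hU1
  -- step 4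
  have hu : i' ≫ Red.DSmap S N.subtype = 1 := by
    apply eq_one_of_chi
    intro n
    rw [Category.assoc, ← chi_map]
    exact h2 _ n.2
  -- step 5
  have hπs : Function.Surjective (QuotientAddGroup.mk' N) := QuotientAddGroup.mk'_surjective N
  have hk : AlgGrp.IsKernel (Red.DSmap S (QuotientAddGroup.mk' N)) (Red.DSmap S N.subtype) :=
    isKernel_DSmap S N.subtype (QuotientAddGroup.mk' N) hπs (fun a => by
      rw [AddSubgroup.range_subtype]
      exact QuotientAddGroup.eq_zero_iff a)
  obtain ⟨i'', hi''⟩ : ∃ i'' : H ⟶ Red.DS S (A ⧸ N),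
      i'' ≫ Red.DSmap S (QuotientAddGroup.mk' N) = i' :=
    ⟨hk.lift i' (toUnit H) (by rw [hu, Hom.one_def]), hk.lift_fst _ _ _⟩
  have hπm : IsMonHom (Red.DSmap S (QuotientAddGroup.mk' N)) :=
    Groth.Agent.H91.KummerKer.dsMap_isMonHom S _
  have hπmono : Mono (Red.DSmap S (QuotientAddGroup.mk' N)) := by
    have := Groth.Agent.H1.HomDiag.mono_of_surjective S (QuotientAddGroup.mk' N) hπs
    exact Over.mono_of_mono_left _
  have hi''m : IsMonHom i'' := by
    apply isMonHom_of_comp_mono' i'' (Red.DSmap S (QuotientAddGroup.mk' N))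
    rw [hi'']
    infer_instance
  have hi''mono : Mono i'' := by
    have : Mono (i'' ≫ Red.DSmap S (QuotientAddGroup.mk' N)) := by rw [hi'']; infer_instance
    exact mono_of_mono i'' (Red.DSmap S (QuotientAddGroup.mk' N))
  -- step 7
  have hQfg : AddGroup.FG (A ⧸ N) := by
    have := hA
    exact AddGroup.fg_of_surjective (f := QuotientAddGroup.mk' N) hπs
  obtain ⟨U₂, hU₂c, hU₂iff, hU₂⟩ := locus (MorphismProperty.isomorphisms Scheme.{u})
    (fun {N M} _ _ φ => Function.Bijective φ)
    (fun X {N M} _ _ φ h => Groth.Agent.H1.HomDiag.isIso_of_bijective X φ h)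
    (fun X _ {N M} _ _ φ h => Groth.Agent.H1.HomDiag.bijective_of_isIso X φ h)
    H (Red.DS S (A ⧸ N)) hH (isMultTypeFT_DS S (A ⧸ N) hQfg) i''
  have hs₀ : s₀ ∈ U₂ := by
    rw [hU₂iff s₀]
    obtain ⟨m, hm⟩ : ∃ m : Red.bc (S.fromSpecResidueField s₀) H ⟶
        Red.DS (Spec (S.residueField s₀)) (A ⧸ N),
        m = (Over.pullback (S.fromSpecResidueField s₀)).map i'' ≫
          (JD (S.fromSpecResidueField s₀) (A ⧸ N)).hom := ⟨_, rfl⟩
    have hmm : IsMonHom m := by rw [hm]; infer_instance
    have hmmono : Mono m := by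
      have : (Over.pullback (S.fromSpecResidueField s₀)).IsRightAdjoint :=
        (Over.mapPullbackAdj (S.fromSpecResidueField s₀)).isRightAdjoint
      have : Mono ((Over.pullback (S.fromSpecResidueField s₀)).map i'') := inferInstance
      rw [hm]
      infer_instance
    have hinj : ∀ b : A ⧸ N, m ≫ Red.chi _ b = 1 → b = 0 := by
      intro b hb
      obtain ⟨a, rfl⟩ := hπs b
      have e1 : m ≫ Red.chi _ (QuotientAddGroup.mk' N a) =
          (Over.pullback (S.fromSpecResidueField s₀)).map (i' ≫ Red.chi S a) ≫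
            (JD (S.fromSpecResidueField s₀) ℤ).hom := by
        rw [chi_map, hm, Category.assoc, ← Category.assoc (JD _ _).hom, ← JD_dsmap,
          Category.assoc, ← JD_chi, ← Category.assoc, ← Category.assoc, ← Functor.map_comp,
          ← Functor.map_comp, hi'']
      rw [e1] at hb
      have h3 := eq_one_of_comp_iso _ _ hb
      have ha : a ∈ N := (hN a).2 h3
      exact (QuotientAddGroup.eq_zero_iff a).2 ha
    have hiso : IsIso m := isIso_of_chars_injective hH s₀ hQfg m hinj
    have h4 : IsIso ((Over.pullback (S.fromSpecResidueField s₀)).map i'') := by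
      rw [hm] at hiso
      exact IsIso.of_isIso_comp_right _ (JD (S.fromSpecResidueField s₀) (A ⧸ N)).hom
    exact (Over.forget _).map_isIso ((Over.pullback (S.fromSpecResidueField s₀)).map i'')
  have hU₂top : U₂ = ⊤ := hclopen_top U₂ hU₂c hs₀
  rw [hU₂top] at hU₂
  have := isIso_top_ι S
  have : Surjective (⊤ : S.Opens).ι := inferInstance
  have : QuasiCompact (⊤ : S.Opens).ι := inferInstance
  have h5 : IsIso i''.left :=
    desc_bc (MorphismProperty.isomorphisms Scheme.{u}) (⊤ : S.Opens).ι i'' hU₂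
  have h6 : IsIso ((Over.forget S).map i'') := h5
  have h7 : IsIso i'' := isIso_of_reflects_iso i'' (Over.forget S)
  exact ⟨N, asIso i'', hi''.symm⟩

end Groth.Agent.H43.TQ2
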