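import Groth.Agent.H43.TQ2Defs

/-!
# `D_X(M)` is of multiplicative type (helper43)
-/

set_option autoImplicit false
universe u
open CategoryTheory Limits MonoidalCategory CartesianMonoidalCategory MonObj GrpObj AlgebraicGeometry

namespace Groth.Agent.H43.TQ2

/-- (T2-DSMT) a diagonalisable group of finite type is of multiplicative type. -/
theorem isMultTypeFT_DS (X : Scheme.{u}) (M : Type) [AddCommGroup M] (hM : AddGroup.FG M) :
    SGA3x.IsMultTypeFT (Red.DS X M) := by
  refine ⟨X, 𝟙 X, inferInstance, inferInstance, ?_, ?_⟩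
  · intro V hV
    refine ⟨V, hV.isCompact, ?_⟩
    simp
  · intro s'
    refine ⟨⊤, trivial, M, inferInstance, hM, ⟨?_⟩⟩
    exact Grp.mkIso' (JD ((⊤ : X.Opens).ι ≫ 𝟙 X) M)

end Groth.Agent.H43.TQ2
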