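import Groth.Agent.H43.MTMain
import Groth.Agent.H43.MTLocSplit
import Groth.Agent.H26.QcCover
import Groth.Agent.H40.FlatDesc2

/-! The clopen-locus theorem for homomorphisms of groups of multiplicative type and of finite type,
for a general property `P`. Helper43. -/

set_option autoImplicit false
universe u
open CategoryTheory Limits AlgebraicGeometry MorphismProperty MonObj

namespace Groth.Agent.H43.MT

set_option backward.isDefEq.respectTransparency.types false in
instance mono_descendsAlong :
    (monomorphisms Scheme.{u}).DescendsAlong (@Surjective ⊓ @Flat ⊓ @QuasiCompact) :=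
  diagonal_isomorphisms (C := Scheme.{u}) ▸ inferInstance

set_option backward.isDefEq.respectTransparency.types false in
instance ff_stable :
    (@Flat ⊓ @Surjective : MorphismProperty Scheme.{u}).IsStableUnderBaseChange := inferInstance

set_option backward.isDefEq.respectTransparency.types false in
instance ff_desc : (@Flat ⊓ @Surjective : MorphismProperty Scheme.{u}).DescendsAlong
    (@Surjective ⊓ @Flat ⊓ @QuasiCompact) := inferInstance

set_option backward.isDefEq.respectTransparency.types false in
instance ff_local : IsZariskiLocalAtTarget (@Flat ⊓ @Surjective : MorphismProperty Scheme.{u}) :=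
  inferInstance

theorem locus (P : MorphismProperty Scheme.{u}) [P.IsStableUnderBaseChange]
    [P.DescendsAlong (@Surjective ⊓ @Flat ⊓ @QuasiCompact)] [IsZariskiLocalAtTarget P]
    (Palg : ∀ {N M : Type} [AddCommGroup N] [AddCommGroup M], (N →+ M) → Prop)
    (ofAlg : ∀ (X : Scheme.{u}) {N M : Type} [AddCommGroup N] [AddCommGroup M] (φ : N →+ M),
      Palg φ → P (Red.DSmap X φ).left)
    (toAlg : ∀ (X : Scheme.{u}) [Nonempty X] {N M : Type} [AddCommGroup N] [AddCommGroup M]
      (φ : N →+ M), P (Red.DSmap X φ).left → Palg φ)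
    {S : Scheme.{u}} (G H : Over S) [GrpObj G] [GrpObj H]
    (hG : SGA3x.IsMultTypeFT G) (hH : SGA3x.IsMultTypeFT H) (u : G ⟶ H) [IsMonHom u] :
    ∃ U : S.Opens, IsClosed (U : Set S) ∧
      (∀ s : S, s ∈ U ↔ P ((Over.pullback (S.fromSpecResidueField s)).map u).left) ∧
      P ((Over.pullback U.ι).map u).left := by
  obtain ⟨S₁, f₁, hf₁, -, h₁, hG'⟩ := hG
  obtain ⟨S₂, f₂, hf₂, -, h₂, hH'⟩ := hH
  have := hf₁
  have := hf₂
  exact main P Palg ofAlg toAlg u (pullback.fst f₁ f₂ ≫ f₁)
    (fun Z hZ => Groth.Agent.H26.QcCover.isOpen_of_preimage f₁ f₂ h₁ h₂ Z hZ)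
    (fun V hV => Groth.Agent.H26.QcCover.exists_qc_cover f₁ f₂ h₁ h₂ V hV)
    (fun w => locSplit G H u f₁ f₂ hG' hH' w)

end Groth.Agent.H43.MT
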