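import Groth.Agent.H43.TQClassify
import Groth.Agent.H43.MTInst
import Groth.Agent.H27.DiagHom
import Groth.Agent.H91.KummerKer

/-! Canonical base-change isomorphisms of `D_X(M)` and their compatibility with `D(φ)` and characters
(helper43; definitions for the S16617/S16616 squad). -/

set_option autoImplicit false
universe u
open CategoryTheory Limits MonoidalCategory CartesianMonoidalCategory MonObj GrpObj AlgebraicGeometry

namespace Groth.Agent.H43.TQ2

open Groth.Agent.H37.ChowFormal (JIso J_naturality J_isMonHom)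

/-- the canonical isomorphism `(D_X(M))_Y ≅ D_Y(M)` for `g : Y ⟶ X`. -/
noncomputable def JD {X Y : Scheme.{u}} (g : Y ⟶ X) (M : Type) [AddCommGroup M] :
    Red.bc g (Red.DS X M) ≅ Red.DS Y M :=
  JIso g (Limits.IsTerminal.from specULiftZIsTerminal X)
    (Limits.IsTerminal.from specULiftZIsTerminal Y) (specULiftZIsTerminal.hom_ext _ _)
    (Red.diag (ULift.{u} ℤ) M)

instance {X Y : Scheme.{u}} (g : Y ⟶ X) (M : Type) [AddCommGroup M] : IsMonHom (JD g M).hom :=
  J_isMonHom g _ _ (specULiftZIsTerminal.hom_ext _ _) (Red.diag (ULift.{u} ℤ) M)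

instance {X Y : Scheme.{u}} (g : Y ⟶ X) (M : Type) [AddCommGroup M] : IsMonHom (JD g M).inv :=
  inferInstance

/-- `D(φ)` commutes with base change (through the canonical isomorphisms). -/
theorem JD_dsmap {X Y : Scheme.{u}} (g : Y ⟶ X) {M N : Type} [AddCommGroup M] [AddCommGroup N]
    (φ : M →+ N) :
    (Over.pullback g).map (Red.DSmap X φ) ≫ (JD g M).hom = (JD g N).hom ≫ Red.DSmap Y φ :=
  (J_naturality g _ _ (specULiftZIsTerminal.hom_ext _ _) (Red.diagMap (ULift.{u} ℤ) φ)).symm

/-- characters commute with base change. -/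
theorem JD_chi {X Y : Scheme.{u}} (g : Y ⟶ X) {A : Type} [AddCommGroup A] (a : A) :
    (Over.pullback g).map (Red.chi X a) ≫ (JD g ℤ).hom = (JD g A).hom ≫ Red.chi Y a :=
  JD_dsmap g _

/-- `χ_{φ a} = D(φ) ≫ χ_a`. -/
theorem chi_map (X : Scheme.{u}) {A B : Type} [AddCommGroup A] [AddCommGroup B] (φ : A →+ B) (a : A) :
    Red.chi X (φ a) = Red.DSmap X φ ≫ Red.chi X a := by
  unfold Red.chi
  rw [← Groth.Agent.H27.DiagHom.DSmap_comp]
  congr 1
  ext
  simp

end Groth.Agent.H43.TQ2
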