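import Groth.Agent.H43.TQ2CK
import Groth.Agent.H43.MTLocSplit
import Groth.Agent.H1.HomDiag.MonoTorus
import Groth.Agent.H1.HomDiag.Crit

/-!
# A subgroup of multiplicative type of `D(B)` over a field separating the characters is everything
(helper43)
-/

set_option autoImplicit false
universe u
open CategoryTheory Limits MonoidalCategory CartesianMonoidalCategory MonObj GrpObj AlgebraicGeometry

namespace Groth.Agent.H43.TQ2

open Groth.Agent.H43.MT
open Groth.Agent.H37.ChowFormal (JIso J_isMonHom)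

theorem bc_chi_eq_one {X Y : Scheme.{u}} (g' : Y ⟶ X) {H : Over X} {B : Type} [AddCommGroup B]
    (m : H ⟶ Red.DS X B) (b : B) {A : Over Y} (θ : A ≅ (Over.pullback g').obj H)
    (v : A ⟶ Red.DS Y B) (hv : v = θ.hom ≫ (Over.pullback g').map m ≫ (JD g' B).hom)
    (h1 : v ≫ Red.chi Y b = 1) : (Over.pullback g').map (m ≫ Red.chi X b) = 1 := by
  have h3 : v ≫ Red.chi Y b = θ.hom ≫
      ((Over.pullback g').map (m ≫ Red.chi X b) ≫ (JD g' ℤ).hom) := by
    rw [hv, Functor.map_comp, Category.assoc, Category.assoc, Category.assoc, JD_chi]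
  rw [h3] at h1
  have h4 : (Over.pullback g').map (m ≫ Red.chi X b) ≫ (JD g' ℤ).hom =
      θ.inv ≫ (θ.hom ≫ ((Over.pullback g').map (m ≫ Red.chi X b) ≫ (JD g' ℤ).hom)) := by
    rw [Iso.inv_hom_id_assoc]
  have h2 : (Over.pullback g').map (m ≫ Red.chi X b) ≫ (JD g' ℤ).hom = 1 := by
    rw [h4, h1, MonObj.comp_one]
  exact eq_one_of_comp_iso _ _ h2

theorem eq_DSmap_resField (U : Scheme.{u}) (x' : U) {M N : Type} [AddCommGroup M] [AddCommGroup N]
    (hN : AddGroup.FG N)
    (v : Red.DS (Spec (U.residueField x')) M ⟶ Red.DS (Spec (U.residueField x')) N) [IsMonHom v] :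
    ∃ φ : N →+ M, v = Red.DSmap (Spec (U.residueField x')) φ :=
  Groth.Agent.H1.HomDiag.eq_DSmap_of_field (U.residueField x') hN v

theorem isIso_of_chars_injective_gen {X Y : Scheme.{u}} (g' : Y ⟶ X) [Flat g'] [Surjective g']
    [QuasiCompact g'] [Nonempty Y] {H : Over X} [GrpObj H] {M' B : Type} [AddCommGroup M']
    [AddCommGroup B] (θ : Red.DS Y M' ≅ (Over.pullback g').obj H) (hθ : IsMonHom θ.hom)
    (hfield : ∀ v : Red.DS Y M' ⟶ Red.DS Y B, IsMonHom v → ∃ φ : B →+ M', v = Red.DSmap Y φ)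
    (m : H ⟶ Red.DS X B) [IsMonHom m] [Mono m]
    (hinj : ∀ b : B, m ≫ Red.chi X b = 1 → b = 0) : IsIso m := by
  have hθ' : IsMonHom θ.inv := inferInstance
  have hbm : IsMonHom ((Over.pullback g').map m) := inferInstance
  obtain ⟨v, hv⟩ : ∃ v : Red.DS Y M' ⟶ Red.DS Y B,
      v = θ.hom ≫ (Over.pullback g').map m ≫ (JD g' B).hom := ⟨_, rfl⟩
  have hvm : IsMonHom v := by rw [hv]; infer_instance
  have hvmono : Mono v := by
    have : (Over.pullback g').IsRightAdjoint := (Over.mapPullbackAdj g').isRightAdjoint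
    have : Mono ((Over.pullback g').map m) := inferInstance
    rw [hv]
    infer_instance
  obtain ⟨φ, hφ⟩ := hfield v hvm
  have hsurj : Function.Surjective φ := by
    apply Groth.Agent.H1.HomDiag.surjective_of_mono Y φ
    rw [← hφ]
    infer_instance
  have hinjφ : Function.Injective φ := by
    rw [injective_iff_map_eq_zero]
    intro b hb
    apply hinj
    have h1 : v ≫ Red.chi _ b = 1 := by
      rw [hφ, ← chi_map, hb, Groth.Agent.H1.SplitTori.chi_zero]
    have h5 := bc_chi_eq_one g' m b θ v hv h1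
    apply (Over.pullback g').map_injective
    rw [h5, bc_map_one]
  have h6 : IsIso (Red.DSmap Y φ).left :=
    Groth.Agent.H1.HomDiag.isIso_of_bijective _ φ ⟨hinjφ, hsurj⟩
  have h7 : IsIso v := by
    rw [hφ]
    have : IsIso ((Over.forget _).map (Red.DSmap Y φ)) := h6
    exact isIso_of_reflects_iso _ (Over.forget _)
  have h8 : IsIso ((Over.pullback g').map m) := by
    have e1 : (Over.pullback g').map m = θ.inv ≫ v ≫ (JD g' B).inv := by
      rw [hv, Category.assoc, Category.assoc, Iso.hom_inv_id, Category.comp_id,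
        Iso.inv_hom_id_assoc]
    rw [e1]
    infer_instance
  have h9 : IsIso ((Over.pullback g').map m).left :=
    (Over.forget _).map_isIso ((Over.pullback g').map m)
  have h10 : IsIso m.left := desc_bc (MorphismProperty.isomorphisms Scheme.{u}) g' m h9
  have h11 : IsIso ((Over.forget _).map m) := h10
  exact isIso_of_reflects_iso m (Over.forget _)

theorem isIso_of_chars_injective_aux {S U : Scheme.{u}} (g : U ⟶ S) {H : Over S} [GrpObj H]
    {M' : Type} [AddCommGroup M'] (e : Grp.mk (Red.bc g H) ≅ Grp.mk (Red.DS U M')) (x' : U)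
    (s : S) (hs : g.base x' = s) {B : Type} [AddCommGroup B] (hB : AddGroup.FG B)
    (m : Red.bc (S.fromSpecResidueField s) H ⟶ Red.DS (Spec (S.residueField s)) B) [IsMonHom m]
    [Mono m] (hinj : ∀ b : B, m ≫ Red.chi _ b = 1 → b = 0) : IsIso m := by
  subst hs
  have hcomm : Spec.map (g.residueFieldMap x') ≫ S.fromSpecResidueField (g.base x') =
      U.fromSpecResidueField x' ≫ g := Scheme.Hom.SpecMap_residueFieldMap_fromSpecResidueField g x'
  obtain ⟨hfl, hsu, hqc⟩ := field_map_props (Field.toIsField _) (Field.toIsField _)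
    (g.residueFieldMap x')
  obtain ⟨g', hg'⟩ : ∃ g' : Spec (U.residueField x') ⟶ Spec (S.residueField (g.base x')),
      g' = Spec.map (g.residueFieldMap x') := ⟨_, rfl⟩
  rw [← hg'] at hcomm hfl hsu hqc
  obtain ⟨θ, hθ⟩ : ∃ θ : Red.DS (Spec (U.residueField x')) M' ≅
      (Over.pullback g').obj (Red.bc (S.fromSpecResidueField (g.base x')) H), IsMonHom θ.hom := by
    obtain ⟨α, hα, hα'⟩ := split_bc H g M' e (U.fromSpecResidueField x')
      (U.fromSpecResidueField x' ≫ g) rfl
    have hε : IsMonHom (JIso g' _ _ hcomm H).hom := J_isMonHom g' _ _ hcomm H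
    have hε' : IsMonHom (JIso g' _ _ hcomm H).inv := inferInstance
    refine ⟨α.symm ≪≫ (JIso g' _ _ hcomm H).symm, ?_⟩
    show IsMonHom (α.inv ≫ (JIso g' _ _ hcomm H).inv)
    infer_instance
  have hne : Nonempty ↥(Spec (U.residueField x')) := inferInstance
  exact isIso_of_chars_injective_gen g' θ hθ (fun v hv => eq_DSmap_resField U x' hB v) m hinj

/-- (T2-FLD) -/
theorem isIso_of_chars_injective {S : Scheme.{u}} {H : Over S} [GrpObj H]
    (hH : SGA3x.IsMultTypeFT H) (s : S) {B : Type} [AddCommGroup B] (hB : AddGroup.FG B)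
    (m : Red.bc (S.fromSpecResidueField s) H ⟶ Red.DS (Spec (S.residueField s)) B) [IsMonHom m]
    [Mono m] (hinj : ∀ b : B, m ≫ Red.chi _ b = 1 → b = 0) : IsIso m := by
  obtain ⟨S', f, hfl, hsu, -, hch⟩ := hH
  obtain ⟨s', hs'⟩ := f.surjective s
  obtain ⟨U, hsU, M', iM', -, ⟨e⟩⟩ := hch s'
  exact isIso_of_chars_injective_aux (U.ι ≫ f) e ⟨s', hsU⟩ s hs' hB m hinj

end Groth.Agent.H43.TQ2
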