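import Groth.Agent.H43.TQ2Defs
import Groth.Agent.H43.MTLocSplit
import Groth.Agent.H43.TQKer
import Groth.Agent.H1.SplitTori.Basic
import Groth.Agent.H1.HomDiag.MonoTorus
import Groth.Agent.H43.TQ2LSG
import Groth.Agent.H43.TQ2DSMT
import Groth.Agent.H43.TQ2CK
import Groth.Agent.H43.TQ2FLD
import Groth.Agent.H2.T2_KT
import Groth.Agent.H2.T2_KI
import Groth.Agent.H91.KerTorsor

/-!
# Rigidity of trivial homomorphisms between groups of multiplicative type (helper43)
The locus where a homomorphism `c : H ⟶ B` of groups of multiplicative type is fibrewise trivial is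
open and closed, and `c` is trivial over it.  Proof: apply the generic clopen-locus theorem
`MT.main` with `P = isomorphisms` to the kernel arrow of `c`.
-/

set_option autoImplicit false
universe u
open CategoryTheory Limits MonoidalCategory CartesianMonoidalCategory MonObj GrpObj AlgebraicGeometry

namespace Groth.Agent.H43.TQ2

open Groth.Agent.H2.T2_KT Groth.Agent.H2.T2_KI
open Groth.Agent.H43.TQ Groth.Agent.H43.MT

theorem exists_kernel {S : Scheme.{u}} {H B : Over S} [GrpObj B] (c : H ⟶ B) :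
    ∃ (E : Over S) (e : E ⟶ H), AlgGrp.IsKernel e c := by
  refine ⟨pullback c η[B], pullback.fst c η[B], ?_⟩
  have h := IsPullback.of_hasPullback c η[B]
  have h1 : pullback.snd c η[B] = toUnit _ := toUnit_unique _ _
  unfold AlgGrp.IsKernel
  rw [← h1]
  exact h

theorem rigid_trivial {S : Scheme.{u}} {H B : Over S} [GrpObj H] [GrpObj B]
    (hH : SGA3x.IsMultTypeFT H) (hB : SGA3x.IsMultTypeFT B) (c : H ⟶ B) [IsMonHom c] :
    ∃ U : S.Opens, IsClosed (U : Set S) ∧
      (∀ s : S, s ∈ U ↔ (Over.pullback (S.fromSpecResidueField s)).map c = 1) ∧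
      (Over.pullback U.ι).map c = 1 := by
  obtain ⟨E, e, he⟩ := exists_kernel c
  obtain ⟨S₁, f₁, hf₁, -, h₁, hH'⟩ := hH
  obtain ⟨S₂, f₂, hf₂, -, h₂, hB'⟩ := hB
  have := hf₁
  have := hf₂
  have hloc : ∀ w : ↥(pullback f₁ f₂), ∃ (X : Scheme.{u}) (j : X ⟶ pullback f₁ f₂),
      IsOpenImmersion j ∧ w ∈ Set.range j.base ∧
      ∃ (N M : Type) (_ : AddCommGroup N) (_ : AddCommGroup M) (φ : N →+ M),
        Sim ((Over.pullback (j ≫ pullback.fst f₁ f₂ ≫ f₁)).map e) (Red.DSmap X φ) := by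
    intro w
    obtain ⟨X, j, hj, hw, N, M, iN, iM, φ, hs⟩ := locSplitG H B c f₁ f₂ hH' hB' w
    refine ⟨X, j, hj, hw, M, M ⧸ φ.range, inferInstance, inferInstance,
      QuotientAddGroup.mk' φ.range, ?_⟩
    have hk1 : AlgGrp.IsKernel ((Over.pullback (j ≫ pullback.fst f₁ f₂ ≫ f₁)).map e)
        ((Over.pullback (j ≫ pullback.fst f₁ f₂ ≫ f₁)).map c) :=
      Groth.Agent.H91.KerTorsor.isKernel_bc _ _ _ he
    have hk2 : AlgGrp.IsKernel (Red.DSmap X (QuotientAddGroup.mk' φ.range)) (Red.DSmap X φ) :=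
      isKernel_DSmap X φ (QuotientAddGroup.mk' φ.range) (QuotientAddGroup.mk'_surjective _)
        (fun a => QuotientAddGroup.eq_zero_iff a)
    exact sim_of_isKernel hs hk1 hk2
  obtain ⟨U, hUc, hUiff, hU⟩ := main (MorphismProperty.isomorphisms Scheme.{u})
    (fun {N M} _ _ φ => Function.Bijective φ)
    (fun X {N M} _ _ φ h => Groth.Agent.H1.HomDiag.isIso_of_bijective X φ h)
    (fun X _ {N M} _ _ φ h => Groth.Agent.H1.HomDiag.bijective_of_isIso X φ h)
    e (pullback.fst f₁ f₂ ≫ f₁)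
    (fun Z hZ => Groth.Agent.H26.QcCover.isOpen_of_preimage f₁ f₂ h₁ h₂ Z hZ)
    (fun V hV => Groth.Agent.H26.QcCover.exists_qc_cover f₁ f₂ h₁ h₂ V hV)
    hloc
  refine ⟨U, hUc, fun s => ?_, ?_⟩
  · rw [hUiff s]
    exact isIso_left_iff_eq_one (Groth.Agent.H91.KerTorsor.isKernel_bc _ _ _ he)
  · exact (isIso_left_iff_eq_one (Groth.Agent.H91.KerTorsor.isKernel_bc _ _ _ he)).1 hU

end Groth.Agent.H43.TQ2
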