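import Groth.Agent.H43.TQ3Local
import Groth.Agent.H2.T3_MTBC

/-!
# A subgroup of multiplicative type of `D_X(A)` is Zariski-locally `D(A/N)` (helper43)
-/

set_option autoImplicit false
universe u
open CategoryTheory Limits MonoidalCategory CartesianMonoidalCategory MonObj GrpObj AlgebraicGeometry

namespace Groth.Agent.H43.TQ2

open Groth.Agent.H43.TQ Groth.Agent.H43.MT
open Groth.Agent.H2.T3_MTBC (isMultTypeFT_bc_open)

theorem addSubgroup_fg_of_fg {A : Type} [AddCommGroup A] (hA : AddGroup.FG A) (N : AddSubgroup A) :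
    N.FG := by
  have h1 : Module.Finite ℤ A := Module.Finite.iff_addGroup_fg.mpr hA
  have h2 : IsNoetherian ℤ A := inferInstance
  have h3 : (AddSubgroup.toIntSubmodule N).FG := IsNoetherian.noetherian _
  rw [Submodule.fg_iff_addSubgroup_fg, AddSubgroup.toIntSubmodule_toAddSubgroup] at h3
  exact h3

theorem mem_finset_inf_opens {α κ : Type*} [TopologicalSpace α] (f : κ → TopologicalSpace.Opens α)
    (s : Finset κ) (x : α) (h : ∀ i ∈ s, x ∈ f i) : x ∈ s.inf f := by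
  classical
  induction s using Finset.induction_on with
  | empty => simp
  | insert a s ha ih =>
    rw [Finset.inf_insert]
    exact ⟨h a (Finset.mem_insert_self a s), ih (fun i hi => h i (Finset.mem_insert_of_mem hi))⟩

/-- the character `a` of `D(A)` composed with the base-changed `i'`. -/
theorem bc_comp_chi {X Y : Scheme.{u}} (g : Y ⟶ X) {H : Over X} {A : Type} [AddCommGroup A]
    (i' : H ⟶ Red.DS X A) (a : A) :
    ((Over.pullback g).map i' ≫ (JD g A).hom) ≫ Red.chi Y a =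
      (Over.pullback g).map (i' ≫ Red.chi X a) ≫ (JD g ℤ).hom := by
  rw [Category.assoc, ← JD_chi, ← Category.assoc, ← Functor.map_comp]

/-- (DGL) -/
theorem exists_diag_local {X : Scheme.{u}} (x : X) {H : Over X} [GrpObj H]
    (hH : SGA3x.IsMultTypeFT H) {A : Type} [AddCommGroup A] (hA : AddGroup.FG A)
    (i' : H ⟶ Red.DS X A) [IsMonHom i'] [Mono i'] :
    ∃ (X' : Scheme.{u}) (j : X' ⟶ X), IsOpenImmersion j ∧ x ∈ Set.range j.base ∧
      ∃ N : AddSubgroup A,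
        SimG ((Over.pullback j).map i') (Red.DSmap X' (QuotientAddGroup.mk' N)) := by
  obtain ⟨N, hN⟩ := exists_charKer (X.fromSpecResidueField x) i'
  obtain ⟨Sg, hSg⟩ := addSubgroup_fg_of_fg hA N
  have key : ∀ a : A, ∃ U : X.Opens, x ∈ U ∧
      (a ∈ N → (Over.pullback U.ι).map (i' ≫ Red.chi X a) = 1) := by
    intro a
    by_cases ha : a ∈ N
    · have hc : IsMonHom (Red.chi X a) := Groth.Agent.H91.KummerKer.chi_isMonHom X a
      obtain ⟨U, -, hUiff, hU1⟩ :=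
        rigid_trivial hH (isMultTypeFT_DS X ℤ fg_int) (i' ≫ Red.chi X a)
      exact ⟨U, (hUiff x).2 ((hN a).1 ha), fun _ => hU1⟩
    · exact ⟨⊤, trivial, fun h => absurd h ha⟩
  choose Uf hUx hU1 using key
  obtain ⟨V₁, hV₁⟩ : ∃ V₁ : X.Opens, V₁ = Sg.inf Uf := ⟨_, rfl⟩
  have hxV₁ : x ∈ V₁ := by
    rw [hV₁]
    exact mem_finset_inf_opens Uf Sg x (fun a _ => hUx a)
  have hSgN : ∀ a ∈ Sg, a ∈ N := by
    intro a ha
    rw [← hSg]
    exact AddSubgroup.subset_closure ha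
  obtain ⟨N', hN'⟩ := exists_charKer V₁.ι i'
  have hNN' : N ≤ N' := by
    rw [← hSg, AddSubgroup.closure_le]
    intro a ha
    have hle : V₁ ≤ Uf a := by
      rw [hV₁]
      exact Finset.inf_le ha
    exact (hN' a).2 (bc_comp_eq_one (Uf a).ι (X.homOfLE hle) V₁.ι (X.homOfLE_ι hle) _
      (hU1 a (hSgN a ha)))
  have hV1 : ∀ a ∈ N, (Over.pullback V₁.ι).map (i' ≫ Red.chi X a) = 1 :=
    fun a ha => (hN' a).1 (hNN' ha)
  -- restrict to V₁
  have hH₁ : SGA3x.IsMultTypeFT (Red.bc V₁.ι H) := isMultTypeFT_bc_open H hH V₁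
  obtain ⟨i₁, hi₁⟩ : ∃ i₁ : Red.bc V₁.ι H ⟶ Red.DS (V₁ : Scheme.{u}) A,
      i₁ = (Over.pullback V₁.ι).map i' ≫ (JD V₁.ι A).hom := ⟨_, rfl⟩
  have hi₁m : IsMonHom i₁ := by rw [hi₁]; infer_instance
  have hi₁mono : Mono i₁ := by
    have : (Over.pullback V₁.ι).IsRightAdjoint := (Over.mapPullbackAdj V₁.ι).isRightAdjoint
    have : Mono ((Over.pullback V₁.ι).map i') := inferInstance
    rw [hi₁]
    infer_instance
  have h1 : ∀ a ∈ N, i₁ ≫ Red.chi (V₁ : Scheme.{u}) a = 1 := by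
    intro a ha
    rw [hi₁, bc_comp_chi, hV1 a ha, MonObj.one_comp]
  obtain ⟨x₁, hx₁⟩ : ∃ x₁ : (V₁ : Scheme.{u}), V₁.ι.base x₁ = x := ⟨⟨x, hxV₁⟩, rfl⟩
  have h2 : ∀ a : A, (Over.pullback ((V₁ : Scheme.{u}).fromSpecResidueField x₁)).map
      (i₁ ≫ Red.chi (V₁ : Scheme.{u}) a) = 1 → a ∈ N := by
    intro a ha
    rw [hi₁, bc_comp_chi, Functor.map_comp] at ha
    have hβ : IsMonHom ((Over.pullback ((V₁ : Scheme.{u}).fromSpecResidueField
        x₁)).mapIso (JD V₁.ι ℤ)).hom := by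
      show IsMonHom ((Over.pullback _).map (JD V₁.ι ℤ).hom)
      infer_instance
    have h3 := eq_one_of_comp_iso _ ((Over.pullback ((V₁ : Scheme.{u}).fromSpecResidueField
        x₁)).mapIso (JD V₁.ι ℤ)) ha
    exact (hN a).2 (fibre_one_of_bc V₁.ι x₁ x hx₁ _ h3)
  obtain ⟨U₂, hxU₂, S_b⟩ := exists_diag_of_charKer x₁ hH₁ hA i₁ N h1 h2
  refine ⟨U₂, U₂.ι ≫ V₁.ι, inferInstance, ⟨⟨x₁, hxU₂⟩, ?_⟩, N, ?_⟩
  · show V₁.ι.base (U₂.ι.base ⟨x₁, hxU₂⟩) = x
    rw [← hx₁]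
    rfl
  have S_a : SimG ((Over.pullback V₁.ι).map i') i₁ := by
    refine ⟨Iso.refl _, JD V₁.ι A, ?_, inferInstance, ?_⟩
    · show IsMonHom (𝟙 _)
      infer_instance
    · rw [hi₁, Iso.refl_hom, Category.id_comp]
  exact ((SimG.bc_comp U₂.ι V₁.ι (U₂.ι ≫ V₁.ι) rfl i').symm.trans (SimG.map U₂.ι S_a)).trans S_b

end Groth.Agent.H43.TQ2
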