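import Groth.Agent.H91.KummerKer
import Groth.Agent.H27.DiagHom

/-! `D_X(N) ≅ D_X(N')` as groups for `N ≃+ N'` (helper43, S16615). -/

set_option autoImplicit false
universe u
open CategoryTheory Limits MonoidalCategory CartesianMonoidalCategory MonObj GrpObj AlgebraicGeometry

namespace Groth.Agent.H43.TQ

open Groth.Agent.H27.DiagHom

/-- (TQ-DSISO) -/
theorem DS_grpIso (X : Scheme.{u}) {N N' : Type} [AddCommGroup N] [AddCommGroup N'] (e : N ≃+ N') :
    Nonempty (Grp.mk (Red.DS X N) ≅ Grp.mk (Red.DS X N')) := by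
  have h1 : Red.DSmap X e.symm.toAddMonoidHom ≫ Red.DSmap X e.toAddMonoidHom = 𝟙 _ := by
    rw [← DSmap_comp, ← DSmap_id]
    congr 1
    ext m
    exact e.symm_apply_apply m
  have h2 : Red.DSmap X e.toAddMonoidHom ≫ Red.DSmap X e.symm.toAddMonoidHom = 𝟙 _ := by
    rw [← DSmap_comp, ← DSmap_id]
    congr 1
    ext n
    exact e.apply_symm_apply n
  have hm : IsMonHom (Red.DSmap X e.symm.toAddMonoidHom) :=
    Groth.Agent.H91.KummerKer.dsMap_isMonHom X _
  obtain ⟨f, hf⟩ : ∃ f : Red.DS X N ≅ Red.DS X N', f.hom = Red.DSmap X e.symm.toAddMonoidHom :=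
    ⟨⟨_, _, h1, h2⟩, rfl⟩
  have hfm : IsMonHom f.hom := by rw [hf]; exact hm
  exact ⟨Grp.mkIso' f⟩

end Groth.Agent.H43.TQ
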