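import Groth.Agent.H58.DSmapFF

/-! `D_X(incl)` is locally of finite presentation for f.g. groups (helper43, S16615, piece TQ-K3). -/

set_option autoImplicit false
universe u
open CategoryTheory Limits AlgebraicGeometry

namespace Groth.Agent.H43.TQ

theorem mapDomain_finitePresentation (k : Type u) [CommRing k] [IsNoetherianRing k]
    {G G' : Type} [CommGroup G] [CommGroup G'] [Group.FG G] [Group.FG G'] (f : G →* G') :
    (MonoidAlgebra.mapDomainAlgHom k k f).toRingHom.FinitePresentation := by
  have h1 : Algebra.FiniteType k (MonoidAlgebra k G) := inferInstance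
  have h2 : Algebra.FiniteType k (MonoidAlgebra k G') := inferInstance
  have h3 : Algebra.FinitePresentation k (MonoidAlgebra k G') :=
    Algebra.FinitePresentation.of_finiteType.mp h2
  apply RingHom.FinitePresentation.of_comp_finiteType (algebraMap k (MonoidAlgebra k G))
  · have hc : (MonoidAlgebra.mapDomainAlgHom k k f).toRingHom.comp
        (algebraMap k (MonoidAlgebra k G)) = algebraMap k (MonoidAlgebra k G') :=
      (MonoidAlgebra.mapDomainAlgHom k k f).comp_algebraMap
    rw [hc]
    exact RingHom.finitePresentation_algebraMap.mpr h3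
  · exact RingHom.finiteType_algebraMap.mpr h1

/-- (TQ-K3) -/
theorem DSmap_lfp (X : Scheme.{u}) {N A : Type} [AddCommGroup N] [AddCommGroup A]
    (hN : AddGroup.FG N) (hA : AddGroup.FG A) (incl : N →+ A) :
    LocallyOfFinitePresentation (Red.DSmap X incl).left := by
  have : IsNoetherianRing (ULift.{u} ℤ) := isNoetherianRing_of_ringEquiv ℤ ULift.ringEquiv.symm
  have hfp := mapDomain_finitePresentation (ULift.{u} ℤ) (AddMonoidHom.toMultiplicative incl)
  have h : LocallyOfFinitePresentation (Spec.map (CommRingCat.ofHom
      (MonoidAlgebra.mapDomainAlgHom (ULift.{u} ℤ) (ULift.{u} ℤ)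
        (AddMonoidHom.toMultiplicative incl)).toRingHom)) := by
    rw [HasRingHomProperty.Spec_iff (P := @LocallyOfFinitePresentation)]
    exact hfp
  exact Groth.Agent.H27.pullback_map_left_of_stable @LocallyOfFinitePresentation _
    (Red.diagMap (ULift.{u} ℤ) incl) h

end Groth.Agent.H43.TQ
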