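import Groth.Agent.H43.TQ4KMT
import Groth.Agent.H1.T4_KGRP
import Groth.Agent.H1.T4_MONO
import Groth.Agent.H97.T4_FREE
import Groth.Agent.H43.TQ3DGL
import Groth.Agent.H43.TQLfp
import Groth.Agent.H43.TQDSIso
import Groth.Agent.H19.TQ_K1
import Groth.Agent.H58.DSmapFF
import Groth.Agent.H1.Central.ExtComm

/-!
# Two split subtori of a group of multiplicative type over a connected base lie in a third
(helper43)
-/

set_option autoImplicit false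
universe u
open CategoryTheory Limits MonoidalCategory CartesianMonoidalCategory MonObj GrpObj AlgebraicGeometry

namespace Groth.Agent.H43.TQ2

open Groth.Agent.H43.TQ Groth.Agent.H43.MT Groth.Agent.H27.DiagHom Groth.Agent.H19.TQ_K1
open Groth.Agent.H1.T4 (exists_kernel_grp exists_desc_hom mono_desc)
open Groth.Agent.H97.T4_FREE (exists_fin_addEquiv)

theorem isCommMonObj_of_comm {S : Scheme.{u}} {G : Over S} [GrpObj G]
    (h : ∀ (T : Over S) (a b : T ⟶ G), a * b = b * a) : IsCommMonObj G := by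
  constructor
  have h1 := h (G ⊗ G) (snd G G) (fst G G)
  rw [Hom.mul_def, Hom.mul_def] at h1
  have h2 : lift (fst G G) (snd G G) = 𝟙 (G ⊗ G) := by
    apply CartesianMonoidalCategory.hom_ext <;> simp
  have h3 : lift (snd G G) (fst G G) = (β_ G G).hom := by
    apply CartesianMonoidalCategory.hom_ext <;> simp
  rw [h2, h3, Category.id_comp] at h1
  exact h1

theorem isMonHom_mul' {S : Scheme.{u}} {M N : Over S} [GrpObj M] [GrpObj N] [IsCommMonObj N]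
    (f g : M ⟶ N) [IsMonHom f] [IsMonHom g] : IsMonHom (f * g) := by
  show IsMonHom (lift f g ≫ μ)
  infer_instance

/-- `D(A) ⟶ D(N)` is the quotient of `D(A)` by `D(A/N)`. -/
theorem isQuotient_DSmap (X : Scheme.{u}) {A : Type} [AddCommGroup A] (hA : AddGroup.FG A)
    (N : AddSubgroup A) :
    RedSub.IsQuotient (Red.DSmap X (QuotientAddGroup.mk' N)) (Red.DSmap X N.subtype) := by
  have hπs : Function.Surjective (QuotientAddGroup.mk' N) := QuotientAddGroup.mk'_surjective N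
  have hk : AlgGrp.IsKernel (Red.DSmap X (QuotientAddGroup.mk' N)) (Red.DSmap X N.subtype) :=
    isKernel_DSmap X N.subtype (QuotientAddGroup.mk' N) hπs (fun a => by
      rw [AddSubgroup.range_subtype]
      exact QuotientAddGroup.eq_zero_iff a)
  have hmon : IsMonHom (Red.DSmap X N.subtype) := Groth.Agent.H91.KummerKer.dsMap_isMonHom X _
  have hsq := isPullback_of_isKernel (Red.DSmap X (QuotientAddGroup.mk' N))
    (Red.DSmap X N.subtype) hk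
  obtain ⟨hfl, hsu⟩ := Groth.Agent.H58.DSmapFF.DSmap_flat_surjective X N.subtype
    N.subtype_injective
  have hNfg : AddGroup.FG N := AddGroup.fg_iff_addSubgroup_fg N |>.mpr (addSubgroup_fg_of_fg hA N)
  have hlfp := DSmap_lfp X hNfg hA N.subtype
  exact ⟨hsu, hfl, hlfp, hsq⟩

/-- (SUMc) -/
theorem exists_sum_of_connected {S : Scheme.{u}} [ConnectedSpace S] {G : Over S} [GrpObj G]
    (hG : SGA3x.IsMultTypeFT G) (r₁ r₂ : ℕ)
    (j₁ : Red.DS S (Fin r₁ → ℤ) ⟶ G) [IsMonHom j₁]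
    (j₂ : Red.DS S (Fin r₂ → ℤ) ⟶ G) [IsMonHom j₂] :
    ∃ (r₃ : ℕ) (T₃ : Over S) (_ : GrpObj T₃) (j₃ : T₃ ⟶ G)
      (g₁ : Red.DS S (Fin r₁ → ℤ) ⟶ T₃) (g₂ : Red.DS S (Fin r₂ → ℤ) ⟶ T₃),
      IsMonHom j₃ ∧ Mono j₃ ∧ Red.IsSplitTorusWith (Fin r₃ → ℤ) T₃ ∧
        g₁ ≫ j₃ = j₁ ∧ g₂ ≫ j₃ = j₂ := by
  have hcomm : IsCommMonObj G := isCommMonObj_of_comm (Groth.Agent.H1.Central.multTypeFT_comm hG)
  have hAfg : AddGroup.FG ((Fin r₁ → ℤ) × (Fin r₂ → ℤ)) := by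
    have : Module.Finite ℤ ((Fin r₁ → ℤ) × (Fin r₂ → ℤ)) := inferInstance
    exact Module.Finite.iff_addGroup_fg.mp this
  obtain ⟨p₁, hp₁⟩ : ∃ p₁ : Red.DS S ((Fin r₁ → ℤ) × (Fin r₂ → ℤ)) ⟶ Red.DS S (Fin r₁ → ℤ),
      p₁ = Red.DSmap S (AddMonoidHom.inl (Fin r₁ → ℤ) (Fin r₂ → ℤ)) := ⟨_, rfl⟩
  obtain ⟨p₂, hp₂⟩ : ∃ p₂ : Red.DS S ((Fin r₁ → ℤ) × (Fin r₂ → ℤ)) ⟶ Red.DS S (Fin r₂ → ℤ),
      p₂ = Red.DSmap S (AddMonoidHom.inr (Fin r₁ → ℤ) (Fin r₂ → ℤ)) := ⟨_, rfl⟩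
  obtain ⟨i₁, hi₁⟩ : ∃ i₁ : Red.DS S (Fin r₁ → ℤ) ⟶ Red.DS S ((Fin r₁ → ℤ) × (Fin r₂ → ℤ)),
      i₁ = Red.DSmap S (AddMonoidHom.fst (Fin r₁ → ℤ) (Fin r₂ → ℤ)) := ⟨_, rfl⟩
  obtain ⟨i₂, hi₂⟩ : ∃ i₂ : Red.DS S (Fin r₂ → ℤ) ⟶ Red.DS S ((Fin r₁ → ℤ) × (Fin r₂ → ℤ)),
      i₂ = Red.DSmap S (AddMonoidHom.snd (Fin r₁ → ℤ) (Fin r₂ → ℤ)) := ⟨_, rfl⟩
  have hp₁m : IsMonHom p₁ := by rw [hp₁]; exact Groth.Agent.H91.KummerKer.dsMap_isMonHom S _
  have hp₂m : IsMonHom p₂ := by rw [hp₂]; exact Groth.Agent.H91.KummerKer.dsMap_isMonHom S _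
  have h11 : i₁ ≫ p₁ = 𝟙 _ := by
    rw [hi₁, hp₁, ← DSmap_comp, AddMonoidHom.fst_comp_inl, DSmap_id]
  have h12 : i₁ ≫ p₂ = 1 := by
    rw [hi₁, hp₂, ← DSmap_comp, AddMonoidHom.fst_comp_inr, DSmap_zero]
  have h21 : i₂ ≫ p₁ = 1 := by
    rw [hi₂, hp₁, ← DSmap_comp, AddMonoidHom.snd_comp_inl, DSmap_zero]
  have h22 : i₂ ≫ p₂ = 𝟙 _ := by
    rw [hi₂, hp₂, ← DSmap_comp, AddMonoidHom.snd_comp_inr, DSmap_id]
  obtain ⟨m, hm⟩ : ∃ m : Red.DS S ((Fin r₁ → ℤ) × (Fin r₂ → ℤ)) ⟶ G,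
      m = (p₁ ≫ j₁) * (p₂ ≫ j₂) := ⟨_, rfl⟩
  have hmm : IsMonHom m := by
    rw [hm]
    exact isMonHom_mul' (p₁ ≫ j₁) (p₂ ≫ j₂)
  have hi₁m : i₁ ≫ m = j₁ := by
    rw [hm, MonObj.comp_mul, ← Category.assoc, h11, Category.id_comp, ← Category.assoc, h12,
      MonObj.one_comp, _root_.mul_one]
  have hi₂m : i₂ ≫ m = j₂ := by
    rw [hm, MonObj.comp_mul, ← Category.assoc, h21, MonObj.one_comp, ← Category.assoc, h22,
      Category.id_comp, _root_.one_mul]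
  -- the kernel
  obtain ⟨K, iK, e, hem, hemono, he⟩ := exists_kernel_grp m
  have hK : SGA3x.IsMultTypeFT K :=
    isMultTypeFT_kernel (isMultTypeFT_DS S _ hAfg) hG m e he
  obtain ⟨N, α, hα⟩ := exists_diag_of_connected hK hAfg e
  have hq := isQuotient_DSmap S hAfg N
  have hqm : IsMonHom (Red.DSmap S N.subtype) := Groth.Agent.H91.KummerKer.dsMap_isMonHom S _
  have hπm : IsMonHom (Red.DSmap S (QuotientAddGroup.mk' N)) :=
    Groth.Agent.H91.KummerKer.dsMap_isMonHom S _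
  have hπ : Red.DSmap S (QuotientAddGroup.mk' N) = α.inv ≫ e := by
    rw [hα, Iso.inv_hom_id_assoc]
  have hem1 : e ≫ m = 1 := by
    have h := he.w
    rw [h, Hom.one_def]
  have hπ1 : Red.DSmap S (QuotientAddGroup.mk' N) ≫ m = 1 := by
    rw [hπ, Category.assoc, hem1, MonObj.comp_one]
  obtain ⟨j₃, hj₃m, hj₃⟩ := exists_desc_hom (Red.DSmap S (QuotientAddGroup.mk' N))
    (Red.DSmap S N.subtype) hq m hπ1
  have hk' : AlgGrp.IsKernel (Red.DSmap S (QuotientAddGroup.mk' N)) m := by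
    have he' : IsPullback e (toUnit K) m η[G] := he
    refine IsPullback.of_iso he' α (Iso.refl _) (Iso.refl _) (Iso.refl _) ?_ ?_ ?_ ?_
    · rw [Iso.refl_hom, Category.comp_id, hα]
    · exact toUnit_unique _ _
    · simp
    · simp
  have hj₃mono : Mono j₃ := mono_desc (Red.DSmap S (QuotientAddGroup.mk' N))
    (Red.DSmap S N.subtype) hq m hk' j₃ hj₃
  obtain ⟨r₃, ⟨eN⟩⟩ := exists_fin_addEquiv r₁ r₂ N
  refine ⟨r₃, Red.DS S N, inferInstance, j₃, i₁ ≫ Red.DSmap S N.subtype,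
    i₂ ≫ Red.DSmap S N.subtype, hj₃m, hj₃mono, DS_grpIso S eN, ?_, ?_⟩
  · rw [Category.assoc, hj₃, hi₁m]
  · rw [Category.assoc, hj₃, hi₂m]

end Groth.Agent.H43.TQ2
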