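import Groth.Agent.H43.LSDefs
import Groth.Agent.H43.TQ2Defs
import Groth.Agent.H43.TQ2Rigid
import Groth.Agent.H43.TQ2Conn
import Groth.Agent.H43.TQ2CK
import Groth.Agent.H43.TQ2FLD
import Groth.Agent.H43.TQ2DSMT
import Groth.Agent.H43.TQ4Sum
import Groth.Agent.H17.ExtCOMM

/-! (LS-KEY): transition between two local trivialisations of a locally split torus over an
irreducible base is a constant matrix (helper43, S16621). -/

set_option autoImplicit false
universe u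
open CategoryTheory Limits MonoidalCategory CartesianMonoidalCategory MonObj GrpObj AlgebraicGeometry
open Groth.Agent.H43.LS Groth.Agent.H43.TQ2 Groth.Agent.H27.DiagHom

namespace Groth.Agent.H43.LSKey

theorem fibre_one {V Y : Scheme.{u}} (x₀ : Y ⟶ V) {M N : Type} [AddCommGroup M]
    [AddCommGroup N] (v : Red.DS V M ⟶ Red.DS V N) [IsMonHom v] (φ : N →+ M)
    (hφ : (JD x₀ M).inv ≫ (Over.pullback x₀).map v ≫ (JD x₀ N).hom = Red.DSmap Y φ) :
    (Over.pullback x₀).map (v * Red.DSmap V (-φ)) = 1 := by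
  have hJ : IsMonHom (JD x₀ N).hom := inferInstance
  apply eq_one_of_comp_iso _ (JD x₀ N)
  rw [Functor.map_mul, MonObj.mul_comp]
  have h1 : (Over.pullback x₀).map v ≫ (JD x₀ N).hom = (JD x₀ M).hom ≫ Red.DSmap _ φ := by
    rw [← hφ, Iso.hom_inv_id_assoc]
  rw [h1, JD_dsmap, ← MonObj.comp_mul, ← DSmap_add, add_neg_cancel, DSmap_zero,
    MonObj.comp_one]

theorem exists_fibre_hom {V : Scheme.{u}} (s : V) {M N : Type} [AddCommGroup M]
    [AddCommGroup N] (hN : AddGroup.FG N) (v : Red.DS V M ⟶ Red.DS V N) [IsMonHom v] :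
    ∃ φ : N →+ M,
      (Over.pullback (V.fromSpecResidueField s)).map (v * Red.DSmap V (-φ)) = 1 := by
  obtain ⟨x₀, hx₀⟩ : ∃ x₀ : Spec (V.residueField s) ⟶ V, x₀ = V.fromSpecResidueField s :=
    ⟨_, rfl⟩
  rw [← hx₀]
  have hm : IsMonHom ((JD x₀ M).inv ≫ (Over.pullback x₀).map v ≫ (JD x₀ N).hom) :=
    inferInstance
  obtain ⟨φ, hφ⟩ := eq_DSmap_resField V s hN
    ((JD x₀ M).inv ≫ (Over.pullback x₀).map v ≫ (JD x₀ N).hom)
  exact ⟨φ, fibre_one x₀ v φ hφ⟩

theorem ds_isComm (V : Scheme.{u}) (N : Type) [AddCommGroup N] :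
    @IsCommMonObj (Over V) _ _ _ (Red.DS V N) GrpObj.toMonObj :=
  Groth.Agent.H43.TQ2.isCommMonObj_of_comm (fun _ a b => Groth.Agent.H17.ExtCOMM.ds_comm a b)

theorem isMonHom_mul_neg {V : Scheme.{u}} {M N : Type} [AddCommGroup M] [AddCommGroup N]
    (v : Red.DS V M ⟶ Red.DS V N) [IsMonHom v] (φ : N →+ M) :
    IsMonHom (v * Red.DSmap V (-φ)) := by
  have hcomm : @IsCommMonObj (Over V) _ _ _ (Red.DS V N) GrpObj.toMonObj := ds_isComm V N
  have hD : IsMonHom (Red.DSmap V (-φ)) := Groth.Agent.H91.KummerKer.dsMap_isMonHom V _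
  exact Groth.Agent.H43.TQ2.isMonHom_mul' v (Red.DSmap V (-φ))

theorem eq_of_mul_neg {V : Scheme.{u}} {M N : Type} [AddCommGroup M] [AddCommGroup N]
    (v : Red.DS V M ⟶ Red.DS V N) (φ : N →+ M) (h1 : v * Red.DSmap V (-φ) = 1) :
    v = Red.DSmap V φ := by
  calc v = (v * Red.DSmap V (-φ)) * Red.DSmap V φ := by
        rw [_root_.mul_assoc, ← DSmap_add, neg_add_cancel, DSmap_zero, _root_.mul_one]
    _ = Red.DSmap V φ := by rw [h1, _root_.one_mul]

/-- Over a connected base every homomorphism `D(M) ⟶ D(N)` is `D(φ)`. -/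
theorem eq_DSmap_of_connected {V : Scheme.{u}} [ConnectedSpace V] {M N : Type} [AddCommGroup M]
    [AddCommGroup N] (hM : AddGroup.FG M) (hN : AddGroup.FG N)
    (v : Red.DS V M ⟶ Red.DS V N) [IsMonHom v] : ∃ φ : N →+ M, v = Red.DSmap V φ := by
  obtain ⟨s⟩ := (inferInstance : Nonempty V)
  obtain ⟨φ, hφ⟩ := exists_fibre_hom s hN v
  refine ⟨φ, eq_of_mul_neg v φ ?_⟩
  have hc : IsMonHom (v * Red.DSmap V (-φ)) := isMonHom_mul_neg v φ
  obtain ⟨W, hWcl, hW, hW1⟩ := rigid_trivial (isMultTypeFT_DS V M hM) (isMultTypeFT_DS V N hN)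
    (v * Red.DSmap V (-φ))
  have hsW : s ∈ W := (hW s).2 hφ
  have hWtop : W = ⊤ := by
    have hclopen : IsClopen (W : Set V) := ⟨hWcl, W.isOpen⟩
    have := hclopen.eq_univ ⟨s, hsW⟩
    exact SetLike.coe_injective (by simpa using this)
  subst hWtop
  exact eq_one_of_bc_top _ hW1

end Groth.Agent.H43.LSKey
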