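import Groth.Agent.H43.LSKey

/-! (LS-KEY), second half: restriction to `U ⊓ U'` and the transition matrix (helper43, S16621). -/

set_option autoImplicit false
universe u
open CategoryTheory Limits MonoidalCategory CartesianMonoidalCategory MonObj GrpObj AlgebraicGeometry
open Groth.Agent.H43.LS Groth.Agent.H43.TQ2 Groth.Agent.H27.DiagHom

namespace Groth.Agent.H43.LSKey

variable {S : Scheme.{u}}

/-- restriction of a local morphism to a smaller open. -/
noncomputable def res {X Y : Over S} {U V : S.Opens} (h : V ≤ U)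
    (e : Red.bc U.ι X ⟶ Red.bc U.ι Y) : Red.bc V.ι X ⟶ Red.bc V.ι Y :=
  (ActBC.bcCompIso (S.homOfLE h) U.ι X (S.homOfLE_ι h)).inv ≫
    (Over.pullback (S.homOfLE h)).map e ≫
    (ActBC.bcCompIso (S.homOfLE h) U.ι Y (S.homOfLE_ι h)).hom

/-- the open immersion `X|_V ⟶ X|_U`. -/
noncomputable def toU (X : Over S) {U V : S.Opens} (h : V ≤ U) :
    (Red.bc V.ι X).left ⟶ (Red.bc U.ι X).left :=
  (ActBC.bcCompIso (S.homOfLE h) U.ι X (S.homOfLE_ι h)).inv.left ≫
    pullback.fst (Red.bc U.ι X).hom (S.homOfLE h)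

theorem toU_fst (X : Over S) {U V : S.Opens} (h : V ≤ U) :
    toU X h ≫ pullback.fst X.hom U.ι = pullback.fst X.hom V.ι := by
  unfold toU
  rw [Category.assoc, ← ActBC.bcCompIso_hom_left_fst (S.homOfLE h) U.ι X (S.homOfLE_ι h),
    ← Over.comp_left_assoc, Iso.inv_hom_id, Over.id_left, Category.id_comp]

theorem toU_snd (X : Over S) {U V : S.Opens} (h : V ≤ U) :
    toU X h ≫ pullback.snd X.hom U.ι = pullback.snd X.hom V.ι ≫ S.homOfLE h := by
  unfold toU
  have hc : pullback.fst (Red.bc U.ι X).hom (S.homOfLE h) ≫ pullback.snd X.hom U.ι =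
      pullback.snd (Red.bc U.ι X).hom (S.homOfLE h) ≫ S.homOfLE h := pullback.condition
  rw [Category.assoc, hc,
    ← ActBC.bcCompIso_hom_left_snd (S.homOfLE h) U.ι X (S.homOfLE_ι h), Category.assoc,
    ← Over.comp_left_assoc, Iso.inv_hom_id, Over.id_left, Category.id_comp]

@[reassoc]
theorem res_fst {X Y : Over S} {U V : S.Opens} (h : V ≤ U) (e : Red.bc U.ι X ⟶ Red.bc U.ι Y) :
    (res h e).left ≫ pullback.fst Y.hom V.ι = toU X h ≫ e.left ≫ pullback.fst Y.hom U.ι := by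
  unfold res toU
  simp only [Over.comp_left, Category.assoc]
  rw [ActBC.bcCompIso_hom_left_fst, ActBC.pullback_map_left_fst_assoc]

theorem exists_lift (X : Over S) {U V : S.Opens} (h : V ≤ U) {Z : Scheme.{u}}
    (a : Z ⟶ (Red.bc U.ι X).left) (w : Z ⟶ (V : Scheme.{u}))
    (hw : w ≫ S.homOfLE h = a ≫ pullback.snd X.hom U.ι) :
    ∃ c : Z ⟶ (Red.bc V.ι X).left, c ≫ toU X h = a := by
  have hcond : (a ≫ pullback.fst X.hom U.ι) ≫ X.hom = w ≫ V.ι := by
    rw [Category.assoc, pullback.condition, ← Category.assoc, ← hw, Category.assoc,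
      Scheme.homOfLE_ι]
  refine ⟨pullback.lift (a ≫ pullback.fst X.hom U.ι) w hcond, ?_⟩
  apply pullback.hom_ext
  · rw [Category.assoc, toU_fst]
    exact pullback.lift_fst _ _ _
  · rw [Category.assoc, toU_snd, ← Category.assoc]
    have : pullback.lift (a ≫ pullback.fst X.hom U.ι) w hcond ≫ pullback.snd X.hom V.ι = w :=
      pullback.lift_snd _ _ _
    rw [this, hw]

theorem res_isIso {X Y : Over S} {U V : S.Opens} (h : V ≤ U)
    (e : Red.bc U.ι X ⟶ Red.bc U.ι Y) [IsIso e] : IsIso (res h e) := by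
  unfold res; infer_instance

theorem res_isMonHom {G H : Over S} [GrpObj G] [GrpObj H] {U V : S.Opens} (h : V ≤ U)
    (e : Red.bc U.ι G ⟶ Red.bc U.ι H) [IsMonHom e] : IsMonHom (res h e) := by
  unfold res
  have h1 : IsMonHom (ActBC.bcCompIso (S.homOfLE h) U.ι G (S.homOfLE_ι h)).hom :=
    ActBC.bcCompIso_isMonHom (S.homOfLE h) U.ι (G := G) (S.homOfLE_ι h)
  have h2 : IsMonHom (ActBC.bcCompIso (S.homOfLE h) U.ι H (S.homOfLE_ι h)).hom :=
    ActBC.bcCompIso_isMonHom (S.homOfLE h) U.ι (G := H) (S.homOfLE_ι h)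
  have h3 : IsMonHom (ActBC.bcCompIso (S.homOfLE h) U.ι G (S.homOfLE_ι h)).inv := inferInstance
  infer_instance

theorem bc_DSmap_eq {V Y : Scheme.{u}} (x₀ : Y ⟶ V) {M N : Type} [AddCommGroup M]
    [AddCommGroup N] {φ φ' : M →+ N} (h : Red.DSmap V φ = Red.DSmap V φ') :
    Red.DSmap Y φ = Red.DSmap Y φ' := by
  have h1 := JD_dsmap x₀ φ
  have h2 := JD_dsmap x₀ φ'
  rw [h, h2] at h1
  exact ((cancel_epi (JD x₀ N).hom).mp h1).symm

theorem DSmap_injective_of_nonempty {V : Scheme.{u}} [Nonempty V] {M N : Type} [AddCommGroup M]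
    [AddCommGroup N] {φ φ' : M →+ N} (h : Red.DSmap V φ = Red.DSmap V φ') : φ = φ' := by
  obtain ⟨s⟩ := (inferInstance : Nonempty V)
  have h1 := bc_DSmap_eq (V.fromSpecResidueField s) h
  have h0 : Red.DSmap (Spec (CommRingCat.of (V.residueField s))) φ =
      Red.DSmap (Spec (CommRingCat.of (V.residueField s))) φ' := h1
  exact DSmap_injective (V.residueField s) h0

theorem fg_pi (r : ℕ) : AddGroup.FG (Fin r → ℤ) := by
  have : Module.Finite ℤ (Fin r → ℤ) := inferInstance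
  exact Module.Finite.iff_addGroup_fg.mp this

/-- (LS-KEY) -/
theorem exists_transition [IrreducibleSpace S] {T : Over S} [GrpObj T]
    (U U' : S.Opens) (hU : (U : Set S).Nonempty) (hU' : (U' : Set S).Nonempty) (r r' : ℕ)
    (e : Red.bc U.ι T ⟶ Red.bc U.ι (Red.DS S (Fin r → ℤ))) [IsIso e] [IsMonHom e]
    (e' : Red.bc U'.ι T ⟶ Red.bc U'.ι (Red.DS S (Fin r' → ℤ))) [IsIso e'] [IsMonHom e'] :
    ∃ A : (Fin r' → ℤ) ≃+ (Fin r → ℤ),
      Compat (e ≫ (Over.pullback U.ι).map (Red.DSmap S A.toAddMonoidHom)) e' := by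
  have hVne : ((U ⊓ U' : S.Opens) : Set S).Nonempty :=
    nonempty_preirreducible_inter U.isOpen U'.isOpen hU hU'
  have hVconn : ConnectedSpace ((U ⊓ U' : S.Opens) : Scheme.{u}) := by
    have h1 : IsPreirreducible ((U ⊓ U' : S.Opens) : Set S) :=
      (PreirreducibleSpace.isPreirreducible_univ).open_subset (U ⊓ U').isOpen (Set.subset_univ _)
    have h2 : _root_.IsConnected ((U ⊓ U' : S.Opens) : Set S) := ⟨hVne, h1.isPreconnected⟩
    exact isConnected_iff_connectedSpace.mp h2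
  have hVU : U ⊓ U' ≤ U := inf_le_left
  have hVU' : U ⊓ U' ≤ U' := inf_le_right
  obtain ⟨E, hE⟩ : ∃ E : Red.bc (U ⊓ U').ι T ⟶ Red.bc (U ⊓ U').ι (Red.DS S (Fin r → ℤ)),
      E = res hVU e := ⟨_, rfl⟩
  obtain ⟨E', hE'⟩ : ∃ E' : Red.bc (U ⊓ U').ι T ⟶ Red.bc (U ⊓ U').ι (Red.DS S (Fin r' → ℤ)),
      E' = res hVU' e' := ⟨_, rfl⟩
  have i1 : IsIso E := hE ▸ res_isIso hVU e
  have i2 : IsIso E' := hE' ▸ res_isIso hVU' e'
  have m1 : IsMonHom E := hE ▸ res_isMonHom hVU e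
  have m2 : IsMonHom E' := hE' ▸ res_isMonHom hVU' e'
  have m3 : IsMonHom (inv E) := by
    have : IsMonHom (asIso E).hom := m1
    exact (inferInstance : IsMonHom (asIso E).inv)
  have m4 : IsMonHom (inv E') := by
    have : IsMonHom (asIso E').hom := m2
    exact (inferInstance : IsMonHom (asIso E').inv)
  obtain ⟨ψ, hψ⟩ := eq_DSmap_of_connected (fg_pi r) (fg_pi r')
    ((JD (U ⊓ U').ι (Fin r → ℤ)).inv ≫ inv E ≫ E' ≫ (JD (U ⊓ U').ι (Fin r' → ℤ)).hom)
  obtain ⟨ψ', hψ'⟩ := eq_DSmap_of_connected (fg_pi r') (fg_pi r)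
    ((JD (U ⊓ U').ι (Fin r' → ℤ)).inv ≫ inv E' ≫ E ≫ (JD (U ⊓ U').ι (Fin r → ℤ)).hom)
  have hne : Nonempty ((U ⊓ U' : S.Opens) : Scheme.{u}) := by
    obtain ⟨x, hx⟩ := hVne
    exact ⟨⟨x, hx⟩⟩
  have h12 : ψ.comp ψ' = AddMonoidHom.id _ := by
    apply DSmap_injective_of_nonempty (V := ((U ⊓ U' : S.Opens) : Scheme.{u}))
    rw [DSmap_comp, DSmap_id, ← hψ, ← hψ']
    simp
  have h21 : ψ'.comp ψ = AddMonoidHom.id _ := by
    apply DSmap_injective_of_nonempty (V := ((U ⊓ U' : S.Opens) : Scheme.{u}))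
    rw [DSmap_comp, DSmap_id, ← hψ, ← hψ']
    simp
  obtain ⟨A, hA⟩ : ∃ A : (Fin r' → ℤ) ≃+ (Fin r → ℤ), A.toAddMonoidHom = ψ :=
    ⟨{ toFun := ψ, invFun := ψ', left_inv := fun x => DFunLike.congr_fun h21 x,
       right_inv := fun x => DFunLike.congr_fun h12 x, map_add' := ψ.map_add }, rfl⟩
  refine ⟨A, ?_⟩
  rw [hA]
  -- key identity over `U ⊓ U'`
  have key : E ≫ (Over.pullback (U ⊓ U').ι).map (Red.DSmap S ψ) = E' := by
    rw [← cancel_mono (JD (U ⊓ U').ι (Fin r' → ℤ)).hom, Category.assoc, JD_dsmap, ← hψ]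
    simp
  intro Z a b hab
  have hcond : (a ≫ pullback.snd T.hom U.ι) ≫ U.ι = (b ≫ pullback.snd T.hom U'.ι) ≫ U'.ι := by
    rw [Category.assoc, Category.assoc, ← pullback.condition, ← pullback.condition,
      ← Category.assoc, hab, Category.assoc]
  obtain ⟨w, hw1, hw2⟩ : ∃ w : Z ⟶ ((U ⊓ U' : S.Opens) : Scheme.{u}),
      w ≫ S.homOfLE hVU = a ≫ pullback.snd T.hom U.ι ∧
      w ≫ S.homOfLE hVU' = b ≫ pullback.snd T.hom U'.ι :=
    ⟨(isPullback_opens_inf U U').lift _ _ hcond, (isPullback_opens_inf U U').lift_fst _ _ _,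
      (isPullback_opens_inf U U').lift_snd _ _ _⟩
  obtain ⟨c, hc⟩ := exists_lift T hVU a w hw1
  obtain ⟨c', hc'⟩ := exists_lift T hVU' b w hw2
  have hcc : c = c' := by
    have hf : c ≫ pullback.fst T.hom (U ⊓ U').ι = c' ≫ pullback.fst T.hom (U ⊓ U').ι := by
      calc c ≫ pullback.fst T.hom (U ⊓ U').ι = (c ≫ toU T hVU) ≫ pullback.fst T.hom U.ι := by
            rw [Category.assoc, toU_fst]
        _ = b ≫ pullback.fst T.hom U'.ι := by rw [hc, hab]
        _ = (c' ≫ toU T hVU') ≫ pullback.fst T.hom U'.ι := by rw [hc']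
        _ = c' ≫ pullback.fst T.hom (U ⊓ U').ι := by rw [Category.assoc, toU_fst]
    apply pullback.hom_ext hf
    rw [← cancel_mono (U ⊓ U').ι, Category.assoc, Category.assoc, ← pullback.condition,
      ← Category.assoc, hf, Category.assoc]
  subst hcc
  have hL : a ≫ (e ≫ (Over.pullback U.ι).map (Red.DSmap S ψ)).left ≫
      pullback.fst (Red.DS S (Fin r' → ℤ)).hom U.ι =
      c ≫ (E ≫ (Over.pullback (U ⊓ U').ι).map (Red.DSmap S ψ)).left ≫
        pullback.fst (Red.DS S (Fin r' → ℤ)).hom (U ⊓ U').ι := by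
    rw [Over.comp_left, Category.assoc, ActBC.pullback_map_left_fst, Over.comp_left,
      Category.assoc, ActBC.pullback_map_left_fst, hE, res_fst_assoc, ← hc]
    simp only [Category.assoc]
  have hR : b ≫ e'.left ≫ pullback.fst (Red.DS S (Fin r' → ℤ)).hom U'.ι =
      c ≫ E'.left ≫ pullback.fst (Red.DS S (Fin r' → ℤ)).hom (U ⊓ U').ι := by
    rw [hE', res_fst, ← hc']
    simp only [Category.assoc]
  rw [hL, hR, key]

end Groth.Agent.H43.LSKey
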