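import Groth.Prelude.Def_LambdaSp
import Groth.Agent.H43.LambdaBasic
import Mathlib.Algebra.Algebra.Rat
import Mathlib.Algebra.Module.Rat
import Mathlib.Tactic.Positivity

set_option autoImplicit false
universe u

namespace Groth.Agent.H43

open LambdaRing PowerSeries Finset

section ODE

variable {K : Type u} [CommRing K] [Algebra ℚ K]

/-- coefficients of the solution of `f' = G f`, `f(0) = 1`. -/
noncomputable def odeCoeff (G : ℕ → K) : ℕ → K
  | 0 => 1
  | (m + 1) => ((m + 1 : ℚ)⁻¹) • ∑ i : Fin (m + 1), G i * odeCoeff G (m - i)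
termination_by n => n
decreasing_by omega

theorem odeCoeff_zero (G : ℕ → K) : odeCoeff G 0 = 1 := by
  rw [odeCoeff]

theorem odeCoeff_succ (G : ℕ → K) (m : ℕ) :
    odeCoeff G (m + 1) = ((m + 1 : ℚ)⁻¹) • ∑ i : Fin (m + 1), G i * odeCoeff G (m - i) := by
  rw [odeCoeff]

/-- the solution of `f' = G f`, `f(0) = 1`. -/
noncomputable def odeSol (G : ℕ → K) : PowerSeries K := PowerSeries.mk (odeCoeff G)

theorem natCast_add_one_eq (n : ℕ) : ((n : K) + 1) = ((n + 1 : ℚ)) • (1 : K) := by
  rw [Algebra.smul_def, mul_one, map_add, map_natCast, map_one]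

theorem isUnit_natCast_add_one (n : ℕ) : IsUnit ((n : K) + 1) := by
  have : ((n : K) + 1) = algebraMap ℚ K (n + 1) := by
    rw [map_add, map_natCast, map_one]
  rw [this]
  exact (IsUnit.mk0 _ (by positivity)).map _

theorem derivative_odeSol (G : ℕ → K) :
    derivative K (odeSol G) = PowerSeries.mk G * odeSol G := by
  ext n
  rw [coeff_derivative, coeff_mul, odeSol, coeff_mk, odeCoeff_succ,
    Finset.Nat.sum_antidiagonal_eq_sum_range_succ_mk]
  simp only [coeff_mk]
  rw [Fin.sum_univ_eq_sum_range (fun i => G i * odeCoeff G (n - i)) (n + 1)]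
  rw [natCast_add_one_eq (K := K) n, smul_mul_smul_comm, inv_mul_cancel₀ (by positivity), one_smul, mul_one]

theorem ode_unique (G f h : PowerSeries K) (hf : derivative K f = G * f)
    (hh : derivative K h = G * h) (h0 : constantCoeff f = constantCoeff h) : f = h := by
  ext n
  induction n using Nat.strong_induction_on with
  | _ n ih =>
    cases n with
    | zero => simpa using h0
    | succ n =>
      have e1 := congrArg (coeff n) hf
      have e2 := congrArg (coeff n) hh
      rw [coeff_derivative, coeff_mul] at e1 e2
      have hs : ∑ p ∈ antidiagonal n, coeff p.1 G * coeff p.2 f =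
          ∑ p ∈ antidiagonal n, coeff p.1 G * coeff p.2 h := by
        apply Finset.sum_congr rfl
        intro p hp
        have := Finset.mem_antidiagonal.mp hp
        rw [ih p.2 (by omega)]
      rw [hs, ← e2] at e1
      exact (isUnit_natCast_add_one n).mul_left_injective e1

end ODE

section Adams

variable {K : Type u} [CommRing K]

theorem map_derivative' {K' : Type u} [CommRing K'] (f : K →+* K') (S : PowerSeries K) :
    PowerSeries.map f (derivative K S) = derivative K' (PowerSeries.map f S) := by
  ext n
  simp [coeff_derivative]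

theorem map_lamSeries {K' : Type u} [CommRing K'] [LambdaOps K] [LambdaOps K'] (f : K →+* K')
    (hf : IsLambdaHom f) (x : K) : PowerSeries.map f (lamSeries x) = lamSeries (f x) := by
  ext n
  simp [lamSeries, hf n x]

theorem lamSeries_mul_invOfUnit [LambdaOps K] (x : K) :
    lamSeries x * (lamSeries x).invOfUnit 1 = 1 :=
  PowerSeries.mul_invOfUnit _ 1 (by simp [constantCoeff_lamSeries])

theorem derivative_lamSeries [LambdaOps K] (x : K) :
    derivative K (lamSeries x) = logDerivSeries x * lamSeries x := by
  unfold logDerivSeries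
  rw [mul_assoc, mul_comm ((lamSeries x).invOfUnit 1), lamSeries_mul_invOfUnit, mul_one]

theorem coeff_logDerivSeries [LambdaOps K] (k : ℕ) (x : K) :
    coeff k (logDerivSeries x) = (-1) ^ k * adamsOp (k + 1) x := by
  show _ = (-1) ^ k * ((-1) ^ k * coeff k (logDerivSeries x))
  rw [← mul_assoc, ← mul_pow]
  simp

/-- the logarithmic-derivative series prescribed by a family of operations. -/
def adamsGen (ψ : ℕ → K → K) (x : K) : ℕ → K := fun k => (-1) ^ k * ψ (k + 1) x

theorem logDerivSeries_eq_of_adams [LambdaOps K] (ψ : ℕ → K → K) (x : K)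
    (h : ∀ k : ℕ, 1 ≤ k → adamsOp k x = ψ k x) :
    logDerivSeries x = PowerSeries.mk (adamsGen ψ x) := by
  ext k
  rw [coeff_logDerivSeries, coeff_mk, adamsGen, h (k + 1) (by omega)]

variable [Algebra ℚ K]

/-- the λ-operations determined by additive Adams operations over a ℚ-algebra. -/
@[instance_reducible]
noncomputable def lamOfAdams (ψ : ℕ → K →+ K) (hψ : ψ 1 = AddMonoidHom.id K) : LambdaOps K where
  lam n x := odeCoeff (adamsGen (fun k => ψ k) x) n
  lam_zero x := odeCoeff_zero _
  lam_one x := by
    rw [odeCoeff_succ]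
    simp [adamsGen, hψ, odeCoeff_zero]
  lam_add k x y := by
    have key : odeSol (adamsGen (fun k => ψ k) (x + y)) =
        odeSol (adamsGen (fun k => ψ k) x) * odeSol (adamsGen (fun k => ψ k) y) := by
      apply ode_unique (PowerSeries.mk (adamsGen (fun k => ψ k) (x + y)))
      · exact derivative_odeSol _
      · have hG : PowerSeries.mk (adamsGen (fun k => ψ k) (x + y)) =
            PowerSeries.mk (adamsGen (fun k => ψ k) x) + PowerSeries.mk (adamsGen (fun k => ψ k) y) := by
          ext k
          simp [adamsGen, mul_add]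
        rw [Derivation.leibniz, derivative_odeSol, derivative_odeSol, hG]
        simp only [smul_eq_mul]
        ring
      · simp [odeSol, odeCoeff_zero]
    have := congrArg (coeff k) key
    rw [coeff_mul, Finset.Nat.sum_antidiagonal_eq_sum_range_succ_mk] at this
    simpa [odeSol] using this

end Adams

end Groth.Agent.H43
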