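import Groth.Agent.H93.NilPull
import Groth.Agent.H93.IdealComap

/-!
# (NIL) Local nilpotence of the ideal of a closed immersion is stable under base change
-/

universe u

open CategoryTheory CategoryTheory.Limits AlgebraicGeometry

namespace Groth.Agent.H43.MRNIL

/-- If the ideal sheaf `K` has `(K.ideal V)^m = 0` on an affine open `V`, then the restriction
of `K^m` to `V` is zero. -/
theorem pow_comap_ι_eq_bot {S : Scheme.{u}} (K : S.IdealSheafData) (V : S.affineOpens) (m : ℕ)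
    (hm : K.ideal V ^ m = 0) : (K ^ m).comap V.1.ι = ⊥ := by
  have : IsAffine ↑V.1 := V.2
  apply Scheme.IdealSheafData.ext_of_isAffine
  rw [Scheme.IdealSheafData.ideal_comap_of_isOpenImmersion]
  have e : ∀ hp, (⟨V.1.ι ''ᵁ ⊤, hp⟩ : S.affineOpens) = V :=
    fun _ => Subtype.ext (Scheme.Opens.ι_image_top _)
  have key : ∀ W : S.affineOpens, W = V → (K ^ m).ideal W = ⊥ := by
    rintro W rfl
    rw [Scheme.IdealSheafData.ideal_pow]
    exact hm
  refine (congrArg (Ideal.comap _) (key _ (Subtype.ext (Scheme.Opens.ι_image_top _)))).trans ?_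
  refine le_antisymm ?_ (by rw [Scheme.IdealSheafData.ideal_bot]; exact bot_le)
  intro y hy
  have h1 : (V.1.ι.appIso ⊤).inv.hom y = 0 := hy
  have h2 : y = (V.1.ι.appIso ⊤).hom.hom ((V.1.ι.appIso ⊤).inv.hom y) := by
    rw [← CommRingCat.comp_apply, Iso.inv_hom_id]
    rfl
  show y ∈ (⊥ : Ideal _)
  rw [Ideal.mem_bot, h2, h1, map_zero]

theorem nil_pullback {S S₀ S' : Scheme.{u}} (i₀ : S₀ ⟶ S) [IsClosedImmersion i₀]
    (hnil : ∀ x : S, ∃ U : S.affineOpens, x ∈ (U : S.Opens) ∧ IsNilpotent (i₀.ker.ideal U))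
    (f : S' ⟶ S) :
    ∀ x : S', ∃ U : S'.affineOpens, x ∈ (U : S'.Opens) ∧
      IsNilpotent ((pullback.snd i₀ f).ker.ideal U) := by
  intro x
  obtain ⟨V, hxV, m, hm⟩ := hnil (f x)
  obtain ⟨W, hW, hxW, hWV⟩ :=
    exists_isAffineOpen_mem_and_subset (X := S') (x := x) (U := f ⁻¹ᵁ V.1) hxV
  refine ⟨⟨W, hW⟩, hxW, m, ?_⟩
  have hker : (pullback.snd i₀ f).ker = i₀.ker.comap f :=
    H93.NilPull.ker_eq_comap_of_isPullback (IsPullback.of_hasPullback i₀ f).flip
  rw [hker]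
  have h1 : ((i₀.ker.comap f) ^ m).ideal ⟨W, hW⟩ = (⊥ : S'.IdealSheafData).ideal ⟨W, hW⟩ := by
    apply H93.IdealComap.ideal_eq_of_comap_ι_eq
    have hfac : W.ι ≫ f = f.resLE V.1 W hWV ≫ V.1.ι := (Scheme.Hom.resLE_comp_ι f hWV).symm
    rw [← H93.IdealComap.comap_pow, ← Scheme.IdealSheafData.comap_comp, hfac,
      Scheme.IdealSheafData.comap_comp, pow_comap_ι_eq_bot _ V m hm,
      Scheme.IdealSheafData.comap_bot, Scheme.IdealSheafData.comap_bot]
  rw [Scheme.IdealSheafData.ideal_pow] at h1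
  exact h1

end Groth.Agent.H43.MRNIL
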