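import Groth.Agent.H43.MTInst
import Groth.Agent.H1.HomDiag.Crit
import Groth.Agent.H1.HomDiag.LocSplit
import Groth.Agent.H1.HomDiag.MonoTorus
import Groth.Agent.H1.SplitTori.Killed

/-!
# Monomorphisms between split groups of multiplicative type (helper43, for S16614)
-/

set_option autoImplicit false
universe u
open CategoryTheory Limits MonoidalCategory CartesianMonoidalCategory MonObj GrpObj AlgebraicGeometry

namespace Groth.Agent.H43.MS

open Groth.Agent.H43.MT Groth.Agent.H91.MultGa Groth.Agent.H1.HomDiag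

/-- `Over.pullback j` preserves monomorphisms (on underlying schemes). -/
theorem mono_pullback_left {S X : Scheme.{u}} (j : X ⟶ S) {A B : Over S} (g : A ⟶ B) [Mono g] :
    Mono ((Over.pullback j).map g).left := by
  have : (Over.pullback j).IsRightAdjoint := (Over.mapPullbackAdj j).isRightAdjoint
  have : Mono ((Over.pullback j).map g) := inferInstance
  infer_instance

/-- A monomorphic homomorphism between split groups `T ≅ D(M)`, `T' ≅ D(M')` (`M'` f.g.) is,
Zariski-locally, of the form `D(φ)` with `φ : M' → M` surjective. -/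
theorem local_form {S : Scheme.{u}} {T T' : Over S} [GrpObj T] [GrpObj T'] (M M' : Type)
    [AddCommGroup M] [AddCommGroup M'] (hM' : AddGroup.FG M')
    (hT : Red.IsSplitTorusWith M T) (hT' : Red.IsSplitTorusWith M' T')
    (g : T ⟶ T') [IsMonHom g] [Mono g] (s : S) :
    ∃ (X : Scheme.{u}) (j : X ⟶ S), IsOpenImmersion j ∧ s ∈ Set.range j.base ∧
      ∃ φ : M' →+ M, Function.Surjective φ ∧ Sim ((Over.pullback j).map g) (Red.DSmap X φ) := by
  obtain ⟨a⟩ := hT
  obtain ⟨a'⟩ := hT'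
  obtain ⟨a₀, ha₀⟩ : ∃ a₀ : T ≅ Red.DS S M, IsMonHom a₀.hom := ⟨isoOfGrpIso a, inferInstance⟩
  obtain ⟨a₀', ha₀'⟩ : ∃ a₀' : T' ≅ Red.DS S M', IsMonHom a₀'.hom :=
    ⟨isoOfGrpIso a', inferInstance⟩
  have ha₀i : IsMonHom a₀.inv := inferInstance
  obtain ⟨v, hv⟩ : ∃ v : Red.DS S M ⟶ Red.DS S M', v = a₀.inv ≫ g ≫ a₀'.hom := ⟨_, rfl⟩
  have hvm : IsMonHom v := by rw [hv]; infer_instance
  have hsim : Sim g v := ⟨a₀, a₀', by rw [hv, Iso.hom_inv_id_assoc]⟩
  obtain ⟨X, j, hj, hs, φ, hφ⟩ := classify_local hM' v s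
  have hS : Sim ((Over.pullback j).map g) (Red.DSmap X φ) := (Sim.map j hsim).trans hφ
  refine ⟨X, j, hj, hs, φ, ?_, hS⟩
  obtain ⟨x, -⟩ := hs
  have : Nonempty X := ⟨x⟩
  have hm : Mono ((Over.pullback j).map g).left := mono_pullback_left j g
  have hm' : Mono (Red.DSmap X φ).left :=
    (Sim.iff (MorphismProperty.monomorphisms Scheme.{u}) hS).mp hm
  exact surjective_of_mono X φ hm'

theorem fg_fin (r : ℕ) : AddGroup.FG (Fin r → ℤ) :=
  Module.Finite.iff_addGroup_fg.mp inferInstance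

/-- (MS-C) -/
theorem rank_le_of_mono {S : Scheme.{u}} [Nonempty S] {T T' : Over S} [GrpObj T] [GrpObj T']
    (r r' : ℕ) (hT : Red.IsSplitTorusWith (Fin r → ℤ) T)
    (hT' : Red.IsSplitTorusWith (Fin r' → ℤ) T') (g : T ⟶ T') [IsMonHom g] [Mono g] : r ≤ r' := by
  obtain ⟨s⟩ := (inferInstance : Nonempty S)
  obtain ⟨X, j, -, -, φ, hφ, -⟩ := local_form (Fin r → ℤ) (Fin r' → ℤ) (fg_fin r') hT hT' g s
  have h := LinearMap.finrank_le_finrank_of_surjective (f := φ.toIntLinearMap) hφ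
  simpa using h

/-- (MS-D) -/
theorem isIso_of_mono_split {S : Scheme.{u}} {T T' : Over S} [GrpObj T] [GrpObj T'] (r : ℕ)
    (hT : Red.IsSplitTorusWith (Fin r → ℤ) T) (hT' : Red.IsSplitTorusWith (Fin r → ℤ) T')
    (g : T ⟶ T') [IsMonHom g] [Mono g] : IsIso g := by
  have h1 : IsIso g.left := by
    refine zariski_local (P := MorphismProperty.isomorphisms Scheme.{u}) g (fun b => ?_)
    obtain ⟨X, j, hj, hs, φ, hφ, hS⟩ :=
      local_form (Fin r → ℤ) (Fin r → ℤ) (fg_fin r) hT hT' g (T'.hom.base b)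
    have hi : Function.Injective φ :=
      OrzechProperty.injective_of_surjective_endomorphism φ.toIntLinearMap hφ
    have h2 : IsIso (Red.DSmap X φ).left := isIso_of_bijective X φ ⟨hi, hφ⟩
    exact ⟨X, j, hj, hs, (Sim.iff (MorphismProperty.isomorphisms Scheme.{u}) hS).mpr h2⟩
  have h4 : IsIso ((Over.forget S).map g) := h1
  exact isIso_of_reflects_iso g (Over.forget S)

/-- (MS-B) -/
theorem exists_trivial_subtorus {S : Scheme.{u}} (G : Over S) [GrpObj G] :
    ∃ (T : Over S) (_ : GrpObj T) (j : T ⟶ G), IsMonHom j ∧ Mono j ∧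
      Red.IsSplitTorusWith (Fin 0 → ℤ) T := by
  refine ⟨Red.DS S (Fin 0 → ℤ), inferInstance, toUnit _ ≫ η[G], inferInstance, ?_, ⟨Iso.refl _⟩⟩
  have hiso : IsIso (Red.DS S (Fin 0 → ℤ)).hom :=
    Groth.Agent.H1.SplitTori.isIso_DS_hom_of_subsingleton S (Fin 0 → ℤ)
  constructor
  intro Z a b _
  apply Over.OverMorphism.ext
  rw [← cancel_mono (Red.DS S (Fin 0 → ℤ)).hom, Over.w a, Over.w b]

end Groth.Agent.H43.MS
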