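import Groth.Agent.H43.MSMain
import Groth.Agent.H43.MTLocSplit

/-!
# (MS-A) bound on the rank of split subtori of a group of multiplicative type (helper43, S16614)
-/

set_option autoImplicit false
universe u
open CategoryTheory Limits MonoidalCategory CartesianMonoidalCategory MonObj GrpObj AlgebraicGeometry

namespace Groth.Agent.H43.MS

open Groth.Agent.H43.MT Groth.Agent.H91.MultGa Groth.Agent.H1.HomDiag
open Groth.Agent.H37.ChowFormal (JIso J_isMonHom J_naturality)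

/-- base change of a splitting `T ≅ D_S(N)` along `g : U ⟶ S`. -/
theorem bc_split {S U : Scheme.{u}} (g : U ⟶ S) {T : Over S} [GrpObj T] (N : Type)
    [AddCommGroup N] (a : Grp.mk T ≅ Grp.mk (Red.DS S N)) :
    ∃ α : Red.bc g T ≅ Red.DS U N, IsMonHom α.hom ∧ IsMonHom α.inv := by
  let e₀ := isoOfGrpIso a
  let ε₂ := (Over.pullback g).mapIso e₀
  let ε₃ := JIso g (Limits.IsTerminal.from specULiftZIsTerminal S)
    (Limits.IsTerminal.from specULiftZIsTerminal U) (specULiftZIsTerminal.hom_ext _ _)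
    (Red.diag (ULift.{u} ℤ) N)
  have hε₂ : IsMonHom ε₂.hom := by
    dsimp only [ε₂, Functor.mapIso_hom]
    infer_instance
  have hε₃ : IsMonHom ε₃.hom :=
    J_isMonHom g _ _ (specULiftZIsTerminal.hom_ext _ _) (Red.diag (ULift.{u} ℤ) N)
  have hε₂' : IsMonHom ε₂.inv := inferInstance
  have hε₃' : IsMonHom ε₃.inv := inferInstance
  refine ⟨ε₂ ≪≫ ε₃, ?_, ?_⟩
  · show IsMonHom (ε₂.hom ≫ ε₃.hom)
    infer_instance
  · show IsMonHom (ε₃.inv ≫ ε₂.inv)
    infer_instance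

/-- (MS-A) -/
theorem rank_bound {S : Scheme.{u}} [Nonempty S] {G : Over S} [GrpObj G]
    (hG : SGA3x.IsMultTypeFT G) :
    ∃ b : ℕ, ∀ (T' : Over S) [GrpObj T'] (j' : T' ⟶ G) [IsMonHom j'] [Mono j'] (r' : ℕ),
      Red.IsSplitTorusWith (Fin r' → ℤ) T' → r' ≤ b := by
  obtain ⟨S', f, hfl, hsurj, hcov, hloc⟩ := hG
  obtain ⟨s⟩ := (inferInstance : Nonempty S)
  obtain ⟨s', hs'⟩ := hsurj.surj s
  obtain ⟨U, hs'U, M, iM, hM, ⟨e⟩⟩ := hloc s'
  have hfin : Module.Finite ℤ M := Module.Finite.iff_addGroup_fg.mpr hM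
  refine ⟨Module.finrank ℤ M, ?_⟩
  intro T' iT' j' hj' hm' r' hT'
  obtain ⟨a'⟩ := hT'
  obtain ⟨α', hα', hα'i⟩ := bc_split (U.ι ≫ f) (Fin r' → ℤ) a'
  obtain ⟨α, hα⟩ : ∃ α : Red.bc (U.ι ≫ f) G ≅ Red.DS (U : Scheme.{u}) M, IsMonHom α.hom :=
    ⟨isoOfGrpIso e, inferInstance⟩
  obtain ⟨v, hv⟩ : ∃ v : Red.DS (U : Scheme.{u}) (Fin r' → ℤ) ⟶ Red.DS (U : Scheme.{u}) M,
      v = α'.inv ≫ (Over.pullback (U.ι ≫ f)).map j' ≫ α.hom := ⟨_, rfl⟩
  have hvm : IsMonHom v := by rw [hv]; infer_instance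
  have hsim : Sim ((Over.pullback (U.ι ≫ f)).map j') v :=
    ⟨α', α, by rw [hv, Iso.hom_inv_id_assoc]⟩
  obtain ⟨X, j, hj, hs, φ, hφ⟩ := classify_local hM v ⟨s', hs'U⟩
  have hS : Sim ((Over.pullback j).map ((Over.pullback (U.ι ≫ f)).map j')) (Red.DSmap X φ) :=
    (Sim.map j hsim).trans hφ
  obtain ⟨x, -⟩ := hs
  have : Nonempty X := ⟨x⟩
  have hm1 : Mono ((Over.pullback (U.ι ≫ f)).map j') := by
    have : (Over.pullback (U.ι ≫ f)).IsRightAdjoint :=
      (Over.mapPullbackAdj (U.ι ≫ f)).isRightAdjoint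
    infer_instance
  have hm : Mono ((Over.pullback j).map ((Over.pullback (U.ι ≫ f)).map j')).left :=
    mono_pullback_left j _
  have hm' : Mono (Red.DSmap X φ).left :=
    (Sim.iff (MorphismProperty.monomorphisms Scheme.{u}) hS).mp hm
  have hsurjφ : Function.Surjective φ := surjective_of_mono X φ hm'
  have h := LinearMap.finrank_le_finrank_of_surjective (f := φ.toIntLinearMap) hsurjφ
  simpa using h

end Groth.Agent.H43.MS
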