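import Groth.Agent.H43.MTFrame

/-! Generic clopen-locus theorem for homomorphisms that are fpqc-locally `D(φ)`. Helper43. -/

set_option autoImplicit false
universe u
open CategoryTheory Limits AlgebraicGeometry MorphismProperty

namespace Groth.Agent.H43.MT

section Main

variable (P : MorphismProperty Scheme.{u}) [P.IsStableUnderBaseChange]
  [P.DescendsAlong (@Surjective ⊓ @Flat ⊓ @QuasiCompact)] [IsZariskiLocalAtTarget P]
  (Palg : ∀ {N M : Type} [AddCommGroup N] [AddCommGroup M], (N →+ M) → Prop)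
  (ofAlg : ∀ (X : Scheme.{u}) {N M : Type} [AddCommGroup N] [AddCommGroup M] (φ : N →+ M),
    Palg φ → P (Red.DSmap X φ).left)
  (toAlg : ∀ (X : Scheme.{u}) [Nonempty X] {N M : Type} [AddCommGroup N] [AddCommGroup M]
    (φ : N →+ M), P (Red.DSmap X φ).left → Palg φ)

include ofAlg toAlg in
/-- fibre criterion -/
theorem fibre_iff {S X : Scheme.{u}} (g : X ⟶ S) {G H : Over S} (u : G ⟶ H)
    {N M : Type} [AddCommGroup N] [AddCommGroup M] (φ : N →+ M)
    (hs : Sim ((Over.pullback g).map u) (Red.DSmap X φ)) (x : X) :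
    P ((Over.pullback (S.fromSpecResidueField (g x))).map u).left ↔ Palg φ := by
  have hcomm : Spec.map (g.residueFieldMap x) ≫ S.fromSpecResidueField (g x) =
      X.fromSpecResidueField x ≫ g := Scheme.Hom.SpecMap_residueFieldMap_fromSpecResidueField g x
  obtain ⟨hfl, hsu, hqc⟩ := field_map_props (Field.toIsField _) (Field.toIsField _)
    (g.residueFieldMap x)
  have s1 : Sim ((Over.pullback (Spec.map (g.residueFieldMap x))).map
      ((Over.pullback (S.fromSpecResidueField (g x))).map u))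
      ((Over.pullback (X.fromSpecResidueField x ≫ g)).map u) := Sim.bc_comp _ _ _ hcomm u
  have s2 : Sim ((Over.pullback (X.fromSpecResidueField x)).map ((Over.pullback g).map u))
      ((Over.pullback (X.fromSpecResidueField x ≫ g)).map u) := Sim.bc_comp _ _ _ rfl u
  have s3 := Sim.map (X.fromSpecResidueField x) hs
  have s4 := Sim.dsmap (X.fromSpecResidueField x) φ
  have s := (s1.trans s2.symm).trans (s3.trans s4)
  have hne : Nonempty ↥(Spec (X.residueField x)) := inferInstance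
  constructor
  · intro h
    have h1 := stable_bc P (Spec.map (g.residueFieldMap x)) _ h
    exact toAlg _ φ ((s.iff P).1 h1)
  · intro h
    have h1 := (s.iff P).2 (ofAlg _ φ h)
    exact desc_bc P (Spec.map (g.residueFieldMap x)) _ h1

include ofAlg toAlg in
theorem main {S S₃ : Scheme.{u}} {G H : Over S} (u : G ⟶ H) (g₃ : S₃ ⟶ S)
    (hTop : ∀ Z : Set S, IsOpen (g₃.base ⁻¹' Z) → IsOpen Z)
    (hCov : ∀ V : S.Opens, IsAffineOpen V → ∃ (Pc : Scheme.{u}) (a : Pc ⟶ (V : Scheme.{u}))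
      (p : Pc ⟶ S₃), Flat a ∧ Surjective a ∧ QuasiCompact a ∧ p ≫ g₃ = a ≫ V.ι)
    (hloc : ∀ w : S₃, ∃ (X : Scheme.{u}) (j : X ⟶ S₃), IsOpenImmersion j ∧
      w ∈ Set.range j.base ∧
      ∃ (N M : Type) (_ : AddCommGroup N) (_ : AddCommGroup M) (φ : N →+ M),
        Sim ((Over.pullback (j ≫ g₃)).map u) (Red.DSmap X φ)) :
    ∃ U : S.Opens, IsClosed (U : Set S) ∧
      (∀ s : S, s ∈ U ↔ P ((Over.pullback (S.fromSpecResidueField s)).map u).left) ∧
      P ((Over.pullback U.ι).map u).left := by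
  obtain ⟨Z, hZdef⟩ : ∃ Z : Set S, Z = {s | P ((Over.pullback (S.fromSpecResidueField s)).map u).left} :=
    ⟨_, rfl⟩
  have hZmem : ∀ s, s ∈ Z ↔ P ((Over.pullback (S.fromSpecResidueField s)).map u).left := by
    intro s; rw [hZdef]; rfl
  have hfibX : ∀ (X : Scheme.{u}) (j : X ⟶ S₃) (N M : Type) (_ : AddCommGroup N)
      (_ : AddCommGroup M) (φ : N →+ M),
      Sim ((Over.pullback (j ≫ g₃)).map u) (Red.DSmap X φ) → ∀ x : X,
        (g₃ (j x) ∈ Z ↔ Palg φ) := by
    intro X j N M _ _ φ hs x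
    rw [hZmem]
    exact fibre_iff P Palg ofAlg toAlg (j ≫ g₃) u φ hs x
  have key : ∀ w : S₃, ∃ O : Set S₃, IsOpen O ∧ w ∈ O ∧
      ((∀ w' ∈ O, g₃ w' ∈ Z) ∨ (∀ w' ∈ O, g₃ w' ∉ Z)) := by
    intro w
    obtain ⟨X, j, hj, hw, N, M, iN, iM, φ, hs⟩ := hloc w
    have hfib := hfibX X j N M iN iM φ hs
    refine ⟨Set.range j.base, j.isOpenEmbedding.isOpen_range, hw, ?_⟩
    by_cases hp : Palg φ
    · left
      rintro _ ⟨x, rfl⟩
      exact (hfib x).2 hp
    · right
      rintro _ ⟨x, rfl⟩ h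
      exact hp ((hfib x).1 h)
  have hopen1 : IsOpen (g₃.base ⁻¹' Z) := by
    rw [isOpen_iff_forall_mem_open]
    intro w hw
    obtain ⟨O, hO, hwO, h | h⟩ := key w
    · exact ⟨O, fun w' hw' => h w' hw', hO, hwO⟩
    · exact absurd hw (h w hwO)
  have hopen2 : IsOpen (g₃.base ⁻¹' Zᶜ) := by
    rw [isOpen_iff_forall_mem_open]
    intro w hw
    obtain ⟨O, hO, hwO, h | h⟩ := key w
    · exact absurd (h w hwO) hw
    · exact ⟨O, fun w' hw' => h w' hw', hO, hwO⟩
  have hZ : IsOpen Z := hTop Z hopen1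
  have hZc : IsOpen Zᶜ := hTop Zᶜ hopen2
  refine ⟨⟨Z, hZ⟩, ⟨hZc⟩, fun s => hZmem s, ?_⟩
  obtain ⟨U, hU⟩ : ∃ U : S.Opens, U = ⟨Z, hZ⟩ := ⟨_, rfl⟩
  rw [← hU]
  have hUZ : ∀ s : S, s ∈ U → s ∈ Z := by
    intro s hs; rw [hU] at hs; exact hs
  apply zariski_local P
  intro b
  obtain ⟨z, hz⟩ : ∃ z : (U : Scheme.{u}), z = ((Over.pullback U.ι).obj H).hom.base b := ⟨_, rfl⟩
  rw [← hz]
  have hzU : U.ι z ∈ U := by
    have : U.ι z = z.1 := rfl
    rw [this]; exact z.2
  have hbasis : ∀ {U : S.Opens} {x : S}, x ∈ U → ∃ U' ∈ S.affineOpens, x ∈ U' ∧ U' ≤ U :=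
    TopologicalSpace.Opens.isBasis_iff_nbhd.mp S.isBasis_affineOpens
  obtain ⟨V, hVaff, hsV, hVU⟩ := hbasis hzU
  refine ⟨V, S.homOfLE hVU, inferInstance, ?_, ?_⟩
  · refine ⟨⟨U.ι z, hsV⟩, ?_⟩
    apply U.ι.isOpenEmbedding.injective
    have h1 : U.ι.base ((S.homOfLE hVU).base ⟨U.ι z, hsV⟩) =
        (S.homOfLE hVU ≫ U.ι).base ⟨U.ι z, hsV⟩ := rfl
    rw [h1, S.homOfLE_ι hVU]
    rfl
  · refine ((Sim.bc_comp (S.homOfLE hVU) U.ι V.ι (S.homOfLE_ι hVU) u).iff P).2 ?_
    obtain ⟨Pc, a, p, hafl, hasu, haqc, hpa⟩ := hCov V hVaff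
    have := hafl
    have := hasu
    have := haqc
    apply desc_bc P a
    refine ((Sim.bc_comp a V.ι (p ≫ g₃) hpa.symm u).iff P).2 ?_
    apply zariski_local P
    intro b'
    obtain ⟨y, hy⟩ : ∃ y : Pc, y = ((Over.pullback (p ≫ g₃)).obj H).hom.base b' := ⟨_, rfl⟩
    rw [← hy]
    obtain ⟨X, j, hj, hw, N, M, iN, iM, φ, hs⟩ := hloc (p y)
    have := hj
    obtain ⟨x, hx⟩ := hw
    have hPalg : Palg φ := by
      apply (hfibX X j N M iN iM φ hs x).1
      have e1 : g₃ (j x) = V.ι (a y) := by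
        have h2 : g₃ (j x) = (p ≫ g₃) y := by
          show g₃.base (j.base x) = g₃.base (p.base y)
          rw [hx]
        rw [h2, hpa]
        rfl
      rw [e1]
      apply hUZ
      apply hVU
      have : V.ι (a y) = (a y).1 := rfl
      rw [this]
      exact (a y).2
    refine ⟨pullback p j, pullback.fst p j, inferInstance, ?_, ?_⟩
    · rw [Scheme.Pullback.range_fst]
      exact ⟨x, hx⟩
    · have c1 : pullback.fst p j ≫ p ≫ g₃ = pullback.snd p j ≫ j ≫ g₃ := by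
        rw [← Category.assoc, pullback.condition, Category.assoc]
      have t1 := Sim.bc_comp (pullback.fst p j) (p ≫ g₃) _ c1 u
      have t2 := Sim.bc_comp (pullback.snd p j) (j ≫ g₃) _ rfl u
      have t3 := Sim.map (pullback.snd p j) hs
      have t4 := Sim.dsmap (pullback.snd p j) φ
      exact (((t1.trans t2.symm).trans (t3.trans t4)).iff P).2 (ofAlg _ φ hPalg)

end Main

end Groth.Agent.H43.MT
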