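import Groth.Agent.H43.GaGmFn

/-! Rank-one systems (SGA3 XX): consequences of the commutation rule
`p₊(x) p₋(y) = p₋(y/(1+xy)) α^*(1+xy) p₊(x/(1+xy))` for the elements `w(x) = p₊(x) p₋(-x⁻¹) p₊(x)`. -/

set_option autoImplicit false
universe u
open CategoryTheory MonoidalCategory CartesianMonoidalCategory MonObj GrpObj AlgebraicGeometry
  CategoryTheory.Limits

namespace Groth.Agent.H43.RankOne

open Groth.Agent.H43.GaGmFn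
open Groth.Agent.S13371 (gm_ext isUnit_gmFn)

variable {S : Scheme.{u}} {G T : Over S} [GrpObj G] [GrpObj T] (i : T ⟶ G) [IsMonHom i]
  (α : T ⟶ Red.Gm S) [IsMonHom α] (pp pm : Red.Ga S ⟶ G) [IsMonHom pp] [IsMonHom pm]
  (av : Red.Gm S ⟶ T) [IsMonHom av]

omit [GrpObj T] [IsMonHom α] [IsMonHom av] in
theorem gmFn_sq (h2 : av ≫ α = (𝟙 (Red.Gm S)) ^ 2) {X : Over S} (z : X ⟶ Red.Gm S) :
    Red.gmFn ((z ≫ av) ≫ α) = Red.gmFn z * Red.gmFn z := by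
  rw [Category.assoc, h2, MonObj.comp_pow, Category.comp_id, _root_.pow_two, gmFn_mul]

theorem A_mul {X : Over S} (m n : X ⟶ Red.Gm S) :
    (m * n) ≫ av ≫ i = (m ≫ av ≫ i) * (n ≫ av ≫ i) := by
  have e1 : (m * n) ≫ av = (m ≫ av) * (n ≫ av) := MonObj.mul_comp m n av
  have e2 : ((m ≫ av) * (n ≫ av)) ≫ i = ((m ≫ av) ≫ i) * ((n ≫ av) ≫ i) :=
    MonObj.mul_comp _ _ i
  rw [← Category.assoc, e1, e2, Category.assoc, Category.assoc]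

theorem A_sq_eq_one {X : Over S} (n : X ⟶ Red.Gm S) (hn : Red.gmFn n = -1) :
    (n ≫ av ≫ i) * (n ≫ av ≫ i) = 1 := by
  have hnn : n * n = 1 := gm_ext _ _ (by rw [gmFn_mul, gmFn_one, hn]; ring)
  have e3 : (1 : X ⟶ Red.Gm S) ≫ av = 1 := MonObj.one_comp av
  have e4 : (1 : X ⟶ T) ≫ i = 1 := MonObj.one_comp i
  rw [← A_mul, hnn, ← Category.assoc, e3, e4]

/-- `w(zx) = α^*(z) w(x) = w(x) α^*(z)⁻¹`. -/
theorem lemmaW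
    (hpp : ∀ (X : Over S) (t : X ⟶ T) (x : X ⟶ Red.Ga S), ∃ x' : X ⟶ Red.Ga S,
      x' ≫ pp = (t ≫ i) * (x ≫ pp) * (t ≫ i)⁻¹ ∧ Red.gaFn x' = Red.gmFn (t ≫ α) * Red.gaFn x)
    (h2 : av ≫ α = (𝟙 (Red.Gm S)) ^ 2)
    (hF : ∀ (X : Over S) (x y : X ⟶ Red.Ga S), IsUnit (1 + Red.gaFn x * Red.gaFn y) →
      ∃ (x' y' : X ⟶ Red.Ga S) (z : X ⟶ Red.Gm S), Red.gmFn z = 1 + Red.gaFn x * Red.gaFn y ∧
        Red.gaFn x' * Red.gmFn z = Red.gaFn x ∧ Red.gaFn y' * Red.gmFn z = Red.gaFn y ∧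
        (x ≫ pp) * (y ≫ pm) = (y' ≫ pm) * (z ≫ av ≫ i) * (x' ≫ pp))
    (hFop : ∀ (X : Over S) (x y x' y' : X ⟶ Red.Ga S) (z : X ⟶ Red.Gm S),
      Red.gmFn z = 1 + Red.gaFn x * Red.gaFn y → Red.gaFn x' * Red.gmFn z = Red.gaFn x →
      Red.gaFn y' * Red.gmFn z = Red.gaFn y →
      (y ≫ pm) * (x ≫ pp) = (x' ≫ pp) * (z ≫ av ≫ i)⁻¹ * (y' ≫ pm))
    (X : Over S) (x x' : X ⟶ Red.Ga S) (hx : Red.gaFn x' * Red.gaFn x = -1)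
    (z : X ⟶ Red.Gm S) (y y' : X ⟶ Red.Ga S) (hy : Red.gaFn y = Red.gmFn z * Red.gaFn x)
    (hy' : Red.gaFn y' * Red.gaFn y = -1) :
    (y ≫ pp) * (y' ≫ pm) * (y ≫ pp) = (z ≫ av ≫ i) * ((x ≫ pp) * (x' ≫ pm) * (x ≫ pp)) ∧
    (y ≫ pp) * (y' ≫ pm) * (y ≫ pp) = ((x ≫ pp) * (x' ≫ pm) * (x ≫ pp)) * (z ≫ av ≫ i)⁻¹ := by
  have huz := isUnit_gmFn z
  have hvu : IsUnit (Red.gaFn y) :=
    ⟨⟨Red.gaFn y, -Red.gaFn y', by linear_combination -hy', by linear_combination -hy'⟩, rfl⟩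
  have hc : Red.gaFn (y⁻¹ * x) = Red.gaFn x - Red.gaFn y := by rw [gaFn_mul, gaFn_inv]; ring
  have hc' : Red.gaFn (x * y⁻¹) = Red.gaFn x - Red.gaFn y := by rw [gaFn_mul, gaFn_inv]; ring
  have e : 1 + Red.gaFn (y⁻¹ * x) * Red.gaFn x' = Red.gmFn z := by
    rw [hc, hy]; linear_combination (1 - Red.gmFn z) * hx
  have e' : 1 + Red.gaFn (x * y⁻¹) * Red.gaFn x' = Red.gmFn z := by
    rw [hc', hy]; linear_combination (1 - Red.gmFn z) * hx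
  obtain ⟨x₃, y₃, z₃, hz₃, hx₃, hy₃, hprod⟩ := hF X (y⁻¹ * x) x' (by rw [e]; exact huz)
  have ez : z = z₃ := (gm_ext _ _ (hz₃.trans e)).symm
  subst ez
  have ey : y' = y₃ := (ga_ext _ _ (by
    apply hvu.mul_left_injective
    show Red.gaFn y₃ * Red.gaFn y = Red.gaFn y' * Red.gaFn y
    rw [hy', hy]; linear_combination Red.gaFn x * hy₃ + hx)).symm
  subst ey
  have hsq : Red.gmFn ((z ≫ av) ≫ α) = Red.gmFn z * Red.gmFn z := gmFn_sq α av h2 z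
  have h4 : Red.gaFn (x₃ * x) * Red.gmFn z = Red.gaFn x := by
    rw [gaFn_mul, add_mul, hx₃, hc, hy]; ring
  have h4' : Red.gaFn (x * x₃) * Red.gmFn z = Red.gaFn x := by
    rw [gaFn_mul, add_mul, hx₃, hc, hy]; ring
  obtain ⟨x₅, hx₅, hx₅'⟩ := hpp X (z ≫ av) (x₃ * x)
  have e5 : y = x₅ := ga_ext _ _ (by
    rw [hx₅', hsq, hy]; linear_combination (-Red.gmFn z) * h4)
  subst e5
  obtain ⟨x₆, hx₆, hx₆'⟩ := hpp X (z ≫ av) (x * x₃)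
  have e6 : y = x₆ := ga_ext _ _ (by
    rw [hx₆', hsq, hy]; linear_combination (-Red.gmFn z) * h4')
  subst e6
  have hop := hFop X (x * y⁻¹) x' x₃ y' z e'.symm (by rw [hx₃, hc, hc']) hy₃
  have m1 : (y⁻¹ * x) ≫ pp = (y ≫ pp)⁻¹ * (x ≫ pp) := by rw [MonObj.mul_comp, GrpObj.inv_comp]
  have m2 : (x * y⁻¹) ≫ pp = (x ≫ pp) * (y ≫ pp)⁻¹ := by rw [MonObj.mul_comp, GrpObj.inv_comp]
  have m3 : (x₃ * x) ≫ pp = (x₃ ≫ pp) * (x ≫ pp) := MonObj.mul_comp _ _ pp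
  have m4 : (x * x₃) ≫ pp = (x ≫ pp) * (x₃ ≫ pp) := MonObj.mul_comp _ _ pp
  rw [m1] at hprod
  rw [m2] at hop
  rw [m3, Category.assoc] at hx₅
  rw [m4, Category.assoc] at hx₆
  constructor
  · have hMy : y' ≫ pm = (z ≫ av ≫ i) * (x₃ ≫ pp)⁻¹ *
        ((x' ≫ pm) * ((x ≫ pp) * (y ≫ pp)⁻¹)) := by
      rw [hop]; group
    rw [hMy, hx₆]; group
  · have hMx : x' ≫ pm = (x ≫ pp)⁻¹ * (y ≫ pp) *
        ((y' ≫ pm) * (z ≫ av ≫ i) * (x₃ ≫ pp)) := by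
      rw [← hprod]; group
    rw [hMx, hx₅]; group

theorem grp_aux {M : Type*} [Group M] (A W : M) (h1 : W⁻¹ = A * W) (hA : A * A = 1) :
    W * W = A := by
  have hA' : A = A⁻¹ := eq_inv_of_mul_eq_one_left hA
  have h3 : A * (W * W) = 1 := by rw [← _root_.mul_assoc, ← h1, inv_mul_cancel]
  rw [hA']; exact eq_inv_of_mul_eq_one_right h3

/-- `w(x)² = α^*(-1)`. -/
theorem w_sq
    (hpp : ∀ (X : Over S) (t : X ⟶ T) (x : X ⟶ Red.Ga S), ∃ x' : X ⟶ Red.Ga S,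
      x' ≫ pp = (t ≫ i) * (x ≫ pp) * (t ≫ i)⁻¹ ∧ Red.gaFn x' = Red.gmFn (t ≫ α) * Red.gaFn x)
    (h2 : av ≫ α = (𝟙 (Red.Gm S)) ^ 2)
    (hF : ∀ (X : Over S) (x y : X ⟶ Red.Ga S), IsUnit (1 + Red.gaFn x * Red.gaFn y) →
      ∃ (x' y' : X ⟶ Red.Ga S) (z : X ⟶ Red.Gm S), Red.gmFn z = 1 + Red.gaFn x * Red.gaFn y ∧
        Red.gaFn x' * Red.gmFn z = Red.gaFn x ∧ Red.gaFn y' * Red.gmFn z = Red.gaFn y ∧
        (x ≫ pp) * (y ≫ pm) = (y' ≫ pm) * (z ≫ av ≫ i) * (x' ≫ pp))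
    (hFop : ∀ (X : Over S) (x y x' y' : X ⟶ Red.Ga S) (z : X ⟶ Red.Gm S),
      Red.gmFn z = 1 + Red.gaFn x * Red.gaFn y → Red.gaFn x' * Red.gmFn z = Red.gaFn x →
      Red.gaFn y' * Red.gmFn z = Red.gaFn y →
      (y ≫ pm) * (x ≫ pp) = (x' ≫ pp) * (z ≫ av ≫ i)⁻¹ * (y' ≫ pm))
    (X : Over S) (x x' : X ⟶ Red.Ga S) (hx : Red.gaFn x' * Red.gaFn x = -1)
    (n : X ⟶ Red.Gm S) (hn : Red.gmFn n = -1) :
    ((x ≫ pp) * (x' ≫ pm) * (x ≫ pp)) ^ 2 = n ≫ av ≫ i := by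
  have hxi : Red.gaFn x'⁻¹ * Red.gaFn x⁻¹ = -1 := by
    rw [gaFn_inv, gaFn_inv, neg_mul_neg, hx]
  have h1 := (lemmaW i α pp pm av hpp h2 hF hFop X x x' hx n x⁻¹ x'⁻¹
    (by rw [gaFn_inv, hn]; ring) hxi).1
  have i1 : x⁻¹ ≫ pp = (x ≫ pp)⁻¹ := GrpObj.inv_comp x pp
  have i2 : x'⁻¹ ≫ pm = (x' ≫ pm)⁻¹ := GrpObj.inv_comp x' pm
  rw [i1, i2] at h1
  have hA2 := A_sq_eq_one i av n hn
  have hW' : (x ≫ pp)⁻¹ * (x' ≫ pm)⁻¹ * (x ≫ pp)⁻¹ =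
      ((x ≫ pp) * (x' ≫ pm) * (x ≫ pp))⁻¹ := by
    rw [_root_.mul_inv_rev, _root_.mul_inv_rev, _root_.mul_assoc]
  rw [hW'] at h1
  rw [_root_.pow_two]
  exact grp_aux _ _ h1 hA2

end Groth.Agent.H43.RankOne
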