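import Mathlib
import Groth.Prelude.Def_SekSuwa2
import Groth.Prelude.Def_Mor2

/-!
# helper43: the coordinate ring `AK R lam N h` of `G_{λ,N}` (Sekiguchi–Suwa)

* `psiPoly` is monic of degree `N` (for `N ≥ 1`);
* `AK ≃ R[X]/(psiPoly)`, hence finite free of rank `N`;
* the pushout square of rings giving `G_{λ,N} = ker ψ`;
* ring homs out of `AK` into a flat `R`-algebra are determined by the image of `1 + λ t`.
-/

set_option autoImplicit false
universe u

namespace Groth.Agent.H43.SekSuwaAK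
open SekSuwa Polynomial CategoryTheory AlgebraicGeometry Limits

section Poly
variable {R : Type u} [CommRing R] {lam : R} {N : ℕ}

theorem coeff_one_add_C_mul_X_pow (a : R) (n k : ℕ) :
    ((1 + C a * X : R[X]) ^ n).coeff k = (n.choose k : R) * a ^ k := by
  have e : (1 + C a * X : R[X]) ^ n = ((1 + X : R[X]) ^ n).comp (C a * X) := by
    rw [pow_comp, add_comp, one_comp, X_comp]
  rw [e, comp_C_mul_X_coeff, coeff_one_add_X_pow]

theorem coeff_psiPoly (h : DivCond lam N) (k : ℕ) (hk : k ≠ 0) :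
    lam ^ N * (psiPoly lam N h).coeff k = (N.choose k : R) * lam ^ k := by
  have e := congrArg (fun q => coeff q k) (psiPoly_spec h)
  simp only [coeff_C_mul, coeff_sub, coeff_one_add_C_mul_X_pow, coeff_one, if_neg hk, sub_zero] at e
  exact e

theorem psiPoly_coeff_self (h : DivCond lam N) (hN : 0 < N) : (psiPoly lam N h).coeff N = 1 := by
  apply cancel_nzd h.pow_nzd
  rw [coeff_psiPoly h N hN.ne', Nat.choose_self, Nat.cast_one, one_mul, mul_one]

theorem psiPoly_coeff_of_lt (h : DivCond lam N) (k : ℕ) (hk : N < k) :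
    (psiPoly lam N h).coeff k = 0 := by
  apply cancel_nzd h.pow_nzd
  rw [coeff_psiPoly h k (by omega), Nat.choose_eq_zero_of_lt hk, Nat.cast_zero, zero_mul, mul_zero]

theorem psiPoly_natDegree_le (h : DivCond lam N) : (psiPoly lam N h).natDegree ≤ N :=
  natDegree_le_iff_coeff_eq_zero.mpr (fun k hk => psiPoly_coeff_of_lt h k hk)

theorem psiPoly_monic (h : DivCond lam N) (hN : 0 < N) : (psiPoly lam N h).Monic :=
  monic_of_natDegree_le_of_coeff_eq_one N (psiPoly_natDegree_le h) (psiPoly_coeff_self h hN)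

theorem psiPoly_natDegree [Nontrivial R] (h : DivCond lam N) (hN : 0 < N) :
    (psiPoly lam N h).natDegree = N :=
  natDegree_eq_of_le_of_coeff_ne_zero (psiPoly_natDegree_le h)
    (by rw [psiPoly_coeff_self h hN]; exact one_ne_zero)

end Poly

section AKsec
variable {R : Type u} [CommRing R] {lam : R} {N : ℕ} (h : DivCond lam N)

theorem u_mul_inv : (1 + lam • (AK.t : AK R lam N h)) * AK.inv = 1 := by
  have := congrArg (AK.mkHom R lam N h) (A.u_mul_inv (R := R) (lam := lam))
  rw [map_mul, map_one, A.u, map_add, map_one, map_smul] at this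
  exact this

theorem inv_eq (hN : 0 < N) : (AK.inv : AK R lam N h) = (1 + lam • AK.t) ^ (N - 1) := by
  have h1 := u_mul_inv h
  have h2 : (1 + lam • (AK.t : AK R lam N h)) ^ N = 1 := AK.u_pow
  calc (AK.inv : AK R lam N h) = (1 + lam • AK.t) ^ N * AK.inv := by rw [h2, one_mul]
    _ = (1 + lam • AK.t) ^ (N - 1) * ((1 + lam • AK.t) * AK.inv) := by
        rw [← mul_assoc, ← pow_succ, Nat.sub_add_cancel hN]
    _ = _ := by rw [h1, mul_one]

theorem root_pow : (1 + lam • AdjoinRoot.root (psiPoly lam N h)) ^ N = 1 := by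
  have e := aeval_psiPoly h (B := AdjoinRoot (psiPoly lam N h)) (AdjoinRoot.root _)
  rw [AdjoinRoot.aeval_eq, AdjoinRoot.mk_self, mul_zero] at e
  rw [Algebra.smul_def]
  exact sub_eq_zero.mp e.symm

noncomputable def fwd : AdjoinRoot (psiPoly lam N h) →ₐ[R] AK R lam N h :=
  AdjoinRoot.liftAlgHom _ (Algebra.ofId R _) AK.t (by
    have := AK.aeval_t (R := R) (lam := lam) (N := N) (h := h)
    rw [Polynomial.aeval_def] at this
    exact this)

theorem fwd_root : fwd h (AdjoinRoot.root (psiPoly lam N h)) = AK.t :=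
  AdjoinRoot.liftAlgHom_root _ _ _ _

noncomputable def bwd0 (hN : 0 < N) : A R lam →ₐ[R] AdjoinRoot (psiPoly lam N h) :=
  A.lift R lam (AdjoinRoot.root (psiPoly lam N h))
    ((1 + lam • AdjoinRoot.root (psiPoly lam N h)) ^ (N - 1)) (by
    rw [← pow_succ', Nat.sub_add_cancel hN]; exact root_pow h)

noncomputable def bwd (hN : 0 < N) : AK R lam N h →ₐ[R] AdjoinRoot (psiPoly lam N h) :=
  Ideal.Quotient.liftₐ (kerIdeal lam N h) (bwd0 h hN) (by
    intro a ha
    obtain ⟨c, rfl⟩ := Ideal.mem_span_singleton'.mp ha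
    rw [map_mul, kerGen, ← Polynomial.aeval_algHom_apply, bwd0, A.lift_t, AdjoinRoot.aeval_eq,
      AdjoinRoot.mk_self, mul_zero])

theorem bwd_t (hN : 0 < N) : bwd h hN AK.t = AdjoinRoot.root (psiPoly lam N h) := by
  show bwd0 h hN A.t = _
  rw [bwd0, A.lift_t]

theorem bwd_inv (hN : 0 < N) :
    bwd h hN AK.inv = (1 + lam • AdjoinRoot.root (psiPoly lam N h)) ^ (N - 1) := by
  show bwd0 h hN A.inv = _
  rw [bwd0, A.lift_inv]

/-- `AK ≃ R[X]/(P_{λ,N})` for `N ≥ 1`. -/
noncomputable def akEquiv (hN : 0 < N) : AdjoinRoot (psiPoly lam N h) ≃ₐ[R] AK R lam N h :=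
  AlgEquiv.ofAlgHom (fwd h) (bwd h hN)
    (by
      apply AK.algHom_ext
      · rw [AlgHom.comp_apply, bwd_t, fwd_root, AlgHom.id_apply]
      · rw [AlgHom.comp_apply, bwd_inv, map_pow, map_add, map_one, map_smul, fwd_root,
          AlgHom.id_apply, inv_eq h hN])
    (by
      apply AdjoinRoot.algHom_ext
      rw [AlgHom.comp_apply, fwd_root, bwd_t, AlgHom.id_apply])

theorem free_AK (hN : 0 < N) : Module.Free R (AK R lam N h) :=
  haveI : Module.Free R (AdjoinRoot (psiPoly lam N h)) := (psiPoly_monic h hN).free_adjoinRoot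
  Module.Free.of_equiv (akEquiv h hN).toLinearEquiv

theorem finite_AK (hN : 0 < N) : Module.Finite R (AK R lam N h) :=
  haveI : Module.Finite R (AdjoinRoot (psiPoly lam N h)) := (psiPoly_monic h hN).finite_adjoinRoot
  Module.Finite.equiv (akEquiv h hN).toLinearEquiv

theorem finrank_AK [Nontrivial R] (hN : 0 < N) : Module.finrank R (AK R lam N h) = N := by
  rw [← (akEquiv h hN).toLinearEquiv.finrank_eq,
    (AdjoinRoot.powerBasis' (psiPoly_monic h hN)).finrank, AdjoinRoot.powerBasis'_dim,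
    psiPoly_natDegree h hN]

/-- Ring homs from `AK` to a flat `R`-algebra are determined by the image of `1 + λ t`. -/
theorem ringHom_ext_of_flat {B : Type u} [CommRing B] (ρ : R →+* B) (hρ : ρ.Flat)
    (φ₁ φ₂ : AK R lam N h →+* B)
    (h₁ : φ₁.comp (algebraMap R (AK R lam N h)) = ρ)
    (h₂ : φ₂.comp (algebraMap R (AK R lam N h)) = ρ)
    (hu : φ₁ (1 + lam • AK.t) = φ₂ (1 + lam • AK.t)) : φ₁ = φ₂ := by
  let _ : Algebra R B := ρ.toAlgebra
  have : Module.Flat R B := hρ
  have hreg : IsSMulRegular B lam := Module.Flat.isSMulRegular_of_nonZeroDivisors h.nzd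
  let F₁ : AK R lam N h →ₐ[R] B :=
    { φ₁ with commutes' := fun r => congrArg (fun f : R →+* B => f r) h₁ }
  let F₂ : AK R lam N h →ₐ[R] B :=
    { φ₂ with commutes' := fun r => congrArg (fun f : R →+* B => f r) h₂ }
  have e1 : ∀ φ : AK R lam N h →+* B, φ.comp (algebraMap R (AK R lam N h)) = ρ →
      φ (1 + lam • AK.t) = 1 + lam • φ AK.t := by
    intro φ hφ
    rw [map_add, map_one, Algebra.smul_def, map_mul, Algebra.smul_def]
    congr 2
    exact congrArg (fun f : R →+* B => f lam) hφ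
  have ht : φ₁ AK.t = φ₂ AK.t := by
    apply hreg
    show lam • φ₁ AK.t = lam • φ₂ AK.t
    have hu' := hu
    rw [e1 φ₁ h₁, e1 φ₂ h₂] at hu'
    exact add_left_cancel hu'
  have hinv : φ₁ AK.inv = φ₂ AK.inv := by
    have a1 := congrArg φ₁ (u_mul_inv h)
    have a2 := congrArg φ₂ (u_mul_inv h)
    rw [map_mul, map_one] at a1 a2
    calc φ₁ AK.inv = φ₁ AK.inv * (φ₂ (1 + lam • AK.t) * φ₂ AK.inv) := by rw [a2, mul_one]
      _ = (φ₁ (1 + lam • AK.t) * φ₁ AK.inv) * φ₂ AK.inv := by rw [hu]; ring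
      _ = φ₂ AK.inv := by rw [a1, one_mul]
  have hF : F₁ = F₂ := AK.algHom_ext ht hinv
  ext x
  exact congrArg (fun F : AK R lam N h →ₐ[R] B => F x) hF

end AKsec

section Pushout
variable (R : Type u) [CommRing R] (lam : R) (N : ℕ) (h : DivCond lam N)

/-- The pushout square of rings behind `G_{λ,N} = ker ψ_{λ,N}`. -/
theorem isPushout_AK :
    IsPushout
      (CommRingCat.ofHom ((psiHom R lam N h : A R (lam ^ N) →ₐc[R] A R lam) : A R (lam ^ N) →+* A R lam))
      (CommRingCat.ofHom ((Bialgebra.counitAlgHom R (A R (lam ^ N)) : A R (lam ^ N) →ₐ[R] R) :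
        A R (lam ^ N) →+* R))
      (CommRingCat.ofHom ((AK.mkHom R lam N h : A R lam →ₐc[R] AK R lam N h) : A R lam →+* AK R lam N h))
      (CommRingCat.ofHom (algebraMap R (AK R lam N h))) := by
  have hcomm : CommRingCat.ofHom ((psiHom R lam N h : A R (lam ^ N) →ₐc[R] A R lam) :
        A R (lam ^ N) →+* A R lam) ≫
      CommRingCat.ofHom ((AK.mkHom R lam N h : A R lam →ₐc[R] AK R lam N h) : A R lam →+* AK R lam N h) =
      CommRingCat.ofHom ((Bialgebra.counitAlgHom R (A R (lam ^ N)) : A R (lam ^ N) →ₐ[R] R) :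
        A R (lam ^ N) →+* R) ≫ CommRingCat.ofHom (algebraMap R (AK R lam N h)) := by
    ext x
    exact congrArg (fun f : A R (lam ^ N) →ₐc[R] AK R lam N h => f x) (mkHom_comp_psiHom R lam N h)
  have hk : ∀ s : PushoutCocone
      (CommRingCat.ofHom ((psiHom R lam N h : A R (lam ^ N) →ₐc[R] A R lam) : A R (lam ^ N) →+* A R lam))
      (CommRingCat.ofHom ((Bialgebra.counitAlgHom R (A R (lam ^ N)) : A R (lam ^ N) →ₐ[R] R) :
        A R (lam ^ N) →+* R)), ∀ a ∈ kerIdeal lam N h, s.inl.hom a = 0 := by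
    intro s a ha
    obtain ⟨c, rfl⟩ := Ideal.mem_span_singleton'.mp ha
    have e : s.inl.hom (psiHom R lam N h A.t) =
        s.inr.hom (CoalgebraStruct.counit (R := R) (A.t : A R (lam ^ N))) :=
      congrArg (fun φ => φ.hom (A.t : A R (lam ^ N))) s.condition
    rw [psiHom_t, A.counit_t, map_zero] at e
    rw [map_mul, e, mul_zero]
  refine ⟨⟨hcomm⟩, ⟨PushoutCocone.IsColimit.mk _
    (fun s => CommRingCat.ofHom (Ideal.Quotient.lift (kerIdeal lam N h) s.inl.hom (hk s))) ?_ ?_ ?_⟩⟩
  · intro s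
    ext x
    exact Ideal.Quotient.lift_mk (kerIdeal lam N h) s.inl.hom (hk s)
  · intro s
    ext r
    have e : s.inl.hom (psiHom R lam N h (algebraMap R (A R (lam ^ N)) r)) =
        s.inr.hom (Bialgebra.counitAlgHom R (A R (lam ^ N)) (algebraMap R (A R (lam ^ N)) r)) :=
      congrArg (fun φ => φ.hom (algebraMap R (A R (lam ^ N)) r)) s.condition
    simp only [AlgHomClass.commutes] at e
    exact e
  · intro s m h₁ _
    ext x
    obtain ⟨a, rfl⟩ := Ideal.Quotient.mk_surjective x
    exact congrArg (fun φ => φ.hom a) h₁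

/-- `G_{λ,N}` is the kernel of `ψ_{λ,N}`. -/
theorem isKernel_incl_psi : AlgGrp.IsKernel (incl R lam N h) (psi R lam N h) := by
  have hw : incl R lam N h ≫ psi R lam N h =
      CartesianMonoidalCategory.toUnit (GK R lam N h) ≫ MonObj.one (X := G R (lam ^ N)) := by
    rw [incl_psi]; rfl
  refine IsPullback.of_map (Over.forget _) hw ?_
  have hu : (CartesianMonoidalCategory.toUnit (GK R lam N h)).left =
      Spec.map (CommRingCat.ofHom (algebraMap R (AK R lam N h))) := by
    rw [← Category.comp_id (CartesianMonoidalCategory.toUnit (GK R lam N h)).left]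
    exact Over.w (CartesianMonoidalCategory.toUnit (GK R lam N h))
  show IsPullback (incl R lam N h).left (CartesianMonoidalCategory.toUnit (GK R lam N h)).left
    (psi R lam N h).left (MonObj.one (X := G R (lam ^ N))).left
  rw [hu]
  exact isPullback_SpecMap_of_isPushout _ _ _ _ (isPushout_AK R lam N h)

/-- `G_{λ,N}` is finite locally free of degree `N` over `Spec R` (`N ≥ 1`). -/
theorem isFinLocFreeOfDeg_GK (hN : 0 < N) : Mor2.IsFinLocFreeOfDeg N (GK R lam N h).hom := by
  have := free_AK h hN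
  have := finite_AK h hN
  have : Module.FinitePresentation R (AK R lam N h) := Module.finitePresentation_of_projective R _
  have : Algebra.FinitePresentation R (AK R lam N h) := inferInstance
  show Mor2.IsFinLocFreeOfDeg N (Spec.map (CommRingCat.ofHom (algebraMap R (AK R lam N h))))
  refine ⟨⟨?_, ?_, ?_⟩, ?_⟩
  · rw [IsFinite.SpecMap_iff, CommRingCat.hom_ofHom]
    exact RingHom.finite_algebraMap.2 inferInstance
  · rw [Flat.SpecMap_iff, CommRingCat.hom_ofHom]
    exact RingHom.flat_algebraMap_iff.2 inferInstance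
  · rw [LocallyOfFinitePresentation.SpecMap_iff, CommRingCat.hom_ofHom]
    exact RingHom.finitePresentation_algebraMap.2 inferInstance
  · intro y
    have : Nontrivial R := (PrimeSpectrum.nonempty_iff_nontrivial).1 ⟨y⟩
    have e := Scheme.Hom.finrank_SpecMap_algebraMap R (AK R lam N h) y
    rw [Module.rankAtStalk_eq_finrank_of_free, finrank_AK h hN] at e
    exact e

/-- Morphisms from a flat `R`-scheme to `G_{λ,N}` are determined by their composite with `α`. -/
theorem hom_ext_of_flat (G : Over (Spec (CommRingCat.of R))) [Flat G.hom]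
    (f g : G ⟶ GK R lam N h)
    (hfg : f ≫ alphaN R lam N h = g ≫ alphaN R lam N h) : f = g := by
  apply Over.OverMorphism.ext
  refine G.left.affineOpenCover.openCover.hom_ext _ _ ?_
  intro (j : G.left.affineOpenCover.I₀)
  show G.left.affineOpenCover.f j ≫ f.left = G.left.affineOpenCover.f j ≫ g.left
  obtain ⟨φ₁, hφ₁⟩ : ∃ φ : CommRingCat.of (AK R lam N h) ⟶ G.left.affineOpenCover.X j,
      Spec.map φ = G.left.affineOpenCover.f j ≫ f.left := ⟨_, Spec.map_preimage _⟩
  obtain ⟨φ₂, hφ₂⟩ : ∃ φ : CommRingCat.of (AK R lam N h) ⟶ G.left.affineOpenCover.X j,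
      Spec.map φ = G.left.affineOpenCover.f j ≫ g.left := ⟨_, Spec.map_preimage _⟩
  obtain ⟨ρ, hρ⟩ : ∃ ρ : CommRingCat.of R ⟶ G.left.affineOpenCover.X j,
      Spec.map ρ = G.left.affineOpenCover.f j ≫ G.hom := ⟨_, Spec.map_preimage _⟩
  rw [← hφ₁, ← hφ₂]
  congr 1
  have hflat : ρ.hom.Flat := by
    rw [← Flat.SpecMap_iff, hρ]
    infer_instance
  have hGK : (GK R lam N h).hom = Spec.map (CommRingCat.ofHom (algebraMap R (AK R lam N h))) := rfl
  have hc₁ : CommRingCat.ofHom (algebraMap R (AK R lam N h)) ≫ φ₁ = ρ := by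
    apply Spec.map_injective
    rw [Spec.map_comp, hφ₁, hρ]
    exact (Category.assoc _ _ _).trans (congrArg (G.left.affineOpenCover.f j ≫ ·) (Over.w f))
  have hc₂ : CommRingCat.ofHom (algebraMap R (AK R lam N h)) ≫ φ₂ = ρ := by
    apply Spec.map_injective
    rw [Spec.map_comp, hφ₂, hρ]
    exact (Category.assoc _ _ _).trans (congrArg (G.left.affineOpenCover.f j ≫ ·) (Over.w g))
  have hαl : (alphaN R lam N h).left = Spec.map (CommRingCat.ofHom
      ((alphaNHom R lam N h : MonoidAlgebra R (Multiplicative (ZMod N)) →ₐc[R] AK R lam N h) :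
        MonoidAlgebra R (Multiplicative (ZMod N)) →+* AK R lam N h)) := rfl
  have hα : CommRingCat.ofHom
      ((alphaNHom R lam N h : MonoidAlgebra R (Multiplicative (ZMod N)) →ₐc[R] AK R lam N h) :
        MonoidAlgebra R (Multiplicative (ZMod N)) →+* AK R lam N h) ≫ φ₁ =
      CommRingCat.ofHom
      ((alphaNHom R lam N h : MonoidAlgebra R (Multiplicative (ZMod N)) →ₐc[R] AK R lam N h) :
        MonoidAlgebra R (Multiplicative (ZMod N)) →+* AK R lam N h) ≫ φ₂ := by
    apply Spec.map_injective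
    rw [Spec.map_comp, Spec.map_comp, hφ₁, hφ₂]
    have e := congrArg (fun m => G.left.affineOpenCover.f j ≫ m.left) hfg
    exact ((Category.assoc _ _ _).trans e).trans (Category.assoc _ _ _).symm
  have hu : φ₁.hom (1 + lam • AK.t) = φ₂.hom (1 + lam • AK.t) := by
    have := congrArg (fun φ => φ.hom (MonoidAlgebra.single (Multiplicative.ofAdd (1 : ZMod N)) (1 : R))) hα
    rw [← alphaNHom_single_one R lam N h]
    exact this
  exact CommRingCat.hom_ext (ringHom_ext_of_flat h ρ.hom hflat φ₁.hom φ₂.hom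
    (congrArg CommRingCat.Hom.hom hc₁) (congrArg CommRingCat.Hom.hom hc₂) hu)

end Pushout

end Groth.Agent.H43.SekSuwaAK
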