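import Groth.Agent.H43.SeriesAdams
import Mathlib.RingTheory.MvPolynomial.Symmetric.FundamentalTheorem
import Mathlib.RingTheory.AlgebraicIndependent.Transcendental
import Mathlib.RingTheory.MvPolynomial.Tower

/-!
# Universal rings for identities between λ-operations

Truncated series `1 + c_0 t + … + c_{n-1} t^n`, the injectivity of the substitution of
elementary symmetric polynomials (one and two families of variables), and the comparison of the
truncated universal series with `∏ (1 + T_a t)`.
-/

set_option autoImplicit false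

namespace Groth.Agent.H43

open LambdaRing PowerSeries Finset

section Tser

variable {R : Type*} [CommRing R]

/-- the truncated series `1 + c_0 t + ... + c_{n-1} t^n`. -/
noncomputable def tser (n : ℕ) (c : Fin n → R) : PowerSeries R :=
  PowerSeries.mk fun m => if m = 0 then 1 else if h : m - 1 < n then c ⟨m - 1, h⟩ else 0

theorem constantCoeff_tser (n : ℕ) (c : Fin n → R) : constantCoeff (tser n c) = 1 := by
  rw [← coeff_zero_eq_constantCoeff_apply, tser, coeff_mk, if_pos rfl]

theorem coeff_succ_tser (n : ℕ) (c : Fin n → R) (k : ℕ) (hk : k < n) :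
    coeff (k + 1) (tser n c) = c ⟨k, hk⟩ := by
  rw [tser, coeff_mk, if_neg (Nat.succ_ne_zero k), dif_pos (by simpa using hk)]
  rfl

theorem coeff_tser_of_gt (n : ℕ) (c : Fin n → R) (m : ℕ) (hm : n < m) :
    coeff m (tser n c) = 0 := by
  rw [tser, coeff_mk, if_neg (by omega), dif_neg (by omega)]

theorem map_tser {R' : Type*} [CommRing R'] (φ : R →+* R') (n : ℕ) (c : Fin n → R) :
    PowerSeries.map φ (tser n c) = tser n (fun k => φ (c k)) := by
  ext m
  rw [coeff_map, tser, tser, coeff_mk, coeff_mk]
  split_ifs
  · exact map_one φ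
  · rfl
  · exact map_zero φ

/-- a series with constant coefficient one agrees up to degree `n` with the truncated series built
from its coefficients. -/
theorem tser_congr {G : PowerSeries R} (hG : constantCoeff G = 1) (n : ℕ) (c : Fin n → R)
    (h : ∀ k : Fin n, coeff ((k : ℕ) + 1) G = c k) : ∀ i ≤ n, coeff i (tser n c) = coeff i G := by
  intro i hi
  cases i with
  | zero =>
    rw [coeff_zero_eq_constantCoeff_apply, coeff_zero_eq_constantCoeff_apply, constantCoeff_tser, hG]
  | succ i =>
    rw [coeff_succ_tser n c i (by omega), ← h ⟨i, by omega⟩]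

theorem tser_eq {G : PowerSeries R} (hG : constantCoeff G = 1) (n : ℕ) (c : Fin n → R)
    (h : ∀ k : Fin n, coeff ((k : ℕ) + 1) G = c k) (h0 : ∀ m, n < m → coeff m G = 0) :
    tser n c = G := by
  ext m
  by_cases hm : m ≤ n
  · exact tser_congr hG n c h m hm
  · rw [coeff_tser_of_gt n c m (by omega), h0 m (by omega)]

theorem tser_congr_lamSeries [LambdaOps R] (n : ℕ) (x : R) :
    ∀ i ≤ n, coeff i (tser n fun k : Fin n => LambdaOps.lam ((k : ℕ) + 1) x) =
      coeff i (lamSeries x) :=
  tser_congr (constantCoeff_lamSeries x) n _ (fun _ => coeff_lamSeries _ x)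

/-- the truncated series of the elementary symmetric functions of `w_1, …, w_N` is `∏ (1 + w_a t)`. -/
theorem tser_eq_lineProd (N : ℕ) (w : Fin N → R) :
    tser N (fun k : Fin N =>
      ∑ t ∈ powersetCard ((k : ℕ) + 1) (univ : Finset (Fin N)), ∏ a ∈ t, w a) =
      lineProd univ w := by
  apply tser_eq (constantCoeff_lineProd _ _)
  · intro k
    rw [coeff_lineProd]
  · intro m hm
    rw [coeff_lineProd, Finset.powersetCard_eq_empty.mpr (by simpa using hm), Finset.sum_empty]

end Tser

section Injective

theorem rename_esymm_eq_sum {σ τ : Type*} [Fintype σ] (R : Type*) [CommRing R] (f : σ → τ)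
    (m : ℕ) :
    MvPolynomial.rename f (MvPolynomial.esymm σ R m) =
      ∑ t ∈ powersetCard m (univ : Finset σ), ∏ a ∈ t, MvPolynomial.X (f a) := by
  simp [MvPolynomial.esymm, map_sum, map_prod]

theorem esymm_eq_sum {σ : Type*} [Fintype σ] (R : Type*) [CommRing R] (m : ℕ) :
    MvPolynomial.esymm σ R m =
      ∑ t ∈ powersetCard m (univ : Finset σ), ∏ a ∈ t, MvPolynomial.X a := rfl

theorem esymm_algebraicIndependent (m N : ℕ) (h : m ≤ N) (R : Type*) [CommRing R] :
    AlgebraicIndependent R (fun k : Fin m => MvPolynomial.esymm (Fin N) R ((k : ℕ) + 1)) := by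
  rw [algebraicIndependent_iff_injective_aeval]
  intro p q hpq
  apply MvPolynomial.esymmAlgHom_injective (σ := Fin N) R (by simpa using h)
  apply Subtype.ext
  rw [MvPolynomial.esymmAlgHom_apply, MvPolynomial.esymmAlgHom_apply]
  exact hpq

theorem iota1_injective (m N : ℕ) (h : m ≤ N) (R : Type*) [CommRing R] :
    Function.Injective (MvPolynomial.aeval (R := R)
      (fun k : Fin m => MvPolynomial.esymm (Fin N) R ((k : ℕ) + 1))) :=
  esymm_algebraicIndependent m N h R

theorem iota2_injective (m N : ℕ) (h : m ≤ N) (R : Type*) [CommRing R] :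
    Function.Injective (MvPolynomial.aeval (R := R)
      (Sum.elim
        (fun k : Fin m => MvPolynomial.rename (Sum.inl : Fin N → Fin N ⊕ Fin N)
          (MvPolynomial.esymm (Fin N) R ((k : ℕ) + 1)))
        (fun k : Fin m => MvPolynomial.rename (Sum.inr : Fin N → Fin N ⊕ Fin N)
          (MvPolynomial.esymm (Fin N) R ((k : ℕ) + 1))))) := by
  have hx := esymm_algebraicIndependent m N h R
  have hy := esymm_algebraicIndependent m N h (MvPolynomial (Fin N) R)
  have hxy := AlgebraicIndependent.sumElim_comp
    (A := MvPolynomial (Fin N) (MvPolynomial (Fin N) R)) hx hy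
  have hmap := hxy.map' (f := (MvPolynomial.sumAlgEquiv R (Fin N) (Fin N)).symm.toAlgHom)
    (MvPolynomial.sumAlgEquiv R (Fin N) (Fin N)).symm.injective
  rw [algebraicIndependent_iff_injective_aeval] at hmap
  have key : Sum.elim
        (fun k : Fin m => MvPolynomial.rename (Sum.inl : Fin N → Fin N ⊕ Fin N)
          (MvPolynomial.esymm (Fin N) R ((k : ℕ) + 1)))
        (fun k : Fin m => MvPolynomial.rename (Sum.inr : Fin N → Fin N ⊕ Fin N)
          (MvPolynomial.esymm (Fin N) R ((k : ℕ) + 1))) =
      (⇑(MvPolynomial.sumAlgEquiv R (Fin N) (Fin N)).symm.toAlgHom ∘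
          Sum.elim (fun k : Fin m => MvPolynomial.esymm (Fin N) (MvPolynomial (Fin N) R) ((k : ℕ) + 1))
            (⇑(algebraMap (MvPolynomial (Fin N) R) (MvPolynomial (Fin N) (MvPolynomial (Fin N) R))) ∘
              fun k : Fin m => MvPolynomial.esymm (Fin N) R ((k : ℕ) + 1))) := by
    funext i
    cases i with
    | inl k =>
      simp [MvPolynomial.esymm, map_sum, map_prod]
    | inr k =>
      simp [MvPolynomial.esymm, map_sum, map_prod, MvPolynomial.algebraMap_eq]
  rw [key]
  exact hmap

end Injective

section Cast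

theorem aeval_map_int {σ τ : Type*} (g : σ → MvPolynomial τ ℤ) (P : MvPolynomial σ ℤ) :
    MvPolynomial.aeval (fun i => MvPolynomial.map (Int.castRingHom ℚ) (g i))
        (MvPolynomial.map (Int.castRingHom ℚ) P) =
      MvPolynomial.map (Int.castRingHom ℚ) (MvPolynomial.aeval g P) := by
  induction P using MvPolynomial.induction_on with
  | C a => simp
  | add p q hp hq => rw [map_add, map_add, hp, hq, map_add, map_add]
  | mul_X p i hp =>
    rw [map_mul, map_mul, hp, map_mul, map_mul, MvPolynomial.map_X, MvPolynomial.aeval_X,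
      MvPolynomial.aeval_X]

theorem aeval_map_int' {A : Type*} [CommRing A] [Algebra ℚ A] {σ : Type*} (g : σ → A)
    (P : MvPolynomial σ ℤ) :
    MvPolynomial.aeval g (MvPolynomial.map (Int.castRingHom ℚ) P) = MvPolynomial.aeval g P := by
  induction P using MvPolynomial.induction_on with
  | C a => simp
  | add p q hp hq => rw [map_add, map_add, hp, hq, map_add]
  | mul_X p i hp =>
    rw [map_mul, map_mul, hp, map_mul, MvPolynomial.map_X, MvPolynomial.aeval_X,
      MvPolynomial.aeval_X]

end Cast

end Groth.Agent.H43
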