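import Groth.Agent.H43.TQ2CK
import Groth.Agent.H43.MTFrame

/-!
# Triviality of base-changed homomorphisms: factorisation and fibres (helper43)
-/

set_option autoImplicit false
universe u
open CategoryTheory Limits MonoidalCategory CartesianMonoidalCategory MonObj GrpObj AlgebraicGeometry

namespace Groth.Agent.H43.TQ2

open Groth.Agent.H43.MT
open Groth.Agent.H37.ChowFormal (JIso J_isMonHom J_naturality)

/-- (T3-FAC') the two-step base change is trivial iff the one-step one is. -/
theorem bc_bc_eq_one_iff {X Y Z : Scheme.{u}} (g : Y ⟶ X) (k : Z ⟶ Y) (gk : Z ⟶ X)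
    (hk : k ≫ g = gk) {H B : Over X} [GrpObj B] (c : H ⟶ B) :
    (Over.pullback k).map ((Over.pullback g).map c) = 1 ↔ (Over.pullback gk).map c = 1 := by
  have hJ : IsMonHom (JIso k g gk hk B).hom := J_isMonHom k g gk hk B
  have hJ' : IsMonHom (JIso k g gk hk B).inv := inferInstance
  have hn := J_naturality k g gk hk c
  constructor
  · intro h
    have h1 : (Over.pullback gk).map c = (JIso k g gk hk H).inv ≫
        (Over.pullback k).map ((Over.pullback g).map c) ≫ (JIso k g gk hk B).hom := by
      rw [← hn, Iso.inv_hom_id_assoc]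
    rw [h1, h, MonObj.one_comp, MonObj.comp_one]
  · intro h
    have h1 : (Over.pullback k).map ((Over.pullback g).map c) = (JIso k g gk hk H).hom ≫
        (Over.pullback gk).map c ≫ (JIso k g gk hk B).inv := by
      rw [← Category.assoc, hn, Category.assoc, Iso.hom_inv_id, Category.comp_id]
    rw [h1, h, MonObj.one_comp, MonObj.comp_one]

/-- (T3-FAC) -/
theorem bc_comp_eq_one {X Y Z : Scheme.{u}} (g : Y ⟶ X) (k : Z ⟶ Y) (gk : Z ⟶ X)
    (hk : k ≫ g = gk) {H B : Over X} [GrpObj B] (c : H ⟶ B)
    (h : (Over.pullback g).map c = 1) : (Over.pullback gk).map c = 1 := by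
  rw [← bc_bc_eq_one_iff g k gk hk c, h, bc_map_one]

/-- (T3-FIB) -/
theorem fibre_one_of_bc {X Y : Scheme.{u}} (g : Y ⟶ X) (y : Y) (x : X) (hx : g.base y = x)
    {H B : Over X} [GrpObj B] (c : H ⟶ B)
    (h : (Over.pullback (Y.fromSpecResidueField y)).map ((Over.pullback g).map c) = 1) :
    (Over.pullback (X.fromSpecResidueField x)).map c = 1 := by
  subst hx
  have hcomm : Spec.map (g.residueFieldMap y) ≫ X.fromSpecResidueField (g.base y) =
      Y.fromSpecResidueField y ≫ g := Scheme.Hom.SpecMap_residueFieldMap_fromSpecResidueField g y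
  obtain ⟨hfl, hsu, hqc⟩ := field_map_props (Field.toIsField _) (Field.toIsField _)
    (g.residueFieldMap y)
  have h1 : (Over.pullback (Y.fromSpecResidueField y ≫ g)).map c = 1 :=
    (bc_bc_eq_one_iff g (Y.fromSpecResidueField y) _ rfl c).1 h
  have h2 : (Over.pullback (Spec.map (g.residueFieldMap y))).map
      ((Over.pullback (X.fromSpecResidueField (g.base y))).map c) = 1 :=
    (bc_bc_eq_one_iff (X.fromSpecResidueField (g.base y)) (Spec.map (g.residueFieldMap y)) _
      hcomm c).2 h1
  apply (Over.pullback (Spec.map (g.residueFieldMap y))).map_injective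
  rw [h2, bc_map_one]

end Groth.Agent.H43.TQ2
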