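import Groth.Agent.H43.TQ2Conn
import Groth.Agent.H43.TQ3Fib

/-!
# Local structure of a subgroup of multiplicative type of a diagonalisable group (helper43)
-/

set_option autoImplicit false
universe u
open CategoryTheory Limits MonoidalCategory CartesianMonoidalCategory MonObj GrpObj AlgebraicGeometry

namespace Groth.Agent.H43.TQ2

open Groth.Agent.H43.TQ Groth.Agent.H43.MT

/-- If the characters in `N` kill `H` and `N` is the full group of characters killing the fibre
`H_x`, then `H ≅ D(A/N)` compatibly, in a neighbourhood of `x`. -/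
theorem exists_diag_of_charKer {X : Scheme.{u}} (x : X) {H : Over X} [GrpObj H]
    (hH : SGA3x.IsMultTypeFT H) {A : Type} [AddCommGroup A] (hA : AddGroup.FG A)
    (i' : H ⟶ Red.DS X A) [IsMonHom i'] [Mono i'] (N : AddSubgroup A)
    (h1 : ∀ a ∈ N, i' ≫ Red.chi X a = 1)
    (h2 : ∀ a : A,
      (Over.pullback (X.fromSpecResidueField x)).map (i' ≫ Red.chi X a) = 1 → a ∈ N) :
    ∃ U : X.Opens, x ∈ U ∧
      SimG ((Over.pullback U.ι).map i') (Red.DSmap (U : Scheme.{u}) (QuotientAddGroup.mk' N)) := by
  have hu : i' ≫ Red.DSmap X N.subtype = 1 := by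
    apply eq_one_of_chi
    intro n
    rw [Category.assoc, ← chi_map]
    exact h1 _ n.2
  have hπs : Function.Surjective (QuotientAddGroup.mk' N) := QuotientAddGroup.mk'_surjective N
  have hk : AlgGrp.IsKernel (Red.DSmap X (QuotientAddGroup.mk' N)) (Red.DSmap X N.subtype) :=
    isKernel_DSmap X N.subtype (QuotientAddGroup.mk' N) hπs (fun a => by
      rw [AddSubgroup.range_subtype]
      exact QuotientAddGroup.eq_zero_iff a)
  obtain ⟨i'', hi''⟩ : ∃ i'' : H ⟶ Red.DS X (A ⧸ N),
      i'' ≫ Red.DSmap X (QuotientAddGroup.mk' N) = i' :=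
    ⟨hk.lift i' (toUnit H) (by rw [hu, Hom.one_def]), hk.lift_fst _ _ _⟩
  have hπm : IsMonHom (Red.DSmap X (QuotientAddGroup.mk' N)) :=
    Groth.Agent.H91.KummerKer.dsMap_isMonHom X _
  have hπmono : Mono (Red.DSmap X (QuotientAddGroup.mk' N)) := by
    have := Groth.Agent.H1.HomDiag.mono_of_surjective X (QuotientAddGroup.mk' N) hπs
    exact Over.mono_of_mono_left _
  have hi''m : IsMonHom i'' := by
    apply isMonHom_of_comp_mono' i'' (Red.DSmap X (QuotientAddGroup.mk' N))
    rw [hi'']
    infer_instance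
  have hi''mono : Mono i'' := by
    have : Mono (i'' ≫ Red.DSmap X (QuotientAddGroup.mk' N)) := by rw [hi'']; infer_instance
    exact mono_of_mono i'' (Red.DSmap X (QuotientAddGroup.mk' N))
  have hQfg : AddGroup.FG (A ⧸ N) := by
    have := hA
    exact AddGroup.fg_of_surjective (f := QuotientAddGroup.mk' N) hπs
  obtain ⟨U₂, hU₂c, hU₂iff, hU₂⟩ := locus (MorphismProperty.isomorphisms Scheme.{u})
    (fun {N M} _ _ φ => Function.Bijective φ)
    (fun X {N M} _ _ φ h => Groth.Agent.H1.HomDiag.isIso_of_bijective X φ h)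
    (fun X _ {N M} _ _ φ h => Groth.Agent.H1.HomDiag.bijective_of_isIso X φ h)
    H (Red.DS X (A ⧸ N)) hH (isMultTypeFT_DS X (A ⧸ N) hQfg) i''
  have hx : x ∈ U₂ := by
    rw [hU₂iff x]
    obtain ⟨m, hm⟩ : ∃ m : Red.bc (X.fromSpecResidueField x) H ⟶
        Red.DS (Spec (X.residueField x)) (A ⧸ N),
        m = (Over.pullback (X.fromSpecResidueField x)).map i'' ≫
          (JD (X.fromSpecResidueField x) (A ⧸ N)).hom := ⟨_, rfl⟩
    have hmm : IsMonHom m := by rw [hm]; infer_instance
    have hmmono : Mono m := by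
      have : (Over.pullback (X.fromSpecResidueField x)).IsRightAdjoint :=
        (Over.mapPullbackAdj (X.fromSpecResidueField x)).isRightAdjoint
      have : Mono ((Over.pullback (X.fromSpecResidueField x)).map i'') := inferInstance
      rw [hm]
      infer_instance
    have hinj : ∀ b : A ⧸ N, m ≫ Red.chi _ b = 1 → b = 0 := by
      intro b hb
      obtain ⟨a, rfl⟩ := hπs b
      have e1 : m ≫ Red.chi _ (QuotientAddGroup.mk' N a) =
          (Over.pullback (X.fromSpecResidueField x)).map (i' ≫ Red.chi X a) ≫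
            (JD (X.fromSpecResidueField x) ℤ).hom := by
        rw [chi_map, hm, Category.assoc, ← Category.assoc (JD _ _).hom, ← JD_dsmap,
          Category.assoc, ← JD_chi, ← Category.assoc, ← Category.assoc, ← Functor.map_comp,
          ← Functor.map_comp, hi'']
      rw [e1] at hb
      have h3 := eq_one_of_comp_iso _ _ hb
      have ha : a ∈ N := h2 a h3
      exact (QuotientAddGroup.eq_zero_iff a).2 ha
    have hiso : IsIso m := isIso_of_chars_injective hH x hQfg m hinj
    have h4 : IsIso ((Over.pullback (X.fromSpecResidueField x)).map i'') := by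
      rw [hm] at hiso
      exact IsIso.of_isIso_comp_right _ (JD (X.fromSpecResidueField x) (A ⧸ N)).hom
    exact (Over.forget _).map_isIso ((Over.pullback (X.fromSpecResidueField x)).map i'')
  refine ⟨U₂, hx, ?_⟩
  have h5 : IsIso ((Over.forget _).map ((Over.pullback U₂.ι).map i'')) := hU₂
  have h6 : IsIso ((Over.pullback U₂.ι).map i'') := isIso_of_reflects_iso _ (Over.forget _)
  have hbm : IsMonHom ((Over.pullback U₂.ι).map i'') := inferInstance
  refine ⟨asIso ((Over.pullback U₂.ι).map i'') ≪≫ JD U₂.ι (A ⧸ N), JD U₂.ι A, ?_, inferInstance, ?_⟩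
  · show IsMonHom ((Over.pullback U₂.ι).map i'' ≫ (JD U₂.ι (A ⧸ N)).hom)
    infer_instance
  · rw [Iso.trans_hom, asIso_hom, Category.assoc, ← JD_dsmap, ← Category.assoc,
      ← Functor.map_comp, hi'']

end Groth.Agent.H43.TQ2
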