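import Groth.Agent.H43.TQ4LSG
import Groth.Agent.H2.T4_KISO
import Groth.Agent.H43.TQKer
import Groth.Agent.H19.TQ_COV
import Groth.Agent.H91.KerTorsor

/-!
# The kernel of a homomorphism of groups of multiplicative type is of multiplicative type (helper43)
-/

set_option autoImplicit false
universe u
open CategoryTheory Limits MonoidalCategory CartesianMonoidalCategory MonObj GrpObj AlgebraicGeometry

namespace Groth.Agent.H43.TQ2

open Groth.Agent.H43.TQ Groth.Agent.H43.MT Groth.Agent.H19.TQ_COV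
open Groth.Agent.H2.T4_KISO (kernel_grpIso)

/-- (KMT) -/
theorem isMultTypeFT_kernel {S : Scheme.{u}} {G B K : Over S} [GrpObj G] [GrpObj B] [GrpObj K]
    (hG : SGA3x.IsMultTypeFT G) (hB : SGA3x.IsMultTypeFT B) (c : G ⟶ B) [IsMonHom c]
    (e : K ⟶ G) [IsMonHom e] (he : AlgGrp.IsKernel e c) : SGA3x.IsMultTypeFT K := by
  obtain ⟨S₁, f₁, hf₁fl, hf₁su, hf₁c, hG'⟩ := hG
  obtain ⟨S₂, f₂, hf₂fl, hf₂su, hf₂c, hB'⟩ := hB
  have := hf₁fl
  have := hf₁su
  have := hf₂fl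
  have := hf₂su
  obtain ⟨hfl, hsu, hcov⟩ := prod_cover f₁ f₂ hf₁c hf₂c
  refine ⟨pullback f₁ f₂, pullback.fst f₁ f₂ ≫ f₁, hfl, hsu, hcov, ?_⟩
  intro w
  obtain ⟨X, j, hj, ⟨x, hx⟩, N, M, iN, iM, φ, hMfg, hs⟩ := locSplitG' G B c f₁ f₂ hG' hB' w
  have := hj
  obtain ⟨gX, hgX⟩ : ∃ gX : X ⟶ S, gX = j ≫ pullback.fst f₁ f₂ ≫ f₁ := ⟨_, rfl⟩
  rw [← hgX] at hs
  have hk1 : AlgGrp.IsKernel ((Over.pullback gX).map e) ((Over.pullback gX).map c) :=
    Groth.Agent.H91.KerTorsor.isKernel_bc gX e c he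
  have hπs : Function.Surjective (QuotientAddGroup.mk' φ.range) :=
    QuotientAddGroup.mk'_surjective φ.range
  have hk2 : AlgGrp.IsKernel (Red.DSmap X (QuotientAddGroup.mk' φ.range)) (Red.DSmap X φ) :=
    isKernel_DSmap X φ (QuotientAddGroup.mk' φ.range) hπs
      (fun a => QuotientAddGroup.eq_zero_iff a)
  have hm1 : IsMonHom ((Over.pullback gX).map e) := inferInstance
  have hm2 : IsMonHom (Red.DSmap X (QuotientAddGroup.mk' φ.range)) :=
    Groth.Agent.H91.KummerKer.dsMap_isMonHom X _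
  obtain ⟨gam, hgam⟩ := kernel_grpIso hs hk1 hk2
  have hQfg : AddGroup.FG (M ⧸ φ.range) := by
    have := hMfg
    exact AddGroup.fg_of_surjective (f := QuotientAddGroup.mk' φ.range) hπs
  refine ⟨j.opensRange, ⟨x, hx⟩, M ⧸ φ.range, inferInstance, hQfg, ?_⟩
  have hk : j.isoOpensRange.inv ≫ gX = j.opensRange.ι ≫ pullback.fst f₁ f₂ ≫ f₁ := by
    have h1 : j.isoOpensRange.inv ≫ j = j.opensRange.ι := by
      rw [Iso.inv_comp_eq]
      exact (Scheme.Hom.isoOpensRange_hom_ι j).symm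
    rw [hgX, ← Category.assoc, h1]
  obtain ⟨del, hdel, -⟩ := split_bc K gX (M ⧸ φ.range) (Grp.mkIso' gam) j.isoOpensRange.inv
    (j.opensRange.ι ≫ pullback.fst f₁ f₂ ≫ f₁) hk
  exact ⟨Grp.mkIso' del⟩

end Groth.Agent.H43.TQ2
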