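import Groth.Agent.H43.TQ2Conn
import Groth.Agent.H43.TQ3Fib
import Groth.Agent.H43.MTInst
import Groth.Agent.H58.DSmapFF
import Groth.Agent.H43.MSMain

/-!
# A character of a torus is fibrewise either trivial or faithfully flat (helper43)
-/

set_option autoImplicit false
universe u
open CategoryTheory Limits MonoidalCategory CartesianMonoidalCategory MonObj GrpObj AlgebraicGeometry

namespace Groth.Agent.H43.TQ2

open Groth.Agent.H43.TQ Groth.Agent.H43.MT
open Groth.Agent.H37.ChowFormal (JIso J_isMonHom)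

/-- triviality transfers along `SimG`. -/
theorem SimG_eq_one_iff {X : Scheme.{u}} {A B A' B' : Over X} [GrpObj A] [GrpObj B] [GrpObj A']
    [GrpObj B'] {a : A ⟶ B} {b : A' ⟶ B'} (h : SimG a b) : a = 1 ↔ b = 1 := by
  obtain ⟨α, β, hα, hβ, w⟩ := h
  have hβ' : IsMonHom β.inv := inferInstance
  constructor
  · intro ha
    have h1 : b = α.inv ≫ a ≫ β.hom := by rw [w, Iso.inv_hom_id_assoc]
    rw [h1, ha, MonObj.one_comp, MonObj.comp_one]
  · intro hb
    have h1 : a = α.hom ≫ b ≫ β.inv := by
      rw [← Category.assoc, ← w, Category.assoc, Iso.hom_inv_id, Category.comp_id]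
    rw [h1, hb, MonObj.one_comp, MonObj.comp_one]

theorem SimG.toSim {X : Scheme.{u}} {A B A' B' : Over X} [GrpObj A] [GrpObj B] [GrpObj A']
    [GrpObj B'] {a : A ⟶ B} {b : A' ⟶ B'} (h : SimG a b) : Sim a b := by
  obtain ⟨α, β, -, -, w⟩ := h
  exact ⟨α, β, w⟩

theorem DSmap_eq_one_iff_resField (U : Scheme.{u}) (x' : U) {M : Type} [AddCommGroup M]
    (φ : ℤ →+ M) : Red.DSmap (Spec (U.residueField x')) φ = 1 ↔ φ = 0 := by
  constructor
  · intro h
    have h0 : Red.DSmap (Spec (CommRingCat.of (U.residueField x'))) φ =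
        Red.DSmap (Spec (CommRingCat.of (U.residueField x'))) (0 : ℤ →+ M) := by
      rw [Groth.Agent.H27.DiagHom.DSmap_zero]
      exact h
    exact Groth.Agent.H27.DiagHom.DSmap_injective (U.residueField x') h0
  · rintro rfl
    exact Groth.Agent.H27.DiagHom.DSmap_zero _

theorem injective_iff_ne_zero (r : ℕ) (φ : ℤ →+ (Fin r → ℤ)) : Function.Injective φ ↔ φ ≠ 0 := by
  constructor
  · rintro h rfl
    have := h (show (0 : ℤ →+ (Fin r → ℤ)) 1 = (0 : ℤ →+ (Fin r → ℤ)) 0 by simp)
    exact one_ne_zero this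
  · intro h
    have h1 : φ 1 ≠ 0 := by
      intro h1
      apply h
      apply AddMonoidHom.ext_int
      rw [h1]
      simp
    rw [injective_iff_map_eq_zero]
    intro n hn
    have : φ n = n • φ 1 := by
      rw [← map_zsmul]; simp
    rw [this, smul_eq_zero] at hn
    exact hn.resolve_right h1

/-- (PW) pointwise dichotomy, with the chart explicit. -/
theorem char_fibre_aux {S U : Scheme.{u}} (g : U ⟶ S) {T : Over S} [GrpObj T] (r : ℕ)
    (e : Grp.mk (Red.bc g T) ≅ Grp.mk (Red.DS U (Fin r → ℤ))) (x' : U) (s : S)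
    (hs : g.base x' = s) (α : T ⟶ Red.Gm S) [IsMonHom α] :
    ((Flat ((Over.pullback (S.fromSpecResidueField s)).map α).left ∧
      Surjective ((Over.pullback (S.fromSpecResidueField s)).map α).left) ↔
      (Over.pullback (S.fromSpecResidueField s)).map α ≠ 1) := by
  subst hs
  have hcomm : Spec.map (g.residueFieldMap x') ≫ S.fromSpecResidueField (g.base x') =
      U.fromSpecResidueField x' ≫ g := Scheme.Hom.SpecMap_residueFieldMap_fromSpecResidueField g x'
  obtain ⟨hfl, hsu, hqc⟩ := field_map_props (Field.toIsField _) (Field.toIsField _)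
    (g.residueFieldMap x')
  obtain ⟨ρ, hρ⟩ : ∃ ρ : Spec (U.residueField x') ⟶ Spec (S.residueField (g.base x')),
      ρ = Spec.map (g.residueFieldMap x') := ⟨_, rfl⟩
  rw [← hρ] at hcomm hfl hsu hqc
  obtain ⟨αs, hαs⟩ : ∃ αs : Red.bc (S.fromSpecResidueField (g.base x')) T ⟶
      Red.bc (S.fromSpecResidueField (g.base x')) (Red.Gm S),
      αs = (Over.pullback (S.fromSpecResidueField (g.base x'))).map α := ⟨_, rfl⟩
  rw [← hαs]
  have hαsm : IsMonHom αs := by rw [hαs]; infer_instance
  -- the local form over `K'`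
  obtain ⟨φ, hS⟩ : ∃ φ : ℤ →+ (Fin r → ℤ),
      SimG ((Over.pullback ρ).map αs) (Red.DSmap (Spec (U.residueField x')) φ) := by
    obtain ⟨θ, hθ, hθ'⟩ := split_bc T g (Fin r → ℤ) e (U.fromSpecResidueField x')
      (U.fromSpecResidueField x' ≫ g) rfl
    have hbm : IsMonHom ((Over.pullback (U.fromSpecResidueField x' ≫ g)).map α) := inferInstance
    obtain ⟨v, hv⟩ : ∃ v : Red.DS (Spec (U.residueField x')) (Fin r → ℤ) ⟶
        Red.DS (Spec (U.residueField x')) ℤ,
        v = θ.inv ≫ (Over.pullback (U.fromSpecResidueField x' ≫ g)).map α ≫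
          (JD (U.fromSpecResidueField x' ≫ g) ℤ).hom := ⟨_, rfl⟩
    have hvm : IsMonHom v := by rw [hv]; infer_instance
    obtain ⟨φ, hφ⟩ := eq_DSmap_resField U x' fg_int v
    refine ⟨φ, ?_⟩
    have S1 : SimG ((Over.pullback ρ).map αs)
        ((Over.pullback (U.fromSpecResidueField x' ≫ g)).map α) := by
      rw [hαs]
      exact SimG.bc_comp ρ _ _ hcomm α
    have S2 : SimG ((Over.pullback (U.fromSpecResidueField x' ≫ g)).map α)
        (Red.DSmap (Spec (U.residueField x')) φ) := by
      refine ⟨θ, JD (U.fromSpecResidueField x' ≫ g) ℤ, hθ, inferInstance, ?_⟩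
      rw [← hφ, hv, Iso.hom_inv_id_assoc]
    exact S1.trans S2
  have hne : Nonempty ↥(Spec (U.residueField x')) := inferInstance
  -- (1)
  have h1 : (Flat αs.left ∧ Surjective αs.left) ↔ Function.Injective φ := by
    have e1 : (Flat αs.left ∧ Surjective αs.left) ↔
        (Flat ((Over.pullback ρ).map αs).left ∧ Surjective ((Over.pullback ρ).map αs).left) :=
      ⟨fun h => stable_bc (@Flat ⊓ @Surjective : MorphismProperty Scheme.{u}) ρ αs h,
        fun h => desc_bc (@Flat ⊓ @Surjective : MorphismProperty Scheme.{u}) ρ αs h⟩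
    have e2 := Sim.iff (@Flat ⊓ @Surjective : MorphismProperty Scheme.{u}) (SimG.toSim hS)
    rw [e1]
    constructor
    · intro h
      exact Groth.Agent.H1.HomDiag.injective_of_flat_surjective _ φ (e2.1 h)
    · intro h
      exact e2.2 (Groth.Agent.H58.DSmapFF.DSmap_flat_surjective _ φ h)
  -- (2)
  have h2 : αs = 1 ↔ φ = 0 := by
    rw [← DSmap_eq_one_iff_resField U x' φ, ← SimG_eq_one_iff hS]
    constructor
    · intro h
      rw [h, bc_map_one]
    · intro h
      apply (Over.pullback ρ).map_injective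
      rw [h, bc_map_one]
  rw [h1, injective_iff_ne_zero, Ne, Ne, h2]

end Groth.Agent.H43.TQ2
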