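import Mathlib

/-! Ring-level: `k[M] = k[A] ⊗_{k[N]} k` for a right exact sequence `N → A → M → 0` of commutative
groups (helper43, S16615, piece TQ-K2; generalises `Groth.Agent.H91.KummerRing`). -/

set_option autoImplicit false
universe u
open CategoryTheory CategoryTheory.Limits MonoidAlgebra

namespace Groth.Agent.H43.TQ.KerRing

variable (k : Type u) [CommRing k] {N A M : Type} [CommGroup N] [CommGroup A] [CommGroup M]
  (incl : N →* A) (φ : A →* M)

/-- `k[N] → k[A]`. -/
noncomputable def phiR : MonoidAlgebra k N →+* MonoidAlgebra k A :=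
  (mapDomainAlgHom k k incl).toRingHom

/-- `k[A] → k[M]`. -/
noncomputable def psiR : MonoidAlgebra k A →+* MonoidAlgebra k M :=
  (mapDomainAlgHom k k φ).toRingHom

/-- the counit `k[N] → k`. -/
noncomputable def epsR : MonoidAlgebra k N →+* k :=
  (Bialgebra.counitAlgHom k (MonoidAlgebra k N)).toRingHom

theorem phiR_single (n : N) (r : k) : phiR k incl (single n r) = single (incl n) r := by
  simp [phiR, mapDomain_single]

theorem psiR_single (a : A) (r : k) : psiR k φ (single a r) = single (φ a) r := by
  simp [psiR, mapDomain_single]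

theorem epsR_single (g : N) (r : k) : epsR k (single g r) = r := by
  simp [epsR]

variable {k}
variable {C : Type u} [CommRing C]

/-- the character of `A` (valued in units) attached to a ring map out of `k[A]`. -/
noncomputable def chiU (a : MonoidAlgebra k A →+* C) : A →* Cˣ :=
  ((a : MonoidAlgebra k A →* C).comp (of k A)).toHomUnits

theorem chiU_val (a : MonoidAlgebra k A →+* C) (g : A) : (chiU a g : C) = a (single g 1) := rfl

variable {incl φ}

theorem chiU_wd (hex : ∀ a, φ a = 1 ↔ a ∈ incl.range) (a : MonoidAlgebra k A →+* C)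
    (h1 : ∀ n : N, a (single (incl n) 1) = 1) (x x' : A) (h : φ x = φ x') :
    chiU a x = chiU a x' := by
  have hk : φ (x⁻¹ * x') = 1 := by rw [map_mul, map_inv, h, inv_mul_cancel]
  obtain ⟨n, hn⟩ := (hex _).1 hk
  have hn1 : chiU a (incl n) = 1 := Units.ext (h1 n)
  have hx' : x' = x * incl n := by rw [hn, mul_inv_cancel_left]
  rw [hx', map_mul, hn1, mul_one]

/-- the induced character of `M`. -/
noncomputable def chi (hφ : Function.Surjective φ) (hex : ∀ a, φ a = 1 ↔ a ∈ incl.range)
    (a : MonoidAlgebra k A →+* C) (h1 : ∀ n : N, a (single (incl n) 1) = 1) : M →* C where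
  toFun m := (chiU a (Function.surjInv hφ m) : C)
  map_one' := by
    have := chiU_wd hex a h1 (Function.surjInv hφ 1) 1
      (by rw [Function.surjInv_eq hφ, map_one])
    rw [this, map_one, Units.val_one]
  map_mul' x y := by
    rw [← Units.val_mul, ← map_mul]
    refine congrArg Units.val (chiU_wd hex a h1 _ _ ?_)
    rw [map_mul, Function.surjInv_eq hφ, Function.surjInv_eq hφ, Function.surjInv_eq hφ]

theorem chi_apply (hφ : Function.Surjective φ) (hex : ∀ a, φ a = 1 ↔ a ∈ incl.range)
    (a : MonoidAlgebra k A →+* C) (h1 : ∀ n : N, a (single (incl n) 1) = 1) (x : A) :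
    chi hφ hex a h1 (φ x) = a (single x 1) := by
  show (chiU a _ : C) = _
  rw [← chiU_val]
  congr 1
  apply chiU_wd hex a h1
  rw [Function.surjInv_eq hφ]

/-- the descent map `k[M] → C`. -/
noncomputable def desc (hφ : Function.Surjective φ) (hex : ∀ a, φ a = 1 ↔ a ∈ incl.range)
    (a : MonoidAlgebra k A →+* C) (b : k →+* C) (h1 : ∀ n : N, a (single (incl n) 1) = 1) :
    MonoidAlgebra k M →+* C :=
  MonoidAlgebra.liftNCRingHom b (chi hφ hex a h1) (fun _ _ => Commute.all _ _)

theorem desc_single (hφ : Function.Surjective φ) (hex : ∀ a, φ a = 1 ↔ a ∈ incl.range)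
    (a : MonoidAlgebra k A →+* C) (b : k →+* C) (h1 : ∀ n : N, a (single (incl n) 1) = 1)
    (g : M) (r : k) : desc hφ hex a b h1 (single g r) = b r * chi hφ hex a h1 g := by
  simp [desc, MonoidAlgebra.liftNCRingHom]

variable (k incl φ)

theorem phi_psi (hex : ∀ a, φ a = 1 ↔ a ∈ incl.range) :
    (psiR k φ).comp (phiR k incl) = (algebraMap k (MonoidAlgebra k M)).comp (epsR k) := by
  refine MonoidAlgebra.ringHom_ext (fun r => ?_) (fun g => ?_)
  · rw [RingHom.comp_apply, RingHom.comp_apply, phiR_single, psiR_single, epsR_single]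
    simp [MonoidAlgebra.one_def]
  · have hg : φ (incl g) = 1 := (hex _).2 ⟨g, rfl⟩
    rw [RingHom.comp_apply, RingHom.comp_apply, phiR_single, psiR_single, epsR_single, hg]
    simp [MonoidAlgebra.one_def]

theorem isPushout (hφ : Function.Surjective φ) (hex : ∀ a, φ a = 1 ↔ a ∈ incl.range) :
    IsPushout (CommRingCat.ofHom (phiR k incl)) (CommRingCat.ofHom (epsR k (N := N)))
      (CommRingCat.ofHom (psiR k φ))
      (CommRingCat.ofHom (algebraMap k (MonoidAlgebra k M))) := by
  have hw : CommRingCat.ofHom (phiR k incl) ≫ CommRingCat.ofHom (psiR k φ) =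
      CommRingCat.ofHom (epsR k (N := N)) ≫
        CommRingCat.ofHom (algebraMap k (MonoidAlgebra k M)) := by
    rw [← CommRingCat.ofHom_comp, ← CommRingCat.ofHom_comp, phi_psi k incl φ hex]
  have hcond : ∀ (s : PushoutCocone (CommRingCat.ofHom (phiR k incl))
      (CommRingCat.ofHom (epsR k (N := N)))) (n : N) (r : k),
      s.inl.hom (single (incl n) r) = s.inr.hom r := by
    intro s n r
    have := congrArg (fun f => f.hom (single n r)) s.condition
    simp only [CommRingCat.hom_comp, CommRingCat.hom_ofHom, RingHom.comp_apply] at this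
    rw [phiR_single, epsR_single] at this
    exact this
  have h1 : ∀ (s : PushoutCocone (CommRingCat.ofHom (phiR k incl))
      (CommRingCat.ofHom (epsR k (N := N)))) (n : N), s.inl.hom (single (incl n) 1) = 1 := by
    intro s n
    rw [hcond s n 1, map_one]
  refine ⟨⟨hw⟩, ⟨PushoutCocone.IsColimit.mk _
    (fun s => CommRingCat.ofHom (desc hφ hex s.inl.hom s.inr.hom (h1 s))) ?_ ?_ ?_⟩⟩
  · intro s
    refine CommRingCat.hom_ext (MonoidAlgebra.ringHom_ext (fun r => ?_) (fun g => ?_))
    · simp only [CommRingCat.hom_comp, CommRingCat.hom_ofHom, RingHom.comp_apply]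
      rw [psiR_single, desc_single, map_one, map_one, mul_one]
      have := hcond s 1 r
      rw [map_one] at this
      exact this.symm
    · simp only [CommRingCat.hom_comp, CommRingCat.hom_ofHom, RingHom.comp_apply]
      rw [psiR_single, desc_single, chi_apply, map_one, one_mul]
  · intro s
    ext x
    simp only [CommRingCat.hom_comp, CommRingCat.hom_ofHom, RingHom.comp_apply]
    rw [MonoidAlgebra.coe_algebraMap]
    simp [desc_single]
  · intro s m hm1 hm2
    refine CommRingCat.hom_ext (MonoidAlgebra.ringHom_ext (fun r => ?_) (fun g => ?_))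
    · have := congrArg (fun f => f.hom r) hm2
      simp only [CommRingCat.hom_comp, CommRingCat.hom_ofHom, RingHom.comp_apply] at this
      rw [MonoidAlgebra.coe_algebraMap] at this
      simp only [CommRingCat.hom_ofHom]
      rw [desc_single, map_one, mul_one]
      simpa using this
    · obtain ⟨x, rfl⟩ := hφ g
      have := congrArg (fun f => f.hom (single x 1)) hm1
      simp only [CommRingCat.hom_comp, CommRingCat.hom_ofHom, RingHom.comp_apply] at this
      rw [psiR_single] at this
      simp only [CommRingCat.hom_ofHom]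
      rw [desc_single, chi_apply, map_one, one_mul]
      exact this

end Groth.Agent.H43.TQ.KerRing
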