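import Groth.Agent.H43.MSRank
import Groth.Agent.H43.TQClassify
import Groth.Agent.H43.TQKer
import Groth.Agent.H43.TQLfp
import Groth.Agent.H43.TQDSIso
import Groth.Agent.H19.TQ_K1
import Groth.Agent.H19.TQ_TR
import Groth.Agent.H19.TQ_FREE
import Groth.Agent.H33.TQ_QU

/-!
# Local form of the quotient of a split torus by a diagonalisable subgroup (helper43, S16615)
-/

set_option autoImplicit false
universe u
open CategoryTheory Limits MonoidalCategory CartesianMonoidalCategory MonObj GrpObj AlgebraicGeometry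

namespace Groth.Agent.H43.TQ

open Groth.Agent.H33.TQ_QU Groth.Agent.H19.TQ_K1 Groth.Agent.H19.TQ_TR Groth.Agent.H19.TQ_FREE
open Groth.Agent.H43.MT Groth.Agent.H43.MS Groth.Agent.H1.HomDiag

/-- If `i : H ⟶ T` is (group-)isomorphic to `D(φ) : D(M) ⟶ D(ℤ^r)`, every quotient of `T` by `H` is a
split torus of rank `≤ r`. -/
theorem local_split_quot {X : Scheme.{u}} [Nonempty X] {T H Q : Over X} [GrpObj T] [GrpObj H]
    [GrpObj Q] (r : ℕ) (M : Type) [AddCommGroup M]
    (i : H ⟶ T) [Mono i] (q : T ⟶ Q) [IsMonHom q] (hq : RedSub.IsQuotient i q)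
    (αH : H ≅ Red.DS X M) (βT : T ≅ Red.DS X (Fin r → ℤ)) (hβ : IsMonHom βT.hom)
    (φ : (Fin r → ℤ) →+ M) (w : i ≫ βT.hom = αH.hom ≫ Red.DSmap X φ) :
    ∃ r' : ℕ, r' ≤ r ∧ Red.IsSplitTorusWith (Fin r' → ℤ) Q := by
  have hβi : IsMonHom βT.inv := inferInstance
  have hmono : Mono (Red.DSmap X φ).left := by
    have hs : Sim i (Red.DSmap X φ) := ⟨αH, βT, w⟩
    have hm : Mono i.left := inferInstance
    exact (Sim.iff (MorphismProperty.monomorphisms Scheme.{u}) hs).mp hm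
  have hφ : Function.Surjective φ := surjective_of_mono X φ hmono
  obtain ⟨N, hN⟩ : ∃ N : AddSubgroup (Fin r → ℤ), N = φ.ker := ⟨_, rfl⟩
  obtain ⟨r', hr', ⟨eN⟩⟩ := exists_addEquiv_of_le r N
  have hNfg : AddGroup.FG N := by
    have := fg_fin r'
    exact AddGroup.fg_of_surjective (f := eN.symm.toAddMonoidHom) eN.symm.surjective
  have hex : ∀ a, φ a = 0 ↔ a ∈ N.subtype.range := by
    intro a
    rw [AddSubgroup.range_subtype, hN]
    exact (AddMonoidHom.mem_ker).symm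
  have hk := isKernel_DSmap X N.subtype φ hφ hex
  have hmon : IsMonHom (Red.DSmap X N.subtype) := Groth.Agent.H91.KummerKer.dsMap_isMonHom X _
  have hsq := isPullback_of_isKernel (Red.DSmap X φ) (Red.DSmap X N.subtype) hk
  obtain ⟨hfl, hsu⟩ := Groth.Agent.H58.DSmapFF.DSmap_flat_surjective X N.subtype
    N.subtype_injective
  have hlfp := DSmap_lfp X hNfg (fg_fin r) N.subtype
  have hq' : RedSub.IsQuotient (Red.DSmap X φ) (Red.DSmap X N.subtype) := ⟨hsu, hfl, hlfp, hsq⟩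
  have hq1 : RedSub.IsQuotient (Red.DSmap X φ) (βT.inv ≫ q) :=
    isQuotient_transport i (Red.DSmap X φ) αH βT w q hq
  have hm1 : IsMonHom (βT.inv ≫ q) := inferInstance
  obtain ⟨e, he, -⟩ :=
    quotient_unique (Red.DSmap X φ) (βT.inv ≫ q) (Red.DSmap X N.subtype) hq1 hq'
  obtain ⟨e2⟩ := DS_grpIso X eN
  exact ⟨r', hr', ⟨Grp.mkIso' e ≪≫ e2⟩⟩

end Groth.Agent.H43.TQ
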