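import Groth.Agent.H43.IotaFam
import Groth.Agent.S8689
import Groth.Agent.S8702
import Groth.Agent.S8699
import Groth.Agent.S8651
import Groth.Agent.S3289
import Mathlib.Algebra.Group.ForwardDiff

/-!
# Test λ-rings

For a `ℚ`-algebra `R` the polynomial ring `R[y_s]` carries the λ-structure whose Adams operations
are the `R`-algebra maps `y_s ↦ (1 + y_s)^k - 1` (so that the `1 + y_s` are line elements and
`γ_t(y_s) = 1 + y_s t`).  It is a λ-ring in the strict sense.  We study the behaviour of the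
γ-operations with respect to the powers of the ideal `J` of the variables.
-/

set_option autoImplicit false

namespace Groth.Agent.H43

open LambdaRing Finset

section Gamma

variable {K : Type*} [CommRing K] [LambdaOps K]

/-- the series `γ_t(x)`. -/
noncomputable def gamSeries (x : K) : PowerSeries K := PowerSeries.mk fun n => gamma n x

theorem coeff_gamSeries (n : ℕ) (x : K) : PowerSeries.coeff n (gamSeries x) = gamma n x :=
  PowerSeries.coeff_mk _ _

theorem gamma_zero' (x : K) : gamma 0 x = 1 := by simp [gamma]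

theorem gamma_one' (x : K) : gamma 1 x = x := by
  simp [gamma, Finset.sum_range_succ, LambdaOps.lam_one]

theorem gamma_succ_zero (k : ℕ) : gamma (k + 1) (0 : K) = 0 := by
  rw [Groth.Agent.S8651.gamma_succ]
  apply Finset.sum_eq_zero
  intro j _
  rw [lam_zero_arg, if_neg (Nat.succ_ne_zero j), mul_zero]

theorem constantCoeff_gamSeries (x : K) : PowerSeries.constantCoeff (gamSeries x) = 1 := by
  rw [← PowerSeries.coeff_zero_eq_constantCoeff_apply, coeff_gamSeries, gamma_zero']

theorem gamSeries_eq_subst (x : K) :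
    gamSeries x = (lamSeries x).subst (Groth.Agent.S3289.aser K) := by
  ext n
  rw [coeff_gamSeries, Groth.Agent.S3289.coeff_subst_lam]

theorem gamSeries_add (x y : K) : gamSeries (x + y) = gamSeries x * gamSeries y := by
  rw [gamSeries_eq_subst, gamSeries_eq_subst, gamSeries_eq_subst, lamSeries_add,
    PowerSeries.subst_mul Groth.Agent.S3289.hasSubst_aser]

theorem gamSeries_zero : gamSeries (0 : K) = 1 := by
  ext n
  rw [coeff_gamSeries, PowerSeries.coeff_one]
  cases n with
  | zero => simp [gamma_zero']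
  | succ n => simp [gamma_succ_zero]

theorem gamSeries_sum {ι : Type*} (s : Finset ι) (f : ι → K) :
    gamSeries (∑ i ∈ s, f i) = ∏ i ∈ s, gamSeries (f i) := by
  classical
  induction s using Finset.induction_on with
  | empty => simp [gamSeries_zero]
  | insert a s ha ih => rw [Finset.sum_insert ha, Finset.prod_insert ha, gamSeries_add, ih]

theorem ld_gamSeries (x : K) :
    ld (gamSeries x) = (ld (lamSeries x)).subst (Groth.Agent.S3289.aser K) *
      PowerSeries.derivative K (Groth.Agent.S3289.aser K) := by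
  symm
  apply ld_unique (constantCoeff_gamSeries x)
  rw [gamSeries_eq_subst, PowerSeries.derivative_subst Groth.Agent.S3289.hasSubst_aser,
    ← ld_mul_self (constantCoeff_lamSeries x),
    PowerSeries.subst_mul Groth.Agent.S3289.hasSubst_aser]
  ring

end Gamma

section Filt

variable {T : Type*} [CommRing T]

theorem coeff_mul_mem_pow (I : Ideal T) {F G : PowerSeries T}
    (hF : ∀ n, PowerSeries.coeff n F ∈ I ^ n) (hG : ∀ n, PowerSeries.coeff n G ∈ I ^ n) :
    ∀ n, PowerSeries.coeff n (F * G) ∈ I ^ n := by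
  intro n
  rw [PowerSeries.coeff_mul]
  apply Ideal.sum_mem
  intro p hp
  have hp' := Finset.mem_antidiagonal.mp hp
  have := Ideal.mul_mem_mul (hF p.1) (hG p.2)
  rw [← pow_add, hp'] at this
  exact this

theorem coeff_prod_mem_pow (I : Ideal T) {ι : Type*} (s : Finset ι) (F : ι → PowerSeries T)
    (h : ∀ i ∈ s, ∀ n, PowerSeries.coeff n (F i) ∈ I ^ n) :
    ∀ n, PowerSeries.coeff n (∏ i ∈ s, F i) ∈ I ^ n := by
  classical
  induction s using Finset.induction_on with
  | empty =>
    intro n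
    rw [Finset.prod_empty, PowerSeries.coeff_one]
    split_ifs with h0
    · subst h0; simp
    · exact Ideal.zero_mem _
  | insert a s ha ih =>
    rw [Finset.prod_insert ha]
    exact coeff_mul_mem_pow I (h a (Finset.mem_insert_self a s))
      (ih fun i hi => h i (Finset.mem_insert_of_mem hi))

theorem coeff_mem_pow_of_ld [Algebra ℚ T] (I : Ideal T) {F : PowerSeries T}
    (hF : PowerSeries.constantCoeff F = 1)
    (h : ∀ k, PowerSeries.coeff k (ld F) ∈ I ^ (k + 1)) :
    ∀ n, PowerSeries.coeff n F ∈ I ^ n := by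
  intro n
  induction n using Nat.strong_induction_on with
  | _ n ih =>
    cases n with
    | zero => simp
    | succ n =>
      have e := congrArg (PowerSeries.coeff n) (ld_mul_self hF)
      rw [PowerSeries.coeff_derivative, PowerSeries.coeff_mul] at e
      obtain ⟨v, hv⟩ := (isUnit_natCast_add_one (K := T) n).exists_right_inv
      have e2 : PowerSeries.coeff (n + 1) F =
          (∑ p ∈ antidiagonal n, PowerSeries.coeff p.1 (ld F) * PowerSeries.coeff p.2 F) * v := by
        rw [e, mul_assoc, hv, mul_one]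
      rw [e2]
      apply Ideal.mul_mem_right
      apply Ideal.sum_mem
      intro p hp
      have hp' := Finset.mem_antidiagonal.mp hp
      have h3 := Ideal.mul_mem_mul (h p.1) (ih p.2 (by omega))
      rw [← pow_add] at h3
      have e3 : p.1 + 1 + p.2 = n + 1 := by omega
      rw [e3] at h3
      exact h3

end Filt

section Test

variable (R : Type*) [CommRing R] [Algebra ℚ R] (σ : Type*)


/-- the Adams operations of the test ring. -/
noncomputable def psiT (k : ℕ) : (MvPolynomial σ R) →ₐ[R] (MvPolynomial σ R) :=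
  MvPolynomial.aeval (fun s => (1 + MvPolynomial.X s) ^ k - 1)

theorem psiT_X (k : ℕ) (s : σ) :
    psiT R σ k (MvPolynomial.X s) = (1 + MvPolynomial.X s) ^ k - 1 := by
  unfold psiT
  rw [MvPolynomial.aeval_X]

theorem psiT_C (k : ℕ) (r : R) : psiT R σ k (MvPolynomial.C r) = MvPolynomial.C r := by
  unfold psiT
  rw [MvPolynomial.aeval_C, MvPolynomial.algebraMap_eq]

theorem psiT_one : psiT R σ 1 = AlgHom.id R (MvPolynomial σ R) := by
  apply MvPolynomial.algHom_ext
  intro s
  rw [psiT_X]
  simp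

theorem psiT_comp (k l : ℕ) : (psiT R σ k).comp (psiT R σ l) = psiT R σ (k * l) := by
  apply MvPolynomial.algHom_ext
  intro s
  rw [AlgHom.comp_apply, psiT_X, psiT_X]
  simp only [map_sub, map_pow, map_add, map_one, psiT_X]
  rw [add_sub_cancel, ← pow_mul]

/-- the λ-structure on the polynomial ring has the prescribed Adams operations. -/
def IsTestLam [LambdaOps (MvPolynomial σ R)] : Prop :=
  ∀ (k : ℕ) (x : (MvPolynomial σ R)), adamsOp (k + 1) x = psiT R σ (k + 1) x

theorem exists_lam : ∃ L : LambdaOps (MvPolynomial σ R), @IsTestLam R _ σ L := by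
  obtain ⟨L, hL, -⟩ := Groth.Agent.S8702.result (MvPolynomial σ R)
    (fun k => (psiT R σ k).toRingHom.toAddMonoidHom)
    (AddMonoidHom.ext fun x => by
      show psiT R σ 1 x = x
      rw [psiT_one]
      rfl)
  exact ⟨L, fun k x => hL (k + 1) (by omega) x⟩

variable [LambdaOps (MvPolynomial σ R)]

theorem isSpecial_of_isTestLam (hT : IsTestLam R σ) : IsSpecial (MvPolynomial σ R) := by
  apply Groth.Agent.S8689.result
  · intro k hk
    obtain ⟨k, rfl⟩ : ∃ j, k = j + 1 := ⟨k - 1, by omega⟩
    rw [hT, map_one]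
  · intro k hk x y
    obtain ⟨k, rfl⟩ : ∃ j, k = j + 1 := ⟨k - 1, by omega⟩
    rw [hT, hT, hT, map_mul]
  · intro k k' hk hk' x
    obtain ⟨k, rfl⟩ : ∃ j, k = j + 1 := ⟨k - 1, by omega⟩
    obtain ⟨k', rfl⟩ : ∃ j, k' = j + 1 := ⟨k' - 1, by omega⟩
    have e : (k + 1) * (k' + 1) = (k * k' + k + k') + 1 := by ring
    rw [hT, hT, e, hT, ← e, ← psiT_comp]
    rfl

/-- line elements of the test ring. -/
def IsLineT (ℓ : (MvPolynomial σ R)) : Prop := ∀ k : ℕ, psiT R σ (k + 1) ℓ = ℓ ^ (k + 1)

variable {R σ}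

theorem lamSeries_line (hT : IsTestLam R σ) {ℓ : (MvPolynomial σ R)} (hℓ : IsLineT R σ ℓ) :
    lamSeries ℓ = 1 + PowerSeries.C ℓ * PowerSeries.X := by
  apply eq_of_ld_eq cancel_of_ratAlgebra (constantCoeff_lamSeries ℓ) (constantCoeff_line ℓ)
  rw [ld_line]
  ext k
  rw [coeff_ld, PowerSeries.coeff_mk, ← adamsOp_succ_eq_psiS, hT, hℓ]

theorem lam_line_eq_zero (hT : IsTestLam R σ) {ℓ : (MvPolynomial σ R)} (hℓ : IsLineT R σ ℓ) (j : ℕ) (hj : 2 ≤ j) :
    LambdaOps.lam j ℓ = 0 := by
  rw [← coeff_lamSeries, lamSeries_line hT hℓ]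
  obtain ⟨j, rfl⟩ : ∃ i, j = i + 2 := ⟨j - 2, by omega⟩
  simp [PowerSeries.coeff_one, PowerSeries.coeff_succ_mul_X, PowerSeries.coeff_C]

theorem gamSeries_line_sub_one (hT : IsTestLam R σ) {ℓ : (MvPolynomial σ R)} (hℓ : IsLineT R σ ℓ) :
    gamSeries (ℓ - 1) = 1 + PowerSeries.C (ℓ - 1) * PowerSeries.X := by
  have h1 := (isSpecial_of_isTestLam R σ hT).lam_one_eq_zero
  have hy := lam_line_eq_zero hT hℓ
  ext n
  rw [coeff_gamSeries]
  cases n with
  | zero => simp [gamma_zero']
  | succ k =>
    have e : ℓ - 1 = 0 + ℓ - 1 := by ring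
    rw [e, Groth.Agent.S8651.gamma_add_line h1 ℓ hy (0 : (MvPolynomial σ R)) k, gamma_succ_zero, ← e]
    cases k with
    | zero =>
      rw [gamma_zero']
      simp [PowerSeries.coeff_one]
    | succ k =>
      rw [gamma_succ_zero]
      simp [PowerSeries.coeff_one, PowerSeries.coeff_succ_mul_X, PowerSeries.coeff_C]

theorem ld_lamSeries_smul (hT : IsTestLam R σ) (r : R) (u : (MvPolynomial σ R)) :
    ld (lamSeries (MvPolynomial.C r * u)) = PowerSeries.C (MvPolynomial.C r) * ld (lamSeries u) := by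
  ext k
  rw [coeff_ld, PowerSeries.coeff_C_mul, coeff_ld, ← adamsOp_succ_eq_psiS, ← adamsOp_succ_eq_psiS,
    hT, hT, map_mul, psiT_C]
  ring_nf

theorem ld_gamSeries_smul (hT : IsTestLam R σ) (r : R) (u : (MvPolynomial σ R)) :
    ld (gamSeries (MvPolynomial.C r * u)) = PowerSeries.C (MvPolynomial.C r) * ld (gamSeries u) := by
  rw [ld_gamSeries, ld_lamSeries_smul hT, PowerSeries.subst_mul Groth.Agent.S3289.hasSubst_aser,
    PowerSeries.subst_C, ld_gamSeries, mul_assoc]
  rfl

variable (R σ)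

/-- translation of the variables by one. -/
noncomputable def tauT : (MvPolynomial σ R) →ₐ[R] (MvPolynomial σ R) := MvPolynomial.aeval (fun s => 1 + MvPolynomial.X s)

/-- the inverse translation. -/
noncomputable def tauInv : (MvPolynomial σ R) →ₐ[R] (MvPolynomial σ R) := MvPolynomial.aeval (fun s => MvPolynomial.X s - 1)

theorem tauT_tauInv (w : (MvPolynomial σ R)) : tauT R σ (tauInv R σ w) = w := by
  have h : (tauT R σ).comp (tauInv R σ) = AlgHom.id R (MvPolynomial σ R) := by
    apply MvPolynomial.algHom_ext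
    intro s
    simp [tauT, tauInv]
  exact AlgHom.congr_fun h w

/-- the line element attached to a monomial. -/
noncomputable def lineOf (m : σ →₀ ℕ) : (MvPolynomial σ R) := m.prod fun s e => (1 + MvPolynomial.X s) ^ e

theorem tauT_monomial (m : σ →₀ ℕ) (r : R) :
    tauT R σ (MvPolynomial.monomial m r) = MvPolynomial.C r * lineOf R σ m := by
  unfold tauT lineOf
  rw [MvPolynomial.aeval_monomial, MvPolynomial.algebraMap_eq]

theorem isLineT_lineOf (m : σ →₀ ℕ) : IsLineT R σ (lineOf R σ m) := by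
  intro k
  unfold lineOf
  rw [map_finsuppProd, Finsupp.prod, Finsupp.prod, ← Finset.prod_pow]
  apply Finset.prod_congr rfl
  intro s _
  rw [map_pow, map_add, map_one, psiT_X, add_sub_cancel, ← pow_mul, ← pow_mul, mul_comm]

theorem constantCoeff_lineOf (m : σ →₀ ℕ) :
    MvPolynomial.constantCoeff (lineOf R σ m) = 1 := by
  unfold lineOf
  rw [map_finsuppProd, Finsupp.prod]
  apply Finset.prod_eq_one
  intro s _
  simp

theorem mem_idealOfVars_iff (p : (MvPolynomial σ R)) : p ∈ (MvPolynomial.idealOfVars σ R) ↔ MvPolynomial.constantCoeff p = 0 := by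
  have h1 : (MvPolynomial.idealOfVars σ R) = (MvPolynomial.idealOfVars σ R) ^ 1 := (pow_one _).symm
  rw [h1, MvPolynomial.mem_pow_idealOfVars_iff', MvPolynomial.constantCoeff_eq]
  constructor
  · intro h
    exact h 0 (by simp)
  · intro h x hx
    have h0 : Finsupp.degree x = 0 := by omega
    rw [(Finsupp.degree_eq_zero_iff x).mp h0]
    exact h

theorem lineOf_sub_one_mem (m : σ →₀ ℕ) : lineOf R σ m - 1 ∈ (MvPolynomial.idealOfVars σ R) := by
  rw [mem_idealOfVars_iff, map_sub, constantCoeff_lineOf, map_one, sub_self]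

theorem psiT_X_mem (k : ℕ) (s : σ) : psiT R σ k (MvPolynomial.X s) ∈ (MvPolynomial.idealOfVars σ R) := by
  have h : (1 + MvPolynomial.X s : (MvPolynomial σ R)) ^ k - 1 =
      (∑ i ∈ range k, (1 + MvPolynomial.X s : (MvPolynomial σ R)) ^ i) * MvPolynomial.X s := by
    have g := geom_sum_mul (1 + MvPolynomial.X s : (MvPolynomial σ R)) k
    rw [← g]
    ring
  rw [psiT_X, h]
  exact Ideal.mul_mem_left _ _ (Ideal.subset_span ⟨s, rfl⟩)

theorem psiT_mem_pow (k s : ℕ) {w : (MvPolynomial σ R)} (hw : w ∈ (MvPolynomial.idealOfVars σ R) ^ s) : psiT R σ k w ∈ (MvPolynomial.idealOfVars σ R) ^ s := by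
  have h1 : Ideal.map (psiT R σ k) (MvPolynomial.idealOfVars σ R) ≤ (MvPolynomial.idealOfVars σ R) := by
    rw [MvPolynomial.idealOfVars, Ideal.map_span, Ideal.span_le]
    rintro _ ⟨_, ⟨s, rfl⟩, rfl⟩
    exact psiT_X_mem R σ k s
  have h2 := Ideal.mem_map_of_mem (psiT R σ k) hw
  rw [Ideal.map_pow] at h2
  exact Ideal.pow_right_mono h1 s h2

theorem constantCoeff_psiT (k : ℕ) (w : (MvPolynomial σ R)) :
    MvPolynomial.constantCoeff (psiT R σ k w) = MvPolynomial.constantCoeff w := by
  have h : (MvPolynomial.constantCoeff : (MvPolynomial σ R) →+* R).comp (psiT R σ k : (MvPolynomial σ R) →+* (MvPolynomial σ R)) =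
      MvPolynomial.constantCoeff := by
    apply MvPolynomial.ringHom_ext
    · intro r
      simp [psiT_C]
    · intro s
      simp [psiT_X]
  exact RingHom.congr_fun h w

theorem psiT_sub_self_mem (k : ℕ) (w : (MvPolynomial σ R)) : psiT R σ k w - w ∈ (MvPolynomial.idealOfVars σ R) := by
  rw [mem_idealOfVars_iff, map_sub, constantCoeff_psiT, sub_self]

theorem psiT_sub_mem_sq (k : ℕ) {v : (MvPolynomial σ R)} (hv : v ∈ (MvPolynomial.idealOfVars σ R)) :
    psiT R σ k v - (k : (MvPolynomial σ R)) * v ∈ (MvPolynomial.idealOfVars σ R) ^ 2 := by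
  unfold MvPolynomial.idealOfVars at hv
  induction hv using Submodule.span_induction with
  | mem x hx =>
    obtain ⟨s, rfl⟩ := hx
    have e : psiT R σ k (MvPolynomial.X s) - (k : (MvPolynomial σ R)) * MvPolynomial.X s =
        (∑ i ∈ range k, psiT R σ i (MvPolynomial.X s)) * MvPolynomial.X s := by
      simp only [psiT_X, Finset.sum_sub_distrib, Finset.sum_const, Finset.card_range,
        nsmul_eq_mul, mul_one]
      have g := geom_sum_mul (1 + MvPolynomial.X s : (MvPolynomial σ R)) k
      linear_combination (-1 : (MvPolynomial σ R)) * g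
    rw [e, pow_two]
    apply Ideal.mul_mem_mul
    · exact Ideal.sum_mem _ fun i _ => psiT_X_mem R σ i s
    · exact Ideal.subset_span ⟨s, rfl⟩
  | zero => simp
  | add x y _ _ hx hy =>
    have := Ideal.add_mem _ hx hy
    have e : psiT R σ k (x + y) - (k : (MvPolynomial σ R)) * (x + y) =
        (psiT R σ k x - (k : (MvPolynomial σ R)) * x) + (psiT R σ k y - (k : (MvPolynomial σ R)) * y) := by
      rw [map_add]; ring
    rw [e]
    exact this
  | smul a x hx ih =>
    have e : psiT R σ k (a • x) - (k : (MvPolynomial σ R)) * (a • x) =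
        psiT R σ k a * (psiT R σ k x - (k : (MvPolynomial σ R)) * x) +
          (k : (MvPolynomial σ R)) * (x * (psiT R σ k a - a)) := by
      rw [smul_eq_mul, map_mul]; ring
    rw [e]
    apply Ideal.add_mem
    · exact Ideal.mul_mem_left _ _ ih
    · apply Ideal.mul_mem_left
      rw [pow_two]
      exact Ideal.mul_mem_mul hx (psiT_sub_self_mem R σ k a)

theorem psiT_sub_mem (k : ℕ) : ∀ (s : ℕ) {w : (MvPolynomial σ R)}, w ∈ (MvPolynomial.idealOfVars σ R) ^ s →
    psiT R σ k w - (k : (MvPolynomial σ R)) ^ s * w ∈ (MvPolynomial.idealOfVars σ R) ^ (s + 1) := by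
  intro s
  induction s with
  | zero =>
    intro w _
    rw [pow_zero, one_mul, zero_add, pow_one]
    exact psiT_sub_self_mem R σ k w
  | succ s ih =>
    intro w hw
    have hw' : w ∈ (MvPolynomial.idealOfVars σ R) • ((MvPolynomial.idealOfVars σ R) ^ s) := by
      rw [smul_eq_mul, ← pow_succ']
      exact hw
    refine Submodule.smul_induction_on hw' ?_ ?_
    · intro u hu v hv
      have e : psiT R σ k (u • v) - (k : (MvPolynomial σ R)) ^ (s + 1) * (u • v) =
          (psiT R σ k u - (k : (MvPolynomial σ R)) * u) * psiT R σ k v +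
            (k : (MvPolynomial σ R)) * (u * (psiT R σ k v - (k : (MvPolynomial σ R)) ^ s * v)) := by
        rw [smul_eq_mul, map_mul]; ring
      rw [e]
      apply Ideal.add_mem
      · have h1 := Ideal.mul_mem_mul (psiT_sub_mem_sq R σ k hu) (psiT_mem_pow R σ k s hv)
        rw [← pow_add] at h1
        have e2 : 2 + s = s + 1 + 1 := by omega
        rw [e2] at h1
        exact h1
      · apply Ideal.mul_mem_left
        have h1 := Ideal.mul_mem_mul hu (ih hv)
        rw [← pow_succ'] at h1
        exact h1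
    · intro x y hx hy
      have e : psiT R σ k (x + y) - (k : (MvPolynomial σ R)) ^ (s + 1) * (x + y) =
          (psiT R σ k x - (k : (MvPolynomial σ R)) ^ (s + 1) * x) + (psiT R σ k y - (k : (MvPolynomial σ R)) ^ (s + 1) * y) := by
        rw [map_add]; ring
      rw [e]
      exact Ideal.add_mem _ hx hy

variable {R σ}

/-- Newton's relation. -/
theorem newton_lam {K : Type*} [CommRing K] [LambdaOps K] (x : K) (n : ℕ) :
    LambdaOps.lam (n + 1) x * ((n : K) + 1) =
      ∑ i ∈ range (n + 1), (-1) ^ i * adamsOp (i + 1) x * LambdaOps.lam (n - i) x := by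
  have e := congrArg (PowerSeries.coeff n) (derivative_lamSeries x)
  rw [PowerSeries.coeff_derivative, PowerSeries.coeff_mul,
    Finset.Nat.sum_antidiagonal_eq_sum_range_succ_mk, coeff_lamSeries] at e
  rw [e]
  apply Finset.sum_congr rfl
  intro i _
  rw [coeff_logDerivSeries, coeff_lamSeries]

theorem lam_mem_pow (hT : IsTestLam R σ) (s : ℕ) (hs : 1 ≤ s) {w : (MvPolynomial σ R)} (hw : w ∈ (MvPolynomial.idealOfVars σ R) ^ s) (n : ℕ) :
    LambdaOps.lam (n + 1) w ∈ (MvPolynomial.idealOfVars σ R) ^ s ∧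
      LambdaOps.lam (n + 1) w - (-1) ^ n * ((n : (MvPolynomial σ R)) + 1) ^ (s - 1) * w ∈ (MvPolynomial.idealOfVars σ R) ^ (s + 1) := by
  induction n using Nat.strong_induction_on with
  | _ n ih =>
    have hN := newton_lam w n
    obtain ⟨v, hv⟩ := (isUnit_natCast_add_one (K := (MvPolynomial σ R)) n).exists_right_inv
    rw [Finset.sum_range_succ, Nat.sub_self, LambdaOps.lam_zero, mul_one, hT] at hN
    set S := ∑ i ∈ range n, (-1) ^ i * adamsOp (i + 1) w * LambdaOps.lam (n - i) w with hS
    have hS1 : S ∈ (MvPolynomial.idealOfVars σ R) ^ (s + 1) := by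
      apply Ideal.sum_mem
      intro i hi
      have hi' := Finset.mem_range.mp hi
      obtain ⟨j, hj⟩ : ∃ j, n - i = j + 1 := ⟨n - i - 1, by omega⟩
      rw [hj, hT]
      have h1 := Ideal.mul_mem_mul (psiT_mem_pow R σ (i + 1) s hw) (ih j (by omega)).1
      rw [← pow_add] at h1
      have h2 : s + 1 ≤ s + s := by omega
      rw [mul_assoc]
      exact Ideal.mul_mem_left _ _ (Ideal.pow_le_pow_right h2 h1)
    have hS0 : S ∈ (MvPolynomial.idealOfVars σ R) ^ s := Ideal.pow_le_pow_right (Nat.le_succ s) hS1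
    have hlam : LambdaOps.lam (n + 1) w = (S + (-1) ^ n * psiT R σ (n + 1) w) * v := by
      rw [← hN, mul_assoc, hv, mul_one]
    have hpsi := psiT_sub_mem R σ (n + 1) s hw
    constructor
    · rw [hlam]
      apply Ideal.mul_mem_right
      exact Ideal.add_mem _ hS0 (Ideal.mul_mem_left _ _ (psiT_mem_pow R σ (n + 1) s hw))
    · have e : LambdaOps.lam (n + 1) w - (-1) ^ n * ((n : (MvPolynomial σ R)) + 1) ^ (s - 1) * w =
          (S + (-1) ^ n * (psiT R σ (n + 1) w - ((n + 1 : ℕ) : (MvPolynomial σ R)) ^ s * w)) * v := by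
        obtain ⟨s', rfl⟩ : ∃ j, s = j + 1 := ⟨s - 1, by omega⟩
        rw [hlam]
        have hv' : (((n : (MvPolynomial σ R)) + 1) * v) = 1 := hv
        simp only [Nat.add_sub_cancel, Nat.cast_add, Nat.cast_one]
        linear_combination ((-1 : (MvPolynomial σ R)) ^ n * ((n : (MvPolynomial σ R)) + 1) ^ s' * w) * hv'
      rw [e]
      apply Ideal.mul_mem_right
      exact Ideal.add_mem _ hS1 (Ideal.mul_mem_left _ _ hpsi)

theorem gamma_mem_pow_of_mem_pow (hT : IsTestLam R σ) (s : ℕ) (hs : 1 ≤ s) {w : (MvPolynomial σ R)}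
    (hw : w ∈ (MvPolynomial.idealOfVars σ R) ^ s) (n : ℕ) (hn : 1 ≤ n) : gamma n w ∈ (MvPolynomial.idealOfVars σ R) ^ s := by
  obtain ⟨n, rfl⟩ : ∃ j, n = j + 1 := ⟨n - 1, by omega⟩
  rw [Groth.Agent.S8651.gamma_succ]
  apply Ideal.sum_mem
  intro j _
  exact Ideal.mul_mem_left _ _ (lam_mem_pow hT s hs hw j).1

theorem alt_sum_choose_pow (t : ℕ) :
    ∑ j ∈ range (t + 1), (-1 : ℤ) ^ j * (t.choose j : ℤ) * ((j : ℤ) + 1) ^ t =
      (-1) ^ t * (t.factorial : ℤ) := by
  have h1 := fwdDiff_iter_eq_sum_shift (h := (1 : ℤ)) (fun r : ℤ => r ^ t) t 1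
  have h2 := congrFun (fwdDiff_iter_eq_factorial (R := ℤ) (n := t)) 1
  rw [h2] at h1
  have h3 : (t.factorial : ℤ) =
      ∑ k ∈ range (t + 1), (-1 : ℤ) ^ (t - k) * (t.choose k : ℤ) * ((k : ℤ) + 1) ^ t := by
    have : ((t.factorial : ℤ → ℤ) 1) = (t.factorial : ℤ) := rfl
    rw [← this, h1]
    apply Finset.sum_congr rfl
    intro k _
    simp [add_comm]
  rw [h3, Finset.mul_sum]
  apply Finset.sum_congr rfl
  intro k hk
  have hk' : k ≤ t := Nat.lt_succ_iff.mp (Finset.mem_range.mp hk)
  have e : (-1 : ℤ) ^ t = (-1) ^ (t - k) * (-1) ^ k := by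
    rw [← pow_add, Nat.sub_add_cancel hk']
  have e2 : ((-1 : ℤ) ^ (t - k)) * ((-1 : ℤ) ^ (t - k)) = 1 := by
    rw [← mul_pow]; simp
  rw [e]
  linear_combination (-((-1 : ℤ) ^ k * (t.choose k : ℤ) * ((k : ℤ) + 1) ^ t)) * e2

theorem gamma_top_sub_mem (hT : IsTestLam R σ) (s : ℕ) (hs : 1 ≤ s) {w : (MvPolynomial σ R)} (hw : w ∈ (MvPolynomial.idealOfVars σ R) ^ s) :
    gamma s w - (-1) ^ (s - 1) * ((s - 1).factorial : (MvPolynomial σ R)) * w ∈ (MvPolynomial.idealOfVars σ R) ^ (s + 1) := by
  obtain ⟨t, rfl⟩ : ∃ j, s = j + 1 := ⟨s - 1, by omega⟩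
  rw [Groth.Agent.S8651.gamma_succ, Nat.add_sub_cancel]
  have hid := congrArg (Int.cast : ℤ → (MvPolynomial σ R)) (alt_sum_choose_pow t)
  push_cast at hid
  have e : ∑ j ∈ range (t + 1), (t.choose j : (MvPolynomial σ R)) * LambdaOps.lam (j + 1) w -
      (-1) ^ t * (t.factorial : (MvPolynomial σ R)) * w =
      ∑ j ∈ range (t + 1), (t.choose j : (MvPolynomial σ R)) *
        (LambdaOps.lam (j + 1) w - (-1) ^ j * ((j : (MvPolynomial σ R)) + 1) ^ (t + 1 - 1) * w) := by
    rw [← hid, Finset.sum_mul, ← Finset.sum_sub_distrib]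
    apply Finset.sum_congr rfl
    intro j _
    rw [Nat.add_sub_cancel]
    ring
  rw [e]
  apply Ideal.sum_mem
  intro j _
  exact Ideal.mul_mem_left _ _ (lam_mem_pow hT (t + 1) hs hw j).2

/-- `γ^n` maps the ideal of the variables into its `n`-th power. -/
theorem gamma_mem_pow_of_mem (hT : IsTestLam R σ) {w : (MvPolynomial σ R)} (hw : w ∈ (MvPolynomial.idealOfVars σ R)) (n : ℕ) :
    gamma n w ∈ (MvPolynomial.idealOfVars σ R) ^ n := by
  classical
  set v := tauInv R σ w with hv
  have e1 : tauT R σ v = w := tauT_tauInv R σ w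
  have e2 : tauT R σ v =
      ∑ m ∈ v.support, MvPolynomial.C (MvPolynomial.coeff m v) * lineOf R σ m := by
    conv_lhs => rw [v.as_sum]
    rw [map_sum]
    apply Finset.sum_congr rfl
    intro m _
    exact tauT_monomial R σ m _
  have hw0 : MvPolynomial.constantCoeff w = 0 := (mem_idealOfVars_iff R σ w).mp hw
  have hc : ∑ m ∈ v.support, MvPolynomial.C (MvPolynomial.coeff m v) = (0 : (MvPolynomial σ R)) := by
    have h := congrArg MvPolynomial.constantCoeff e2
    rw [e1, hw0, map_sum] at h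
    have h' : ∑ m ∈ v.support, MvPolynomial.coeff m v = 0 := by
      rw [h]
      apply Finset.sum_congr rfl
      intro m _
      rw [map_mul, constantCoeff_lineOf, MvPolynomial.constantCoeff_C, mul_one]
    rw [← map_sum, h', map_zero]
  have e3 : w = ∑ m ∈ v.support, MvPolynomial.C (MvPolynomial.coeff m v) * (lineOf R σ m - 1) := by
    have : ∑ m ∈ v.support, MvPolynomial.C (MvPolynomial.coeff m v) * (lineOf R σ m - 1) =
        ∑ m ∈ v.support, MvPolynomial.C (MvPolynomial.coeff m v) * lineOf R σ m -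
          ∑ m ∈ v.support, MvPolynomial.C (MvPolynomial.coeff m v) := by
      rw [← Finset.sum_sub_distrib]
      apply Finset.sum_congr rfl
      intro m _
      ring
    rw [this, hc, sub_zero, ← e2, e1]
  rw [← coeff_gamSeries, e3, gamSeries_sum]
  apply coeff_prod_mem_pow
  intro m _
  apply coeff_mem_pow_of_ld _ (constantCoeff_gamSeries _)
  intro k
  rw [ld_gamSeries_smul hT, gamSeries_line_sub_one hT (isLineT_lineOf R σ m), ld_line,
    PowerSeries.coeff_C_mul, PowerSeries.coeff_mk]
  apply Ideal.mul_mem_left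
  apply Ideal.mul_mem_left
  exact Ideal.pow_mem_pow (lineOf_sub_one_mem R σ m) (k + 1)

end Test

section KAlg

variable (R : Type*) [CommRing R] [Algebra ℚ R] (σ : Type*)
variable (K : Type*) [CommRing K] [LambdaOps K] [BinomialRing K] [Algebra K R]
variable [LambdaOps (MvPolynomial σ R)]

theorem isLambdaAlg_test (hKb : IsBinomial K) (hT : IsTestLam R σ) :
    IsLambdaAlg K (MvPolynomial σ R) := by
  intro n c
  set φ : K →+* MvPolynomial σ R := algebraMap K (MvPolynomial σ R) with hφ
  have hG0 : PowerSeries.constantCoeff (PowerSeries.map φ (lamSeries c)) = 1 :=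
    constantCoeff_map_eq_one φ (constantCoeff_lamSeries c)
  have hpsi : ∀ k, psiT R σ (k + 1) (φ c) = φ c := by
    intro k
    rw [hφ, MvPolynomial.algebraMap_apply, psiT_C]
  have key : lamSeries (φ c) = PowerSeries.map φ (lamSeries c) := by
    apply eq_of_ld_eq cancel_of_ratAlgebra (constantCoeff_lamSeries _) hG0
    ext k
    rw [coeff_ld, coeff_ld, psiS_map φ (constantCoeff_lamSeries c), ← adamsOp_succ_eq_psiS,
      ← adamsOp_succ_eq_psiS, hT, hpsi, Groth.Agent.S8699.adamsOp_of_isBinomial hKb]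
  have := congrArg (PowerSeries.coeff n) key
  rw [coeff_lamSeries, PowerSeries.coeff_map, coeff_lamSeries] at this
  exact this.symm

end KAlg

section Fam

variable (R : Type*) [CommRing R] [Algebra ℚ R] {κ : Type*} (ν : κ → ℕ)
variable [LambdaOps (MvPolynomial (κ × ℕ) R)]

/-- the sum of the variables of the family `l`. -/
noncomputable def xF (l : κ) : MvPolynomial (κ × ℕ) R :=
  ∑ a : Fin (ν l), MvPolynomial.X (embF ν l a)

theorem isLineT_one_add_X (s : κ × ℕ) : IsLineT R (κ × ℕ) (1 + MvPolynomial.X s) := by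
  intro k
  rw [map_add, map_one, psiT_X, add_sub_cancel]

theorem gamSeries_X (hT : IsTestLam R (κ × ℕ)) (s : κ × ℕ) :
    gamSeries (MvPolynomial.X s : MvPolynomial (κ × ℕ) R) =
      1 + PowerSeries.C (MvPolynomial.X s) * PowerSeries.X := by
  have h := gamSeries_line_sub_one hT (isLineT_one_add_X R s)
  rw [add_sub_cancel_left] at h
  exact h

theorem gamma_xF (hT : IsTestLam R (κ × ℕ)) (l : κ) (n : ℕ) :
    gamma n (xF R ν l) = esF R ν l n := by
  classical
  have h : gamSeries (xF R ν l) =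
      lineProd (univ : Finset (Fin (ν l))) (fun a => MvPolynomial.X (embF ν l a)) := by
    unfold xF lineProd
    rw [gamSeries_sum]
    apply Finset.prod_congr rfl
    intro a _
    exact gamSeries_X R hT _
  rw [← coeff_gamSeries, h, coeff_lineProd]
  unfold esF
  rw [rename_esymm_eq_sum]

theorem aeval_gamma_xF (hT : IsTestLam R (κ × ℕ)) (K : Type*) [CommRing K] [Algebra K R]
    (q : MvPolynomial (κ × ℕ) K) :
    MvPolynomial.aeval (fun p : κ × ℕ => gamma (p.2 + 1) (xF R ν p.1)) q =
      iotaF R ν (MvPolynomial.map (algebraMap K R) q) := by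
  induction q using MvPolynomial.induction_on with
  | C a =>
    rw [MvPolynomial.aeval_C, MvPolynomial.map_C, MvPolynomial.algebraMap_apply]
    unfold iotaF
    rw [MvPolynomial.aeval_C, MvPolynomial.algebraMap_eq]
  | add p q hp hq => rw [map_add, map_add, map_add, hp, hq]
  | mul_X p i hp =>
    rw [map_mul, map_mul, map_mul, hp, MvPolynomial.aeval_X, MvPolynomial.map_X]
    unfold iotaF
    rw [MvPolynomial.aeval_X, gamma_xF R ν hT]

end Fam

end Groth.Agent.H43
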