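import Groth.Agent.H43.KGChern

/-!
# Universal identities for the Todd class (roots `W_j`, classes `C_i = e_i(W)`)

`U = V = ℚ[X_0, …, X_{m-1}]`; `iota : U → V`, `C_i ↦ e_{i+1}(W)`; `hW : V → V[t]`, `W_j ↦ W_j t`;
`tau : U → U[t]`, `C_i ↦ C_i t^{i+1}`.  `vanish`: a polynomial in the classes whose image in the
roots has no terms of degree `≤ d` is killed by every evaluation into a `ℚ`-algebra filtered with
`H (d+1) = 0`.
-/

set_option autoImplicit false

namespace Groth.Agent.H43.Todd

open Finset KGr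
open Groth.Agent.H43.KG

noncomputable section

/-! ### padding -/

theorem prod_pad {M : Type*} [CommMonoid M] {m d : ℕ} (hmd : m ≤ d) (g : Fin m → M) :
    ∏ i : Fin d, (if h : (i : ℕ) < m then g ⟨i, h⟩ else 1) = ∏ j : Fin m, g j := by
  have h1 : ∏ i : Fin d, (if h : (i : ℕ) < m then g ⟨i, h⟩ else 1) =
      ∏ i ∈ range d, (if h : i < m then g ⟨i, h⟩ else 1) :=
    Fin.prod_univ_eq_prod_range (fun i : ℕ => if h : i < m then g ⟨i, h⟩ else 1) d
  have h2 : ∏ j : Fin m, g j = ∏ i ∈ range m, (if h : i < m then g ⟨i, h⟩ else 1) := by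
    rw [← Fin.prod_univ_eq_prod_range (fun i : ℕ => if h : i < m then g ⟨i, h⟩ else 1) m]
    apply Finset.prod_congr rfl
    intro j _
    rw [dif_pos j.2]
  rw [h1, h2]
  symm
  apply Finset.prod_subset (Finset.range_subset_range.2 hmd)
  intro i _ hi
  have hi' : ¬ i < m := by simpa using hi
  rw [dif_neg hi']

/-- `X_i ↦ X_i` for `i < m`, `0` otherwise. -/
def padHom (m d : ℕ) : MvPolynomial (Fin d) ℚ →ₐ[ℚ] MvPolynomial (Fin m) ℚ :=
  MvPolynomial.aeval (fun i : Fin d =>
    if h : (i : ℕ) < m then (MvPolynomial.X ⟨i, h⟩ : MvPolynomial (Fin m) ℚ) else 0)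

theorem padHom_X (m d : ℕ) (i : Fin d) : padHom m d (MvPolynomial.X i) =
    if h : (i : ℕ) < m then (MvPolynomial.X ⟨i, h⟩ : MvPolynomial (Fin m) ℚ) else 0 :=
  MvPolynomial.aeval_X _ i

theorem padHom_esymm {m d : ℕ} (hmd : m ≤ d) (k : ℕ) :
    padHom m d (MvPolynomial.esymm (Fin d) ℚ k) = MvPolynomial.esymm (Fin m) ℚ k := by
  classical
  have h1 : padHom m d (MvPolynomial.esymm (Fin d) ℚ k) =
      PowerSeries.coeff k (lineProd univ (fun i : Fin d =>
        if h : (i : ℕ) < m then (MvPolynomial.X ⟨i, h⟩ : MvPolynomial (Fin m) ℚ) else 0)) := by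
    rw [coeff_lineProd]
    unfold MvPolynomial.esymm
    rw [map_sum]
    apply Finset.sum_congr rfl
    intro t _
    rw [map_prod]
    apply Finset.prod_congr rfl
    intro i _
    exact padHom_X m d i
  have h2 : lineProd univ (fun i : Fin d =>
        if h : (i : ℕ) < m then (MvPolynomial.X ⟨i, h⟩ : MvPolynomial (Fin m) ℚ) else 0) =
      lineProd univ (MvPolynomial.X : Fin m → MvPolynomial (Fin m) ℚ) := by
    unfold lineProd
    rw [← prod_pad hmd (fun j : Fin m => (1 + PowerSeries.C (MvPolynomial.X j) * PowerSeries.X :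
      PowerSeries (MvPolynomial (Fin m) ℚ)))]
    apply Finset.prod_congr rfl
    intro i _
    by_cases h : (i : ℕ) < m
    · simp only [dif_pos h]
    · simp only [dif_neg h, map_zero, zero_mul, add_zero]
  rw [h1, h2, coeff_lineProd]
  rfl

/-! ### the universal maps -/

/-- `C_i ↦ e_{i+1}(W)`. -/
def iota (m : ℕ) : MvPolynomial (Fin m) ℚ →ₐ[ℚ] MvPolynomial (Fin m) ℚ :=
  MvPolynomial.aeval (fun i : Fin m => MvPolynomial.esymm (Fin m) ℚ ((i : ℕ) + 1))

theorem iota_X (m : ℕ) (i : Fin m) :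
    iota m (MvPolynomial.X i) = MvPolynomial.esymm (Fin m) ℚ ((i : ℕ) + 1) :=
  MvPolynomial.aeval_X _ i

theorem iota_injective (m : ℕ) : Function.Injective (iota m) := by
  intro a b hab
  apply MvPolynomial.esymmAlgHom_fin_injective ℚ (le_refl m)
  apply Subtype.ext
  rw [MvPolynomial.esymmAlgHom_apply, MvPolynomial.esymmAlgHom_apply]
  exact hab

/-- `W_j ↦ W_j t`. -/
def hW (m : ℕ) : MvPolynomial (Fin m) ℚ →ₐ[ℚ] Polynomial (MvPolynomial (Fin m) ℚ) :=
  MvPolynomial.aeval (fun j : Fin m => Polynomial.C (MvPolynomial.X j) * Polynomial.X)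

theorem hW_X (m : ℕ) (j : Fin m) :
    hW m (MvPolynomial.X j) = Polynomial.C (MvPolynomial.X j) * Polynomial.X :=
  MvPolynomial.aeval_X _ j

/-- `C_i ↦ C_i t^{i+1}`. -/
def tau (m : ℕ) : MvPolynomial (Fin m) ℚ →ₐ[ℚ] Polynomial (MvPolynomial (Fin m) ℚ) :=
  MvPolynomial.aeval (fun i : Fin m =>
    Polynomial.C (MvPolynomial.X i) * Polynomial.X ^ ((i : ℕ) + 1))

theorem tau_X (m : ℕ) (i : Fin m) :
    tau m (MvPolynomial.X i) = Polynomial.C (MvPolynomial.X i) * Polynomial.X ^ ((i : ℕ) + 1) :=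
  MvPolynomial.aeval_X _ i

theorem hW_esymm (m k : ℕ) : hW m (MvPolynomial.esymm (Fin m) ℚ k) =
    Polynomial.C (MvPolynomial.esymm (Fin m) ℚ k) * Polynomial.X ^ k := by
  unfold MvPolynomial.esymm
  rw [map_sum, map_sum, Finset.sum_mul]
  apply Finset.sum_congr rfl
  intro t ht
  rw [map_prod, map_prod]
  have h1 : ∀ j ∈ t, hW m (MvPolynomial.X j) =
      Polynomial.C (MvPolynomial.X j) * Polynomial.X := fun j _ => hW_X m j
  rw [Finset.prod_congr rfl h1, Finset.prod_mul_distrib, Finset.prod_const,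
    (Finset.mem_powersetCard.1 ht).2]

theorem map_iota_tau (m : ℕ) (Φ : MvPolynomial (Fin m) ℚ) :
    Polynomial.mapAlgHom (iota m) (tau m Φ) = hW m (iota m Φ) := by
  have h : (Polynomial.mapAlgHom (iota m)).comp (tau m) = (hW m).comp (iota m) := by
    apply MvPolynomial.algHom_ext
    intro i
    rw [AlgHom.comp_apply, AlgHom.comp_apply, tau_X, iota_X, hW_esymm, Polynomial.coe_mapAlgHom,
      Polynomial.map_mul, Polynomial.map_C, Polynomial.map_pow, Polynomial.map_X]
    congr 2
    exact iota_X m i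
  exact AlgHom.congr_fun h Φ

/-! ### the vanishing lemma -/

section Vanish

variable {B : Type*} [CommRing B] [Algebra ℚ B]

/-- a multiplicative decreasing filtration vanishing above `d`. -/
structure IsFil (H : ℕ → Set B) (d : ℕ) : Prop where
  zero : ∀ n : ℕ, (0 : B) ∈ H n
  add : ∀ (n : ℕ) (x y : B), x ∈ H n → y ∈ H n → x + y ∈ H n
  top : ∀ x : B, x ∈ H 0
  mul : ∀ (a b : ℕ) (x y : B), x ∈ H a → y ∈ H b → x * y ∈ H (a + b)
  bot : ∀ n : ℕ, d < n → ∀ x ∈ H n, x = 0

theorem vanish {m d : ℕ} {H : ℕ → Set B} (hH : IsFil H d) (c : Fin m → B)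
    (hc : ∀ i : Fin m, c i ∈ H ((i : ℕ) + 1)) (Φ : MvPolynomial (Fin m) ℚ)
    (hΦ : ∀ n ≤ d, (hW m (iota m Φ)).coeff n = 0) : MvPolynomial.aeval c Φ = 0 := by
  have hX : ∀ i : Fin m, Polynomial.mapAlgHom (MvPolynomial.aeval c) (tau m (MvPolynomial.X i)) =
      Polynomial.C (c i) * Polynomial.X ^ ((i : ℕ) + 1) := by
    intro i
    rw [tau_X, Polynomial.coe_mapAlgHom, Polynomial.map_mul, Polynomial.map_C, Polynomial.map_pow,
      Polynomial.map_X]
    congr 2
    exact MvPolynomial.aeval_X c i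
  have hC : ∀ a : ℚ, Polynomial.mapAlgHom (MvPolynomial.aeval c) (tau m (MvPolynomial.C a)) =
      Polynomial.C (algebraMap ℚ B a) := by
    intro a
    rw [← MvPolynomial.algebraMap_eq, AlgHom.commutes, AlgHom.commutes,
      Polynomial.algebraMap_apply]
  have hmem : ∀ (Ψ : MvPolynomial (Fin m) ℚ) (n : ℕ),
      (Polynomial.mapAlgHom (MvPolynomial.aeval c) (tau m Ψ)).coeff n ∈ H n := by
    intro Ψ
    induction Ψ using MvPolynomial.induction_on with
    | C a =>
      intro n
      rw [hC, Polynomial.coeff_C]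
      split_ifs with h
      · rw [h]; exact hH.top _
      · exact hH.zero _
    | add p q hp hq =>
      intro n
      rw [map_add, map_add, Polynomial.coeff_add]
      exact hH.add n _ _ (hp n) (hq n)
    | mul_X p i hp =>
      intro n
      rw [map_mul, map_mul, hX, ← mul_assoc, Polynomial.coeff_mul_X_pow']
      split_ifs with h
      · rw [Polynomial.coeff_mul_C]
        have h2 := hH.mul _ _ _ _ (hp (n - ((i : ℕ) + 1))) (hc i)
        rwa [Nat.sub_add_cancel h] at h2
      · exact hH.zero _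
  have heval : ∀ Ψ : MvPolynomial (Fin m) ℚ,
      Polynomial.eval 1 (Polynomial.mapAlgHom (MvPolynomial.aeval c) (tau m Ψ)) =
        MvPolynomial.aeval c Ψ := by
    intro Ψ
    induction Ψ using MvPolynomial.induction_on with
    | C a => rw [hC, Polynomial.eval_C, MvPolynomial.aeval_C]
    | add p q hp hq => rw [map_add, map_add, Polynomial.eval_add, hp, hq, map_add]
    | mul_X p i hp =>
      rw [map_mul, map_mul, hX, Polynomial.eval_mul, hp, Polynomial.eval_mul, Polynomial.eval_C,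
        Polynomial.eval_pow, Polynomial.eval_X, one_pow, mul_one, map_mul, MvPolynomial.aeval_X]
  have hzero : Polynomial.mapAlgHom (MvPolynomial.aeval c) (tau m Φ) = 0 := by
    ext n
    rw [Polynomial.coeff_zero]
    by_cases hn : n ≤ d
    · have h2 : (tau m Φ).coeff n = 0 := by
        apply iota_injective m
        rw [map_zero, ← Polynomial.coeff_mapAlgHom_apply, map_iota_tau]
        exact hΦ n hn
      rw [Polynomial.coeff_mapAlgHom_apply, h2, map_zero]
    · exact hH.bot n (by omega) _ (hmem Φ n)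
  rw [← heval Φ, hzero, Polynomial.eval_zero]

end Vanish

/-! ### power series in the roots -/

section Series

/-- the ring of the roots. -/
abbrev VV (m : ℕ) : Type := MvPolynomial (Fin m) ℚ

/-- power series over the ring of the roots. -/
abbrev AA (m : ℕ) : Type := PowerSeries (MvPolynomial (Fin m) ℚ)

/-- `z ↦ z(W t)`, as a power series. -/
def hS (m : ℕ) : VV m →+* AA m :=
  (Polynomial.coeToPowerSeries.ringHom).comp
    ((hW m : VV m →ₐ[ℚ] Polynomial (VV m)) : VV m →+* Polynomial (VV m))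

theorem hS_apply (m : ℕ) (z : VV m) :
    hS m z = ((hW m z : Polynomial (VV m)) : PowerSeries (VV m)) := rfl

/-- `W_j t`. -/
def wt (m : ℕ) (j : Fin m) : AA m := PowerSeries.C (MvPolynomial.X j : VV m) * PowerSeries.X

theorem hS_X (m : ℕ) (j : Fin m) : hS m (MvPolynomial.X j) = wt m j := by
  rw [hS_apply, hW_X, Polynomial.coe_mul, Polynomial.coe_C, Polynomial.coe_X]
  rfl

theorem hS_C (m : ℕ) (a : ℚ) : hS m (MvPolynomial.C a) = algebraMap ℚ (AA m) a := by
  rw [hS_apply, ← MvPolynomial.algebraMap_eq, AlgHom.commutes, Polynomial.algebraMap_apply,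
    Polynomial.coe_C, PowerSeries.algebraMap_apply]

theorem hS_iota_C (m : ℕ) (a : ℚ) : hS m (iota m (MvPolynomial.C a)) = algebraMap ℚ (AA m) a := by
  rw [← MvPolynomial.algebraMap_eq, AlgHom.commutes, MvPolynomial.algebraMap_eq, hS_C]

/-- reduction modulo `t^{d+1}`. -/
def qq (m d : ℕ) : AA m →+* AA m ⧸ Ideal.span {(PowerSeries.X : AA m) ^ (d + 1)} :=
  Ideal.Quotient.mk _

theorem qq_eq_iff {m d : ℕ} {F G : AA m} :
    qq m d F = qq m d G ↔ ∀ n ≤ d, PowerSeries.coeff n F = PowerSeries.coeff n G := by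
  unfold qq
  rw [Ideal.Quotient.eq, Ideal.mem_span_singleton, PowerSeries.X_pow_dvd_iff]
  constructor
  · intro h n hn
    have h2 := h n (by omega)
    rwa [map_sub, sub_eq_zero] at h2
  · intro h n hn
    rw [map_sub, sub_eq_zero]
    exact h n (by omega)

theorem coeff_zero_of_qq {m d : ℕ} {z : VV m} (h : qq m d (hS m z) = 0) :
    ∀ n ≤ d, (hW m z).coeff n = 0 := by
  intro n hn
  have h2 := (qq_eq_iff (G := 0)).1 (by rw [h, map_zero]) n hn
  rw [map_zero] at h2
  rw [← Polynomial.coeff_coe]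
  exact h2

theorem coeff_sum_wt (m : ℕ) (a : ℕ → ℚ) (j : Fin m) (N n : ℕ) :
    PowerSeries.coeff n (∑ k ∈ range N, algebraMap ℚ (AA m) (a k) * wt m j ^ k) =
      if n < N then algebraMap ℚ (VV m) (a n) * MvPolynomial.X j ^ n else 0 := by
  rw [map_sum]
  have h1 : ∀ k ∈ range N, PowerSeries.coeff n (algebraMap ℚ (AA m) (a k) * wt m j ^ k) =
      if n = k then algebraMap ℚ (VV m) (a k) * MvPolynomial.X j ^ k else 0 := by
    intro k _
    unfold wt
    rw [mul_pow, ← map_pow, PowerSeries.algebraMap_apply, ← mul_assoc, ← map_mul,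
      PowerSeries.coeff_C_mul_X_pow]
  rw [Finset.sum_congr rfl h1,
    Finset.sum_ite_eq (range N) n (fun k => algebraMap ℚ (VV m) (a k) * MvPolynomial.X j ^ k)]
  simp only [Finset.mem_range]

/-- `exp(W_j t)`. -/
def xe (m : ℕ) (j : Fin m) : AA m :=
  PowerSeries.rescale (MvPolynomial.X j : VV m) (PowerSeries.exp (VV m))

/-- `β(W_j t)`. -/
def be (m : ℕ) (j : Fin m) : AA m :=
  PowerSeries.rescale (MvPolynomial.X j : VV m) (bernoulli'PowerSeries (VV m))

theorem be_mul (m : ℕ) (j : Fin m) : be m j * (xe m j - 1) = wt m j * xe m j := by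
  have h := congrArg (PowerSeries.rescale (MvPolynomial.X j : VV m))
    (bernoulli'PowerSeries_mul_exp_sub_one (VV m))
  rw [map_mul, map_sub, map_one, map_mul, PowerSeries.rescale_X] at h
  exact h

theorem coeff_xe_pow (m : ℕ) (j : Fin m) (i n : ℕ) :
    PowerSeries.coeff n (xe m j ^ i) =
      algebraMap ℚ (VV m) ((i : ℚ) ^ n / (n.factorial : ℚ)) * MvPolynomial.X j ^ n := by
  have e : algebraMap ℚ (VV m) ((i : ℚ) ^ n / (n.factorial : ℚ)) =
      (i : VV m) ^ n * algebraMap ℚ (VV m) (1 / (n.factorial : ℚ)) := by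
    rw [← map_natCast (algebraMap ℚ (VV m)) i, ← map_pow, ← map_mul]
    congr 1
    ring
  unfold xe
  rw [← map_pow, PowerSeries.exp_pow_eq_rescale_exp, PowerSeries.coeff_rescale,
    PowerSeries.coeff_rescale, PowerSeries.coeff_exp, e]
  ring

theorem qq_todd (m d : ℕ) (j : Fin m) :
    qq m d (hS m (Polynomial.aeval (MvPolynomial.X j : VV m) (toddTrunc d))) =
      qq m d (be m j) := by
  have h1 : hS m (Polynomial.aeval (MvPolynomial.X j : VV m) (toddTrunc d)) =
      ∑ k ∈ range (d + 1),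
        algebraMap ℚ (AA m) (bernoulli' k / (k.factorial : ℚ)) * wt m j ^ k := by
    unfold toddTrunc
    rw [map_sum, map_sum]
    apply Finset.sum_congr rfl
    intro k _
    rw [map_mul, map_pow, Polynomial.aeval_C, Polynomial.aeval_X, map_mul, map_pow, hS_X,
      MvPolynomial.algebraMap_eq, hS_C]
  rw [h1, qq_eq_iff]
  intro n hn
  rw [coeff_sum_wt, if_pos (by omega)]
  unfold be bernoulli'PowerSeries
  rw [PowerSeries.coeff_rescale, PowerSeries.coeff_mk, mul_comm]

/-- the universal power sums. -/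
def Su (m k : ℕ) : VV m := psiS (Ed m) k

theorem iota_Su (m k : ℕ) : iota m (Su m k) = ∑ j : Fin m, MvPolynomial.X j ^ (k + 1) := by
  have h := psiS_map (MvPolynomial.aeval (fun i : Fin m =>
    MvPolynomial.esymm (Fin m) ℚ (i.1 + 1)) : VV m →ₐ[ℚ] VV m).toRingHom (constantCoeff_Ed m) k
  rw [map_Ed m (fun i : Fin m => MvPolynomial.esymm (Fin m) ℚ (i.1 + 1)), lineProd_X_eq,
    psiS_lineProd] at h
  exact h.symm

/-- the universal `ch(ψ^i e)`. -/
def Psiu (m d i : ℕ) : VV m :=
  MvPolynomial.C (m : ℚ) +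
    ∑ k ∈ range d, MvPolynomial.C ((i : ℚ) ^ (k + 1) / ((k + 1).factorial : ℚ)) * Su m k

/-- power sums of the `exp(W_j t)`. -/
def Pe (m i : ℕ) : AA m := ∑ j : Fin m, xe m j ^ i

theorem qq_Psiu (m d i : ℕ) : qq m d (hS m (iota m (Psiu m d i))) = qq m d (Pe m i) := by
  have h1 : hS m (iota m (Psiu m d i)) = ∑ j : Fin m, ∑ k ∈ range (d + 1),
      algebraMap ℚ (AA m) ((i : ℚ) ^ k / (k.factorial : ℚ)) * wt m j ^ k := by
    unfold Psiu
    rw [map_add, map_add, map_sum, map_sum]
    have hc : hS m (iota m (MvPolynomial.C (m : ℚ))) = ∑ _j : Fin m, (1 : AA m) := by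
      rw [hS_iota_C, Finset.sum_const, Finset.card_univ, Fintype.card_fin, nsmul_eq_mul, mul_one,
        map_natCast]
    have hk : ∀ k ∈ range d, hS m (iota m
        (MvPolynomial.C ((i : ℚ) ^ (k + 1) / ((k + 1).factorial : ℚ)) * Su m k)) =
        ∑ j : Fin m, algebraMap ℚ (AA m) ((i : ℚ) ^ (k + 1) / ((k + 1).factorial : ℚ)) *
          wt m j ^ (k + 1) := by
      intro k _
      rw [map_mul, map_mul, iota_Su, hS_iota_C, map_sum, Finset.mul_sum]
      apply Finset.sum_congr rfl
      intro j _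
      rw [map_pow, hS_X]
    rw [hc, Finset.sum_congr rfl hk, Finset.sum_comm, ← Finset.sum_add_distrib]
    apply Finset.sum_congr rfl
    intro j _
    rw [Finset.sum_range_succ' _ d]
    simp only [pow_zero, Nat.factorial_zero, Nat.cast_one, div_one, map_one, mul_one]
    rw [add_comm]
  rw [h1, qq_eq_iff]
  intro n hn
  unfold Pe
  rw [map_sum, map_sum]
  apply Finset.sum_congr rfl
  intro j _
  rw [coeff_sum_wt, if_pos (by omega), coeff_xe_pow]

/-- elementary symmetric functions of the `exp(W_j t)`. -/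
def Ee (m k : ℕ) : AA m := ∑ t ∈ powersetCard k (univ : Finset (Fin m)), ∏ j ∈ t, xe m j

theorem newton_Ee (m k : ℕ) : (k : AA m) * Ee m k = (-1) ^ (k + 1) *
    ∑ a ∈ (antidiagonal k).filter (fun a => a.1 < k), (-1) ^ a.1 * Ee m a.1 * Pe m a.2 := by
  have he : ∀ k, MvPolynomial.aeval (xe m) (MvPolynomial.esymm (Fin m) ℚ k) = Ee m k := by
    intro k
    unfold MvPolynomial.esymm Ee
    rw [map_sum]
    apply Finset.sum_congr rfl
    intro t _
    rw [map_prod]
    apply Finset.prod_congr rfl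
    intro j _
    exact MvPolynomial.aeval_X _ j
  have hp : ∀ i, MvPolynomial.aeval (xe m) (MvPolynomial.psum (Fin m) ℚ i) = Pe m i := by
    intro i
    unfold MvPolynomial.psum Pe
    rw [map_sum]
    apply Finset.sum_congr rfl
    intro j _
    rw [map_pow, MvPolynomial.aeval_X]
  have h := congrArg (MvPolynomial.aeval (xe m) : MvPolynomial (Fin m) ℚ →ₐ[ℚ] AA m)
    (MvPolynomial.mul_esymm_eq_sum (Fin m) ℚ k)
  rw [map_mul, map_natCast, he, map_mul, map_pow, map_neg, map_one, map_sum] at h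
  rw [h]
  congr 1
  apply Finset.sum_congr rfl
  intro a _
  rw [map_mul, map_mul, map_pow, map_neg, map_one, he, hp]

end Series

/-! ### the universal classes of the exterior powers -/

section Main

theorem natCast_inv_mul {A : Type*} [CommRing A] [Algebra ℚ A] {k : ℕ} (hk : 0 < k) (y : A) :
    algebraMap ℚ A (1 / (k : ℚ)) * ((k : A) * y) = y := by
  rw [← mul_assoc, ← map_natCast (algebraMap ℚ A) k, ← map_mul,
    one_div_mul_cancel (Nat.cast_ne_zero.2 (by omega)), map_one, one_mul]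

theorem exists_Phi {B : Type*} [CommRing B] [Algebra ℚ B] {m : ℕ} (d : ℕ) (c : Fin m → B)
    (chl chψ : ℕ → B) (h0 : chl 0 = 1)
    (hrec : ∀ k : ℕ, (k : B) * chl k = (-1) ^ (k + 1) *
      ∑ a ∈ (antidiagonal k).filter (fun a => a.1 < k), (-1) ^ a.1 * chl a.1 * chψ a.2)
    (hψ : ∀ i : ℕ, 1 ≤ i → chψ i = MvPolynomial.aeval c (Psiu m d i)) (k : ℕ) :
    ∃ Φ : VV m, MvPolynomial.aeval c Φ = chl k ∧
      qq m d (hS m (iota m Φ)) = qq m d (Ee m k) := by
  induction k using Nat.strong_induction_on with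
  | _ k ih =>
    rcases Nat.eq_zero_or_pos k with hk | hk
    · subst hk
      refine ⟨1, by rw [map_one, h0], ?_⟩
      rw [map_one, map_one]
      congr 1
      unfold Ee
      rw [Finset.powersetCard_zero, Finset.sum_singleton, Finset.prod_empty]
    · choose Φ hΦ1 hΦ2 using ih
      obtain ⟨R, hRdef⟩ : ∃ R : VV m, R = (-1) ^ (k + 1) *
          ∑ a ∈ (antidiagonal k).filter (fun a => a.1 < k),
            (-1) ^ a.1 * (if h : a.1 < k then Φ a.1 h else 0) * Psiu m d a.2 := ⟨_, rfl⟩
      refine ⟨MvPolynomial.C (1 / (k : ℚ)) * R, ?_, ?_⟩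
      · have hR : MvPolynomial.aeval c R = (k : B) * chl k := by
          rw [hrec k, hRdef, map_mul, map_pow, map_neg, map_one, map_sum]
          congr 1
          apply Finset.sum_congr rfl
          intro a ha
          have ha1 : a.1 < k := (Finset.mem_filter.1 ha).2
          have ha2 : 1 ≤ a.2 := by
            have h3 : a.1 + a.2 = k :=
              Finset.HasAntidiagonal.mem_antidiagonal.1 (Finset.mem_filter.1 ha).1
            omega
          rw [dif_pos ha1, map_mul, map_mul, map_pow, map_neg, map_one, hΦ1, hψ a.2 ha2]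
        rw [map_mul, MvPolynomial.aeval_C, hR, natCast_inv_mul hk]
      · have hR : qq m d (hS m (iota m R)) = qq m d ((k : AA m) * Ee m k) := by
          rw [newton_Ee, hRdef]
          simp only [map_mul, map_pow, map_neg, map_one, map_sum]
          congr 1
          apply Finset.sum_congr rfl
          intro a ha
          have ha1 : a.1 < k := (Finset.mem_filter.1 ha).2
          rw [dif_pos ha1, hΦ2, qq_Psiu]
        rw [map_mul, map_mul, map_mul, hS_iota_C, hR, ← map_mul, natCast_inv_mul hk]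

/-- the universal Todd class. -/
def Tu (m d : ℕ) : VV m := padHom m d (toddPoly d)

theorem toddTrunc_zero (m d : ℕ) : Polynomial.aeval (0 : VV m) (toddTrunc d) = 1 := by
  unfold toddTrunc
  rw [map_sum, Finset.sum_range_succ']
  have h1 : ∀ k ∈ range d, Polynomial.aeval (0 : VV m)
      (Polynomial.C (bernoulli' (k + 1) / ((k + 1).factorial : ℚ)) * Polynomial.X ^ (k + 1)) = 0 := by
    intro k _
    rw [map_mul, map_pow, Polynomial.aeval_X, zero_pow (Nat.succ_ne_zero k), mul_zero]
  rw [Finset.sum_eq_zero h1, zero_add, map_mul, map_pow, Polynomial.aeval_X, pow_zero, mul_one,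
    Polynomial.aeval_C, bernoulli'_zero, Nat.factorial_zero, Nat.cast_one, div_one, map_one]

theorem esymm_eq_zero_of_lt (m k : ℕ) (h : m < k) : MvPolynomial.esymm (Fin m) ℚ k = 0 := by
  unfold MvPolynomial.esymm
  rw [Finset.powersetCard_eq_empty.2 (by rw [Finset.card_univ, Fintype.card_fin]; exact h),
    Finset.sum_empty]

theorem iota_Tu {m d : ℕ} (hmd : m ≤ d) : iota m (Tu m d) =
    ∏ j : Fin m, Polynomial.aeval (MvPolynomial.X j : VV m) (toddTrunc d) := by
  unfold Tu
  have h1 : iota m (padHom m d (toddPoly d)) = MvPolynomial.aeval (fun i : Fin d =>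
      padHom m d (MvPolynomial.esymm (Fin d) ℚ (i.1 + 1))) (toddPoly d) := by
    have h : (iota m).comp (padHom m d) = MvPolynomial.aeval (fun i : Fin d =>
        padHom m d (MvPolynomial.esymm (Fin d) ℚ (i.1 + 1))) := by
      apply MvPolynomial.algHom_ext
      intro i
      rw [AlgHom.comp_apply, MvPolynomial.aeval_X, padHom_esymm hmd, padHom_X]
      by_cases h : (i : ℕ) < m
      · rw [dif_pos h, iota_X]
      · rw [dif_neg h, map_zero, esymm_eq_zero_of_lt m _ (by omega)]
    exact AlgHom.congr_fun h (toddPoly d)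
  have h2 : MvPolynomial.aeval (fun i : Fin d =>
      padHom m d (MvPolynomial.esymm (Fin d) ℚ (i.1 + 1))) (toddPoly d) =
      padHom m d (MvPolynomial.aeval (fun i : Fin d =>
        MvPolynomial.esymm (Fin d) ℚ (i.1 + 1)) (toddPoly d)) := by
    have h : MvPolynomial.aeval (fun i : Fin d =>
        padHom m d (MvPolynomial.esymm (Fin d) ℚ (i.1 + 1))) =
        (padHom m d).comp (MvPolynomial.aeval (fun i : Fin d =>
          MvPolynomial.esymm (Fin d) ℚ (i.1 + 1))) := by
      apply MvPolynomial.algHom_ext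
      intro i
      rw [AlgHom.comp_apply, MvPolynomial.aeval_X, MvPolynomial.aeval_X]
    exact AlgHom.congr_fun h _
  have h3 : MvPolynomial.aeval (fun i : Fin d =>
      MvPolynomial.esymm (Fin d) ℚ (i.1 + 1)) (toddPoly d) =
      ∏ i : Fin d, Polynomial.aeval (MvPolynomial.X i : MvPolynomial (Fin d) ℚ) (toddTrunc d) := by
    have e1 : ((MvPolynomial.esymmAlgEquiv (Fin d) ℚ (Fintype.card_fin d)) (toddPoly d)).val =
        MvPolynomial.aeval (fun i : Fin d => MvPolynomial.esymm (Fin d) ℚ (i.1 + 1))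
          (toddPoly d) := by
      rw [MvPolynomial.esymmAlgEquiv_apply, MvPolynomial.esymmAlgHom_apply]
    rw [← e1]
    unfold toddPoly
    rw [AlgEquiv.apply_symm_apply]
  rw [h1, h2, h3, map_prod,
    ← prod_pad hmd (fun j : Fin m => Polynomial.aeval (MvPolynomial.X j : VV m) (toddTrunc d))]
  apply Finset.prod_congr rfl
  intro i _
  rw [← Polynomial.aeval_algHom_apply, padHom_X]
  by_cases h : (i : ℕ) < m
  · simp only [dif_pos h]
  · simp only [dif_neg h]
    exact toddTrunc_zero m d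

theorem aeval_Tu {B : Type*} [CommRing B] [Algebra ℚ B] (m d : ℕ) (c : Fin m → B) :
    MvPolynomial.aeval c (Tu m d) = MvPolynomial.aeval (fun i : Fin d =>
      if h : (i : ℕ) < m then c ⟨i, h⟩ else 0) (toddPoly d) := by
  unfold Tu
  have h : (MvPolynomial.aeval c).comp (padHom m d) = MvPolynomial.aeval (fun i : Fin d =>
      if h : (i : ℕ) < m then c ⟨i, h⟩ else 0) := by
    apply MvPolynomial.algHom_ext
    intro i
    rw [AlgHom.comp_apply, MvPolynomial.aeval_X, padHom_X]
    by_cases h : (i : ℕ) < m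
    · rw [dif_pos h, dif_pos h, MvPolynomial.aeval_X]
    · rw [dif_neg h, dif_neg h, map_zero]
  exact AlgHom.congr_fun h (toddPoly d)

/-- the universal top class. -/
def Ctop (m : ℕ) : VV m := if h : 0 < m then MvPolynomial.X ⟨m - 1, by omega⟩ else 1

theorem iota_Ctop (m : ℕ) : iota m (Ctop m) = ∏ j : Fin m, MvPolynomial.X j := by
  unfold Ctop
  by_cases h : 0 < m
  · rw [dif_pos h, iota_X]
    have e : (⟨m - 1, by omega⟩ : Fin m).1 + 1 = m := by
      show m - 1 + 1 = m
      omega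
    rw [e]
    unfold MvPolynomial.esymm
    have h2 : powersetCard m (univ : Finset (Fin m)) = {univ} := by
      have := Finset.powersetCard_self (univ : Finset (Fin m))
      rwa [Finset.card_univ, Fintype.card_fin] at this
    rw [h2, Finset.sum_singleton]
  · rw [dif_neg h, map_one]
    have hm : m = 0 := by omega
    subst hm
    rw [Finset.univ_eq_empty, Finset.prod_empty]

theorem Ee_top (m : ℕ) : Ee m m = ∏ j : Fin m, xe m j := by
  unfold Ee
  have h2 : powersetCard m (univ : Finset (Fin m)) = {univ} := by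
    have := Finset.powersetCard_self (univ : Finset (Fin m))
    rwa [Finset.card_univ, Fintype.card_fin] at this
  rw [h2, Finset.sum_singleton]

theorem series_identity (m : ℕ) :
    (∏ j : Fin m, be m j) * ∑ k ∈ range (m + 1), (-1) ^ k * Ee m k =
      (-1) ^ m * (∏ j : Fin m, wt m j) * Ee m m := by
  have h1 : ∑ k ∈ range (m + 1), (-1 : AA m) ^ k * Ee m k = ∏ j : Fin m, (1 - xe m j) :=
    (Groth.Agent.H19.Adams.prod_one_sub_eq (xe m)).symm
  rw [h1, ← Finset.prod_mul_distrib, Ee_top]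
  have h2 : ∀ j ∈ (univ : Finset (Fin m)), be m j * (1 - xe m j) = (-1) * (wt m j * xe m j) := by
    intro j _
    have := be_mul m j
    linear_combination (-1 : AA m) * this
  rw [Finset.prod_congr rfl h2, Finset.prod_mul_distrib, Finset.prod_mul_distrib,
    Finset.prod_const, Finset.card_univ, Fintype.card_fin, mul_assoc]

theorem todd_identity {m d : ℕ} (hmd : m ≤ d) (Φ : ℕ → VV m)
    (hΦ : ∀ k, qq m d (hS m (iota m (Φ k))) = qq m d (Ee m k)) :
    qq m d (hS m (iota m (Tu m d * ∑ k ∈ range (m + 1), (-1) ^ k * Φ k))) =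
      qq m d (hS m (iota m ((-1) ^ m * Ctop m * Φ m))) := by
  have hT : qq m d (hS m (iota m (Tu m d))) = qq m d (∏ j : Fin m, be m j) := by
    rw [iota_Tu hmd, map_prod, map_prod, map_prod]
    apply Finset.prod_congr rfl
    intro j _
    exact qq_todd m d j
  have hC : hS m (iota m (Ctop m)) = ∏ j : Fin m, wt m j := by
    rw [iota_Ctop, map_prod]
    apply Finset.prod_congr rfl
    intro j _
    exact hS_X m j
  simp only [map_mul, map_sum, map_pow, map_neg, map_one, hΦ, hT, hC]
  simp only [← map_mul, ← map_sum, ← map_pow, ← map_neg, ← map_one (qq m d)]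
  rw [series_identity]

theorem todd_main {B : Type*} [CommRing B] [Algebra ℚ B] {m d : ℕ} (hmd : m ≤ d)
    {H : ℕ → Set B} (hH : IsFil H d) (c : Fin m → B)
    (hc : ∀ i : Fin m, c i ∈ H ((i : ℕ) + 1))
    (chl chψ : ℕ → B) (h0 : chl 0 = 1)
    (hrec : ∀ k : ℕ, (k : B) * chl k = (-1) ^ (k + 1) *
      ∑ a ∈ (antidiagonal k).filter (fun a => a.1 < k), (-1) ^ a.1 * chl a.1 * chψ a.2)
    (hψ : ∀ i : ℕ, 1 ≤ i → chψ i = MvPolynomial.aeval c (Psiu m d i)) :
    MvPolynomial.aeval c (Tu m d) * ∑ k ∈ range (m + 1), (-1) ^ k * chl k =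
      (-1) ^ m * MvPolynomial.aeval c (Ctop m) * chl m := by
  choose Φ hΦ1 hΦ2 using exists_Phi d c chl chψ h0 hrec hψ
  have hq : qq m d (hS m (iota m (Tu m d * ∑ k ∈ range (m + 1), (-1) ^ k * Φ k -
      (-1) ^ m * Ctop m * Φ m))) = 0 := by
    rw [map_sub, map_sub, map_sub, todd_identity hmd Φ hΦ2, sub_self]
  have hv := vanish hH c hc _ (coeff_zero_of_qq hq)
  rw [map_sub, sub_eq_zero] at hv
  simp only [map_mul, map_sum, map_pow, map_neg, map_one, hΦ1] at hv
  exact hv

end Main

end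

end Groth.Agent.H43.Todd
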