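import Groth.Agent.H43.KGEig
import Groth.Agent.H43.ToddU
import Groth.Prelude.Def_W4bkmilneecrracsp2Inv

/-!
# The Todd class times `ch(λ_{-1}(e^∨))` is the top Chern class (helper library, seat helper43)
-/

set_option autoImplicit false
universe v

namespace Groth.Agent.H43.KG

open LambdaRing KGr PowerSeries Finset
open scoped TensorProduct

variable {K : Type v} [CommRing K] [LambdaOps K]

/-! ### the filtration `Hi` -/

theorem Hi_mul (P : PosStructure K) {a b : ℕ} {x y : Gr P} (hx : x ∈ Hi P a) (hy : y ∈ Hi P b) :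
    x * y ∈ Hi P (a + b) := by
  unfold Hi at hx hy ⊢
  induction hx using Submodule.span_induction with
  | mem x hx =>
    induction hy using Submodule.span_induction with
    | mem y hy =>
      obtain ⟨k, u, hk, hu, rfl⟩ := hx
      obtain ⟨l, w, hl, hw, rfl⟩ := hy
      rw [← gr_mul P rfl hu hw]
      exact Submodule.subset_span ⟨k + l, u * w, by omega, fil_mul P rfl hu hw, rfl⟩
    | zero => rw [mul_zero]; exact zero_mem _
    | add y z _ _ hy hz => rw [mul_add]; exact add_mem hy hz
    | smul q y _ hy => rw [mul_smul_comm]; exact Submodule.smul_mem _ q hy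
  | zero => rw [zero_mul]; exact zero_mem _
  | add x z _ _ hx hz => rw [add_mul]; exact add_mem hx hz
  | smul q x _ hx => rw [smul_mul_assoc]; exact Submodule.smul_mem _ q hx

theorem Hi_bot (P : PosStructure K) (d : ℕ) (hd : gammaFiltration P (d + 1) = ⊥) {n : ℕ}
    (hn : d < n) {x : Gr P} (hx : x ∈ Hi P n) : x = 0 := by
  unfold Hi at hx
  induction hx using Submodule.span_induction with
  | mem x hx =>
    obtain ⟨k, u, hk, hu, rfl⟩ := hx
    have h := fil_anti P (by omega : d + 1 ≤ k) hu
    rw [hd, AddSubgroup.mem_bot] at h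
    rw [h, gr_zero]
  | zero => rfl
  | add x y _ _ hx hy => rw [hx, hy, add_zero]
  | smul q x _ hx => rw [hx, smul_zero]

theorem isFil_Hi (P : PosStructure K) (d : ℕ) (hd : gammaFiltration P (d + 1) = ⊥) :
    Todd.IsFil (fun n => (Hi P n : Set (Gr P))) d where
  zero := fun n => zero_mem (Hi P n)
  add := fun n _ _ hx hy => add_mem (S := Submodule ℚ (Gr P)) hx hy
  top := fun x => by
    show x ∈ Hi P 0
    rw [Hi_zero]; exact Submodule.mem_top
  mul := fun _ _ _ _ hx hy => Hi_mul P hx hy
  bot := fun _ hn _ hx => Hi_bot P d hd hn hx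

theorem chern_mem_Hi (P : PosStructure K) (i : ℕ) (x : K) : chern P i x ∈ Hi P i := by
  rw [chern_eq]
  exact gr_mem_Hi P (le_refl i) (gamma_yy_mem P x i)

/-! ### γ-operations of sums of line elements -/

theorem gamSeries_zero : gamSeries (0 : K) = 1 := by
  have h := gamSeries_add (0 : K) 0
  rw [add_zero] at h
  have hu := isUnit_of_constantCoeff (constantCoeff_gamSeries (0 : K))
  have h2 : gamSeries (0 : K) * gamSeries 0 = gamSeries 0 * 1 := by
    rw [mul_one]; exact h.symm
  exact hu.mul_left_cancel h2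

theorem gamSeries_sum {ι : Type*} (s : Finset ι) (a : ι → K) :
    gamSeries (∑ i ∈ s, a i) = ∏ i ∈ s, gamSeries (a i) := by
  classical
  induction s using Finset.induction_on with
  | empty => rw [Finset.sum_empty, Finset.prod_empty, gamSeries_zero]
  | insert b s hb ih => rw [Finset.sum_insert hb, Finset.prod_insert hb, gamSeries_add, ih]

theorem gamSeries_line_sub_one (P : PosStructure K) {u : K} (hu : P.IsLine u) :
    gamSeries (u - 1) = 1 + C (u - 1) * X := by
  have h1 := gamSeries_line P (Groth.Agent.H19.Adams.isLine_one P)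
  rw [sub_self, map_zero, zero_mul, add_zero] at h1
  have h2 := gamSeries_add (u - 1) 1
  rw [sub_add_cancel] at h2
  calc gamSeries (u - 1) = gamSeries (u - 1) * (gamSeries 1 * (1 + C (-1 : K) * X)) := by
        rw [h1, mul_one]
    _ = gamSeries u * (1 + C (-1 : K) * X) := by rw [← mul_assoc, ← h2]
    _ = 1 + C (u - 1) * X := gamSeries_line P hu

theorem gamma_sum_lines_sub (P : PosStructure K) {n : ℕ} (y : Fin n → K)
    (hy : ∀ i, P.IsLine (y i)) (i : ℕ) :
    gamma i (∑ j, y j - (n : K)) =
      ∑ t ∈ powersetCard i (univ : Finset (Fin n)), ∏ j ∈ t, (y j - 1) := by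
  classical
  have h1 : ∑ j, y j - (n : K) = ∑ j, (y j - 1) := by
    rw [Finset.sum_sub_distrib, Finset.sum_const, Finset.card_univ, Fintype.card_fin,
      nsmul_eq_mul, mul_one]
  rw [h1, ← coeff_gamSeries, gamSeries_sum]
  have h2 : ∏ j, gamSeries (y j - 1) = lineProd univ (fun j => y j - 1) := by
    unfold lineProd
    exact Finset.prod_congr rfl fun j _ => gamSeries_line_sub_one P (hy j)
  rw [h2, coeff_lineProd]

theorem powersetCard_univ_self (n : ℕ) :
    powersetCard n (univ : Finset (Fin n)) = {univ} := by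
  have := Finset.powersetCard_self (univ : Finset (Fin n))
  rwa [Finset.card_univ, Fintype.card_fin] at this

/-- the alternating sum of the exterior powers. -/
def lamAlt (m : ℕ) (x : K) : K := ∑ i ∈ range (m + 1), (-1 : K) ^ i * LambdaOps.lam i x

theorem lamAlt_sum_lines (P : PosStructure K) {n : ℕ} (y : Fin n → K)
    (hy : ∀ i, P.IsLine (y i)) : lamAlt n (∑ j, y j) = ∏ j, (1 - y j) := by
  unfold lamAlt
  rw [Groth.Agent.H19.Adams.prod_one_sub_eq]
  apply Finset.sum_congr rfl
  intro k _
  rw [Groth.Agent.H19.Adams.lam_sum_lines P y hy]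

theorem lam_top_sum_lines (P : PosStructure K) {n : ℕ} (y : Fin n → K)
    (hy : ∀ i, P.IsLine (y i)) : LambdaOps.lam n (∑ j, y j) = ∏ j, y j := by
  rw [Groth.Agent.H19.Adams.lam_sum_lines P y hy, powersetCard_univ_self, Finset.sum_singleton]

theorem map_lamAlt {K' : Type v} [CommRing K'] [LambdaOps K'] (f : K →+* K')
    (hf : IsLambdaHom f) (m : ℕ) (x : K) : f (lamAlt m x) = lamAlt m (f x) := by
  unfold lamAlt
  rw [map_sum]
  apply Finset.sum_congr rfl
  intro i _
  rw [map_mul, map_pow, map_neg, map_one, hf]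

theorem prod_one_sub_neg {R : Type*} [CommRing R] {n : ℕ} (y : Fin n → R) :
    ∏ j, (y j - 1) = (-1) ^ n * ∏ j, (1 - y j) := by
  have h : ∀ j ∈ (univ : Finset (Fin n)), y j - 1 = (-1) * (1 - y j) := fun j _ => by ring
  rw [Finset.prod_congr rfl h, Finset.prod_mul_distrib, Finset.prod_const, Finset.card_univ,
    Fintype.card_fin]

theorem toNat_aug_eq (P : PosStructure K) {K' : Type v} [CommRing K'] [LambdaOps K']
    {P' : PosStructure K'} {f : K →+* K'} (hf : IsExtension P P' f) {e : K} {n : ℕ}
    {y : Fin n → K'} (hy : ∀ i, P'.IsLine (y i)) (hsum : ∑ i, y i = f e) :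
    (P.aug e).toNat = n := by
  have hn : (n : ℤ) = P.aug e := by
    rw [← hf.aug_comp, ← hsum, Groth.Agent.H19.Adams.aug_sum_lines P' y hy]
  rw [← hn]
  exact Int.toNat_natCast n

theorem map_yy {K' : Type v} [CommRing K'] [LambdaOps K'] (P : PosStructure K)
    {P' : PosStructure K'} {f : K →+* K'} (hf : IsExtension P P' f) (e : K) :
    f (yy P e) = f e - ((P.aug e : ℤ) : K') := by
  unfold yy
  rw [map_sub, map_intCast]

theorem gamma_yy_eq_zero_of_pos (P : PosStructure K) (hK : HasSplitting K P) {e : K}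
    (he : e ∈ P.pos) {i : ℕ} (hi : (P.aug e).toNat < i) : gamma i (yy P e) = 0 := by
  obtain ⟨L, _, f, hf, n, y, hy, hsum⟩ := Groth.Agent.H19.Adams.exists_split P hK e he
  have hm := toNat_aug_eq P hf hy hsum
  have hn : (n : ℤ) = P.aug e := by
    rw [← hf.aug_comp, ← hsum, Groth.Agent.H19.Adams.aug_sum_lines L.posStr y hy]
  apply hf.injective
  rw [map_zero, Groth.Agent.H19.AdamsGamma.map_gamma f hf.isLambdaHom, map_yy P hf, ← hsum, ← hn,
    Int.cast_natCast, gamma_sum_lines_sub L.posStr y hy,
    Finset.powersetCard_eq_empty.2 (by rw [Finset.card_univ, Fintype.card_fin]; omega),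
    Finset.sum_empty]

theorem chern_eq_zero_of_pos (P : PosStructure K) (hK : HasSplitting K P) {e : K}
    (he : e ∈ P.pos) {i : ℕ} (hi : (P.aug e).toNat < i) : chern P i e = 0 := by
  rw [chern_eq, gamma_yy_eq_zero_of_pos P hK he hi, gr_zero]

theorem lamAlt_eq_gamma (P : PosStructure K) (hK : HasSplitting K P) {e : K} (he : e ∈ P.pos) :
    lamAlt (P.aug e).toNat e =
      (-1) ^ (P.aug e).toNat * gamma (P.aug e).toNat (yy P e) := by
  obtain ⟨L, _, f, hf, n, y, hy, hsum⟩ := Groth.Agent.H19.Adams.exists_split P hK e he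
  have hm := toNat_aug_eq P hf hy hsum
  have hn : (n : ℤ) = P.aug e := by
    rw [← hf.aug_comp, ← hsum, Groth.Agent.H19.Adams.aug_sum_lines L.posStr y hy]
  rw [hm]
  apply hf.injective
  rw [map_lamAlt f hf.isLambdaHom, map_mul, map_pow, map_neg, map_one,
    Groth.Agent.H19.AdamsGamma.map_gamma f hf.isLambdaHom, map_yy P hf, ← hsum, ← hn,
    Int.cast_natCast, gamma_sum_lines_sub L.posStr y hy, powersetCard_univ_self,
    Finset.sum_singleton, lamAlt_sum_lines L.posStr y hy, prod_one_sub_neg, ← mul_assoc,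
    Groth.Agent.H43.neg_one_pow_mul_self, one_mul]

/-! ### involutions -/

section Inv

variable {P : PosStructure K} {inv : K → K}

theorem inv_map_zero (hV : IsInvolution P inv) : inv 0 = 0 := by
  have h := hV.map_add 0 0
  rw [add_zero] at h
  exact add_left_cancel (show inv 0 + inv 0 = inv 0 + 0 by rw [add_zero]; exact h.symm)

theorem inv_map_sum (hV : IsInvolution P inv) {ι : Type*} (s : Finset ι) (a : ι → K) :
    inv (∑ i ∈ s, a i) = ∑ i ∈ s, inv (a i) := by
  classical
  induction s using Finset.induction_on with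
  | empty => rw [Finset.sum_empty, Finset.sum_empty, inv_map_zero hV]
  | insert b s hb ih => rw [Finset.sum_insert hb, Finset.sum_insert hb, hV.map_add, ih]

theorem inv_map_prod (hV : IsInvolution P inv) {ι : Type*} (s : Finset ι) (a : ι → K) :
    inv (∏ i ∈ s, a i) = ∏ i ∈ s, inv (a i) := by
  classical
  induction s using Finset.induction_on with
  | empty => rw [Finset.prod_empty, Finset.prod_empty, hV.map_one]
  | insert b s hb ih => rw [Finset.prod_insert hb, Finset.prod_insert hb, hV.map_mul, ih]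

end Inv

theorem exists_inv_split (P : PosStructure K) (inv : K → K) (hS : HasInvSplitting P inv) (e : K)
    (he : e ∈ P.pos) :
    ∃ (L : PosLambdaRing.{v}) (inv' : L.carrier → L.carrier) (f : K →+* L.carrier),
      IsExtension P L.posStr f ∧ IsInvolution L.posStr inv' ∧ (∀ x : K, f (inv x) = inv' (f x)) ∧
      ∃ (n : ℕ) (y : Fin n → L.carrier), (∀ i, L.posStr.IsLine (y i)) ∧ ∑ i, y i = f e := by
  obtain ⟨L, inv', f, hf, hV', hcomp, s, hs, hsum⟩ := hS e he
  refine ⟨L, inv', f, hf, hV', hcomp, s.toList.length, fun i => s.toList.get i, ?_, ?_⟩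
  · intro i
    apply hs
    rw [← Multiset.mem_toList]
    exact List.get_mem _ _
  · rw [← hsum]
    have h1 : s.sum = s.toList.sum := by
      conv_lhs => rw [← Multiset.coe_toList s]
      rw [Multiset.sum_coe]
    rw [h1, ← List.sum_ofFn, List.ofFn_get]

theorem lamAlt_inv_mul (P : PosStructure K) (inv : K → K) (hS : HasInvSplitting P inv) {e : K}
    (he : e ∈ P.pos) :
    lamAlt (P.aug e).toNat (inv e) * LambdaOps.lam (P.aug e).toNat e =
      (-1) ^ (P.aug e).toNat * lamAlt (P.aug e).toNat e := by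
  obtain ⟨L, inv', f, hf, hV', hcomp, n, y, hy, hsum⟩ := exists_inv_split P inv hS e he
  have hm := toNat_aug_eq P hf hy hsum
  rw [hm]
  apply hf.injective
  have hz : ∀ i, L.posStr.IsLine (inv' (y i)) := fun i => hV'.inv_line _ (hy i)
  rw [map_mul, map_lamAlt f hf.isLambdaHom, hf.isLambdaHom, map_mul, map_pow, map_neg, map_one,
    map_lamAlt f hf.isLambdaHom, hcomp, ← hsum, inv_map_sum hV', lamAlt_sum_lines L.posStr _ hz,
    lam_top_sum_lines L.posStr y hy, lamAlt_sum_lines L.posStr y hy, ← Finset.prod_mul_distrib,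
    ← prod_one_sub_neg]
  apply Finset.prod_congr rfl
  intro j _
  rw [sub_mul, one_mul, hV'.inv_mul_self _ (hy j)]

theorem inv_lam_mul (P : PosStructure K) (inv : K → K) (hS : HasInvSplitting P inv) {e : K}
    (he : e ∈ P.pos) :
    inv (LambdaOps.lam (P.aug e).toNat e) * LambdaOps.lam (P.aug e).toNat e = 1 := by
  obtain ⟨L, inv', f, hf, hV', hcomp, n, y, hy, hsum⟩ := exists_inv_split P inv hS e he
  have hm := toNat_aug_eq P hf hy hsum
  rw [hm]
  apply hf.injective
  rw [map_mul, hcomp, hf.isLambdaHom, ← hsum, lam_top_sum_lines L.posStr y hy, inv_map_prod hV',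
    ← Finset.prod_mul_distrib, map_one]
  apply Finset.prod_eq_one
  intro j _
  exact hV'.inv_mul_self _ (hy j)

/-! ### Newton's relations -/

theorem newton_adams (P : PosStructure K) (x : K) (k : ℕ) :
    (k : K) * LambdaOps.lam k x = (-1) ^ (k + 1) *
      ∑ a ∈ (antidiagonal k).filter (fun a => a.1 < k),
        (-1) ^ a.1 * LambdaOps.lam a.1 x * adams P a.2 x := by
  have hN0 := Groth.Agent.H19.Adams.constantCoeff_negSeries x
  have hcoefN : ∀ i, coeff i (Groth.Agent.H19.Adams.negSeries x) = (-1) ^ i * LambdaOps.lam i x := by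
    intro i
    unfold Groth.Agent.H19.Adams.negSeries
    rw [coeff_rescale, coeff_lamSeries]
  have hmain : Groth.Agent.H19.Adams.negSeries x * adamsSeries P x =
      C (P.aug x : K) * Groth.Agent.H19.Adams.negSeries x -
        X * derivative K (Groth.Agent.H19.Adams.negSeries x) := by
    rw [Groth.Agent.H19.Adams.adamsSeries_eq, mul_sub, ← ld_mul_self hN0]
    ring
  have hk := congrArg (coeff k) hmain
  rw [coeff_mul, map_sub, coeff_C_mul, hcoefN] at hk
  have hsplit : ∑ a ∈ antidiagonal k, coeff a.1 (Groth.Agent.H19.Adams.negSeries x) *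
        coeff a.2 (adamsSeries P x) =
      ∑ a ∈ (antidiagonal k).filter (fun a => a.1 < k),
        (-1) ^ a.1 * LambdaOps.lam a.1 x * adams P a.2 x +
      (-1) ^ k * LambdaOps.lam k x * (P.aug x : K) := by
    rw [← Finset.sum_filter_add_sum_filter_not (antidiagonal k) (fun a => a.1 < k)]
    congr 1
    · apply Finset.sum_congr rfl
      intro a _
      rw [hcoefN]
      rfl
    · have hf : (antidiagonal k).filter (fun a => ¬ a.1 < k) = {(k, 0)} := by
        ext a
        rw [Finset.mem_filter, Finset.HasAntidiagonal.mem_antidiagonal, Finset.mem_singleton]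
        constructor
        · rintro ⟨h1, h2⟩
          apply Prod.ext <;> simp only <;> omega
        · rintro rfl
          simp
      rw [hf, Finset.sum_singleton, hcoefN]
      congr 1
      unfold adamsSeries
      rw [map_sub, mul_assoc, coeff_zero_X_mul, sub_zero, coeff_zero_C]
  rw [hsplit] at hk
  have hX : coeff k (X * derivative K (Groth.Agent.H19.Adams.negSeries x)) =
      (k : K) * ((-1) ^ k * LambdaOps.lam k x) := by
    cases k with
    | zero => rw [coeff_zero_X_mul, Nat.cast_zero, zero_mul]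
    | succ n =>
      rw [coeff_succ_X_mul, coeff_derivative, hcoefN]
      push_cast
      ring
  rw [hX] at hk
  have h3 := Groth.Agent.H43.neg_one_pow_mul_self (R := K) k
  linear_combination (-(-1 : K) ^ (k + 1)) * hk + (-(k : K) * LambdaOps.lam k x) * h3

/-! ### the Chern character as a ring homomorphism, and of Adams operations -/

/-- the Chern character as a ring homomorphism. -/
noncomputable def chHom (P : PosStructure K) (hK : HasSplitting K P) (d : ℕ)
    (hd : gammaFiltration P (d + 1) = ⊥) : K →+* Gr P where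
  toFun := chK P d
  map_one' := chK_one P d hd
  map_mul' := chK_mul_eig P hK d hd
  map_zero' := chK_zero P d hd
  map_add' := chK_add P d hd

theorem chHom_apply (P : PosStructure K) (hK : HasSplitting K P) (d : ℕ)
    (hd : gammaFiltration P (d + 1) = ⊥) (x : K) : chHom P hK d hd x = chK P d x := rfl

theorem aug_adams (P : PosStructure K) (hK : HasSplitting K P) (j : ℕ) (hj : 1 ≤ j) (x : K) :
    P.aug (adams P j x) = P.aug x := by
  have hxe : x = ((P.aug x : ℤ) : K) + yy P x := by unfold yy; ring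
  have h1 : adams P j x = ((P.aug x : ℤ) : K) + adams P j (yy P x) := by
    conv_lhs => rw [hxe]
    rw [Groth.Agent.H19.Adams.adams_add, adams_intCast P hK]
  have h2 : P.aug (adams P j (yy P x)) = 0 :=
    Groth.Agent.H19.Det.aug_F1 P hK (adams_mem P hK (yy_mem P x) j hj)
  rw [h1, map_add, h2, add_zero, map_intCast, Int.cast_id]

theorem yy_adams (P : PosStructure K) (hK : HasSplitting K P) (j : ℕ) (hj : 1 ≤ j) (x : K) :
    yy P (adams P j x) = adams P j (yy P x) := by
  unfold yy
  rw [aug_adams P hK j hj, Groth.Agent.H19.Adams.adams_sub, adams_intCast P hK]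

theorem nu_adams (P : PosStructure K) (hK : HasSplitting K P) (k j : ℕ) (z : K) :
    nu k (adams P j z) = adams P j (nu k z) := by
  rw [nu_eq_nuRhs P hK, nu_eq_nuRhs P hK]
  unfold nuRhs
  rw [Groth.Agent.H19.Adams.adams_sum]
  apply Finset.sum_congr rfl
  intro i _
  have hc : ((-1 : K) ^ (k - i) * ((k + 1).choose (i + 1) : K)) =
      (((-1 : ℤ) ^ (k - i) * ((k + 1).choose (i + 1) : ℤ) : ℤ) : K) := by
    push_cast
    rfl
  rw [hc, adams_intCast_mul P hK, Groth.Agent.H19.Adams.adams_adams P hK,
    Groth.Agent.H19.Adams.adams_adams P hK, mul_comm (i + 1) j]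

theorem sK_adams (P : PosStructure K) (hK : HasSplitting K P) (k j : ℕ) (hj : 1 ≤ j) (x : K) :
    sK P k (adams P j x) = (j : Gr P) ^ (k + 1) * sK P k x := by
  unfold sK
  rw [yy_adams P hK j hj, nu_adams P hK]
  have hw := nu_yy_mem P k x
  have hdiff := Groth.Agent.H19.AdamsGamma.adams_sub_pow_mem P hK j (k + 1) _ hw
  have hsm : (j : K) ^ (k + 1) * nu k (yy P x) ∈ gammaFiltration P (k + 1) :=
    fil_smul P _ _ _ hw
  have hdec : adams P j (nu k (yy P x)) =
      (adams P j (nu k (yy P x)) - (j : K) ^ (k + 1) * nu k (yy P x)) +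
        (j : K) ^ (k + 1) * nu k (yy P x) := by ring
  rw [hdec, gr_add P (fil_anti P (Nat.le_succ _) hdiff) hsm, gr_eq_zero P hdiff, zero_add,
    gr_smul P _ hw, map_pow, map_natCast]

theorem chK_adams (P : PosStructure K) (hK : HasSplitting K P) (d : ℕ)
    (hd : gammaFiltration P (d + 1) = ⊥) (j : ℕ) (hj : 1 ≤ j) (x : K) :
    chK P d (adams P j x) = algebraMap ℚ (Gr P) ((P.aug x : ℤ) : ℚ) +
      ∑ k ∈ range d, algebraMap ℚ (Gr P) ((j : ℚ) ^ (k + 1) / ((k + 1).factorial : ℚ)) *
        sK P k x := by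
  rw [chK_formula P d hd, aug_adams P hK j hj]
  congr 1
  apply Finset.sum_congr rfl
  intro k _
  rw [sK_adams P hK k j hj, ← mul_assoc]
  congr 1
  rw [← map_natCast (algebraMap ℚ (Gr P)) j, ← map_pow, ← map_mul]
  congr 1
  ring

/-! ### evaluation of the universal classes -/

theorem chernSeries_eq (P : PosStructure K) (hK : HasSplitting K P) {e : K} (he : e ∈ P.pos) :
    (PowerSeries.mk fun i => if h0 : i = 0 then (1 : Gr P) else
      if h : i ≤ (P.aug e).toNat then
        (fun i : Fin (P.aug e).toNat => chern P (i.1 + 1) e) ⟨i - 1, by omega⟩ else 0) =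
      PowerSeries.mk fun i => chern P i e := by
  ext i
  rw [coeff_mk, coeff_mk]
  by_cases h0 : i = 0
  · subst h0; rw [dif_pos rfl, chern_zero]
  · rw [dif_neg h0]
    by_cases h : i ≤ (P.aug e).toNat
    · rw [dif_pos h]
      have : i - 1 + 1 = i := by omega
      simp only [this]
    · rw [dif_neg h, chern_eq_zero_of_pos P hK he (by omega)]

theorem aeval_Su (P : PosStructure K) (hK : HasSplitting K P) {e : K} (he : e ∈ P.pos) (k : ℕ) :
    MvPolynomial.aeval (fun i : Fin (P.aug e).toNat => chern P (i.1 + 1) e)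
      (Todd.Su (P.aug e).toNat k) = sK P k e := by
  unfold Todd.Su
  have h := psiS_map (R' := Gr P) (MvPolynomial.aeval (fun i : Fin (P.aug e).toNat =>
    chern P (i.1 + 1) e) : MvPolynomial (Fin (P.aug e).toNat) ℚ →ₐ[ℚ] Gr P).toRingHom
    (constantCoeff_Ed (P.aug e).toNat) k
  rw [map_Ed (P.aug e).toNat (fun i : Fin (P.aug e).toNat => chern P (i.1 + 1) e),
    chernSeries_eq P hK he, psiS_chernSeries] at h
  exact h.symm

theorem aeval_Psiu (P : PosStructure K) (hK : HasSplitting K P) (d : ℕ)
    (hd : gammaFiltration P (d + 1) = ⊥) {e : K} (he : e ∈ P.pos) (i : ℕ) (hi : 1 ≤ i) :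
    chK P d (adams P i e) = MvPolynomial.aeval
      (fun i : Fin (P.aug e).toNat => chern P (i.1 + 1) e) (Todd.Psiu (P.aug e).toNat d i) := by
  rw [chK_adams P hK d hd i hi]
  unfold Todd.Psiu
  rw [map_add, MvPolynomial.aeval_C, map_sum]
  congr 1
  · congr 1
    have hpos : 0 ≤ P.aug e := (P.aug_pos e he).le
    have h2 : (((P.aug e).toNat : ℤ) : ℚ) = ((P.aug e : ℤ) : ℚ) := by
      rw [Int.toNat_of_nonneg hpos]
    rw [← h2, Int.cast_natCast]
  · apply Finset.sum_congr rfl
    intro k _
    rw [map_mul, MvPolynomial.aeval_C, aeval_Su P hK he]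

theorem aeval_Tu (P : PosStructure K) (hK : HasSplitting K P) (d : ℕ) {e : K} (he : e ∈ P.pos) :
    MvPolynomial.aeval (fun i : Fin (P.aug e).toNat => chern P (i.1 + 1) e)
      (Todd.Tu (P.aug e).toNat d) = tdK P d e := by
  refine (Todd.aeval_Tu (B := Gr P) (P.aug e).toNat d _).trans ?_
  unfold tdK
  congr 2
  funext i
  by_cases h : (i : ℕ) < (P.aug e).toNat
  · rw [dif_pos h]
  · rw [dif_neg h, chern_eq_zero_of_pos P hK he (by omega)]

theorem aeval_Ctop (P : PosStructure K) (e : K) :
    MvPolynomial.aeval (fun i : Fin (P.aug e).toNat => chern P (i.1 + 1) e)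
      (Todd.Ctop (P.aug e).toNat) = chern P (P.aug e).toNat e := by
  unfold Todd.Ctop
  by_cases h : 0 < (P.aug e).toNat
  · rw [dif_pos h, MvPolynomial.aeval_X]
    have e1 : (P.aug e).toNat - 1 + 1 = (P.aug e).toNat := by omega
    simp only [e1]
  · rw [dif_neg h, map_one]
    have h0 : (P.aug e).toNat = 0 := by omega
    rw [h0, chern_zero]

/-- the key identity `td(e) ch(λ_{-1} e) = (-1)^m c_m(e) ch(λ^m e)`. -/
theorem todd_star (P : PosStructure K) (hK : HasSplitting K P) (d : ℕ)
    (hd : gammaFiltration P (d + 1) = ⊥) {e : K} (he : e ∈ P.pos)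
    (hmd : (P.aug e).toNat ≤ d) :
    tdK P d e * chK P d (lamAlt (P.aug e).toNat e) =
      (-1) ^ (P.aug e).toNat * chern P (P.aug e).toNat e *
        chK P d (LambdaOps.lam (P.aug e).toNat e) := by
  have h := Todd.todd_main hmd (isFil_Hi P d hd)
    (fun i : Fin (P.aug e).toNat => chern P (i.1 + 1) e)
    (fun i => chern_mem_Hi P (i.1 + 1) e)
    (fun k => chK P d (LambdaOps.lam k e)) (fun i => chK P d (adams P i e))
    (by
      show chK P d (LambdaOps.lam 0 e) = 1
      rw [LambdaOps.lam_zero, chK_one P d hd])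
    (by
      intro k
      have hk := congrArg (chHom P hK d hd) (newton_adams P e k)
      simp only [map_mul, map_natCast, map_pow, map_neg, map_one, map_sum, chHom_apply] at hk
      exact hk)
    (fun i hi => aeval_Psiu P hK d hd he i hi)
  rw [aeval_Tu P hK d he, aeval_Ctop P e] at h
  have h2 : chK P d (lamAlt (P.aug e).toNat e) =
      ∑ k ∈ range ((P.aug e).toNat + 1), (-1) ^ k * chK P d (LambdaOps.lam k e) := by
    unfold lamAlt
    rw [← chHom_apply P hK d hd, map_sum]
    apply Finset.sum_congr rfl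
    intro k _
    rw [map_mul, map_pow, map_neg, map_one, chHom_apply]
  rw [h2]
  exact h

/-- `td(e) · ch(λ_{-1}(e^∨)) = c_m(e)`. -/
theorem tdK_mul_chK_lamAlt_inv (P : PosStructure K) (hK : HasSplitting K P) (d : ℕ)
    (hd : gammaFiltration P (d + 1) = ⊥) (inv : K → K)
    (hS : HasInvSplitting P inv) {e : K} (he : e ∈ P.pos) :
    tdK P d e * chK P d (lamAlt (P.aug e).toNat (inv e)) = chern P (P.aug e).toNat e := by
  have hF1 := lamAlt_inv_mul P inv hS he
  have hF2 := inv_lam_mul P inv hS he
  by_cases hmd : (P.aug e).toNat ≤ d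
  · have hu : chK P d (inv (LambdaOps.lam (P.aug e).toNat e)) *
        chK P d (LambdaOps.lam (P.aug e).toNat e) = 1 := by
      rw [← chK_mul_eig P hK d hd, hF2, chK_one P d hd]
    have hu' : chK P d (LambdaOps.lam (P.aug e).toNat e) *
        chK P d (inv (LambdaOps.lam (P.aug e).toNat e)) = 1 := by
      linear_combination hu
    have hunit : IsUnit (chK P d (LambdaOps.lam (P.aug e).toNat e)) :=
      ⟨⟨chK P d (LambdaOps.lam (P.aug e).toNat e),
        chK P d (inv (LambdaOps.lam (P.aug e).toNat e)), hu', hu⟩, rfl⟩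
    apply (hunit.mul_left_inj).1
    have h3 : chK P d ((-1) ^ (P.aug e).toNat * lamAlt (P.aug e).toNat e) =
        (-1) ^ (P.aug e).toNat * chK P d (lamAlt (P.aug e).toNat e) := by
      rw [← chHom_apply P hK d hd, map_mul, map_pow, map_neg, map_one, chHom_apply]
    have hA : chK P d (lamAlt (P.aug e).toNat (inv e)) *
        chK P d (LambdaOps.lam (P.aug e).toNat e) =
        (-1) ^ (P.aug e).toNat * chK P d (lamAlt (P.aug e).toNat e) := by
      rw [← chK_mul_eig P hK d hd, hF1]
      exact h3
    have hB := todd_star P hK d hd he hmd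
    have h5 := Groth.Agent.H43.neg_one_pow_mul_self (R := Gr P) (P.aug e).toNat
    linear_combination (tdK P d e) * hA + ((-1) ^ (P.aug e).toNat) * hB +
      (chern P (P.aug e).toNat e * chK P d (LambdaOps.lam (P.aug e).toNat e)) * h5
  · have hlt : d < (P.aug e).toNat := by omega
    have h0 : lamAlt (P.aug e).toNat e = 0 := by
      rw [lamAlt_eq_gamma P hK he]
      have hmem := fil_anti P (by omega : d + 1 ≤ (P.aug e).toNat)
        (gamma_yy_mem P e (P.aug e).toNat)
      rw [hd, AddSubgroup.mem_bot] at hmem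
      rw [hmem, mul_zero]
    rw [h0, mul_zero] at hF1
    have h1 : lamAlt (P.aug e).toNat (inv e) = 0 := by
      have h4 : lamAlt (P.aug e).toNat (inv e) =
          lamAlt (P.aug e).toNat (inv e) * LambdaOps.lam (P.aug e).toNat e *
            inv (LambdaOps.lam (P.aug e).toNat e) := by
        rw [mul_assoc, mul_comm (LambdaOps.lam (P.aug e).toNat e), hF2, mul_one]
      rw [h4, hF1, zero_mul]
    rw [h1, chK_zero P d hd, chern_eq_zero P d hd e hlt]
    exact mul_zero _

end Groth.Agent.H43.KG
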