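import Groth.Agent.H43.SymmUniv

/-!
# The universal polynomials `P_n`, `Q_{i,j}` in any number of variables

Any polynomial satisfying the defining identity of `P_m` (in `m + m` variables) satisfies the
corresponding identity for two families of `N ≥ m` variables; likewise for `Q_{i,j}`.  The proofs go
through the rational universal elements `univA`, `univB` defined by series operations.
-/

set_option autoImplicit false

namespace Groth.Agent.H43

open LambdaRing PowerSeries Finset

/-- substitution of the elementary symmetric functions of two families of `N` variables. -/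
noncomputable def iota2 (R : Type*) [CommRing R] (m N : ℕ) :
    MvPolynomial (Fin m ⊕ Fin m) R →ₐ[R] MvPolynomial (Fin N ⊕ Fin N) R :=
  MvPolynomial.aeval (Sum.elim
    (fun k : Fin m => MvPolynomial.rename (Sum.inl : Fin N → Fin N ⊕ Fin N)
      (MvPolynomial.esymm (Fin N) R ((k : ℕ) + 1)))
    (fun k : Fin m => MvPolynomial.rename (Sum.inr : Fin N → Fin N ⊕ Fin N)
      (MvPolynomial.esymm (Fin N) R ((k : ℕ) + 1))))

/-- substitution of the elementary symmetric functions of `N` variables. -/
noncomputable def iota1 (R : Type*) [CommRing R] (n N : ℕ) :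
    MvPolynomial (Fin n) R →ₐ[R] MvPolynomial (Fin N) R :=
  MvPolynomial.aeval (fun k : Fin n => MvPolynomial.esymm (Fin N) R ((k : ℕ) + 1))

theorem iota2_inj (R : Type*) [CommRing R] (m N : ℕ) (h : m ≤ N) :
    Function.Injective (iota2 R m N) := iota2_injective m N h R

theorem iota1_inj (R : Type*) [CommRing R] (n N : ℕ) (h : n ≤ N) :
    Function.Injective (iota1 R n N) := iota1_injective n N h R

theorem iota2_map_int (m N : ℕ) (P : MvPolynomial (Fin m ⊕ Fin m) ℤ) :
    iota2 ℚ m N (MvPolynomial.map (Int.castRingHom ℚ) P) =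
      MvPolynomial.map (Int.castRingHom ℚ) (iota2 ℤ m N P) := by
  have e1 : (Sum.elim
      (fun k : Fin m => MvPolynomial.rename (Sum.inl : Fin N → Fin N ⊕ Fin N)
        (MvPolynomial.esymm (Fin N) ℚ ((k : ℕ) + 1)))
      (fun k : Fin m => MvPolynomial.rename (Sum.inr : Fin N → Fin N ⊕ Fin N)
        (MvPolynomial.esymm (Fin N) ℚ ((k : ℕ) + 1)))) =
      fun i => MvPolynomial.map (Int.castRingHom ℚ) ((Sum.elim
        (fun k : Fin m => MvPolynomial.rename (Sum.inl : Fin N → Fin N ⊕ Fin N)
          (MvPolynomial.esymm (Fin N) ℤ ((k : ℕ) + 1)))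
        (fun k : Fin m => MvPolynomial.rename (Sum.inr : Fin N → Fin N ⊕ Fin N)
          (MvPolynomial.esymm (Fin N) ℤ ((k : ℕ) + 1)))) i) := by
    funext i
    cases i with
    | inl k => simp [MvPolynomial.map_rename, MvPolynomial.map_esymm]
    | inr k => simp [MvPolynomial.map_rename, MvPolynomial.map_esymm]
  unfold iota2
  rw [e1, aeval_map_int]

theorem iota1_map_int (n N : ℕ) (Q : MvPolynomial (Fin n) ℤ) :
    iota1 ℚ n N (MvPolynomial.map (Int.castRingHom ℚ) Q) =
      MvPolynomial.map (Int.castRingHom ℚ) (iota1 ℤ n N Q) := by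
  have e1 : (fun k : Fin n => MvPolynomial.esymm (Fin N) ℚ ((k : ℕ) + 1)) =
      fun k : Fin n => MvPolynomial.map (Int.castRingHom ℚ)
        (MvPolynomial.esymm (Fin N) ℤ ((k : ℕ) + 1)) := by
    funext k
    rw [MvPolynomial.map_esymm]
  unfold iota1
  rw [e1, aeval_map_int]

/-- `mulGen` as an explicit sum, over any coefficient ring. -/
noncomputable def mulGenR (R : Type*) [CommRing R] (N k : ℕ) : MvPolynomial (Fin N ⊕ Fin N) R :=
  ∑ t ∈ powersetCard k ((univ : Finset (Fin N)) ×ˢ (univ : Finset (Fin N))),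
    ∏ p ∈ t, (MvPolynomial.X (Sum.inl p.1) * MvPolynomial.X (Sum.inr p.2))

/-- `compGen` as an explicit sum, over any coefficient ring. -/
noncomputable def compGenR (R : Type*) [CommRing R] (N i j : ℕ) : MvPolynomial (Fin N) R :=
  ∑ u ∈ powersetCard j (powersetCard i (univ : Finset (Fin N))),
    ∏ t ∈ u, ∏ a ∈ t, MvPolynomial.X a

theorem mulGen_eq (N k : ℕ) : mulGen N k = mulGenR ℤ N k := by
  rw [mulGen, Finset.esymm_map_val, mulGenR, Finset.univ_product_univ]

theorem compGen_eq (N i j : ℕ) : compGen N i j = compGenR ℤ N i j := by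
  rw [compGen, Finset.esymm_map_val]
  rfl

theorem map_mulGenR (N k : ℕ) :
    MvPolynomial.map (Int.castRingHom ℚ) (mulGenR ℤ N k) = mulGenR ℚ N k := by
  simp [mulGenR, map_sum, map_prod]

theorem map_compGenR (N i j : ℕ) :
    MvPolynomial.map (Int.castRingHom ℚ) (compGenR ℤ N i j) = compGenR ℚ N i j := by
  simp [compGenR, map_sum, map_prod]

theorem coeff_lineProd_mul (R : Type*) [CommRing R] (N k : ℕ) :
    coeff k (lineProd ((univ : Finset (Fin N)) ×ˢ (univ : Finset (Fin N)))
      (fun p => (MvPolynomial.X (Sum.inl p.1) * MvPolynomial.X (Sum.inr p.2) :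
        MvPolynomial (Fin N ⊕ Fin N) R))) = mulGenR R N k := by
  rw [coeff_lineProd]
  rfl

theorem coeff_lineProd_comp (R : Type*) [CommRing R] (N i j : ℕ) :
    coeff j (lineProd (powersetCard i (univ : Finset (Fin N)))
      (fun t => ∏ a ∈ t, (MvPolynomial.X a : MvPolynomial (Fin N) R))) = compGenR R N i j := by
  rw [coeff_lineProd]
  rfl

/-- the truncated series of the first `m` elementary symmetric functions of `N ≥ m` elements agrees
with `∏ (1 + w_a t)` up to degree `m`. -/
theorem tser_congr_lineProd {R : Type*} [CommRing R] (m N : ℕ) (w : Fin N → R) :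
    ∀ i ≤ m, coeff i (tser m (fun k : Fin m =>
      ∑ t ∈ powersetCard ((k : ℕ) + 1) (univ : Finset (Fin N)), ∏ a ∈ t, w a)) =
      coeff i (lineProd univ w) := by
  apply tser_congr (constantCoeff_lineProd _ _)
  intro k
  rw [coeff_lineProd]

/-- the universal element for products, over `ℚ`. -/
noncomputable def univA (m : ℕ) : MvPolynomial (Fin m ⊕ Fin m) ℚ :=
  coeff m (wmul (tser m fun k => MvPolynomial.X (Sum.inl k))
    (tser m fun k => MvPolynomial.X (Sum.inr k)))

/-- the universal element for compositions, over `ℚ`. -/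
noncomputable def univB (i j : ℕ) : MvPolynomial (Fin (i * j)) ℚ :=
  coeff j (lamS i (tser (i * j) fun k => MvPolynomial.X k))

theorem iota2_univA (m N : ℕ) : iota2 ℚ m N (univA m) = mulGenR ℚ N m := by
  have e1 : PowerSeries.map (iota2 ℚ m N : MvPolynomial (Fin m ⊕ Fin m) ℚ →+* _)
      (tser m fun k => MvPolynomial.X (Sum.inl k)) =
      tser m (fun k : Fin m => ∑ t ∈ powersetCard ((k : ℕ) + 1) (univ : Finset (Fin N)),
        ∏ a ∈ t, (MvPolynomial.X (Sum.inl a) : MvPolynomial (Fin N ⊕ Fin N) ℚ)) := by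
    rw [map_tser]
    congr 1
    funext k
    simp [iota2, rename_esymm_eq_sum]
  have e2 : PowerSeries.map (iota2 ℚ m N : MvPolynomial (Fin m ⊕ Fin m) ℚ →+* _)
      (tser m fun k => MvPolynomial.X (Sum.inr k)) =
      tser m (fun k : Fin m => ∑ t ∈ powersetCard ((k : ℕ) + 1) (univ : Finset (Fin N)),
        ∏ a ∈ t, (MvPolynomial.X (Sum.inr a) : MvPolynomial (Fin N ⊕ Fin N) ℚ)) := by
    rw [map_tser]
    congr 1
    funext k
    simp [iota2, rename_esymm_eq_sum]
  have e3 : iota2 ℚ m N (univA m) =
      coeff m (PowerSeries.map (iota2 ℚ m N : MvPolynomial (Fin m ⊕ Fin m) ℚ →+* _)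
        (wmul (tser m fun k => MvPolynomial.X (Sum.inl k))
          (tser m fun k => MvPolynomial.X (Sum.inr k)))) := by
    rw [coeff_map]; rfl
  rw [e3, map_wmul _ (constantCoeff_tser _ _) (constantCoeff_tser _ _), e1, e2,
    wmul_congr (constantCoeff_tser _ _) (constantCoeff_lineProd _ _) (constantCoeff_tser _ _)
      (constantCoeff_lineProd _ _) m (tser_congr_lineProd m N _) (tser_congr_lineProd m N _)
      m le_rfl,
    wmul_lineProd, coeff_lineProd_mul]

theorem iota1_univB (i j N : ℕ) : iota1 ℚ (i * j) N (univB i j) = compGenR ℚ N i j := by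
  have e1 : PowerSeries.map (iota1 ℚ (i * j) N : MvPolynomial (Fin (i * j)) ℚ →+* _)
      (tser (i * j) fun k => MvPolynomial.X k) =
      tser (i * j) (fun k : Fin (i * j) =>
        ∑ t ∈ powersetCard ((k : ℕ) + 1) (univ : Finset (Fin N)),
          ∏ a ∈ t, (MvPolynomial.X a : MvPolynomial (Fin N) ℚ)) := by
    rw [map_tser]
    congr 1
    funext k
    simp [iota1, esymm_eq_sum]
  have e3 : iota1 ℚ (i * j) N (univB i j) =
      coeff j (PowerSeries.map (iota1 ℚ (i * j) N : MvPolynomial (Fin (i * j)) ℚ →+* _)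
        (lamS i (tser (i * j) fun k => MvPolynomial.X k))) := by
    rw [coeff_map]; rfl
  rw [e3, map_lamS _ i (constantCoeff_tser _ _), e1,
    lamS_congr (constantCoeff_tser _ _) (constantCoeff_lineProd _ _) i j
      (tser_congr_lineProd (i * j) N _) j le_rfl,
    lamS_lineProd, coeff_lineProd_comp]

theorem mulPoly_eq {m : ℕ} {P : MvPolynomial (Fin m ⊕ Fin m) ℤ} (hP : IsMulPoly m P) :
    MvPolynomial.map (Int.castRingHom ℚ) P = univA m := by
  apply iota2_inj ℚ m m le_rfl
  rw [iota2_map_int, iota2_univA]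
  have h := hP.1
  rw [mulGen_eq] at h
  show MvPolynomial.map (Int.castRingHom ℚ) (MvPolynomial.aeval _ P) = _
  rw [h, map_mulGenR]

theorem compPoly_eq {i j : ℕ} {Q : MvPolynomial (Fin (i * j)) ℤ} (hQ : IsCompPoly i j Q) :
    MvPolynomial.map (Int.castRingHom ℚ) Q = univB i j := by
  apply iota1_inj ℚ (i * j) (i * j) le_rfl
  rw [iota1_map_int, iota1_univB]
  have h := hQ.1
  rw [compGen_eq] at h
  show MvPolynomial.map (Int.castRingHom ℚ) (MvPolynomial.aeval _ Q) = _
  rw [h, map_compGenR]

/-- the defining identity of `P_m` holds for two families of any number `N` of variables. -/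
theorem mulPoly_many {m : ℕ} {P : MvPolynomial (Fin m ⊕ Fin m) ℤ} (hP : IsMulPoly m P) (N : ℕ) :
    iota2 ℤ m N P = mulGenR ℤ N m := by
  apply MvPolynomial.map_injective (Int.castRingHom ℚ) Int.cast_injective
  rw [← iota2_map_int, mulPoly_eq hP, iota2_univA, map_mulGenR]

/-- the defining identity of `Q_{i,j}` holds for any number `N` of variables. -/
theorem compPoly_many {i j : ℕ} {Q : MvPolynomial (Fin (i * j)) ℤ} (hQ : IsCompPoly i j Q)
    (N : ℕ) : iota1 ℤ (i * j) N Q = compGenR ℤ N i j := by
  apply MvPolynomial.map_injective (Int.castRingHom ℚ) Int.cast_injective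
  rw [← iota1_map_int, compPoly_eq hQ, iota1_univB, map_compGenR]

end Groth.Agent.H43
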