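import Groth.Agent.H43.TestRing
import Groth.Agent.S8684
import Groth.Agent.S8685

/-!
# The verification principle for λ-rings in the strict sense

Let `K` be a λ-ring.  For every polynomial `f` in variables `X_{l,i}` (standing for `λ^{i+1}(x_l)`)
over `K` there is a power series `F` with coefficients such polynomials which computes `λ_t(f(x))`
in every `K`-λ-algebra which is a λ-ring in the strict sense (`exists_repL`).  The same holds with
the γ-operations (`exists_repG`).  For a binomial ring `K`, evaluating in the test rings gives the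
behaviour of these universal polynomials with respect to weights (`gamma_univ`).
-/

set_option autoImplicit false

universe u v w

namespace Groth.Agent.H43

open LambdaRing Finset TensorProduct

/-- a chosen universal polynomial `P_n`. -/
noncomputable def Pc (n : ℕ) : MvPolynomial (Fin n ⊕ Fin n) ℤ :=
  Classical.choose (Groth.Agent.S8684.result n)

theorem Pc_spec (n : ℕ) : IsMulPoly n (Pc n) := Classical.choose_spec (Groth.Agent.S8684.result n)

/-- a chosen universal polynomial `Q_{i,j}`. -/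
noncomputable def Qc (i j : ℕ) : MvPolynomial (Fin (i * j)) ℤ :=
  Classical.choose (Groth.Agent.S8685.result i j)

theorem Qc_spec (i j : ℕ) : IsCompPoly i j (Qc i j) :=
  Classical.choose_spec (Groth.Agent.S8685.result i j)

section Ev

variable (K : Type u) [CommRing K] {κ : Type} {A : Type v} [CommRing A] [LambdaOps A] [Algebra K A]

/-- evaluation of the variable `(l, i)` at `λ^{i+1}(x_l)`. -/
noncomputable def evL (x : κ → A) : MvPolynomial (κ × ℕ) K →ₐ[K] A :=
  MvPolynomial.aeval (fun p : κ × ℕ => LambdaOps.lam (p.2 + 1) (x p.1))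

/-- evaluation of the variable `(l, i)` at `γ^{i+1}(x_l)`. -/
noncomputable def evG (x : κ → A) : MvPolynomial (κ × ℕ) K →ₐ[K] A :=
  MvPolynomial.aeval (fun p : κ × ℕ => gamma (p.2 + 1) (x p.1))

theorem evL_X (x : κ → A) (p : κ × ℕ) :
    evL K x (MvPolynomial.X p) = LambdaOps.lam (p.2 + 1) (x p.1) := by
  unfold evL
  rw [MvPolynomial.aeval_X]

theorem evG_X (x : κ → A) (p : κ × ℕ) :
    evG K x (MvPolynomial.X p) = gamma (p.2 + 1) (x p.1) := by
  unfold evG
  rw [MvPolynomial.aeval_X]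

theorem evL_C (x : κ → A) (c : K) : evL K x (MvPolynomial.C c) = algebraMap K A c := by
  unfold evL
  rw [MvPolynomial.aeval_C]

theorem evG_C (x : κ → A) (c : K) : evG K x (MvPolynomial.C c) = algebraMap K A c := by
  unfold evG
  rw [MvPolynomial.aeval_C]

end Ev

/-- `F` computes `λ_t` of the value of `f`, in all `K`-λ-algebras of the universe `v`. -/
def RepL (K : Type u) [CommRing K] [LambdaOps K] (κ : Type) (f : MvPolynomial (κ × ℕ) K)
    (F : PowerSeries (MvPolynomial (κ × ℕ) K)) : Prop :=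
  ∀ (A : Type v) [CommRing A] [LambdaOps A] [Algebra K A], IsSpecial A → IsLambdaAlg K A →
    ∀ x : κ → A,
      PowerSeries.map (evL K x : MvPolynomial (κ × ℕ) K →+* A) F = lamSeries (evL K x f)

/-- `h` computes `γ^n` of the value of `f`, in all `K`-λ-algebras of the universe `v`. -/
def RepG (K : Type u) [CommRing K] [LambdaOps K] (κ : Type) (f : MvPolynomial (κ × ℕ) K) (n : ℕ)
    (h : MvPolynomial (κ × ℕ) K) : Prop :=
  ∀ (A : Type v) [CommRing A] [LambdaOps A] [Algebra K A], IsSpecial A → IsLambdaAlg K A →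
    ∀ x : κ → A, gamma n (evG K x f) = evG K x h

section Rep

variable {K : Type u} [CommRing K] [LambdaOps K] {κ : Type}

theorem repL_coeff {f : MvPolynomial (κ × ℕ) K} {F : PowerSeries (MvPolynomial (κ × ℕ) K)}
    (h : RepL.{u, v} K κ f F) {A : Type v} [CommRing A] [LambdaOps A] [Algebra K A]
    (hA : IsSpecial A) (hAlg : IsLambdaAlg K A) (x : κ → A) (j : ℕ) :
    evL K x (PowerSeries.coeff j F) = LambdaOps.lam j (evL K x f) := by
  have := congrArg (PowerSeries.coeff j) (h A hA hAlg x)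
  rw [PowerSeries.coeff_map, coeff_lamSeries] at this
  exact this

theorem repL_C (c : K) :
    RepL.{u, v} K κ (MvPolynomial.C c) (PowerSeries.map MvPolynomial.C (lamSeries c)) := by
  intro A _ _ _ hA hAlg x
  ext n
  rw [PowerSeries.coeff_map, PowerSeries.coeff_map, coeff_lamSeries, coeff_lamSeries]
  show evL K x (MvPolynomial.C (LambdaOps.lam n c)) = LambdaOps.lam n (evL K x (MvPolynomial.C c))
  rw [evL_C, evL_C]
  exact hAlg n c

theorem repL_add {p q : MvPolynomial (κ × ℕ) K} {Fp Fq : PowerSeries (MvPolynomial (κ × ℕ) K)}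
    (hp : RepL.{u, v} K κ p Fp) (hq : RepL.{u, v} K κ q Fq) :
    RepL.{u, v} K κ (p + q) (Fp * Fq) := by
  intro A _ _ _ hA hAlg x
  rw [map_mul, hp A hA hAlg x, hq A hA hAlg x, map_add, lamSeries_add]

/-- the series computing `λ_t(p · X_{l,i})` from the one computing `λ_t(p)`. -/
noncomputable def mulXSeries (Fp : PowerSeries (MvPolynomial (κ × ℕ) K)) (l : κ) (i : ℕ) :
    PowerSeries (MvPolynomial (κ × ℕ) K) :=
  PowerSeries.mk fun n => if n = 0 then 1 else
    MvPolynomial.aeval (Sum.elim (fun k : Fin n => PowerSeries.coeff ((k : ℕ) + 1) Fp)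
      (fun k : Fin n => MvPolynomial.aeval
        (fun m : Fin ((i + 1) * ((k : ℕ) + 1)) =>
          (MvPolynomial.X (l, (m : ℕ)) : MvPolynomial (κ × ℕ) K))
        (Qc (i + 1) ((k : ℕ) + 1)))) (Pc n)

theorem repL_mulX {p : MvPolynomial (κ × ℕ) K} {Fp : PowerSeries (MvPolynomial (κ × ℕ) K)}
    (hp : RepL.{u, v} K κ p Fp) (l : κ) (i : ℕ) :
    RepL.{u, v} K κ (p * MvPolynomial.X (l, i)) (mulXSeries Fp l i) := by
  intro A _ _ _ hA hAlg x
  ext n
  rw [PowerSeries.coeff_map, coeff_lamSeries]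
  unfold mulXSeries
  rw [PowerSeries.coeff_mk]
  by_cases hn : n = 0
  · subst hn
    rw [if_pos rfl, LambdaOps.lam_zero]
    exact map_one _
  · rw [if_neg hn]
    have e1 : evL K x (p * MvPolynomial.X (l, i)) =
        evL K x p * LambdaOps.lam (i + 1) (x l) := by
      rw [map_mul, evL_X]
    rw [e1, hA.lam_mul n (Pc n) (Pc_spec n)]
    have e2 := Groth.Agent.S8699.map_aeval_int (evL K x : MvPolynomial (κ × ℕ) K →+* A)
      (Sum.elim (fun k : Fin n => PowerSeries.coeff ((k : ℕ) + 1) Fp)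
      (fun k : Fin n => MvPolynomial.aeval
        (fun m : Fin ((i + 1) * ((k : ℕ) + 1)) =>
          (MvPolynomial.X (l, (m : ℕ)) : MvPolynomial (κ × ℕ) K))
        (Qc (i + 1) ((k : ℕ) + 1)))) (Pc n)
    refine e2.trans ?_
    congr 2
    funext s
    cases s with
    | inl k => exact repL_coeff hp hA hAlg x _
    | inr k =>
      simp only [Sum.elim_inr]
      rw [hA.lam_lam (i + 1) ((k : ℕ) + 1) (Qc _ _) (Qc_spec _ _)]
      have e3 := Groth.Agent.S8699.map_aeval_int (evL K x : MvPolynomial (κ × ℕ) K →+* A)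
        (fun m : Fin ((i + 1) * ((k : ℕ) + 1)) =>
          (MvPolynomial.X (l, (m : ℕ)) : MvPolynomial (κ × ℕ) K)) (Qc (i + 1) ((k : ℕ) + 1))
      refine e3.trans ?_
      congr 2
      funext m
      exact evL_X K x _

theorem exists_repL (f : MvPolynomial (κ × ℕ) K) :
    ∃ F, RepL.{u, v} K κ f F ∧ RepL.{u, w} K κ f F := by
  induction f using MvPolynomial.induction_on with
  | C c => exact ⟨_, repL_C c, repL_C c⟩
  | add p q hp hq =>
    obtain ⟨Fp, h1, h2⟩ := hp
    obtain ⟨Fq, h3, h4⟩ := hq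
    exact ⟨_, repL_add h1 h3, repL_add h2 h4⟩
  | mul_X p s hp =>
    obtain ⟨Fp, h1, h2⟩ := hp
    obtain ⟨l, i⟩ := s
    exact ⟨_, repL_mulX h1 l i, repL_mulX h2 l i⟩

end Rep

section Theta

theorem binom_inv (i m : ℕ) :
    ∑ j ∈ range (i + 1), ((-1 : ℤ) ^ (i - j) * (i.choose j : ℤ)) * (j.choose m : ℤ) =
      if m = i then 1 else 0 := by
  have h : (Polynomial.X : Polynomial ℤ) ^ i =
      ∑ j ∈ range (i + 1), (1 + Polynomial.X) ^ j * (-1) ^ (i - j) * (i.choose j : Polynomial ℤ) := by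
    rw [← add_pow]
    congr 1
    ring
  have h2 := congrArg (fun p => Polynomial.coeff p m) h
  simp only [Polynomial.coeff_X_pow, Polynomial.finsetSum_coeff] at h2
  rw [h2]
  apply Finset.sum_congr rfl
  intro j _
  have e : ((1 + Polynomial.X : Polynomial ℤ) ^ j * (-1) ^ (i - j) * (i.choose j : Polynomial ℤ)) =
      Polynomial.C ((-1 : ℤ) ^ (i - j) * (i.choose j : ℤ)) * (1 + Polynomial.X) ^ j := by
    simp only [map_mul, map_pow, map_neg, map_one, map_natCast]
    ring
  rw [e, Polynomial.coeff_C_mul, Polynomial.coeff_one_add_X_pow]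

theorem lam_eq_sum_gamma {A : Type*} [CommRing A] [LambdaOps A] (i : ℕ) (y : A) :
    LambdaOps.lam (i + 1) y =
      ∑ j ∈ range (i + 1), ((-1 : A) ^ (i - j) * (i.choose j : A)) * gamma (j + 1) y := by
  have h1 : ∀ j ∈ range (i + 1), gamma (j + 1) y =
      ∑ m ∈ range (i + 1), (j.choose m : A) * LambdaOps.lam (m + 1) y := by
    intro j hj
    rw [Groth.Agent.S8651.gamma_succ]
    apply Finset.sum_subset
    · intro a ha
      rw [mem_range] at *
      omega
    · intro m hm hm'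
      rw [mem_range] at hm hm'
      rw [Nat.choose_eq_zero_of_lt (by omega)]
      simp
  rw [Finset.sum_congr rfl (fun j hj => by rw [h1 j hj])]
  simp only [Finset.mul_sum]
  rw [Finset.sum_comm]
  have h2 : ∀ m ∈ range (i + 1),
      ∑ j ∈ range (i + 1), ((-1 : A) ^ (i - j) * (i.choose j : A)) *
        ((j.choose m : A) * LambdaOps.lam (m + 1) y) =
      (if m = i then 1 else 0) * LambdaOps.lam (m + 1) y := by
    intro m _
    have := congrArg (Int.cast : ℤ → A) (binom_inv i m)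
    push_cast at this
    rw [← this, Finset.sum_mul]
    apply Finset.sum_congr rfl
    intro j _
    ring
  rw [Finset.sum_congr rfl h2]
  simp

variable (K : Type u) [CommRing K] (κ : Type)

/-- the γ-variables in terms of the λ-variables. -/
noncomputable def thetaLG : MvPolynomial (κ × ℕ) K →ₐ[K] MvPolynomial (κ × ℕ) K :=
  MvPolynomial.aeval fun p : κ × ℕ =>
    ∑ j ∈ range (p.2 + 1), (Nat.choose p.2 j : MvPolynomial (κ × ℕ) K) * MvPolynomial.X (p.1, j)

/-- the λ-variables in terms of the γ-variables. -/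
noncomputable def thetaGL : MvPolynomial (κ × ℕ) K →ₐ[K] MvPolynomial (κ × ℕ) K :=
  MvPolynomial.aeval fun p : κ × ℕ =>
    ∑ j ∈ range (p.2 + 1), ((-1 : MvPolynomial (κ × ℕ) K) ^ (p.2 - j) *
      (Nat.choose p.2 j : MvPolynomial (κ × ℕ) K)) * MvPolynomial.X (p.1, j)

variable {κ} {A : Type v} [CommRing A] [LambdaOps A] [Algebra K A]

theorem evL_thetaLG (x : κ → A) (q : MvPolynomial (κ × ℕ) K) :
    evL K x (thetaLG K κ q) = evG K x q := by
  have h : (evL K x).comp (thetaLG K κ) = evG K x := by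
    apply MvPolynomial.algHom_ext
    intro p
    rw [AlgHom.comp_apply, evG_X]
    unfold thetaLG
    rw [MvPolynomial.aeval_X, map_sum, Groth.Agent.S8651.gamma_succ]
    apply Finset.sum_congr rfl
    intro j _
    rw [map_mul, map_natCast, evL_X]
  exact AlgHom.congr_fun h q

theorem evG_thetaGL (x : κ → A) (q : MvPolynomial (κ × ℕ) K) :
    evG K x (thetaGL K κ q) = evL K x q := by
  have h : (evG K x).comp (thetaGL K κ) = evL K x := by
    apply MvPolynomial.algHom_ext
    intro p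
    rw [AlgHom.comp_apply, evL_X]
    unfold thetaGL
    rw [MvPolynomial.aeval_X, map_sum, lam_eq_sum_gamma]
    apply Finset.sum_congr rfl
    intro j _
    rw [map_mul, map_mul, map_pow, map_neg, map_one, map_natCast, evG_X]
  exact AlgHom.congr_fun h q

end Theta

section RepGamma

variable {K : Type u} [CommRing K] [LambdaOps K] {κ : Type}

theorem repG_of_repL {f : MvPolynomial (κ × ℕ) K} {F : PowerSeries (MvPolynomial (κ × ℕ) K)}
    (hF : RepL.{u, v} K κ (thetaLG K κ f) F) (n : ℕ) :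
    RepG.{u, v} K κ f (n + 1) (thetaGL K κ
      (∑ j ∈ range (n + 1), (n.choose j : MvPolynomial (κ × ℕ) K) * PowerSeries.coeff (j + 1) F)) := by
  intro A _ _ _ hA hAlg x
  rw [evG_thetaGL, map_sum, Groth.Agent.S8651.gamma_succ, ← evL_thetaLG]
  apply Finset.sum_congr rfl
  intro j _
  rw [map_mul, map_natCast, repL_coeff hF hA hAlg x]

theorem exists_repG (f : MvPolynomial (κ × ℕ) K) (n : ℕ) :
    ∃ h, RepG.{u, v} K κ f n h ∧ RepG.{u, w} K κ f n h := by
  cases n with
  | zero =>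
    refine ⟨1, ?_, ?_⟩
    · intro A _ _ _ _ _ x
      rw [gamma_zero', map_one]
    · intro A _ _ _ _ _ x
      rw [gamma_zero', map_one]
  | succ n =>
    obtain ⟨F, h1, h2⟩ := exists_repL.{u, v, w} (thetaLG K κ f)
    exact ⟨_, repG_of_repL h1 n, repG_of_repL h2 n⟩

end RepGamma

section Weights

variable {K : Type u} [CommRing K] [LambdaOps K] [BinomialRing K] {κ : Type}

/-- all monomials have weight at least `s`. -/
def WtGe (s : ℕ) (f : MvPolynomial (κ × ℕ) K) : Prop :=
  ∀ m ∈ f.support, s ≤ Finsupp.weight (wtF (κ := κ)) m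

theorem wt_of_repG (hKb : IsBinomial K) (f h : MvPolynomial (κ × ℕ) K) (n s : ℕ) (hn : 1 ≤ n)
    (hs : 1 ≤ s) (hf : WtGe s f) (hrep : RepG.{u, u} K κ f n h) :
    WtGe (max s n) h ∧
      (n = s → WtGe (s + 1)
        (h - MvPolynomial.C ((-1 : K) ^ (s - 1) * ((s - 1).factorial : K)) * f)) := by
  classical
  have : IsAddTorsionFree K := BinomialRing.toIsAddTorsionFree
  letI : Algebra K (ℚ ⊗[ℤ] K) := Algebra.TensorProduct.rightAlgebra
  have hinj : Function.Injective (algebraMap K (ℚ ⊗[ℤ] K)) :=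
    Algebra.TensorProduct.includeRight_injective (R := ℤ) (A := ℚ) (B := K)
      (fun a b h => by simpa using h)
  set c : K := (-1 : K) ^ (s - 1) * ((s - 1).factorial : K) with hc
  set d : MvPolynomial (κ × ℕ) K := h - MvPolynomial.C c * f with hd
  obtain ⟨N, hN1, hN2, hN3⟩ : ∃ N, f.vars.sup Prod.snd < N ∧ h.vars.sup Prod.snd < N ∧
      d.vars.sup Prod.snd < N :=
    ⟨f.vars.sup Prod.snd + h.vars.sup Prod.snd + d.vars.sup Prod.snd + 1,
      by omega, by omega, by omega⟩
  let ν : κ → ℕ := fun _ => N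
  obtain ⟨L, hT⟩ := exists_lam (ℚ ⊗[ℤ] K) (κ × ℕ)
  letI := L
  have hsp := isSpecial_of_isTestLam (ℚ ⊗[ℤ] K) (κ × ℕ) hT
  have halg := isLambdaAlg_test (ℚ ⊗[ℤ] K) (κ × ℕ) K hKb hT
  have key := hrep (MvPolynomial (κ × ℕ) (ℚ ⊗[ℤ] K)) hsp halg (xF (ℚ ⊗[ℤ] K) ν)
  unfold evG at key
  rw [aeval_gamma_xF (ℚ ⊗[ℤ] K) ν hT K, aeval_gamma_xF (ℚ ⊗[ℤ] K) ν hT K] at key
  have hvars : ∀ q : MvPolynomial (κ × ℕ) K, q.vars.sup Prod.snd < N →
      ∀ p ∈ (MvPolynomial.map (algebraMap K (ℚ ⊗[ℤ] K)) q).vars, p.2 < ν p.1 := by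
    intro q hq p hp
    exact lt_of_le_of_lt (Finset.le_sup (f := Prod.snd) (MvPolynomial.vars_map _ _ hp)) hq
  have hsupp : ∀ q : MvPolynomial (κ × ℕ) K,
      (MvPolynomial.map (algebraMap K (ℚ ⊗[ℤ] K)) q).support = q.support :=
    fun q => MvPolynomial.support_map_of_injective q hinj
  have h1 : iotaF (ℚ ⊗[ℤ] K) ν (MvPolynomial.map (algebraMap K (ℚ ⊗[ℤ] K)) f) ∈
      MvPolynomial.idealOfVars (κ × ℕ) (ℚ ⊗[ℤ] K) ^ s := by
    apply iotaF_mem_pow
    rw [hsupp]
    exact hf
  have h1' : iotaF (ℚ ⊗[ℤ] K) ν (MvPolynomial.map (algebraMap K (ℚ ⊗[ℤ] K)) f) ∈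
      MvPolynomial.idealOfVars (κ × ℕ) (ℚ ⊗[ℤ] K) := by
    have := Ideal.pow_le_pow_right hs h1
    rwa [pow_one] at this
  constructor
  · have hg1 := gamma_mem_pow_of_mem_pow hT s hs h1 n hn
    have hg2 := gamma_mem_pow_of_mem hT h1' n
    rw [key] at hg1 hg2
    have hmax : iotaF (ℚ ⊗[ℤ] K) ν (MvPolynomial.map (algebraMap K (ℚ ⊗[ℤ] K)) h) ∈
        MvPolynomial.idealOfVars (κ × ℕ) (ℚ ⊗[ℤ] K) ^ (max s n) := by
      rcases le_total s n with hsn | hsn
      · rw [max_eq_right hsn]; exact hg2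
      · rw [max_eq_left hsn]; exact hg1
    have := wtGe_of_iotaF_mem (ℚ ⊗[ℤ] K) ν _ (hvars h hN2) (max s n) hmax
    intro m hm
    apply this
    rw [hsupp]
    exact hm
  · intro hns
    subst hns
    have hg3 := gamma_top_sub_mem hT n hs h1
    rw [key] at hg3
    have e : iotaF (ℚ ⊗[ℤ] K) ν (MvPolynomial.map (algebraMap K (ℚ ⊗[ℤ] K)) d) =
        iotaF (ℚ ⊗[ℤ] K) ν (MvPolynomial.map (algebraMap K (ℚ ⊗[ℤ] K)) h) -
          (-1) ^ (n - 1) * ((n - 1).factorial : MvPolynomial (κ × ℕ) (ℚ ⊗[ℤ] K)) *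
            iotaF (ℚ ⊗[ℤ] K) ν (MvPolynomial.map (algebraMap K (ℚ ⊗[ℤ] K)) f) := by
      rw [hd, map_sub, map_mul, MvPolynomial.map_C, map_sub, map_mul]
      congr 2
      unfold iotaF
      rw [MvPolynomial.aeval_C, MvPolynomial.algebraMap_eq, hc]
      simp only [map_mul, map_pow, map_neg, map_one, map_natCast]
    rw [← e] at hg3
    have := wtGe_of_iotaF_mem (ℚ ⊗[ℤ] K) ν _ (hvars d hN3) (n + 1) hg3
    intro m hm
    apply this
    rw [hsupp]
    exact hm

/-- The main universal theorem on the γ-operations. -/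
theorem gamma_univ (hKb : IsBinomial K) (f : MvPolynomial (κ × ℕ) K) (n s : ℕ) (hn : 1 ≤ n)
    (hs : 1 ≤ s) (hf : WtGe s f) :
    ∃ h : MvPolynomial (κ × ℕ) K,
      (∀ (A : Type v) [CommRing A] [LambdaOps A] [Algebra K A], IsSpecial A → IsLambdaAlg K A →
        ∀ x : κ → A, gamma n (evG K x f) = evG K x h) ∧
      WtGe (max s n) h ∧
      (n = s → WtGe (s + 1)
        (h - MvPolynomial.C ((-1 : K) ^ (s - 1) * ((s - 1).factorial : K)) * f)) := by
  obtain ⟨h, h1, h2⟩ := exists_repG.{u, v, u} f n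
  obtain ⟨h3, h4⟩ := wt_of_repG hKb f h n s hn hs hf h2
  exact ⟨h, h1, h3, h4⟩

end Weights

end Groth.Agent.H43
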